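import Cfsg.Agent.H96.PMin
import Cfsg.Agent.H98.FStarP
import Cfsg.Agent.H48.Maschke
import Cfsg.Agent.H46.Nil
import Cfsg.Agent.H1.InvSylow

/-! Isolated `p`-minimal subgroups. -/

set_option autoImplicit false

namespace H98

open Subgroup Cfsg H96
open scoped commutatorElement

variable {G : Type*} [Group G] [Finite G] {p : ℕ} [hp : Fact p.Prime]

theorem exists_invSylP {A K : Subgroup G} (hA : IsPGroup p A) (hK : ¬ p ∣ Nat.card K)
    (hn : A ≤ normalizer (K : Set G)) (r : ℕ) [Fact r.Prime] :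
    ∃ P, IsSyl r P K ∧ A ≤ normalizer (P : Set G) := by
  obtain ⟨k, hk⟩ := IsPGroup.iff_card.1 hA
  haveI := hA.isNilpotent
  obtain ⟨P, hP⟩ := H1.exists_invariant_sylow_subgroup A K hn
    (hk ▸ ((Nat.Prime.coprime_iff_not_dvd hp.out).2 hK).pow_left k) (Or.inl inferInstance) r
  exact ⟨_, isSyl_map_subtype P, hP⟩

omit hp in
theorem le_of_syl_le {K X : Subgroup G}
    (h : ∀ r : ℕ, r.Prime → ∃ P, IsSyl r P K ∧ P ≤ X) : K ≤ X := by
  rw [← relIndex_eq_one]
  by_contra e
  obtain ⟨r, hr, hd⟩ := Nat.exists_prime_and_dvd e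
  haveI := Fact.mk hr
  obtain ⟨P, h1, h2⟩ := h r hr
  exact h1.not_dvd_relIndex (hd.trans (relIndex_dvd_of_le_left K h2))

theorem le_of_invSylP {A K X : Subgroup G} (hA : IsPGroup p A) (hK : ¬ p ∣ Nat.card K)
    (hn : A ≤ normalizer (K : Set G))
    (h : ∀ r : ℕ, r.Prime → ∀ P, IsSyl r P K → A ≤ normalizer (P : Set G) → P ≤ X) : K ≤ X :=
  le_of_syl_le fun r hr => by
    haveI := Fact.mk hr
    obtain ⟨P, h1, h2⟩ := exists_invSylP hA hK hn r
    exact ⟨P, h1, h r hr P h1 h2⟩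

omit [Finite G] hp in
theorem not_solvable_of_comp {K H : Subgroup G} (hK : IsComponent K) (h : K ≤ H) :
    ¬ Group.IsSolvable H := fun hs =>
  H14.comp_not_le_of_commutator_eq_bot hK
    (H14.comp_commutator_solvable hK hs (le_normalizer_of_le h)) h

omit [Finite G] hp in
/-- A perfect group covered by `X C(K)` lies in `X`. -/
theorem le_of_perfect_of_le_sup_cent {K X : Subgroup G} (hK : ⁅K, K⁆ = K) (hX : X ≤ K)
    (h : K ≤ X ⊔ centralizer (K : Set G)) : K ≤ X := by
  have hn : X ≤ normalizer (centralizer (K : Set G) : Set G) :=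
    le_normalizer_centralizer (le_normalizer_of_le hX)
  rw [← hK]
  refine commutator_le.2 fun a ha b hb => ?_
  obtain ⟨x, hx, c, hc, rfl⟩ := (mem_sup_left_norm hn).1 (h ha)
  obtain ⟨y, hy, d, hd, e⟩ := (mem_sup_left_norm hn).1 (h hb)
  have hdK : d ∈ K := by
    have := mul_mem (inv_mem (hX hy)) hb
    rwa [e, inv_mul_cancel_left] at this
  have h1 : c * b = b * c := (hc b hb).symm
  have h2 : d * x⁻¹ = x⁻¹ * d := (hd _ (inv_mem (hX hx))).symm
  have : ⁅x * c, b⁆ = ⁅x, y⁆ := by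
    rw [commutatorElement_def, commutatorElement_def, mul_assoc x c b, h1]
    calc x * (b * c) * (x * c)⁻¹ * b⁻¹ = x * b * x⁻¹ * b⁻¹ := by group
      _ = x * y * (d * x⁻¹) * d⁻¹ * y⁻¹ := by rw [e]; group
      _ = _ := by rw [h2]; group
  rw [this]
  exact commutator_le_of_le le_rfl le_rfl (commutator_mem_commutator hx hy)

structure IsoP (p : ℕ) (S L U R : Subgroup G) : Prop where
  syl : IsSyl p S ⊤
  SL : S ≤ L
  RS : R ≤ S
  nR : L ≤ normalizer (R : Set G)
  nU : S ≤ normalizer (U : Set G)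
  comm : ⁅U, R⁆ = U
  resU : res p U = U
  nle : ¬ U ≤ L
  alt : ∀ H : Subgroup G, S ≤ H → H ≤ L ∨ U ≤ H
  gen : L ⊔ U = ⊤

namespace IsoP

variable {S L U R : Subgroup G}

omit [Finite G] hp in
theorem pR (h : IsoP p S L U R) : IsPGroup p R := h.syl.isPGroup.to_le h.RS

omit [Finite G] hp in
theorem le_of_not_le (h : IsoP p S L U R) {N : Subgroup G} (hn : S ≤ normalizer (N : Set G))
    (hN : ¬ N ≤ L) : U ≤ N := by
  have h1 := (h.alt (S ⊔ N) le_sup_left).resolve_left fun e => hN (le_sup_right.trans e)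
  exact h.resU ▸ (res_mono h1).trans (res_sup_le_right h.syl.isPGroup hn)

omit [Finite G] hp in
theorem le_of_not_ge (h : IsoP p S L U R) {N : Subgroup G} (hn : S ≤ normalizer (N : Set G))
    (hN : ¬ U ≤ N) : N ≤ L := by_contra fun e => hN (h.le_of_not_le hn e)

omit [Finite G] hp in
theorem comm_le (h : IsoP p S L U R) {N : Subgroup G} (hn : S ≤ normalizer (N : Set G))
    (hN : N ≤ L) : ⁅N, R⁆ ≤ N ⊓ R :=
  le_inf (commutator_le_left' (h.RS.trans hn)) (commutator_le_right' (hN.trans h.nR))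

omit [Finite G] hp in
theorem ne_bot (h : IsoP p S L U R) : U ≠ ⊥ := fun e => h.nle (e ▸ bot_le)

theorem map {G' : Type*} [Group G'] {f : G →* G'} (hf : Function.Surjective f)
    (h : IsoP p S L U R) (hk : f.ker ≤ L) : IsoP p (S.map f) (L.map f) (U.map f) (R.map f) where
  syl := by simpa only [map_top_of_surjective f hf] using h.syl.map f
  SL := map_mono h.SL
  RS := map_mono h.RS
  nR := map_le_normalizer_map f h.nR
  nU := map_le_normalizer_map f h.nU
  comm := by rw [← map_commutator, h.comm]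
  resU := by rw [← map_res, h.resU]
  nle := fun e => h.nle (by rwa [map_le_iff_le_comap, comap_map_eq, sup_eq_left.2 hk] at e)
  alt := fun H e => (h.alt (H.comap f) (map_le_iff_le_comap.1 e)).imp
    (fun e' => map_comap_eq_self_of_surjective hf H ▸ map_mono e') map_le_iff_le_comap.2
  gen := by rw [← Subgroup.map_sup, h.gen, map_top_of_surjective f hf]

omit [Finite G] hp in
theorem normal_of (h : IsoP p S L U R) {N : Subgroup G} (h1 : L ≤ normalizer (N : Set G))
    (h2 : U ≤ normalizer (N : Set G)) : ⊤ ≤ normalizer (N : Set G) := h.gen ▸ sup_le h1 h2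

omit [Finite G] hp in
theorem comm_ncl (h : IsoP p S L U R) : ⁅ncl ⊤ U, R⁆ = ncl ⊤ U := by
  have hn := le_normalizer_ncl ⊤ U
  refine le_antisymm (commutator_le_left' (le_top.trans hn)) (ncl_le ?_ (h.normal_of ?_ ?_))
  · exact h.comm.ge.trans (commutator_mono (le_ncl _ _) le_rfl)
  · exact le_normalizer_commutator (le_top.trans hn) h.nR
  · exact (le_ncl ⊤ U).trans (normalizer_commutator_ge_left _ _)

omit [Finite G] hp in
theorem res_ncl (h : IsoP p S L U R) : res p (ncl ⊤ U) = ncl ⊤ U :=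
  le_antisymm (res_le _) (ncl_le (h.resU.ge.trans (res_mono (le_ncl _ _)))
    (le_normalizer_res (le_normalizer_ncl ⊤ U)))

/-- The case where the normal closure of `U` has order prime to `p`. -/
theorem pprime (h : IsoP p S L U R) (hY : ¬ p ∣ Nat.card (ncl ⊤ U)) :
    ∃ t : ℕ, t.Prime ∧ t ≠ p ∧ IsPGroup t (ncl ⊤ U) ∧ ncl ⊤ U = U ∧
      ⁅⁅ncl ⊤ U, ncl ⊤ U⁆, ncl ⊤ U⁆ = ⊥ := by
  have hc := h.comm_ncl
  have hn := le_normalizer_ncl ⊤ U
  have hU := le_ncl ⊤ U
  set Y := ncl ⊤ U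
  have cen : ∀ N ≤ Y, S ≤ normalizer (N : Set G) → ¬ U ≤ N → N ≤ centralizer (R : Set G) :=
    fun N h1 h2 h3 => commutator_eq_bot_iff_le_centralizer.1 (eq_bot_iff.2
      ((h.comm_le h2 (h.le_of_not_ge h2 h3)).trans (by
        rw [← (isSyl_self (h.pR.to_le (inf_le_right (a := N)))).eq_bot_iff.2
          (not_dvd_card_of_le (inf_le_left.trans h1) hY)])))
  obtain ⟨t, ht, T, hT, hST, hUT⟩ : ∃ t : ℕ, t.Prime ∧ ∃ T, IsSyl t T Y ∧
      S ≤ normalizer (T : Set G) ∧ U ≤ T := by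
    by_contra! e
    have := le_of_invSylP h.syl.isPGroup hY (le_top.trans hn) fun r hr P h1 h2 =>
      cen P h1.le h2 (e r hr P h1 h2)
    exact h.ne_bot (h.comm ▸ commutator_eq_bot_iff_le_centralizer.2 (hU.trans this))
  haveI := Fact.mk ht
  have hpt : IsPGroup t Y := by
    have h1 : (T.relIndex Y).Coprime ((Y ⊓ centralizer (R : Set G)).relIndex Y) := by
      refine Nat.coprime_of_dvd fun r hr h1 h2 => ?_
      haveI := Fact.mk hr
      obtain ⟨P, h3, h4⟩ := exists_invSylP h.syl.isPGroup hY (le_top.trans hn) r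
      refine h3.not_dvd_relIndex (h2.trans (relIndex_dvd_of_le_left Y (le_inf h3.le
        (cen P h3.le h4 fun h5 => h.ne_bot (eq_bot_iff.2 ?_)))))
      have h6 : r ≠ t := fun e => hT.not_dvd_relIndex (e ▸ h1)
      exact (le_inf h5 hUT).trans (IsPGroup.disjoint_of_ne r t h6 P T h3.isPGroup hT.isPGroup).le_bot
    refine hT.isPGroup.to_le (hc.ge.trans (commutator_le.2 fun y hy r hr => ?_))
    obtain ⟨a, ha, d, hd, rfl⟩ := H46.exists_mul_of_coprime_relIndex hT.le inf_le_left h1 hy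
    have : ⁅a * d, r⁆ = ⁅a, r⁆ := by
      rw [commutatorElement_def, commutatorElement_def, mul_assoc a d r, ← hd.2 r hr]; group
    exact this ▸ commutator_le_left' (h.RS.trans hST) (commutator_mem_commutator ha hr)
  have hne : Y ≠ ⊥ := fun e => h.ne_bot (eq_bot_iff.2 (e ▸ hU))
  have htp : t ≠ p := fun e => hY (e ▸ (isSyl_self hpt).eq_bot_iff.not.1 hne |> not_not.1)
  haveI := hpt.isNilpotent
  have hF := H46.frattiniOf_lt hne
  have hD : ⁅Y, Y⁆ ≤ H46.frattiniOf Y := H46.der_le_frattiniOf_of_nil inferInstance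
  have nF : ⊤ ≤ normalizer (H46.frattiniOf Y : Set G) := H46.nrm_frattiniOf hn
  have hUF : ¬ U ≤ H46.frattiniOf Y := fun e => hF.not_ge (ncl_le e nF)
  refine ⟨t, ht, htp, hpt, ?_, ?_⟩
  · obtain ⟨k, hk⟩ := IsPGroup.iff_card.1 h.syl.isPGroup
    obtain ⟨W, h1, h2, h3, h4, h5⟩ := H48.maschke_section (p := t) (S := H46.frattiniOf Y)
      (U := H46.frattiniOf Y ⊔ U) (V := Y) (A := S) le_sup_left (sup_le hF.le hU) hD
      (fun v hv => H46.pow_mem_frattiniOf ht hpt hv) (le_top.trans nF)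
      (le_normalizer_sup (le_top.trans nF) h.nU) (le_top.trans hn)
      (hk ▸ ((Nat.coprime_primes hp.out ht).2 htp.symm).pow_left k)
    have h6 := cen W h2 h3 fun e => hUF (h4 ▸ le_inf le_sup_right e)
    have h7 : Y ≤ normalizer ((H46.frattiniOf Y ⊔ U : Subgroup G) : Set G) :=
      le_normalizer_of_commutator_le ((commutator_mono (sup_le hF.le hU) le_rfl).trans
        (hD.trans le_sup_left)) le_rfl
    have h8 : S ≤ normalizer ((H46.frattiniOf Y ⊔ U : Subgroup G) : Set G) :=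
      le_normalizer_sup (le_top.trans nF) h.nU
    refine (H46.eq_of_frattiniOf_sup hU (hc.ge.trans (h5.ge.trans' le_rfl |> fun e => ?_))).symm
    refine (commutator_mono e le_rfl).trans (commutator_sup_left_le le_normalizer (h2.trans h7)
      (commutator_le_left' (h.RS.trans h8)) ?_)
    exact (commutator_eq_bot_iff_le_centralizer.2 h6).le.trans bot_le
  · have nD : ⊤ ≤ normalizer ((⁅Y, Y⁆ : Subgroup G) : Set G) := le_normalizer_commutator hn hn
    have h1 := cen _ (hD.trans hF.le) (le_top.trans nD) fun e => hUF (e.trans hD)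
    rw [commutator_eq_bot_iff_le_centralizer, le_centralizer_iff]
    exact hc.ge.trans ((commutator_mono le_rfl (le_centralizer_iff.1 h1)).trans
      (commutator_le_right' (le_top.trans (le_normalizer_centralizer nD))))

omit hp in
theorem comm_eq_bot (h : IsoP p S L U R) (hO : pCore p G = ⊥) {N : Subgroup G} [N.Normal]
    (hN : N ≤ L) : N ⊓ R = ⊥ := by
  have h1 : N ⊓ R ≤ pCoreOf p N := le_pCoreOf (h.pR.to_le inf_le_right) inf_le_left
    (le_normalizer_inf le_normalizer (hN.trans h.nR))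
  have h2 := pCoreOf_le_pCoreOf_of_normal (p := p) (le_top (a := N)) le_normalizer_of_normal
  rw [pCoreOf_top, hO] at h2
  exact eq_bot_iff.2 (h1.trans h2)

theorem fstar_not_le (h : IsoP p S L U R) (hO : pCore p G = ⊥) :
    ¬ generalizedFittingSubgroup G ≤ L := fun e => by
  have h1 := (h.comm_le le_normalizer_of_normal e).trans (h.comm_eq_bot hO e).le
  have h2 := eq_bot_of_centralizes_fstar hO h.pR
    (le_centralizer_iff.1 (commutator_eq_bot_iff_le_centralizer.1 (eq_bot_iff.2 h1)))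
  exact h.ne_bot (by rw [← h.comm, h2, commutator_bot_right])

theorem le_fstar (h : IsoP p S L U R) (hO : pCore p G = ⊥) : U ≤ generalizedFittingSubgroup G :=
  h.le_of_not_le le_normalizer_of_normal (h.fstar_not_le hO)

/-- The component case. -/
theorem comp (h : IsoP p S L U R) (hO : pCore p G = ⊥) (hY : p ∣ Nat.card (ncl ⊤ U)) :
    ∃ K, IsComponent K ∧ ncl ⊤ U = sSup {K' | ∃ s ∈ S, cj s K = K'} := by
  haveI := H2.fitting_normal G
  have hF : fittingSubgroup G ≤ L := h.le_of_not_ge le_normalizer_of_normal fun e =>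
    (Nat.Prime.coprime_iff_not_dvd hp.out).1
      (coprime_card_of_le_fitting hO (ncl_le e le_normalizer_of_normal)).symm hY
  obtain ⟨K, hK, hKL⟩ : ∃ K, IsComponent K ∧ ¬ K ≤ L := by
    by_contra! e
    exact h.fstar_not_le hO (sup_le (H14.layer_le e) hF)
  have e1 : ∀ K : Subgroup G, ncl S K = sSup {K' | ∃ s ∈ S, cj s K = K'} := fun K =>
    le_antisymm (ncl_le_iff.2 fun s hs => le_sSup ⟨s, hs, rfl⟩)
      (sSup_le fun _ ⟨s, hs, e⟩ => e ▸ cj_le_ncl hs)
  refine ⟨K, hK, e1 K ▸ ?_⟩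
  have hE : ∀ K, IsComponent K → ncl S K ≤ layer G := fun K hK =>
    ncl_le (H14.comp_le_layer hK) le_normalizer_of_normal
  have nE : ∀ K, IsComponent K → layer G ≤ normalizer (ncl S K : Set G) := fun K hK => by
    rw [e1, sSup_eq_iSup']
    exact le_normalizer_iSup fun ⟨_, s, _, e⟩ =>
      H14.layer_le_normalizer_comp (e ▸ H14.comp_map_conj hK s)
  have hUX : ∀ K, IsComponent K → ¬ K ≤ L → U ≤ ncl S K := fun K _ e =>
    h.le_of_not_le (le_normalizer_ncl S K) fun e' => e ((le_ncl S K).trans e')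
  have key : ∀ K, IsComponent K → ¬ ncl S K ⊓ centralizer (ncl S K : Set G) ≥ U := fun K hK e => by
    refine h.nle (e.trans (le_trans ?_ hF))
    haveI : Group.IsNilpotent (ncl S K ⊓ centralizer (ncl S K : Set G) : Subgroup G) :=
      H14.isNilpotent_of_commutator_commutator (by
        rw [commutator_eq_bot_iff_le_centralizer.2 (inf_le_right.trans (centralizer_anti inf_le_left)),
          commutator_bot_left])
    exact H2.le_fitting_of_isSubnormal (H14.subnormal_of_le_normalizer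
      (Normal.isSubnormal (H14.layer_normal G)) (inf_le_left.trans (hE K hK))
      (le_normalizer_inf (nE K hK) (le_normalizer_centralizer (nE K hK))))
  have h1 : ∀ K', IsComponent K' → ¬ K' ≤ L → K' ≤ ncl S K := fun K' hK' e => by
    refine (H14.comp_le_or_of_normalizes hK' ((H14.comp_le_layer hK').trans (nE K hK))).resolve_right
      fun e' => key K hK (le_inf (hUX K hK hKL) ((hUX K' hK' e).trans ?_))
    exact ncl_le_centralizer (commutator_eq_bot_iff_le_centralizer.1 e') (le_normalizer_ncl S K)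
  have h2 : ⊤ ≤ normalizer (ncl S K : Set G) := by
    refine h.normal_of (fun l hl => mem_normalizer_of_cj_le ?_)
      ((hUX K hK hKL).trans le_normalizer)
    rw [cj_le_iff]
    refine ncl_le_iff.2 fun s hs => cj_le_iff.1 ?_
    rw [cj_cj]
    exact h1 _ (H14.comp_map_conj hK _) fun e => hKL (by
      rwa [cj_le_iff, cj_eq_self_of_mem (inv_mem (mul_mem hl (h.SL hs)))] at e)
  have hn := le_normalizer_ncl ⊤ U
  refine le_antisymm (ncl_le (hUX K hK hKL) h2) (ncl_le ?_ (le_top.trans hn))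
  refine (H14.comp_le_or_of_normalizes hK (le_top.trans hn)).resolve_right fun e =>
    key K hK (le_inf (hUX K hK hKL) ((le_ncl ⊤ U).trans (le_centralizer_iff.1 ?_)))
  exact ncl_le_centralizer (commutator_eq_bot_iff_le_centralizer.1 e) (le_top.trans hn)

/-- The full result, read in the quotient by `O_p(G)`. -/
theorem main (h : IsoP p S L U R) [(pCore p G).Normal] [(pCore p (ncl ⊤ U)).Normal] :
    U ≤ (generalizedFittingSubgroup (G ⧸ pCore p G)).comap (QuotientGroup.mk' (pCore p G)) ∧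
    ((U = ncl ⊤ U ∧ ∃ t : ℕ, t.Prime ∧ t ≠ p ∧ IsPGroup t (ncl ⊤ U ⧸ pCore p (ncl ⊤ U)) ∧
      ∃ _ : Group.IsNilpotent (ncl ⊤ U ⧸ pCore p (ncl ⊤ U)),
        Group.nilpotencyClass (ncl ⊤ U ⧸ pCore p (ncl ⊤ U)) ≤ 2) ∨
    (¬ Group.IsSolvable (ncl ⊤ U) ∧ p ∣ Nat.card (ncl ⊤ U ⧸ pCore p (ncl ⊤ U)) ∧
      layer (ncl ⊤ U ⧸ pCore p (ncl ⊤ U)) = ⊤ ∧
      ∀ K₁ K₂ : Subgroup (ncl ⊤ U ⧸ pCore p (ncl ⊤ U)), IsComponent K₁ → IsComponent K₂ → ∃ s ∈ S,
        (K₂.comap (QuotientGroup.mk' _)).map (ncl ⊤ U).subtype =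
          cj s ((K₁.comap (QuotientGroup.mk' _)).map (ncl ⊤ U).subtype))) := by
  have hπ := QuotientGroup.mk'_surjective (pCore p G)
  have hk := QuotientGroup.ker_mk' (pCore p G)
  set π := QuotientGroup.mk' (pCore p G)
  have hOS : pCore p G ≤ S := pCoreOf_top (p := p) (G := G) ▸ h.syl.pCoreOf_le
  have h' := h.map hπ (hk.le.trans (hOS.trans h.SL))
  have hO : pCore p (G ⧸ pCore p G) = ⊥ := by
    rw [← pCoreOf_top (G := G ⧸ pCore p G), ← map_top_of_surjective π hπ,
      ← map_pCoreOf_of_ker ((isPGroup_pCore p G).to_le hk.le), pCoreOf_top, Subgroup.map_eq_bot_iff, hk]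
  refine ⟨map_le_iff_le_comap.1 (h'.le_fstar hO), ?_⟩
  have hn := le_normalizer_ncl ⊤ U
  have eY : ncl ⊤ (U.map π) = (ncl ⊤ U).map π := by rw [map_ncl, map_top_of_surjective π hπ]
  have hp' := h'.pprime
  have hc := h'.comp hO
  have hr := h.res_ncl
  have hU := le_ncl ⊤ U
  rw [eY] at hp' hc
  set Y := ncl ⊤ U
  have hker : (π.comp Y.subtype).ker = pCore p Y := by
    rw [← MonoidHom.comap_ker, hk, ← pCoreOf_subgroupOf, pCoreOf_eq_inf_of_normal le_top hn,
      pCoreOf_top, inf_subgroupOf_right, subgroupOf]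
  let ψ := QuotientGroup.lift (pCore p Y) (π.comp Y.subtype) hker.ge
  have hψ : Function.Injective ψ := (QuotientGroup.injective_lift_iff _ _ _).2 hker.symm
  have hrg : ψ.range = Y.map π := by
    ext x
    exact ⟨fun ⟨y, e⟩ => QuotientGroup.induction_on y (fun y e => ⟨y, y.2, e⟩) e,
      fun ⟨y, hy, e⟩ => ⟨QuotientGroup.mk ⟨y, hy⟩, e⟩⟩
  let e := (MonoidHom.ofInjective hψ).trans (MulEquiv.subgroupCongr hrg)
  have he : ∀ K : Subgroup (Y ⧸ pCore p Y),
      (K.map (e : _ →* Y.map π)).map (Y.map π).subtype = K.map ψ := fun K => by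
    rw [map_map]; rfl
  by_cases hd : p ∣ Nat.card (Y.map π)
  · obtain ⟨K, hK, eK⟩ := hc hd
    have hKY : K ≤ Y.map π := eK ▸ le_sSup ⟨1, one_mem _, cj_one K⟩
    haveI : (Y.map π).Normal := (normal_of_top_le_normalizer hn).map π hπ
    have hs : (Y.map π).IsSubnormal := Normal.isSubnormal inferInstance
    refine Or.inr ⟨fun hs => not_solvable_of_comp hK hKY (Group.isSolvable_of_surjective
      (f := π.subgroupMap Y) (π.subgroupMap_surjective Y)), Nat.card_congr e.toEquiv ▸ hd, ?_, ?_⟩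
    · refine map_injective (f := (e : _ →* Y.map π)) e.injective (map_injective
        (Y.map π).subtype_injective ?_)
      rw [H14.map_layer_mulEquiv, H14.map_layer_subtype_of_subnormal hs, he, ← MonoidHom.range_eq_map,
        hrg]
      refine le_antisymm (sSup_le fun _ h => h.2) (eK.le.trans (sSup_le_sSup ?_))
      rintro _ ⟨s, hs, rfl⟩
      exact ⟨H14.comp_map_conj hK s, eK ▸ le_sSup ⟨s, hs, rfl⟩⟩
    · have h1 : ∀ K' : Subgroup (Y ⧸ pCore p Y), IsComponent K' → ∃ s ∈ S,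
          cj (π s) K = K'.map ψ := fun K' hK' => by
        obtain ⟨_, ⟨s, hs, rfl⟩, e'⟩ := H14.comp_mem_of_le_sSup
          (S := {K' | ∃ s ∈ S.map π, cj s K = K'}) (fun _ ⟨s, _, e⟩ => e ▸ H14.comp_map_conj hK s)
          (H14.comp_map_subtype hs (H14.comp_map_mulEquiv hK' e)) (eK ▸ map_subtype_le _)
        exact ⟨s, hs, he K' ▸ e'⟩
      have h2 : ∀ K' : Subgroup (Y ⧸ pCore p Y), (K'.comap (QuotientGroup.mk' _)).map Y.subtype =
          Y ⊓ (K'.map ψ).comap π := fun K' => by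
        ext x
        exact ⟨fun ⟨y, hy, e⟩ => e ▸ ⟨y.2, _, hy, rfl⟩, fun ⟨hx, z, hz, e⟩ =>
          ⟨⟨x, hx⟩, by rwa [(hψ (a₂ := QuotientGroup.mk ⟨x, hx⟩) e : z = _)] at hz, rfl⟩⟩
      intro K₁ K₂ hK₁ hK₂
      obtain ⟨s, hs, e₁⟩ := h1 K₁ hK₁
      obtain ⟨t, ht, e₂⟩ := h1 K₂ hK₂
      refine ⟨t * s⁻¹, mul_mem ht (inv_mem hs), ?_⟩
      rw [h2, h2, ← e₁, ← e₂, cj_inf, cj_eq_self (hn (mem_top _))]
      congr 1
      ext x
      simp only [mem_comap, mem_cj, map_mul, map_inv, mul_inv_rev, inv_inv, mul_assoc,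
        inv_mul_cancel_left, inv_mul_cancel, mul_one]
  · obtain ⟨t, ht, htp, h1, h2, h3⟩ := hp' hd
    haveI := Fact.mk ht
    haveI := (h1.of_equiv e.symm).isNilpotent
    refine Or.inl ⟨le_antisymm hU (hr.ge.trans ?_), t, ht, htp, h1.of_equiv e.symm, this, ?_⟩
    · have := h2.le
      rw [map_le_iff_le_comap, comap_map_eq, hk, sup_comm] at this
      exact (res_mono this).trans (res_sup_le_right (isPGroup_pCore p G) (hOS.trans h.nU))
    · rw [← Subgroup.lowerCentralSeries_eq_bot_iff_nilpotencyClass_le]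
      refine (map_eq_bot_iff_of_injective _ hψ).1 ?_
      simp only [Subgroup.lowerCentralSeries_succ, Subgroup.lowerCentralSeries_zero, map_commutator,
        ← MonoidHom.range_eq_map, hrg, h3]

end IsoP

theorem isoP_of {S P L : Subgroup G} (hS : IsSyl p S ⊤) (hSP : S ≤ P) (hP : IsPMinimal p P)
    (hL : L = normalizer (S : Set G) ⊔
      ⨆ P' : {P' : Subgroup G // S ≤ P' ∧ IsPMinimal p P' ∧ P' ≠ P}, (P' : Subgroup G))
    (hi : ¬ pCoreOf p L ≤ pCoreOf p P) : IsoP p S L (res p P) (pCoreOf p L) := by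
  have hT := hS.of_le hSP le_top
  obtain ⟨-, M, hM⟩ := (isPMinimal_iff_umax hT).1 hP
  have hSL : S ≤ L := hL ▸ le_normalizer.trans le_sup_left
  have hRS := (hS.of_le hSL le_top).pCoreOf_le
  have hR := self_le_normalizer_pCoreOf (p := p) L
  have hU := self_le_normalizer_res (p := p) P
  have alt : ∀ X H, L ≤ X → S ≤ H → ¬ H ≤ X → P ≤ H ∧ ¬ P ≤ X := fun X H h0 h1 h3 => by
    obtain ⟨Q, hQ, ⟨h4, h5⟩, hm⟩ :=
      exists_minimal_le_of_wellFoundedLT (fun Q => S ≤ Q ∧ ¬ Q ≤ X) H ⟨h1, h3⟩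
    have h6 : IsPMinimal p Q := (isPMinimal_iff_umax (hS.of_le h4 le_top)).2
      ⟨fun e => h5 (le_trans (hL ▸ e.trans le_sup_left) h0), _, le_inf h4 (hSL.trans h0),
        inf_lt_left.2 h5, fun Y e1 e2 => or_iff_not_imp_left.2 fun e3 =>
          le_antisymm e2 (hm ⟨e1, fun e => e3 (le_inf e2 e)⟩ e2)⟩
    obtain rfl : Q = P := by_contra fun e => h5 (le_trans (hL ▸ le_sup_of_le_right
      (le_iSup (fun P' : {P' : Subgroup G // S ≤ P' ∧ IsPMinimal p P' ∧ P' ≠ P} =>
        (P' : Subgroup G)) ⟨Q, h4, h6, e⟩)) h0)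
    exact ⟨hQ, h5⟩
  have nle : ¬ res p P ≤ L := fun e =>
    hi (pCoreOf_le_pCoreOf (hT.sup_res ▸ sup_le hSL e) (hRS.trans hSP))
  refine ⟨hS, hSL, hRS, hR, hSP.trans hU, ?_, res_res P, nle,
    fun H h => or_iff_not_imp_left.2 fun e => (res_le P).trans (alt L H le_rfl h e).1, ?_⟩
  · have h1 : ⁅res p P, pCoreOf p L⁆ ≤ res p P := commutator_le_left' (hRS.trans (hSP.trans hU))
    have h2 : S ≤ normalizer ((⁅res p P, pCoreOf p L⁆ : Subgroup G) : Set G) :=
      le_normalizer_commutator (hSP.trans hU) (hSL.trans hR)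
    refine le_antisymm h1 (hM.res_le hS.isPGroup (h1.trans (res_le P)) (fun e => hi ?_) h2)
    refine hM.le_pCoreOf_of_le hT (sup_le e (hRS.trans hM.le)) ?_ (isPGroup_pCoreOf L) le_sup_right
    exact hT.sup_res.ge.trans (sup_le (le_normalizer_sup h2 (hSL.trans hR))
      (by rw [commutator_comm, ← ncl_eq_commutator_sup]; exact le_normalizer_ncl _ _))
  · exact top_le_iff.1 (by_contra fun e => (alt _ ⊤ le_sup_left le_top e).2
      (hT.sup_res.ge.trans (sup_le_sup_right hSL _)))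

end H98
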