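/- S3275, chapter U0, section C (bad elements): definitions and job statements.
Proofs in `blueprints/DP0C.md`. -/
import Cfsg.Agent.H48.DP0Spec
import Cfsg.Agent.H14.Rel

set_option autoImplicit false

namespace H98.DP0C

open Subgroup Cfsg H98 H48.DP H57.DPC H48.DP2
open scoped commutatorElement

universe u

section defs

variable {G X : Type u} [Group G] [Group X]

/-- `π` is the quotient map `H → H / O₂(H)`. -/
structure Pj (H : Subgroup G) (π : H →* X) : Prop where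
  surj : Function.Surjective π
  ker : π.ker = (O2 H).subgroupOf H

/-- the image of `S ⊓ H`. -/
abbrev bar {H : Subgroup G} (π : H →* X) (S : Subgroup G) : Subgroup X := (S.subgroupOf H).map π

/-- a section with `O₂ = 1` and 3-rank at most two. -/
structure Sec (X : Type u) [Group X] : Prop where
  nd : ND X
  o2 : O2 (⊤ : Subgroup X) = ⊥
  cm : ∀ K : Subgroup X, IsComponentOf K ⊤ → Cm ⊤ K ∧ Three K
  rk : ∀ B : Subgroup X, ¬ E27 B

/-- the images of `y` (bad) and `z` (good) in a section. -/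
structure BB (y z : X) : Prop extends Sec X where
  y3 : orderOf y = 3
  z3 : orderOf z = 3
  yz : y * z = z * y
  ny : y ∉ zpowers z
  iz : ∀ T : Subgroup X, T ≤ C1 z → IsPGroup 2 T → y ∈ No T → T ≤ O2 (C1 z)
  nf : ∀ g : X, g * z * g⁻¹ ∈ zpowers y ⊔ zpowers z → g * z * g⁻¹ ∈ zpowers z

/-- facts on `K ≅ L₃(2)`. -/
structure L32 (K : Subgroup X) : Prop where
  card : Nat.card K = 168
  cj3 : ∀ k ∈ K, ∀ k' ∈ K, orderOf k = 3 → orderOf k' = 3 → ∃ g ∈ K, g * k * g⁻¹ = k'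
  four : ∀ k ∈ K, orderOf k = 3 → ∀ S : Subgroup X, S ≤ K → IsPGroup 2 S → k ∈ No S →
    S = ⊥ ∨ Nat.card S = 4
  pair : ∀ k ∈ K, orderOf k = 3 → ∃ A B : Subgroup X, A ≤ K ∧ B ≤ K ∧ IsPGroup 2 A ∧
    IsPGroup 2 B ∧ k ∈ No A ∧ k ∈ No B ∧ A ≠ ⊥ ∧ B ≠ ⊥ ∧ A ≠ B ∧ K ≤ A ⊔ B

/-- `L / O₂(H) ≅ L₃(2)` is normal in `H / O₂(H)`, contains `z` and is centralised by `y`. -/
structure KL (H L : Subgroup G) (y z : G) : Prop where
  OL : O2 H ≤ L
  LH : L ≤ H
  nor : H ≤ No L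
  iso : ∃ f : L →* Matrix.ProjectiveSpecialLinearGroup (Fin 2) (ZMod 7),
    Function.Surjective f ∧ f.ker = (O2 H).subgroupOf L
  zL : z ∈ L
  yH : y ∈ H
  yL : ∀ l ∈ L, ⁅y, l⁆ ∈ O2 H
  two : ∀ S : Subgroup G, S ≤ H → IsPGroup 2 S → y ∈ No S → S ≤ L
  four : ∀ S : Subgroup G, S ≤ L → IsPGroup 2 S → z ∈ No S → O2 H ≤ S →
    S = O2 H ∨ (O2 H).relIndex S = 4
  pair : ∃ A B : Subgroup G, IsPGroup 2 A ∧ IsPGroup 2 B ∧ z ∈ No A ∧ z ∈ No B ∧ O2 H < A ∧
    O2 H < B ∧ A ≠ B ∧ A ⊔ B = L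

end defs

/-! ### The three groups -/

def JobL32 : Prop := ∀ (X : Type u) [Group X] [Finite X] (K : Subgroup X), IsL27 K → L32 K

def JobRk : Prop := ∀ (X : Type u) [Group X] [Finite X] (K : Subgroup X), Three K →
  IsL27 K ∨ ∃ A : Subgroup X, A ≤ K ∧ IsElementaryAbelian 3 A ∧ 9 ≤ Nat.card A

/-! ### Sections -/

/-- elements of order 3 normalise the components; if one centralises `K`, then `K ≅ L₃(2)`. -/
def NC : Prop := ∀ (X : Type u) [Group X] [Finite X] (K : Subgroup X) (e : X), Sec X →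
  IsComponentOf K ⊤ → orderOf e = 3 → e ∈ No K ∧ (e ∈ Ce K → IsL27 K)

def JobNC : Prop := JobRk.{u} → NC.{u}

/-- `z` centralises no component. -/
def NZ : Prop := ∀ (X : Type u) [Group X] [Finite X] (K : Subgroup X) (y z : X), BB y z →
  IsComponentOf K ⊤ → z ∉ Ce K

def JobNZ : Prop := JobL32.{u} → NC.{u} → NZ.{u}

def KB1 : Prop := ∀ (X : Type u) [Group X] [Finite X] (K S : Subgroup X) (y z : X), BB y z →
  IsComponentOf K ⊤ → IsPGroup 2 S → y ∈ No S → z ∈ No S → ¬ S ≤ Ce K →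
  IsL27 K ∧ z ∈ K ∧ ∃ i : ℕ, y * z ^ i ∈ Ce K

def JobKB1 : Prop := JobPr.{u} → JobL32.{u} → NC.{u} → NZ.{u} → KB1.{u}

def KB2 : Prop := ∀ (X : Type u) [Group X] [Finite X] (K : Subgroup X) (y z : X) (i : ℕ), BB y z →
  IsComponentOf K ⊤ → z ∈ K → y * z ^ i ∈ Ce K →
  K.Normal ∧ (∀ J : Subgroup X, IsComponentOf J ⊤ → J = K) ∧
    ∀ S : Subgroup X, IsPGroup 2 S → y * z ^ i ∈ No S → S ≤ K

def JobKB2 : Prop := NZ.{u} → KB2.{u}

/-! ### Proper subgroups over `⟨y, z⟩` that are not in `M` -/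

def SEC : Prop := ∀ (G X : Type u) [Group G] [Finite G] [Group X] [Finite X] (H : Subgroup G)
  (π : H →* X), Hyp G → H ≠ ⊤ → Pj H π → (∀ B : Subgroup G, B ≤ H → ¬ E27 B) → Sec X

def JobSec : Prop := Act.{u} → JobCov3.{u} → SM.{u} → SEC.{u}

def TRF : Prop := ∀ (G X : Type u) [Group G] [Finite G] [Group X] [Finite X] (M Q H : Subgroup G)
  (π : H →* X) (y z u : G) (hy : y ∈ H) (hz : z ∈ H), Bd M Q y z u → Pj H π → Sec X →
  BB (π ⟨y, hy⟩) (π ⟨z, hz⟩)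

def JobTrf : Prop := TRF.{u}

/-- pulling the component back. -/
def PB : Prop := ∀ (G X : Type u) [Group G] [Finite G] [Group X] [Finite X] (H : Subgroup G)
  (π : H →* X) (K : Subgroup X) (y z : G) (hy : y ∈ H) (hz : z ∈ H), Pj H π → IsL27 K → K.Normal →
  orderOf (π ⟨z, hz⟩) = 3 → π ⟨z, hz⟩ ∈ K → π ⟨y, hy⟩ ∈ Ce K →
  (∀ S : Subgroup X, IsPGroup 2 S → π ⟨y, hy⟩ ∈ No S → S ≤ K) →
  KL H ((K.comap π).map H.subtype) y z

def JobPB : Prop := JobL32.{u} → PB.{u}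

/-- KEY: an `⟨y, z⟩`-invariant 2-group that centralises `O₃(H / O₂(H))` and is not in `O₂(H)`. -/
def KEY : Prop := ∀ (G X : Type u) [Group G] [Finite G] [Group X] [Finite X]
  (M Q H S : Subgroup G) (π : H →* X) (y z u : G), Bd M Q y z u → H ≠ ⊤ → y ∈ H → z ∈ H →
  ¬ H ≤ M → Pj H π → S ≤ H → IsPGroup 2 S → y ∈ No S → z ∈ No S → ¬ S ≤ O2 H →
  bar π S ≤ Ce (pCoreOf 3 ⊤) → ∃ (i : ℕ) (L : Subgroup G), KL H L (y * z ^ i) z

def JobKEY : Prop := JobFs.{u} → SEC.{u} → TRF.{u} → KB1.{u} → KB2.{u} → PB.{u} → KEY.{u}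

/-- KS: the case that `Q ⊓ H` is not in `O₂(H)`. -/
def KS : Prop := ∀ (G : Type u) [Group G] [Finite G] (M Q H : Subgroup G) (y z u : G),
  Bd M Q y z u → H ≠ ⊤ → y ∈ H → z ∈ H → ¬ H ≤ M → ¬ Q ⊓ H ≤ O2 H →
  ∃ (i : ℕ) (L : Subgroup G), KL H L (y * z ^ i) z

def JobKS : Prop := KEY.{u} → KS.{u}

def JobC0 : Prop := ISO.{u} → C0.{u}

def JobCL : Prop := KS.{u} → CL.{u}

/-- `z` does not centralise `C_Q(y)`. -/
def FZ : Prop := ∀ (G : Type u) [Group G] [Finite G] (M Q : Subgroup G) (y z u : G),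
  Bd M Q y z u → ¬ Q ⊓ C1 y ≤ C1 z

def JobFz : Prop := FZ.{u}

def JobC3 : Prop := KS.{u} → FZ.{u} → C3.{u}

/-! ### Kit -/

section kit

variable {G : Type u} [Group G] [Finite G] {M Q : Subgroup G} {y z u : G}

omit [Finite G] in
theorem good_cj {x : G} (h : Good x) (g : G) : Good (g * x * g⁻¹) := by
  obtain ⟨B, ⟨⟨h1, h2⟩, h3⟩, hx⟩ := h
  refine ⟨cj g B, ⟨⟨⟨⟨fun a b => Subtype.ext ?_⟩⟩, fun a ha => ?_⟩, by rwa [card_cj]⟩,
    conj_mem_cj hx⟩
  · have := congrArg Subtype.val (h1.1.1 ⟨_, mem_cj.1 a.2⟩ ⟨_, mem_cj.1 b.2⟩)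
    have e : g⁻¹ * a * g * (g⁻¹ * b * g) = g⁻¹ * b * g * (g⁻¹ * a * g) := this
    calc (a : G) * b = g * (g⁻¹ * a * g * (g⁻¹ * b * g)) * g⁻¹ := by group
      _ = b * a := by rw [e]; group
  · have := h2 _ (mem_cj.1 ha)
    calc a ^ 3 = g * (g⁻¹ * a * g) ^ 3 * g⁻¹ := by simp only [pow_succ, pow_zero]; group
      _ = 1 := by rw [this]; group

omit [Finite G] in
theorem good_zpow {x w : G} (h : Good x) (hw : w ∈ zpowers x) : Good w :=
  h.imp fun _ h => ⟨h.1, zpowers_le.2 h.2 hw⟩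

/-- T3: a subnormal chain over a good element of `M` lies in `M`; here for nilpotent groups. -/
theorem t3 (h : Ub M Q) {R : Subgroup G} (hR : IsPGroup 3 R) {x : G} (x3 : orderOf x = 3)
    (hx : Good x) (xM : x ∈ M) (xR : x ∈ R) : R ≤ M := by
  have : Fact (Nat.Prime 3) := ⟨Nat.prime_three⟩
  have := hR.isNilpotent
  by_contra hn
  have h1 : M.subgroupOf R < ⊤ := lt_top_iff_ne_top.2 fun e => hn (subgroupOf_eq_top.1 e)
  obtain ⟨r, hr, hr'⟩ := SetLike.exists_of_lt (normalizerCondition_of_isNilpotent _ h1)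
  exact hr' (h.tg x r x3 hx xM ((mem_normalizer_iff.1 hr ⟨x, xR⟩).1 xM))

omit [Finite G] in
theorem cen_le (h : Ub M Q) {x : G} (x3 : orderOf x = 3) (hx : Good x) (xM : x ∈ M) : C1 x ≤ M :=
  fun g hg => h.tg x g x3 hx xM (by
    rwa [mem_centralizer_singleton_iff.1 hg, mul_inv_cancel_right])

omit [Finite G] in
theorem Bd.good (h : Bd M Q y z u) : Good z := by
  obtain ⟨B, -, h1, h2⟩ := h.uU
  exact ⟨B, h1, h2 (mem_sup_left (mem_zpowers z))⟩

omit [Finite G] in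
theorem Bd.mem (h : Bd M Q y z u) : y ∈ M ∧ z ∈ M ∧ u ∈ M := by
  obtain ⟨P, h1, h2, h3, h4, -⟩ := h.syl
  exact ⟨h1 h2, h1 h3, h1 h4⟩

omit [Finite G] in
theorem Bd.comm (h : Bd M Q y z u) : y * z = z * y ∧ u * z = z * u := by
  obtain ⟨P, -, h2, -, h4, h5, -⟩ := h.syl
  exact ⟨mem_centralizer_singleton_iff.1 (h5 h2), mem_centralizer_singleton_iff.1 (h5 h4)⟩

omit [Finite G] in
theorem Bd.cz (h : Bd M Q y z u) : C1 z ≤ M := cen_le h.toUb h.z3 (Bd.good h) (Bd.mem h).2.1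

omit [Finite G] in
theorem Bd.conj (h : Bd M Q y z u) (i : ℕ) : u ^ i * y * (u ^ i)⁻¹ = y * z ^ i := by
  have c : Commute u z := (Bd.comm h).2
  induction i with
  | zero => simp
  | succ i ih =>
    calc u ^ (i + 1) * y * (u ^ (i + 1))⁻¹ = u * (u ^ i * y * (u ^ i)⁻¹) * u⁻¹ := by
          rw [pow_succ']; group
      _ = (u * y * u⁻¹) * (u * z ^ i * u⁻¹) := by rw [ih]; group
      _ = y * z ^ (i + 1) := by
          rw [h.uy, (c.pow_right i).eq, mul_inv_cancel_right, pow_succ', mul_assoc]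

omit [Finite G] in
theorem Bd.bad' (h : Bd M Q y z u) (i : ℕ) : ¬ Good (y * z ^ i) := fun g => h.bad (by
  have := good_cj g (u ^ i)⁻¹
  rw [← Bd.conj h] at this
  convert this using 1
  group)

omit [Finite G] in
theorem Bd.ord (h : Bd M Q y z u) (i : ℕ) : orderOf (y * z ^ i) = 3 := by
  rw [← Bd.conj h, ← h.y3]
  exact (SemiconjBy.orderOf_eq (u ^ i) (by simp [SemiconjBy])).symm

/-- a proper subgroup over `z` that is not in `M` has no `3³`. -/
theorem no27 (h : Ub M Q) {H : Subgroup G} {x : G} (x3 : orderOf x = 3) (hx : Good x) (xM : x ∈ M)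
    (hH : H ≠ ⊤) (xH : x ∈ H) (hn : ¬ H ≤ M) (B : Subgroup G) (hB : B ≤ H) : ¬ E27 B := by
  intro hE
  have : Fact (Nat.Prime 3) := ⟨Nat.prime_three⟩
  obtain ⟨R, hR, hxR⟩ := exists_isSyl_le (p := 3) (H := H)
    (isPGroup_zpowers (k := 1) (by rw [pow_one, ← x3, pow_orderOf_eq_one])) (zpowers_le.2 xH)
  have hB3 : IsPGroup 3 B := fun b => ⟨1, Subtype.ext (by simpa using hE.1.2 b b.2)⟩
  obtain ⟨g, -, hg⟩ := hR.exists_cj_le hB3 hB
  refine hn (h.loc H (cj g B) hH ?_ (le_inf (hg.trans hR.le)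
    (hg.trans (t3 h hR.isPGroup x3 hx xM (hxR (mem_zpowers x))))))
  refine ⟨⟨⟨⟨fun a b => Subtype.ext ?_⟩⟩, fun a ha => ?_⟩, by rw [card_cj]; exact hE.2⟩
  · have := congrArg Subtype.val (hE.1.1.1.1 ⟨_, mem_cj.1 a.2⟩ ⟨_, mem_cj.1 b.2⟩)
    have e : g⁻¹ * a * g * (g⁻¹ * b * g) = g⁻¹ * b * g * (g⁻¹ * a * g) := this
    calc (a : G) * b = g * (g⁻¹ * a * g * (g⁻¹ * b * g)) * g⁻¹ := by group
      _ = b * a := by rw [e]; group
  · have := hE.1.2 _ (mem_cj.1 ha)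
    calc a ^ 3 = g * (g⁻¹ * a * g) ^ 3 * g⁻¹ := by simp only [pow_succ, pow_zero]; group
      _ = 1 := by rw [this]; group

omit [Finite G] in
theorem exists_pj (H : Subgroup G) : ∃ (N : Subgroup H) (_ : N.Normal),
    Pj H (QuotientGroup.mk' N) := by
  have : (pCore 2 H).Normal := inferInstance
  refine ⟨pCore 2 H, this, QuotientGroup.mk'_surjective _, ?_⟩
  rw [QuotientGroup.ker_mk']
  exact (comap_map_eq_self_of_injective H.subtype_injective _).symm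

omit [Finite G] in
theorem Bd.ny (h : Bd M Q y z u) : y ∉ zpowers z := fun e => h.bad (good_zpow (Bd.good h) e)

omit [Finite G] in
theorem nor_shift {S : Subgroup G} (hz : z ∈ No S) (i : ℕ) : y * z ^ i ∈ No S ↔ y ∈ No S :=
  mul_mem_cancel_right (pow_mem hz i)

omit [Finite G] in
/-- the bad element may be replaced by `y zⁱ`. -/
theorem Bd.shift (h : Bd M Q y z u) (i : ℕ) : Bd M Q (y * z ^ i) z u := by
  refine { h.toUb with
    syl := ?_, y3 := Bd.ord h i, z3 := h.z3, u3 := h.u3, uy := ?_, bad := Bd.bad' h i, uU := h.uU,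
    iso := fun X h1 h2 h3 h4 => h.iso X h1 h2 ((nor_shift h4 i).1 h3) h4 }
  · obtain ⟨P, h1, h2, h3, h4, h5, h6, h7⟩ := h.syl
    refine ⟨P, h1, mul_mem h2 (pow_mem h3 i), h3, h4, h5, h6, fun R hR a b => ?_⟩
    have hu : u ^ i ∈ (P : Subgroup G) := (P : Subgroup G).pow_mem h4 i
    have e : ∀ g : G, g ∈ C1 y ↔ u ^ i * g * (u ^ i)⁻¹ ∈ C1 (y * z ^ i) := fun g => by
      rw [mem_centralizer_singleton_iff, mem_centralizer_singleton_iff, ← Bd.conj h]
      constructor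
      · intro k
        calc _ = u ^ i * (g * y) * (u ^ i)⁻¹ := by group
          _ = _ := by rw [k]; group
      · intro k
        calc g * y = (u ^ i)⁻¹ * (u ^ i * g * (u ^ i)⁻¹ * (u ^ i * y * (u ^ i)⁻¹)) * u ^ i := by
              group
          _ = _ := by rw [k]; group
    have := h7 (cj (u ^ i)⁻¹ R) (isPGroup_cj _ hR) (fun g hg => mem_cj.2 (a ⟨by
      rw [inv_inv]; exact (P : Subgroup G).mul_mem (mul_mem hu hg.1) ((P : Subgroup G).inv_mem hu), by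
      rw [inv_inv]; exact (e g).1 hg.2⟩)) fun g hg => (e g).2 (b (by simpa using mem_cj.1 hg))
    exact (cj_le_iff.1 this).trans (cj_eq_self_of_mem (inv_mem (inv_mem hu))).le
  · have c : Commute u z := (Bd.comm h).2
    calc u * (y * z ^ i) * u⁻¹ = (u * y * u⁻¹) * (u * z ^ i * u⁻¹) := by group
      _ = _ := by rw [h.uy, (c.pow_right i).eq, mul_inv_cancel_right, mul_assoc, mul_assoc,
        ← pow_succ, ← pow_succ']

omit [Finite G] in
/-- normal form in `⟨a, b⟩` for commuting elements of order 3. -/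
theorem nf3 {a b e : G} (a3 : orderOf a = 3) (b3 : orderOf b = 3) (c : a * b = b * a)
    (he : e ∈ zpowers a ⊔ zpowers b) : e ∈ zpowers b ∨ ∃ i : ℕ, a * b ^ i ∈ zpowers e ∧
      e ∈ zpowers (a * b ^ i) := by
  have c' : Commute a b := c
  have k : ∀ {x : G}, orderOf x = 3 → ∀ w ∈ zpowers x, ∃ n : ℕ, n < 3 ∧ w = x ^ n := by
    rintro x x3 _ ⟨n, rfl⟩
    have h0 := Int.emod_nonneg n (show (3 : ℤ) ≠ 0 by norm_num)
    have h1 := Int.emod_lt_of_pos n (show (0 : ℤ) < 3 by norm_num)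
    refine ⟨(n % 3).toNat, by omega, ?_⟩
    rw [← zpow_natCast, Int.toNat_of_nonneg h0]
    have := zpow_mod_orderOf x n
    rw [x3] at this
    exact this.symm
  obtain ⟨v, hv, w, hw, rfl⟩ := (mem_sup_left_norm (H := zpowers a) (N := zpowers b)
    (zpowers_le.2 (centralizer_le_normalizer _ (by
      rintro _ ⟨n, rfl⟩; exact (c'.zpow_right n).eq.symm)))).1 he
  obtain ⟨m, hm, rfl⟩ := k a3 v hv
  obtain ⟨n, -, rfl⟩ := k b3 w hw
  have ha : a ^ 3 = 1 := a3 ▸ pow_orderOf_eq_one a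
  have hb : b ^ 3 = 1 := b3 ▸ pow_orderOf_eq_one b
  interval_cases m
  · exact .inl (by simpa using hw)
  · exact .inr ⟨n, by simp, by simp⟩
  · refine .inr ⟨2 * n, ⟨(2 : ℕ), ?_⟩, ⟨(2 : ℕ), ?_⟩⟩
    · simp only [zpow_natCast]
      rw [(c'.pow_pow 2 n).mul_pow, ← pow_mul, ← pow_mul, mul_comm n, show 2 * 2 = 3 + 1 from rfl,
        pow_succ, ha, one_mul]
    · simp only [zpow_natCast]
      rw [(c'.pow_right _).mul_pow, ← pow_mul, show 2 * n * 2 = 3 * n + n by ring, pow_add, pow_mul,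
        hb, one_pow, one_mul]

omit [Finite G] in
theorem Bd.good_mem (h : Bd M Q y z u) {e : G} (he : e ∈ zpowers y ⊔ zpowers z) (g : Good e) :
    e ∈ zpowers z :=
  (nf3 h.y3 h.z3 (Bd.comm h).1 he).resolve_right fun ⟨i, hi, _⟩ => Bd.bad' h i (good_zpow g hi)

/-- normalisers of non-trivial `p`-groups are proper. -/
theorem no_ne_top (h : Hyp G) {p : ℕ} [Fact p.Prime] {J : Subgroup G} (hJ : IsPGroup p J)
    (h1 : J ≠ ⊥) : No J ≠ ⊤ := fun e => by
  have := h.simple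
  rcases (normal_of_top_le_normalizer e.ge).eq_bot_or_eq_top with k | rfl
  · exact h1 k
  · have := hJ.isNilpotent
    have := (Group.isNilpotent_top (G := G)).1 this
    exact h.nc ⟨⟨IsSimpleGroup.comm_iff_isSolvable.2 inferInstance⟩⟩

end kit

theorem jobUC : H48.DP2.JobUC.{u} := by
  intro c0 cl c4 c6 c3 G _ _ M Q h
  have key : ∀ y ∈ M, orderOf y = 3 → ¬ Good y → C1 y ≤ M := fun y hy y3 hb => by
    obtain ⟨z, u, hd⟩ := c0 G M Q y h hy y3 hb
    refine c3 c6 G M Q y z u hd fun X h1 h2 h3 h4 => by_contra fun h5 => ?_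
    obtain ⟨y', J, L, h6, h7⟩ := cl G M Q X y z u hd h1 h2 h3 h4 h5
    exact c4 G M Q J L y' z u h6 h7
  refine { h.toHyp2 with
    h1 := h.h1, no := h.no, o2 := h.o2, nt := h.nt, cq := h.cq, e27 := ?_, ti := ?_ }
  · obtain ⟨B, h1, h2⟩ := h.e27
    exact ⟨B, h1, h2.1, h2.2⟩
  · intro x g x3 xM hg
    by_cases hx : Good x
    · exact h.tg x g x3 hx xM hg
    obtain ⟨z, u, hd⟩ := c0 G M Q x h xM x3 hx
    refine h.tg z g hd.z3 (Bd.good hd) (Bd.mem hd).2.1 (key _ hg ?_ (fun k => hx ?_) ?_)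
    · rw [← x3]; exact (SemiconjBy.orderOf_eq g (by simp [SemiconjBy])).symm
    · have := good_cj k g⁻¹
      convert this using 1
      group
    · rw [mem_centralizer_singleton_iff]
      calc _ = g * (z * x) * g⁻¹ := by group
        _ = _ := by rw [← (Bd.comm hd).1]; group

end H98.DP0C
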