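import Cfsg.Agent.H57.DPCSpec
import Cfsg.Agent.H2.PrimeCore
import Cfsg.Agent.S0217

/-! S3275, chapter C, slot SF: completeness of the functor `O_{3'}(C(x))`. -/

set_option autoImplicit false

namespace H98.DpcSF

open Subgroup Cfsg H48.DP H57.DPC

universe u

variable {G : Type u} [Group G] [Finite G] {x : G}

theorem th_le (x : G) : th x ≤ C1 x := map_subtype_le _

theorem th_nd (x : G) : ¬ 3 ∣ Nat.card (th x) := by
  have := Fact.mk Nat.prime_three
  rw [th, centralizerPPrimeCore, card_map_of_injective (subtype_injective _)]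
  exact H2.not_dvd_card_pPrimeCore 3 _

theorem th_no (x : G) : C1 x ≤ No (th x) := fun g hg => mem_normalizer_of_cj_le (by
  rintro _ ⟨_, ⟨a, ha, rfl⟩, rfl⟩
  have := H2.pPrimeCore_characteristic 3 (C1 x)
  exact ⟨_, (inferInstance : (pPrimeCore 3 (C1 x)).Normal).conj_mem a ha ⟨g, hg⟩, rfl⟩)

theorem th_cj (g x : G) : cj g (th x) ≤ th (g * x * g⁻¹) := by
  have e : C1 (g * x * g⁻¹) = cj g (C1 x) := by
    ext a
    rw [mem_cj, mem_centralizer_singleton_iff, mem_centralizer_singleton_iff]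
    constructor
    · intro e
      calc g⁻¹ * a * g * x = g⁻¹ * (a * (g * x * g⁻¹)) * g := by group
        _ = _ := by rw [e]; group
    · intro e
      calc a * (g * x * g⁻¹) = g * (g⁻¹ * a * g * x) * g⁻¹ := by group
        _ = _ := by rw [e]; group
  refine H2.le_map_pPrimeCore_subtype (e.ge.trans' (map_mono (th_le x))) (e.le.trans ?_) ?_
  · rw [← cj_normalizer]
    exact map_mono (th_no x)
  · rw [card_cj]
    exact ((Nat.Prime.coprime_iff_not_dvd Nat.prime_three).2 (th_nd x)).symm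

theorem o2_le (x : G) : O2 (C1 x) ≤ th x :=
  map_mono (H2.pCore_le_pPrimeCore_of_coprime (by norm_num))

theorem jobSF : JobSF.{u} := by
  intro bal o3 G _ _ hy B hB h27
  have := Fact.mk Nat.prime_three
  have := Fact.mk Nat.prime_two
  have ord : ∀ x ∈ B, x ≠ 1 → orderOf x = 3 := fun x hx h1 => orderOf_eq_prime (hB.2 x hx) h1
  have cm : ∀ a ∈ B, ∀ b ∈ B, a * b = b * a := fun a ha b hb =>
    congrArg Subtype.val (hB.1.is_comm.comm (⟨a, ha⟩ : B) ⟨b, hb⟩)
  have O : ∀ Y : Subgroup G, ¬ 3 ∣ Nat.card Y →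
      Group.IsSolvable Y ∧ ∀ S : Subgroup G, S ≤ Y → IsPGroup 2 S → S ≤ O2 Y := fun Y h =>
    o3 G hy Y (by
      rintro rfl
      obtain ⟨⟨x, hx⟩, h1⟩ := (ne_bot_iff_exists_ne_one (H := B)).1 (by
        rintro rfl; rw [card_bot] at h27; omega)
      exact h (ord x hx (fun e => h1 (Subtype.ext e)) ▸ orderOf_dvd_natCard _ (mem_top x))) h
  obtain ⟨h1, h2⟩ := Cfsg.Agent.S0217.result (p := 3) B cm hB.2 h27 (fun x => th x)
    (fun a _ _ => th_le a) (fun a _ _ => th_nd a)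
    (fun a ha _ b hb c hc => conj_mem_of_mem_normalizer
      (th_no a (mem_centralizer_singleton_iff.2 (cm b hb a ha))) hc)
    (fun a _ _ => (O _ (th_nd a)).1)
    fun a ha a1 b hb b1 => bal G hy a b (ord a ha a1) (ord b hb b1) (cm a ha b hb)
  change ¬ 3 ∣ Nat.card (WW B) at h1
  change ∀ a ∈ B, a ≠ 1 → WW B ⊓ C1 a = th a at h2
  refine ⟨h1, fun x hx x1 => ⟨h2 x hx x1, le_antisymm ?_ (le_inf ((O _ h1).2 _
    ((o2_le x).trans ((h2 x hx x1).ge.trans inf_le_left)) (isPGroup_pCoreOf _)) (pCoreOf_le _))⟩,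
    (O _ h1).1, fun g hg => mem_normalizer_of_cj_le (map_le_iff_le_comap.2 (iSup_le fun a =>
      map_le_iff_le_comap.1 ((th_cj g a).trans (le_iSup (fun a : {a : G // a ∈ B ∧ a ≠ 1} => th a.1)
        ⟨_, conj_mem_of_mem_normalizer hg a.2.1, by simpa using a.2.2⟩)))), (O _ h1).2⟩
  refine ((O _ (th_nd x)).2 _ ((inf_le_inf_right _ (pCoreOf_le _)).trans (h2 x hx x1).le)
    ((isPGroup_pCoreOf _).to_le inf_le_left)).trans ?_
  rw [O2, pCoreOf_eq_inf_of_normal (th_le x) (th_no x)]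
  exact inf_le_left

end H98.DpcSF
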