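import Cfsg.Agent.H15.KGKit
import Cfsg.Agent.H87.Simple
import Cfsg.Agent.H98.Sylow
import Cfsg.Agent.S0204
import Cfsg.Agent.S0144

/-! Tower KG, slot B: Sylow facts in centralisers. -/

set_option autoImplicit false

namespace H98.KG

open Classical Subgroup H15.KG H98

universe u

variable {G : Type u} [Group G] [Finite G]

/-- an element of prime order in the centre of a `p`-subgroup -/
theorem exists_cen {p : ℕ} (hp : p.Prime) {S : Subgroup G} (hS : IsPGroup p S) (h : p ∣ Nat.card S) :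
    ∃ w ∈ S, orderOf w = p ∧ ∀ y ∈ S, Commute y w := by
  haveI := Fact.mk hp
  haveI : Nontrivial S := Finite.one_lt_card_iff_nontrivial.1
    (hp.one_lt.trans_le (Nat.le_of_dvd Nat.card_pos h))
  haveI := hS.center_nontrivial
  obtain ⟨n, hn, e⟩ := (hS.to_subgroup (center S)).nontrivial_iff_card.1 ‹_›
  obtain ⟨w, hw⟩ := exists_prime_orderOf_dvd_card' (G := center S) p (e ▸ dvd_pow_self p hn.ne')
  exact ⟨w.1.1, w.1.2, by rw [orderOf_coe, orderOf_coe, hw],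
    fun y hy => congrArg Subtype.val (mem_center_iff.1 w.2 ⟨y, hy⟩)⟩

theorem exists_cen' {p k : ℕ} (hp : p.Prime) {H : Subgroup G} (h : p ^ (k + 1) ∣ Nat.card H) :
    ∃ S ≤ H, p ^ (k + 1) ∣ Nat.card S ∧ ∃ w ∈ S, orderOf w = p ∧ ∀ y ∈ S, Commute y w := by
  haveI := Fact.mk hp
  obtain ⟨S, hS⟩ := exists_isSyl p H
  have d : p ^ (k + 1) ∣ Nat.card S :=
    hS.card_eq ▸ pow_dvd_pow p ((hp.pow_dvd_iff_le_factorization Nat.card_pos.ne').1 h)
  exact ⟨S, hS.le, d, exists_cen hp hS.isPGroup ((dvd_pow_self p (by omega)).trans d)⟩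

theorem sq_dvd {p e : ℕ} (hp : p.Prime) {H : Subgroup G} {x : G} (hx : x ∈ H) (o : x ^ p ^ e = 1)
    (h : p ^ 2 ∣ Nat.card H) : p ^ 2 ∣ Nat.card ↥(H ⊓ centralizer {x}) := by
  haveI := Fact.mk hp
  obtain ⟨S, hS, xS⟩ := exists_isSyl_le (isPGroup_zpowers o) (zpowers_le.2 hx)
  have d : p ^ 2 ∣ Nat.card S :=
    hS.card_eq ▸ pow_dvd_pow p ((hp.pow_dvd_iff_le_factorization Nat.card_pos.ne').1 h)
  obtain ⟨w, hw, ow, c⟩ := exists_cen hp hS.isPGroup ((dvd_pow_self p two_ne_zero).trans d)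
  have xS := zpowers_le.1 xS
  obtain ⟨m, hm⟩ := (hS.isPGroup.to_le (inf_le_left : S ⊓ centralizer {x} ≤ S)).exists_card_eq
  by_cases m2 : 2 ≤ m
  · exact (hm ▸ pow_dvd_pow p m2).trans (card_dvd_of_le (inf_le_inf_right _ hS.le))
  have := eq_of_le_of_card_ge (zpowers_le.2 ⟨hw, mem_centralizer_singleton_iff.2 (c x xS).symm⟩ :
    zpowers w ≤ S ⊓ centralizer {x}) (by
      rw [hm, Nat.card_zpowers, ow]
      exact (Nat.pow_le_pow_right hp.pos (by omega : m ≤ 1)).trans_eq (pow_one p))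
  obtain ⟨n, rfl⟩ := this.ge ⟨xS, mem_centralizer_singleton_iff.2 rfl⟩
  exact d.trans (card_dvd_of_le (le_inf hS.le fun y hy =>
    mem_centralizer_singleton_iff.2 ((c y hy).zpow_right n)))

theorem gtop {s k : ℕ} (hs : s.Prime) (h : s ^ (k + 1) ∣ Nat.card G) :
    ∃ i : Cl G, orderOf (rep i) = s ∧ s ^ (k + 1) ∣ cc (rep i) := by
  obtain ⟨S, -, d, w, -, o, c⟩ := exists_cen' (H := ⊤) hs (card_top (G := G) ▸ h)
  obtain ⟨i, hi⟩ := exists_rep (x := w) fun e => hs.one_lt.ne ((orderOf_eq_one_iff.2 e).symm.trans o)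
  exact ⟨i, (ord_conj hi).symm.trans o, cc_conj hi ▸ d.trans (card_dvd_of_le fun y hy =>
    mem_centralizer_singleton_iff.2 (c y hy))⟩

theorem exists_third [IsSimpleGroup G] (hG : ¬ IsMulCommutative G) {p q : ℕ} (hp : p.Prime)
    (hq : q.Prime) : ∃ r, r.Prime ∧ r ∣ Nat.card G ∧ r ≠ p ∧ r ≠ q := by
  by_contra! h
  have h0 : Nat.card G ≠ 0 := Nat.card_pos.ne'
  have e := Nat.eq_prime_pow_of_unique_prime_dvd (p := q) (Nat.ordCompl_pos p h0).ne' fun {d} a b =>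
    h d a (b.trans (Nat.ordCompl_dvd _ _)) fun k => Nat.not_dvd_ordCompl hp h0 (k ▸ b)
  exact hG ⟨⟨IsSimpleGroup.comm_iff_isSolvable.2 (Cfsg.Agent.S0144.result p q _ _ hp hq
    (by rw [← e, Nat.ordProj_mul_ordCompl_eq_self]))⟩⟩

theorem jobB : JobB.{u} := fun G _ _ _ hG hN => by
  have h4 : 4 ∣ Nat.card G := by
    obtain ⟨E, hE⟩ := Cfsg.Agent.S0204.result (H87.not_isCyclic_of_nonabelian hG)
    exact hE.card_four ▸ E.card_subgroup_dvd_card
  have g1 : ∀ s, s.Prime → s ∣ Nat.card G → ∃ i : Cl G, p1 (rep i) = s ∧ p2 (rep i) = 1 := fun s a b => by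
    obtain ⟨i, o, -⟩ := gtop (k := 0) a (by simpa using b)
    exact ⟨i, p1_of_pow (e := 0) a (by simpa using o)⟩
  refine ⟨h4, fun i a b => ?_, fun i a s k hs ne d => ?_, fun s k hs d => ?_, ?_, ?_⟩
  · obtain ⟨e, he⟩ := pow_of_p2 (rep_ne i) a
    have := sq_dvd (p1_prime (rep_ne i)) (mem_top (rep i)) (he ▸ pow_orderOf_eq_one _)
      (card_top (G := G) ▸ b)
    rwa [top_inf_eq] at this
  · obtain ⟨S, le, d, w, hw, o, c⟩ := exists_cen' hs d
    have cm : ∀ y ∈ S, Commute y (rep i) := fun y hy => mem_centralizer_singleton_iff.1 (le hy)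
    obtain ⟨j, hj⟩ := exists_rep (x := rep i * w) fun e => ne (p1_of_pow (e := 0) hs (by
      rw [eq_inv_of_mul_eq_one_left e, orderOf_inv, o, zero_add, pow_one])).1.symm
    exact ⟨j, (kid_iff hN).2 ⟨a, hs, ne, w, 0, by simpa using o, (cm w hw).symm, hj⟩,
      show _ ∣ cc _ from cc_conj hj ▸ d.trans (card_dvd_of_le fun y hy =>
        mem_centralizer_singleton_iff.2 ((cm y hy).mul_right (c y hy)))⟩
  · obtain ⟨i, o, c⟩ := gtop hs d
    obtain ⟨a, b⟩ := p1_of_pow (e := 0) hs (o.trans (pow_one s).symm)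
    exact ⟨i, a, b, c⟩
  · have h0 : Nat.card G ≠ 0 := Nat.card_pos.ne'
    obtain ⟨k, hk⟩ := Nat.exists_eq_succ_of_ne_zero
      (Nat.prime_two.factorization_pos_of_dvd h0 (Dvd.dvd.trans (by norm_num) h4)).ne'
    obtain ⟨i, o, c⟩ := gtop (k := k) Nat.prime_two (hk ▸ Nat.ordProj_dvd (Nat.card G) 2)
    refine ⟨i, o, Nat.two_dvd_ne_zero.1 fun e => Nat.pow_succ_factorization_not_dvd h0 Nat.prime_two ?_⟩
    rw [hk, pow_succ]
    exact (mul_dvd_mul c e).trans (Nat.mul_div_cancel' (cc_dvd _)).dvd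
  · obtain ⟨r, a, b, c, -⟩ := exists_third hG Nat.prime_two Nat.prime_two
    obtain ⟨s, a', b', c', d⟩ := exists_third hG Nat.prime_two a
    obtain ⟨i, i1, i2⟩ := g1 r a b
    obtain ⟨j, j1, j2⟩ := g1 s a' b'
    have := a.two_le
    have := a'.two_le
    obtain l | l := d.lt_or_gt
    · exact ⟨j, i, j2, i2, show 2 < p1 _ by omega, show p1 _ < p1 _ by omega⟩
    · exact ⟨i, j, i2, j2, show 2 < p1 _ by omega, show p1 _ < p1 _ by omega⟩

end H98.KG
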