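import Cfsg.Agent.H98.KGB
import Cfsg.Agent.H98.KGC

/-! Tower KG, slots U and NT. -/

set_option autoImplicit false

namespace H98.KG

open Classical Finset H15.KG H98

universe u

variable {G : Type u} [Group G] [Finite G]

theorem cen_mul {p e : ℕ} (hp : p.Prime) {x w : G} (h : Commute x w) (hx : orderOf x = p ^ e)
    (hw : ¬ p ∣ orderOf w) : Subgroup.centralizer {x * w} =
      Subgroup.centralizer {x} ⊓ Subgroup.centralizer ({w} : Set G) := by
  ext y
  simp only [Subgroup.mem_inf, Subgroup.mem_centralizer_singleton_iff]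
  refine ⟨fun c => ?_, fun c => Commute.mul_right c.1 c.2⟩
  have : Commute y x := part_mul hp h hx hw ▸ Commute.pow_right c _
  exact ⟨this, by simpa using (Commute.mul_right this.inv_right c).eq⟩

theorem jobU : JobU.{u} := fun G _ _ hN i j s hk hs2 => by
  obtain ⟨h2, hs, ne, w, f, ow, c, cj⟩ := (kid_iff hN).1 hk
  haveI := Fact.mk hs
  obtain ⟨e, he⟩ := pow_of_p2 (rep_ne i) h2
  have hp := p1_prime (rep_ne i)
  have nd : ∀ {y : G} {f : ℕ}, orderOf y = s ^ f → ¬ p1 (rep i) ∣ orderOf y := fun o k =>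
    ne ((Nat.prime_dvd_prime_iff_eq hp hs).1 (hp.dvd_of_dvd_pow (o ▸ k))).symm
  have wC := Subgroup.mem_centralizer_singleton_iff.2 c.symm
  have cw : cc (rep j) = _ := (cc_conj cj).symm.trans
    (congrArg (fun H : Subgroup G => Nat.card H) (cen_mul hp c he (nd ow)))
  have n2 : ¬ s ^ 2 ∣ cc (rep i) := fun k =>
    hs2 (show _ ∣ cc _ from cw ▸ sq_dvd hs wC (ow ▸ pow_orderOf_eq_one w) k)
  have le := Subgroup.zpowers_le.2 wC
  have d := Subgroup.card_dvd_of_le le
  rw [Nat.card_zpowers, ow] at d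
  obtain rfl : f = 0 := by
    by_contra r
    exact n2 ((pow_dvd_pow s (by omega)).trans d)
  have ow' : orderOf w = s := ow.trans (pow_one s)
  have S : IsSyl s (Subgroup.zpowers w) (Subgroup.centralizer {rep i}) :=
    isSyl_of_not_dvd_relIndex le (isPGroup_zpowers (ow ▸ pow_orderOf_eq_one w)) fun k => n2 (by
      rw [cc, ← ((Subgroup.zpowers w).subgroupOf _).card_mul_index, pow_two,
        Nat.card_congr (Subgroup.subgroupOfEquivOfLe le).toEquiv, Nat.card_zpowers, ow']
      exact mul_dvd_mul_left s k)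
  have k : ∀ j', (dat G).Kid i j' s → ∃ u : (ZMod s)ˣ, IsConj (rep i * pw w u) (rep j') := fun j' h => by
    obtain ⟨-, -, -, y, f, oy, c', cj'⟩ := (kid_iff hN).1 h
    obtain ⟨g, hg, r⟩ := S.exists_cj_le (isPGroup_zpowers (oy ▸ pow_orderOf_eq_one y))
      (Subgroup.zpowers_le.2 (Subgroup.mem_centralizer_singleton_iff.2 c'.symm))
    obtain ⟨u, hu⟩ := exists_pw ow' (r (conj_mem_cj (Subgroup.mem_zpowers _))) fun e =>
      (Nat.one_lt_pow (by omega) hs.one_lt).ne
        ((orderOf_eq_one_iff.2 (by simpa using e)).symm.trans oy)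
    refine ⟨u, IsConj.trans (isConj_iff.2 ⟨g, ?_⟩).symm cj'⟩
    rw [hu, ← mul_assoc, Subgroup.mem_centralizer_singleton_iff.1 hg]; group
  refine ⟨fun j' h => ?_, ?_⟩
  · obtain ⟨u, hu⟩ := k j' h
    have : Subgroup.centralizer {pw w u} = Subgroup.centralizer ({w} : Set G) := by
      ext y
      simp only [Subgroup.mem_centralizer_singleton_iff]
      exact ⟨fun c => pw_inv ow' u ▸ Commute.pow_right c _, fun c => Commute.pow_right c _⟩
    change cc _ = cc _
    rw [cw, ← cc_conj hu, cc, cen_mul hp (show Commute _ (pw w u) from c.pow_right _) he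
      (nd ((ord_pw ow' u).trans (pow_one s).symm)), this]
  · have : #{j' | (dat G).Kid i j' s} ≤ #(univ : Finset (ZMod s)ˣ) :=
      card_le_card_of_surjOn (fun u => cls (rep i * pw w u) i) fun j' h => by
        obtain ⟨u, hu⟩ := k j' (mem_filter.1 h).2
        exact ⟨u, mem_univ _, (cls_eq_iff fun e => rep_ne j' (isConj_one_right.1 (e ▸ hu))).2 hu⟩
    rw [card_univ, ZMod.card_units] at this
    have := hs.pos
    omega

theorem jobNT : JobNT.{u} := fun G _ _ h5 hk x => by
  by_contra! r
  have := Fintype.ofFinite G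
  have o0 := (orderOf_pos x).ne'
  have o30 : 30 ≤ orderOf x := by
    by_contra! l
    generalize orderOf x = n at *
    interval_cases n <;> simp [Nat.primeFactors] at r
  have : ∀ d : (orderOf x).divisors.erase 1, ∃ i : Cl G, orderOf (rep i) = d ∧ 30 ≤ cc (rep i) := fun d => by
    have o := orderOf_pow_orderOf_div o0 (Nat.dvd_of_mem_divisors (mem_erase.1 d.2).2)
    obtain ⟨i, hi⟩ := exists_rep fun e => (mem_erase.1 d.2).1 (o.symm.trans (orderOf_eq_one_iff.2 e))
    exact ⟨i, (ord_conj hi).symm.trans o, cc_conj hi ▸ o30.trans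
      (Nat.le_of_dvd (cc_pos _) ((ord_dvd_cc x).trans (cc_dvd_pow x _)))⟩
  choose f hf using this
  have t := card_le_card_of_injOn (s := univ) (t := univ.filter fun i : Cl G => 30 ≤ cc (rep i)) f
    (fun d _ => mem_coe.2 (mem_filter.2 ⟨mem_univ _, (hf d).2⟩))
    fun d _ l _ e => Subtype.ext ((hf d).1.symm.trans (e ▸ (hf l).1))
  have d8 := (Nat.pow_le_pow_right two_pos r).trans ((pow_card_le_prod _ _ 2 fun p hp =>
    Nat.succ_le_succ ((Nat.prime_of_mem_primeFactors hp).factorization_pos_of_dvd o0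
      (Nat.dvd_of_mem_primeFactors hp))).trans (Nat.card_divisors o0).ge)
  rw [card_univ, Fintype.card_coe, card_erase_of_mem (Nat.one_mem_divisors.2 o0)] at t
  have s := sum_class (G := G) (fun _ => 30) fun _ _ _ => rfl
  rw [← sum_filter_add_sum_filter_not univ fun i : Cl G => 30 ≤ cc (rep i), sum_const, card_univ,
    ← Nat.card_eq_fintype_card] at s
  have a := sum_le_card_nsmul (univ.filter fun i : Cl G => 30 ≤ cc (rep i))
    (fun i => Nat.card G / cc (rep i) * 30) (Nat.card G) fun i hi =>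
      (Nat.mul_le_mul_left _ (mem_filter.1 hi).2).trans (Nat.div_mul_le_self _ _)
  have b := sum_le_card_nsmul (univ.filter fun i : Cl G => ¬ 30 ≤ cc (rep i))
    (fun i => Nat.card G / cc (rep i) * 30) (Nat.card G * 6) fun i _ => by
      have := (Nat.mul_le_mul_left _ (h5 (rep i))).trans (Nat.div_mul_le_self (Nat.card G) _)
      omega
  have c := card_filter_add_card_filter_not (s := univ) fun i : Cl G => 30 ≤ cc (rep i)
  have k := card_cl (G := G)
  have g := o30.trans (Nat.le_of_dvd Nat.card_pos (orderOf_dvd_natCard x))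
  rw [card_univ] at c
  simp only [smul_eq_mul] at a b s
  generalize #(univ.filter fun i : Cl G => 30 ≤ cc (rep i)) = m at *
  generalize #(univ.filter fun i : Cl G => ¬ 30 ≤ cc (rep i)) = n at *
  have : m + 6 * n ≤ 25 := by omega
  nlinarith [Nat.mul_le_mul_right (Nat.card G) this]

end H98.KG
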