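import Cfsg.Agent.H86.SPGDef
import Cfsg.Agent.H37.SPPC

/-! STD-SP (row S3129), type I fusion, slot `G4`: all translations occur. -/

set_option autoImplicit false
set_option linter.unusedSectionVars false

namespace H98.SpG4

open H67.UA hiding Par
open H67.SP H86.SPG
open H37.SP (t_ac t_inv h0 hs)

universe u

variable {n : ℕ} {F : Type} [Field F] [StarRing F] [TrivialStar F] [_root_.CharP F 2] [Finite F]
  [Base n F] {G : Type u} [Group G] {e : XU n F →* G} {t g g' : G} {A A' : Vn n F → Vn n F}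
  {z z' : Vn n F}

theorem okH {y : Vn n F} (h : Hy y) (c : F) : Ok (ev 0) y c := FV.ok _ _ _ h.1

theorem E_mul {y y' : Vn n F} (h : Hy y) (h' : Hy y') (c d : F) :
    e (EE (ev 0) y c) * e (EE (ev 0) y' d) = e (EE (ev 0) (y + y') (c + d + hf y' y)) := by
  rw [← map_mul, EE_mul (okH h c) (okH h' d)]

theorem E_ss {p : XU n F} (hp : p ∈ SS n F) {y : Vn n F} (h : Hy y) (c : F) :
    e p * e (EE (ev 0) y c) * (e p)⁻¹ = e (EE (ev 0) (ac p y) c) := by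
  rw [← map_inv, ← map_mul, ← map_mul, EE_conj (okH h c), mem_Stab.1 hp.1]

theorem aa (y : Vn n F) : y + y = 0 := funext fun i => CharTwo.add_self_eq_zero (y i)

theorem af_comp (h : Af e t g A z) (h' : Af e t g' A' z') : Af e t (g * g') (A ∘ A') (z + A z') := by
  refine ⟨hy_add h.hz (h.q _ 0 h'.hz).1, fun y c hy => ?_, ?_, by simp [h.a0, h'.a0]⟩
  · obtain ⟨k1, c1, e1⟩ := h'.q y c hy
    obtain ⟨k2, c2, e2⟩ := h.q _ c1 k1
    exact ⟨k2, c2, by rw [Function.comp, ← e2, ← e1]; group⟩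
  · obtain ⟨c1, e1⟩ := h'.tr
    obtain ⟨c2, e2⟩ := h.tr
    obtain ⟨k3, c3, e3⟩ := h.q _ c1 h'.hz
    exact ⟨_, by rw [← E_mul h.hz k3 c2 c3, ← mul_assoc t, ← e2, ← e3, conj_mul, ← e1]; group⟩

theorem af_sp (fh : FH n F) (aw : AW e t) {p : XU n F} (hp : p ∈ SS n F) :
    Af e t (e p) (ac p) 0 :=
  ⟨hy_zero, fun y c hy => ⟨fh.ss p hp y hy, c, E_ss hp hy c⟩,
    ⟨0, by rw [EE_zero, map_one, mul_one, ← aw.cen, mul_inv_cancel_right]⟩, ac_zero p⟩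

theorem af_add (fh : FH n F) (aw : AW e t) (h : Af e t g A z) {y y' : Vn n F} (hy : Hy y)
    (hy' : Hy y') : A (y + y') = A y + A y' := by
  obtain ⟨k1, c1, e1⟩ := h.q y 0 hy
  obtain ⟨k2, c2, e2⟩ := h.q y' 0 hy'
  obtain ⟨k3, c3, e3⟩ := h.q _ (0 + 0 + hf y' y) (hy_add hy hy')
  rw [← E_mul hy hy', ← conj_mul, e1, e2, E_mul k1 k2] at e3
  exact (fh.inj _ _ _ _ (hy_add k1 k2) k3 (aw.inj e3)).1.symm

theorem af_onto (fh : FH n F) (aw : AW e t) (h : Af e t g A z) {y : Vn n F} (hy : Hy y) (d : F) :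
    ∃ c, g * e (EE (ev 0) y c) * g⁻¹ = e (EE (ev 0) (A y) d) := by
  choose f hf using fun c => (h.q y c hy).2
  obtain ⟨c, rfl⟩ := Finite.injective_iff_surjective.1 (show Function.Injective f from
    fun c c' k => (fh.inj _ _ _ _ hy hy (aw.inj (conj_injective (x := g)
      ((hf c).trans (by rw [k]; exact (hf c').symm))))).2) d
  exact ⟨c, hf c⟩

theorem af_inj (fh : FH n F) (aw : AW e t) (h : Af e t g A z) {y y' : Vn n F} (hy : Hy y)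
    (hy' : Hy y') (k : A y = A y') : y = y' := by
  obtain ⟨c, e1⟩ := af_onto fh aw h hy 0
  obtain ⟨c', e2⟩ := af_onto fh aw h hy' 0
  rw [k, ← e2] at e1
  exact (fh.inj _ _ _ _ hy hy' (aw.inj (conj_injective (x := g) e1))).1

theorem af_inv (fh : FH n F) (aw : AW e t) (h : Af e t g A z) :
    ∃ B, Af e t g⁻¹ B (B z) ∧ ∀ y, Hy y → B (A y) = y ∧ A (B y) = y := by
  have sur : ∀ y, ∃ x, Hy y → Hy x ∧ A x = y := fun y => by
    by_cases hy : Hy y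
    · obtain ⟨x, hx⟩ := Finite.injective_iff_surjective.1 (show Function.Injective
        (fun x : {y : Vn n F // Hy y} => (⟨A x, (h.q _ 0 x.2).1⟩ : {y : Vn n F // Hy y})) from
        fun x x' k => Subtype.ext (af_inj fh aw h x.2 x'.2 (congrArg Subtype.val k))) ⟨y, hy⟩
      exact ⟨x, fun _ => ⟨x.2, congrArg Subtype.val hx⟩⟩
    · exact ⟨0, fun k => absurd k hy⟩
  choose B hB using sur
  have q : ∀ y d, Hy y → ∃ c, g⁻¹ * e (EE (ev 0) y d) * g⁻¹⁻¹ = e (EE (ev 0) (B y) c) :=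
    fun y d hy => by
      obtain ⟨c, e1⟩ := af_onto fh aw h (hB y hy).1 d
      rw [(hB y hy).2] at e1
      exact ⟨c, by rw [← e1]; group⟩
  refine ⟨B, ⟨(hB z h.hz).1, fun y c hy => ⟨(hB y hy).1, q y c hy⟩, ?_,
    af_inj fh aw h (hB 0 hy_zero).1 hy_zero ((hB 0 hy_zero).2.trans h.a0.symm)⟩,
    fun y hy => ⟨af_inj fh aw h (hB _ (h.q _ 0 hy).1).1 hy (hB _ (h.q _ 0 hy).1).2, (hB y hy).2⟩⟩
  obtain ⟨c, e1⟩ := h.tr
  obtain ⟨d, e2⟩ := q z c h.hz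
  refine ⟨d, ?_⟩
  rw [← star_trivial d, ← EE_inv (okH (hB z h.hz).1 d), map_inv, ← e2, eq_mul_inv_iff_mul_eq,
    conj_mul, ← e1]
  group

theorem af_k1 (fh : FH n F) (aw : AW e t) (h : Af e t g A z) {v : Vn n F} (hv : Hy v)
    (hz : hf v z = 0) : ∃ p ∈ SS n F, ∀ y, Hy y → A (ac p y) = ac (TT v) (A y) := by
  have T := fh.tt v hv
  obtain ⟨p, hp, e0⟩ := aw.p (g⁻¹ * e (TT v) * g) (by
    obtain ⟨c, e1⟩ := h.tr
    have e2 := E_ss (e := e) T h.hz c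
    rw [t_ac, hs, hz, zero_smul, add_zero, mul_inv_eq_iff_eq_mul] at e2
    calc _ = g⁻¹ * (e (TT v) * (g * t * g⁻¹)) * g := by group
      _ = g⁻¹ * (g * t * g⁻¹ * e (TT v)) * g := by
        rw [e1, ← mul_assoc (e _), ← aw.cen, mul_assoc t, e2, mul_assoc t]
      _ = _ := by group) fun c => by
    obtain ⟨-, d, e1⟩ := h.q 0 c hy_zero
    have e2 := E_ss (e := e) T hy_zero d
    rw [ac_zero, mul_inv_eq_iff_eq_mul] at e2
    rw [h.a0] at e1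
    calc _ = g⁻¹ * (e (TT v) * (g * e (EE (ev 0) 0 c) * g⁻¹)) * g := by group
      _ = g⁻¹ * (g * e (EE (ev 0) 0 c) * g⁻¹ * e (TT v)) * g := by rw [e1, e2]
      _ = _ := by group
  obtain ⟨_, hq, s, hs', rfl⟩ := FW.ps p hp
  obtain ⟨x, c, hx, rfl⟩ := (FV.mem_QQ _).1 hq
  refine ⟨s, hs', fun y hy => ?_⟩
  have k0 := fh.ss s hs' y hy
  have e1 : e (EE (ev 0) x c * s) * e (EE (ev 0) y 0) * (e (EE (ev 0) x c * s))⁻¹ =
      e (EE (ev 0) (ac s y) 0) := by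
    rw [map_mul, mul_inv_rev, ← mul_assoc, mul_assoc _ (e s), mul_assoc _ _ (e s)⁻¹, E_ss hs' hy,
      mul_inv_eq_iff_eq_mul, E_mul hx k0, E_mul k0 hx, add_comm x, add_comm c, hs]
  have e2 : g⁻¹ * e (TT v) * g * e (EE (ev 0) y 0) * (g⁻¹ * e (TT v) * g)⁻¹ =
      e (EE (ev 0) (ac s y) 0) := by
    rcases e0 with e0 | e0 <;> rw [e0]
    · exact e1
    · rw [mul_inv_rev, ← mul_assoc, mul_assoc t, mul_assoc t, e1, aw.cen, mul_inv_cancel_right]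
  obtain ⟨k1, c1, e3⟩ := h.q y 0 hy
  obtain ⟨k2, c2, e4⟩ := h.q _ 0 k0
  rw [← e2, show ∀ a b : G, g * (g⁻¹ * a * g * b * (g⁻¹ * a * g)⁻¹) * g⁻¹ = a * (g * b * g⁻¹) * a⁻¹
    from fun a b => by group, e3, E_ss T k1] at e4
  exact (fh.inj _ _ _ _ (fh.ss _ T _ k1) k2 (aw.inj e4)).1.symm

theorem ov_of (fh : FH n F) (aw : AW e t) (h : Af e t g A z') (hA : ∀ y, Hy y → A y = y)
    (hz : Hy z) (k : hf z' z = 1) : ∃ g, Ov e t g z := by
  have T := fh.tt z hz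
  obtain ⟨B, hB, hb⟩ := af_inv fh aw h
  have hB' : ∀ y, Hy y → B y = y := fun y hy => (congrArg B (hA y hy)).symm.trans (hb y hy).1
  have m := af_comp (af_sp fh aw T) (af_comp h (af_comp (af_sp fh aw T) hB))
  rw [zero_add, zero_add, hB' _ h.hz, hA _ (fh.ss _ T _ h.hz), t_ac z z', ← add_assoc, aa, zero_add, k,
    one_smul, t_ac, h0, zero_smul, add_zero] at m
  refine ⟨_, hz, fun c => ?_, fun y c hy => ?_, m.tr⟩
  · obtain ⟨-, d, e1⟩ := hB.q 0 c hy_zero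
    have e2 := fun d => E_ss (e := e) T hy_zero d
    rw [hB.a0] at e1
    simp only [ac_zero] at e2
    calc _ = e (TT z) * (g * (e (TT z) * (g⁻¹ * e (EE (ev 0) 0 c) * g⁻¹⁻¹) * (e (TT z))⁻¹) * g⁻¹) *
          (e (TT z))⁻¹ := by group
      _ = _ := by rw [e1, e2, ← e1, show ∀ a : G, g * (g⁻¹ * a * g⁻¹⁻¹) * g⁻¹ = a from fun a => by group, e2]
  · obtain ⟨-, d, e1⟩ := m.q y c hy
    refine ⟨d, e1.trans ?_⟩
    simp only [Function.comp]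
    rw [hB' y hy, hA _ (fh.ss _ T _ hy), ← ac_mul, H37.SP.t_sq, ac_one]

theorem jobG4 : JobG4.{u} := by
  rintro n F _ _ _ _ _ _ G _ _ e t b _ fh la aw ⟨g, A, h⟩ z hz
  by_cases z0 : z = 0
  · subst z0
    exact ⟨1, hz, fun c => by group, fun y c _ => ⟨c, by group⟩, 0, by rw [EE_zero, map_one]; group⟩
  obtain ⟨B, z', ⟨g, h⟩, z1, hB⟩ := la (fun A z => ∃ g, Af e t g A z)
    ⟨fun _ _ ⟨_, h⟩ => h.hz, fun _ _ ⟨_, h⟩ y hy => (h.q y 0 hy).1,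
      fun _ _ ⟨_, h⟩ _ _ => af_add fh aw h, fun _ _ _ _ ⟨_, h⟩ ⟨_, h'⟩ => ⟨_, af_comp h h'⟩,
      fun _ _ ⟨_, h⟩ => let ⟨B, h1, h2⟩ := af_inv fh aw h; ⟨B, ⟨_, h1⟩, h2⟩,
      fun _ hp => ⟨_, af_sp fh aw hp⟩, fun _ _ _ ⟨_, h⟩ => af_k1 fh aw h⟩ A _ ⟨g, h⟩ fh.e1.2.1
  obtain ⟨y, hy, y1⟩ := fh.sep1 z hz z0 1
  obtain ⟨p, hp, rfl⟩ := fh.ts z' y h.hz hy z1 fun k => by simp [k] at y1
  have m := af_comp (af_sp fh aw hp) (af_comp h (af_sp fh aw (inv_mem hp)))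
  rw [zero_add, h.a0, add_zero] at m
  refine ov_of fh aw m (fun x hx => ?_) hz y1
  simp only [Function.comp]
  rw [hB _ (fh.ss _ (inv_mem hp) _ hx), ← ac_mul, mul_inv_cancel, ac_one]

end H98.SpG4
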