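import Cfsg.Agent.H62.TDW
import Cfsg.Agent.H92.SuW1b
import Cfsg.Agent.H87.Simple

/-! STD-3D4, slot W1b: in the wreath case `N(U₁ U₂) ≤ N(G₁)`. -/

set_option autoImplicit false
set_option linter.unusedSectionVars false

namespace H98.TdW

open H64.SG (Cz Cs Ns cjs UF Cs_le_Ns)
open H67.SA (cm)
open H81.SU (Ind cje exists_ind ind_conj_iff ind_one_iff range_cje conj_inj)
open H92.SuW1b (tr ns_of ns_comm)
open H62.TW H98 Subgroup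
open scoped commutatorElement

universe u

theorem zp_prod {X : Type} [Group X] (a b : X) (A B : Subgroup X) :
    ⁅zpowers (a, b), A.prod B⁆ = (⁅zpowers a, A⁆).prod ⁅zpowers b, B⁆ := by
  refine le_antisymm ((commutator_mono (zpowers_le.2 (mem_prod.2 ⟨mem_zpowers a, mem_zpowers b⟩))
    le_rfl).trans (commutator_prod_prod _ _ _ _).le) (prod_le_iff.2 ⟨?_, ?_⟩)
  all_goals
    rw [map_commutator, commutator_le]
    rintro _ ⟨_, ⟨k, rfl⟩, rfl⟩ _ ⟨u, hu, rfl⟩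
  · have := commutator_mem_commutator (zpow_mem_zpowers (a, b) k)
      (mem_prod.2 ⟨hu, one_mem _⟩ : (u, 1) ∈ A.prod B)
    simpa [commutatorElement_def] using this
  · have := commutator_mem_commutator (zpow_mem_zpowers (a, b) k)
      (mem_prod.2 ⟨one_mem _, hu⟩ : (1, u) ∈ A.prod B)
    simpa [commutatorElement_def] using this

variable {X : Type} [Group X] [Finite X] {d : Sg X} {G : Type u} [Group G] [Finite G]
  {e e₁ e₂ : X →* G} {n t g : G} {A B C P : Subgroup X} {a b : X}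

theorem cj_K {Y : Subgroup G} (h : n ∈ Ns Y) (g : G) :
    cj n ⁅zpowers g, Y⁆ = ⁅zpowers (n * g * n⁻¹), Y⁆ := by
  rw [cj_commutator, cj_eq_self h, cj, MonoidHom.map_zpowers]; rfl

theorem K_bot (h : a ∈ Cs A) : ⁅zpowers a, A⁆ = ⊥ :=
  commutator_eq_bot_iff_le_centralizer.2 (zpowers_le.2 h)

theorem sw (h : n ∈ Ns (pr e₁ e₂ A B)) : n ∈ Ns (pr e₂ e₁ B A) := by rwa [pr_comm]

variable (f : WF.{u} d) (c : CW e t e₁ e₂)
include c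

theorem pr_K (a b : X) (A B : Subgroup X) :
    ⁅zpowers (e₁ a * e₂ b), pr e₁ e₂ A B⁆ = pr e₁ e₂ ⁅zpowers a, A⁆ ⁅zpowers b, B⁆ := by
  rw [← c.map_cop, ← c.map_cop, ← zp_prod, map_commutator, MonoidHom.map_zpowers]; rfl

theorem pr_comm' (A B : Subgroup X) : ⁅pr e₁ e₂ A B, pr e₁ e₂ A B⁆ = pr e₁ e₂ ⁅A, A⁆ ⁅B, B⁆ := by
  rw [← c.map_cop, ← c.map_cop, ← map_commutator, commutator_prod_prod]

theorem e_ns (hp : a ∈ Ns A) : e₁ a ∈ Ns (pr e₁ e₂ A B) := ns_of fun g hg => by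
  obtain ⟨x, hx, y, hy, rfl⟩ := c.mem_pr.1 hg
  refine c.mem_pr.2 ⟨_, conj_mem_of_mem_normalizer hp hx, y, hy, ?_⟩
  rw [map_mul, map_mul, mul_assoc _ (e₁ a⁻¹), c.comm a⁻¹, map_inv]; group

theorem e_cs (hp : a ∈ Cs A) : e₁ a ∈ Cs (pr e₁ e₂ A B) := fun g hg => by
  obtain ⟨x, hx, y, hy, rfl⟩ := c.mem_pr.1 hg
  rw [mul_assoc, ← c.comm, ← mul_assoc, ← map_mul, hp x hx, map_mul, mul_assoc]

include f

theorem pr_le_iff {A' B' : Subgroup X} : pr e₁ e₂ A B ≤ pr e₁ e₂ A' B' ↔ A ≤ A' ∧ B ≤ B' :=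
  ⟨fun h => ⟨fun a ha => ((c.mem_pr' f.i.cen).1 (h (c.mem_pr.2 ⟨a, ha, 1, one_mem _, rfl⟩))).1,
    fun b hb => ((c.mem_pr' f.i.cen).1 (h (c.mem_pr.2 ⟨1, one_mem _, b, hb, rfl⟩))).2⟩,
    fun h => pr_mono h.1 h.2⟩

omit c in
theorem Z_ne : ¬ d.Z ≤ ⊥ := fun h => by
  have := card_le_of_le h
  have := f.u.two_le
  rw [f.u.cardZ, card_bot] at *
  omega

omit c in
theorem Z_cs : d.Z ≤ Cs d.U := f.u.zu.ge.trans inf_le_right

omit c in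
theorem ZU : d.Z ≤ d.U := f.u.ZE.trans (f.u.EQ.trans f.u.QU)

omit c in
theorem ZZ : ⁅d.Z, d.Z⁆ = ⊥ := commutator_eq_bot_iff_le_centralizer.2 (f.u.el.mono f.u.ZE).le_Cs

theorem permZ (h : n ∈ Ns (pr e₁ e₂ d.U d.U)) :
    cj n (pr e₁ e₂ d.Z ⊥) = pr e₁ e₂ d.Z ⊥ ∨ cj n (pr e₁ e₂ d.Z ⊥) = pr e₁ e₂ ⊥ d.Z := by
  obtain ⟨v, hv, k⟩ := f.u.vz
  obtain ⟨a, ha, b, hb, r⟩ := c.mem_pr.1
    (conj_mem_of_mem_normalizer h (c.mem_pr.2 ⟨v, hv, 1, one_mem _, rfl⟩))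
  have s := cj_K h (e₁ v * e₂ 1)
  rw [r, pr_K c, pr_K c, k, K_bot (one_mem _)] at s
  have cd : Nat.card (cj n (pr e₁ e₂ d.Z ⊥)) = Nat.card d.Z := by
    rw [card_cj, c.card_pr f.i.cen, card_bot, mul_one]
  by_cases a1 : a ∈ d.Z
  · by_cases b1 : b ∈ d.Z
    · rw [K_bot (Z_cs f a1), K_bot (Z_cs f b1)] at s
      rw [s, c.card_pr f.i.cen, card_bot] at cd
      exact absurd (card_eq_one.1 cd.symm).le (Z_ne f)
    · exact .inr (eq_of_le_of_card_ge (s ▸ pr_mono bot_le (f.u.nz b hb b1)) (by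
        rw [cd, c.card_pr f.i.cen, card_bot, one_mul])).symm
  · exact .inl (eq_of_le_of_card_ge (s ▸ pr_mono (f.u.nz a ha a1) bot_le) (by
      rw [cd, c.card_pr f.i.cen, card_bot, mul_one])).symm

theorem nUZ (h : n ∈ Ns (pr e₁ e₂ d.U d.U)) (h2 : n ∈ Ns (pr e₁ e₂ ⊥ d.Z)) :
    n ∈ Ns (pr e₁ e₂ d.U d.Z) := ns_of fun g hg => by
  obtain ⟨a, ha, b, hb, r⟩ := c.mem_pr.1
    (conj_mem_of_mem_normalizer h (pr_mono le_rfl (ZU f) hg))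
  obtain ⟨x, -, y, hy, rfl⟩ := c.mem_pr.1 hg
  refine c.mem_pr.2 ⟨a, ha, b, by_contra fun k => Z_ne f ?_, r⟩
  have s := cj_K h (e₁ x * e₂ y)
  rw [r, pr_K c, pr_K c, K_bot (Z_cs f hy)] at s
  have := (cj_eq_self h2).le.trans ((pr_mono bot_le (f.u.nz b hb k)).trans s.ge)
  exact ((pr_le_iff f c).1 (cj_le_cj_iff.1 this)).2

theorem chr (h : n ∈ Ns (pr e₁ e₂ d.U d.Z)) (h1 : n ∈ Ns (pr e₁ e₂ A B)) (hB : B ≤ d.Z)
    (h2 : n ∈ Ns (pr e₁ e₂ C ⊥)) (hP : P ≤ d.U) (k : ∀ u ∈ d.U, u ∈ P ↔ ⁅zpowers u, A⁆ ≤ C) :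
    n ∈ Ns (pr e₁ e₂ P d.Z) := ns_of fun g hg => by
  obtain ⟨a, ha, b, hb, r⟩ := c.mem_pr.1 (conj_mem_of_mem_normalizer h (pr_mono hP le_rfl hg))
  obtain ⟨x, hx, y, hy, rfl⟩ := c.mem_pr.1 hg
  refine c.mem_pr.2 ⟨a, (k a ha).2 ?_, b, hb, r⟩
  have s := cj_K h1 (e₁ x * e₂ y)
  rw [r, pr_K c, pr_K c, K_bot (centralizer_anti (hB.trans (ZU f)) (Z_cs f hy))] at s
  exact ((pr_le_iff f c).1 (s.ge.trans
    (cj_le_of_le (pr_mono ((k x (hP hx)).1 hx) le_rfl) h2))).1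

variable (h : n ∈ Ns (pr e₁ e₂ d.U d.Z)) (hZ : n ∈ Ns (pr e₁ e₂ d.Z ⊥))
include h hZ

theorem nQ : n ∈ Ns (pr e₁ e₂ d.Q d.Z) :=
  chr f c h (by have := ns_comm h; rwa [pr_comm' c, ZZ f] at this) bot_le hZ f.u.QU f.u.cQ

theorem nE : n ∈ Ns (pr e₁ e₂ d.E ⊥) := by
  have := ns_comm (chr f c h (chr f c h h le_rfl hZ f.u.VU f.u.cV) le_rfl (C := ⊥)
    (by simp [pr]) f.u.RU fun u hu => (f.u.cR u hu).trans
      (le_bot_iff.trans (commutator_eq_bot_iff_le_centralizer.trans zpowers_le)).symm)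
  rwa [pr_comm' c, ZZ f, ← f.u.cE] at this

omit h hZ
variable (w : GW d e t e₁ e₂)
include w

theorem inM (hE : d.E ≤ A) (h1 : n ∈ Ns (pr e₁ e₂ A B)) (h2 : n ∈ Ns (pr e₁ e₂ B A))
    (a2 : a * a = 1) (p1 : a ∈ Ns A) (p2 : a ∈ Cs B) : cje n e₁ a ∈ Ns (G12 e₁ e₂) := by
  refine tr w.uf (c.cjs_pr w.uf.inv.1 A B) (fun g hg => w.cE ?_) (by rw [← map_mul, a2, map_one])
    (mul_mem (mul_mem h1 (e_ns c p1)) (inv_mem h1))
    (conj_mem_of_mem_normalizer (normalizer_le_normalizer_centralizer _ h2) (e_cs c p2))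
  rintro _ ⟨b, hb, rfl⟩
  rw [c.diag, mul_assoc, hg.2 _ (mem_sup_right ⟨b, hE hb, rfl⟩), ← mul_assoc,
    hg.1 _ (mem_sup_left ⟨b, hE hb, rfl⟩), mul_assoc]

/-- a copy of `X` in `N(G₁)` lies in `G₁` -/
theorem le_G12 {k : X →* G} (hk : k.range ≤ Ns (G12 e₁ e₂)) : k.range ≤ G12 e₁ e₂ := by
  haveI := f.i.simple
  have pf : k.range ≤ ⁅k.range, k.range⁆ := by
    rw [MonoidHom.range_eq_map, ← map_commutator]
    exact map_mono (H87.commutator_eq_top fun r => Z_ne f fun z _ =>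
      f.i.cen.le (mem_center_iff.2 fun g => r.1.1 g z)).ge
  have N : k.range ≤ Ns e₁.range ⊓ Ns e₂.range := pf.trans (commutator_le.2 fun a ha b hb => by
    have sq : ∀ x ∈ k.range, x * x ∈ Ns e₁.range ⊓ Ns e₂.range := fun x hx =>
      (w.pm x (hk hx)).elim (fun r => mul_mem (mem_inf.2 r) (mem_inf.2 r)) fun r =>
        ⟨cj_eq_self_iff.1 ((cj_cj x x _).symm.trans ((congrArg _ r.1).trans r.2)),
          cj_eq_self_iff.1 ((cj_cj x x _).symm.trans ((congrArg _ r.2).trans r.1))⟩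
    rw [show ⁅a, b⁆ = a * a * (a⁻¹ * b * (a⁻¹ * b)) * (b⁻¹ * b⁻¹) by
      rw [commutatorElement_def]; group]
    exact mul_mem (mul_mem (sq a ha) (sq _ (mul_mem (inv_mem ha) hb))) (sq _ (inv_mem hb)))
  obtain ⟨L, _, lam, hl⟩ := f.a.out
  have inn : ∀ {e₁ : X →* G}, Function.Injective e₁ → ∀ a ∈ Ns e₁.range, ∀ b ∈ Ns e₁.range,
      ∃ s, Ind e₁ ⁅a, b⁆ (MulAut.conj s) := fun i a ha b hb => by
    obtain ⟨α, i1⟩ := exists_ind i ha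
    obtain ⟨β, j1⟩ := exists_ind i hb
    obtain ⟨s, hs⟩ := (hl (cm α β)).1 (by
      rw [cm, map_mul, map_mul, map_mul, map_inv, map_inv, mul_comm (lam α)]; simp)
    exact ⟨s, hs ▸ i1.cm j1⟩
  have S : k.range ≤ Cs (G12 e₁ e₂) ⊔ G12 e₁ e₂ := pf.trans (commutator_le.2 fun a ha b hb => by
    obtain ⟨s, i⟩ := inn c.inj a (N ha).1 b (N hb).1
    obtain ⟨s', j⟩ := inn c.inj₂ a (N ha).2 b (N hb).2
    have := mul_mem (mem_sup_left (T := G12 e₁ e₂) (mem_Cs_G12.2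
      ⟨ind_one_iff.1 (by simpa using i.mul (c.ind₁ s s').inv),
        ind_one_iff.1 (by simpa using j.mul (c.ind₂ s s').inv)⟩ :
          ⁅a, b⁆ * (e₁ s * e₂ s')⁻¹ ∈ _)) (mem_sup_right (c.mem_G12.2 ⟨s, s', rfl⟩))
    rwa [inv_mul_cancel_right] at this)
  have key : ∀ x : X, x * x = 1 → k x ∈ G12 e₁ e₂ := fun x x2 => by
    obtain ⟨z, hz, g, hg, r⟩ := (mem_sup_right_norm (le_centralizer_iff.1 le_rfl |>.trans
      (Cs_le_Ns _))).1 (S ⟨x, rfl⟩)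
    obtain ⟨a, b, k3⟩ := c.mem_G12.1 (show z * z ∈ G12 e₁ e₂ from (eq_inv_of_mul_eq_one_left (by
      rw [← map_one k, ← x2, map_mul, r, mul_assoc z g, ← mul_assoc g, hz g hg]; group :
        z * z * (g * g) = 1)) ▸ inv_mem (mul_mem hg hg))
    obtain ⟨z1, z2⟩ := mem_Cs_G12.1 (mul_mem hz hz)
    rw [k3] at z1 z2
    have a1 := conj_inj f.i.cen (((c.ind₁ a b).unique c.inj (ind_one_iff.2 z1)).trans (map_one _).symm)
    have b1 := conj_inj f.i.cen (((c.ind₂ a b).unique c.inj₂ (ind_one_iff.2 z2)).trans (map_one _).symm)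
    rw [a1, b1, map_one, map_one, mul_one] at k3
    rw [r, mem_bot.1 (H64.SG.mem_of_sq_mem (mem_bot.2 k3) (H64.SG.odd_orderOf_of_mem w.odd hz)), one_mul]
    exact hg
  rw [MonoidHom.range_eq_map, ← f.i.gen, MonoidHom.map_closure, closure_le]
  rintro _ ⟨x, hx | hx, rfl⟩
  exacts [key x hx.1, key x hx.1]

theorem l1 (h : n ∈ Ns (pr e₁ e₂ d.U d.U)) (h1 : n ∈ Ns (pr e₁ e₂ d.Z ⊥))
    (h2 : n ∈ Ns (pr e₁ e₂ ⊥ d.Z)) : cj n e₁.range ≤ G12 e₁ e₂ := by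
  have c' := c.symm w.uf.inv.1
  have a := nUZ f c h h2
  have b := nUZ f c' (sw h) (sw h1)
  refine range_cje.ge.trans (le_G12 f c w ?_)
  rw [MonoidHom.range_eq_map, ← f.i.gen, MonoidHom.map_closure, closure_le]
  rintro _ ⟨x, hx | hx, rfl⟩
  · exact inM f c w le_rfl (nE f c a h1) (sw (nE f c' b (sw h2))) hx.1 hx.2
      fun y hy => by rw [mem_bot.1 hy, one_mul, mul_one]
  · exact inM f c w f.u.EQ (nQ f c a h1) (sw (nQ f c' b (sw h2))) hx.1 hx.2.1 hx.2.2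

theorem fixed (h : n ∈ Ns (pr e₁ e₂ d.U d.U)) (h1 : cj n (pr e₁ e₂ d.Z ⊥) = pr e₁ e₂ d.Z ⊥) :
    n ∈ Ns (G12 e₁ e₂) := by
  have c' := c.symm w.uf.inv.1
  have h2 := (permZ f c' (sw h)).resolve_right fun r => by
    rw [pr_comm, pr_comm (e₁ := e₁), ← h1] at r
    exact Z_ne f ((pr_le_iff f c).1 (cj_inj.1 r).le).2
  have h1 := cj_eq_self_iff.1 h1
  have h2 := cj_eq_self_iff.1 h2
  refine mem_normalizer_of_cj_le ((cj_sup _ _ _).le.trans (sup_le (l1 f c w h h1 (sw h2)) ?_))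
  exact (l1 f c' w.symm (sw h) h2 (sw h1)).trans G12_comm.le

omit f c w in
theorem jobW1b : JobW1b.{u} := fun _ _ _ d f _ _ _ _ t _ e₁ e₂ c w n hn => by
  obtain h | h := permZ f c hn
  · exact fixed f c w hn h
  · exact (mul_mem_cancel_left w.uf.mem).1 (fixed f c w (mul_mem (c.t_mem_Ns w.uf.inv.1 _) hn)
      ((cj_cj t n _).symm.trans ((congrArg _ h).trans (c.cjs_pr w.uf.inv.1 _ _))))

end H98.TdW
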