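import Cfsg.Agent.H98.SaMon

/-! STD-A tower: `JobA6`, the ring of order `q²`. -/

set_option autoImplicit false
set_option linter.unusedSectionVars false

namespace H98.Sa

open H64.SG (Cz Cs Ns Is2 Inv2 mem_Cs mem_Cz is2_of_sq)
open H67.SA Subgroup

universe u

variable {n : ℕ} {F : Type} [Field F] [Finite F] [_root_.CharP F 2] {G : Type u} [Group G]
  {e : SLn n F →* G} {t u v w : G} {g g' : SLn n F} {π π' : Equiv.Perm (Fin (n + 1))}
  {d d' : Fin (n + 1) → Fˣ} {i j k l : Fin (n + 1)} {A : Fin (n + 1) → Fin (n + 1) → Subgroup G}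

/-- A biadditive map that is homogeneous of degree two is bilinear. -/
theorem bilin (β : F → F → F) (h1 : ∀ a a' b, β (a + a') b = β a b + β a' b)
    (h2 : ∀ a b b', β a (b + b') = β a b + β a b')
    (h3 : ∀ l, l ≠ 0 → ∀ a b, β (l * a) (l * b) = l ^ 2 * β a b) (a b : F) :
    β a b = a * b * β 1 1 := by
  have two : (2 : F) = 0 := CharTwo.two_eq_zero
  have z1 : ∀ b, β 0 b = 0 := fun b => by have := h1 0 0 b; rw [add_zero] at this; simpa using this
  have z2 : ∀ a, β a 0 = 0 := fun a => by have := h2 a 0 0; rw [add_zero] at this; simpa using this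
  have dg : ∀ c, β c c = c ^ 2 * β 1 1 := fun c => by
    by_cases hc : c = 0
    · simp [hc, z1]
    · simpa using h3 c hc 1 1
  have sy : ∀ a b, β a b = β b a := fun a b => by
    have := dg (a + b)
    rw [h1, h2, h2, dg a, dg b] at this
    linear_combination this + (a * b * β 1 1 - β b a) * two
  have iv : ∀ c, c ≠ 0 → c ^ 2 * β c⁻¹ 1 = β c 1 := fun c hc => by
    rw [← h3 c hc, mul_inv_cancel₀ hc, mul_one, sy]
  have sq : ∀ c, β (c ^ 2) 1 = c ^ 2 * β 1 1 := fun c => by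
    by_cases hc : c = 0
    · simp [hc, z1]
    by_cases hc' : c + 1 = 0
    · rw [show c = 1 by linear_combination hc' - two]; simp
    have e1 := iv c hc
    have e2 := iv _ hc'
    have e3 := iv _ (mul_ne_zero hc hc')
    rw [show (c * (c + 1))⁻¹ = c⁻¹ + (c + 1)⁻¹ by field_simp; linear_combination -c * two,
      show c * (c + 1) = c ^ 2 + c by ring, h1, h1] at e3
    rw [h1] at e2
    linear_combination -e3 + (c + 1) ^ 2 * e1 + c ^ 2 * e2 + (c ^ 2 + c) * β c 1 * two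
  have li : ∀ c, β c 1 = c * β 1 1 := fun c => by
    obtain ⟨r, rfl⟩ := surjective_frobenius F 2 c
    exact sq r
  by_cases hb : b = 0
  · simp [hb, z2]
  have := h3 b hb (a / b) 1
  rw [mul_div_cancel₀ _ hb, mul_one, li] at this
  rw [this]; field_simp

/-- The hypotheses of the job. -/
structure C6 (e : SLn n F →* G) (t : G) (A : Fin (n + 1) → Fin (n + 1) → Subgroup G) : Prop where
  hn : 2 ≤ n
  ch : CH e t
  pb : PB e t A

theorem sig_iff (b : B1 e t) {s : G} :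
    w * t * w⁻¹ = t * s ↔ MulAut.conj t w = s * w := by
  rw [MulAut.conj_apply, mul_inv_eq_iff_eq_mul, mul_assoc t, ← inv_mul_eq_iff_eq_mul, b.inv_eq,
    mul_assoc]

theorem sig_κ (b : B1 e t) (g : SLn n F) (w : G) :
    MulAut.conj t (κ e g w) = κ e g (MulAut.conj t w) := by
  rw [← MulAut.mul_apply, ← MulAut.mul_apply, ← map_mul, ← map_mul, b.comm]

theorem sig_e (b : B1 e t) (g : SLn n F) : MulAut.conj t (e g) = e g := b.conj_eq g

theorem e_x_sq (i j : Fin (n + 1)) (c : F) : e (x i j c) * e (x i j c) = 1 := by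
  rw [← map_mul, x_mul_self, map_one]

namespace C6

variable (h : C6 e t A)
include h

theorem sq (hij : i ≠ j) (hw : w ∈ A i j) : w * w = 1 := ((h.pb.mem i j hij w).1 hw).1

theorem conj (m : Mon g π d) (hij : i ≠ j) (hw : w ∈ A i j) : κ e g w ∈ A (π i) (π j) :=
  (h.pb.mem _ _ (π.injective.ne hij) _).2 (m.inA h.ch.toB1 ((h.pb.mem i j hij w).1 hw))

theorem cs (hij : i ≠ j) (hw : w ∈ A i j) (hg : g ∈ P0 n F i j) : κ e g w = w :=
  κ_of_Cs ((h.pb.mem i j hij w).1 hw).2.1 hg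

theorem row (h1 : i ≠ j) (h2 : i ≠ k) (hu : u ∈ A i j) (hv : v ∈ A i k) : Commute u v :=
  (h.pb.row i j k h1 h2 hu v hv).symm

theorem col (h1 : i ≠ k) (h2 : j ≠ k) (hu : u ∈ A i k) (hv : v ∈ A j k) : Commute u v :=
  (h.pb.col i j k h1 h2 hu v hv).symm

theorem ex (hij : i ≠ j) (hw : w ∈ A i j) : ∃ c, MulAut.conj t w = e (x i j c) * w :=
  ((h.pb.mem i j hij w).1 hw).2.2.1.imp fun _ => (sig_iff h.ch.toB1).1

theorem fix (hij : i ≠ j) (hw : w ∈ A i j) (r : MulAut.conj t w = w) : ∃ c, w = e (x i j c) :=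
  h.pb.fix i j hij w hw (mem_Cz.2 (mul_inv_eq_iff_eq_mul.1 r))

/-- Two elements with the same displacement differ by a root element of `L`. -/
theorem diff (hij : i ≠ j) (hu : u ∈ A i j) (hv : v ∈ A i j) {c : F}
    (r1 : MulAut.conj t u = e (x i j c) * u) (r2 : MulAut.conj t v = e (x i j c) * v) :
    ∃ a, u = e (x i j a) * v :=
  (h.fix hij (mul_mem hu hv) (by
    rw [map_mul, r1, r2, mul_assoc, ← mul_assoc u, (h.row hij hij hu (h.pb.sub i j hij c)).eq,
      ← mul_assoc, ← mul_assoc, e_x_sq, one_mul])).imp fun a r => by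
    rw [← r, mul_assoc, h.sq hij hv, mul_one]

theorem inf (h1 : i ≠ j) (h2 : k ≠ l) (h3 : i ≠ k ∨ j ≠ l) (hw : w ∈ A i j) (hw' : w ∈ A k l) :
    w = 1 := by
  have key : ∀ {a b : F}, e (x i j a) = e (x k l b) → a = 0 := fun r =>
    x_eq_x h1 h2 h3 (inj2 h.ch.ker (is2_of_sq (x_mul_self ..)) (is2_of_sq (x_mul_self ..)) r)
  obtain ⟨a, r1⟩ := h.ex h1 hw
  obtain ⟨b, r2⟩ := h.ex h2 hw'
  obtain rfl := key (mul_right_cancel (r1.symm.trans r2))
  obtain rfl : b = 0 := (e_x_eq_one h.ch.ker h2).1 (by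
    simpa using (mul_right_cancel (r1.symm.trans r2)).symm)
  obtain ⟨a, r3⟩ := h.fix h1 hw (by simpa using r1)
  obtain ⟨b, r4⟩ := h.fix h2 hw' (by simpa using r2)
  rw [r3, key (r3.symm.trans r4)]; simp

theorem torus (m : Mon g 1 d) (hij : i ≠ j) (hd : d i = d j) (hw : w ∈ A i j) : κ e g w = w := by
  have kx : ∀ c, κ e g (e (x i j c)) = e (x i j c) := fun c => by
    rw [m.κ_x, hd]; congr 2; simp only [Units.val_inv_eq_inv_val]; field_simp
  obtain ⟨c, r⟩ := h.ex hij hw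
  obtain ⟨a, r'⟩ := h.diff hij (h.conj m hij hw) hw (by rw [sig_κ h.ch.toB1, r, map_mul, kx]) r
  refine mul_inv_eq_iff_eq_mul.2 (comm_of_sq odd_card_sub_one (m.e_pow h.hn h.ch)
    (mul_inv_eq_iff_eq_mul.1 ?_))
  rw [← MulAut.conj_apply, map_mul, MulAut.mul_apply, r', map_mul, r']
  rw [kx, ← mul_assoc, e_x_sq, one_mul]

theorem mon_fix (m : Mon g π d) (hij : i ≠ j) (h1 : π i = i) (h2 : π j = j) (hd : d i = d j)
    (hw : w ∈ A i j) : κ e g w = w := by
  have m' := (mon_pm π).inv.mul m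
  rw [inv_mul_cancel] at m'
  rw [← mul_inv_cancel_left (pm π) g, κ_mul, h.torus m' hij (by simp [hd]) hw,
    h.cs hij hw (pm_mem_P0 π h1 h2)]

theorem uniq (m : Mon g π d) (m' : Mon g' π' d') (hij : i ≠ j) (h1 : π i = π' i) (h2 : π j = π' j)
    (hd : d i * d' j = d' i * d j) (hw : w ∈ A i j) : κ e g w = κ e g' w := by
  rw [← mul_inv_cancel_left g' g, κ_mul, h.mon_fix (m'.inv.mul m) hij (by simp [h1]) (by simp [h2])
    (by
      simp only [h1, h2, Equiv.Perm.coe_inv, Equiv.symm_apply_apply]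
      rw [inv_mul_eq_iff_eq_mul, mul_left_comm, ← hd, mul_comm (d i), inv_mul_cancel_left]) hw]

theorem R1 (h1 : i ≠ j) (h2 : j ≠ k) (h3 : i ≠ k) (hu : u ∈ A i j) :
    cm u (e (x j k 1)) = κ e (pm (Equiv.swap j k)) u := by
  have kc : ∀ {a b : Fin (n + 1)} {w : G}, w * w = 1 → κ e (x a b 1) w = w * cm w (e (x a b 1)) :=
    fun hw => by rw [cm, inv_sq hw, ← mul_assoc, ← mul_assoc, ← mul_assoc, hw, one_mul]; rfl
  have hv := h.pb.ar i j k h1 h2 h3 u hu 1
  have hv' := h.pb.ar i k j h3 h2.symm h1 _ hv 1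
  have hs := h.conj (mon_pm (Equiv.swap j k)) h1 hu
  rw [Equiv.swap_apply_of_ne_of_ne h1 h3, Equiv.swap_apply_left] at hs
  have e1 := h.cs h3 hs (inv_mem (x_mem_Pat (i := j) (j := k) ⟨h3.symm, h2⟩ 1))
  rw [← κ_mul] at e1
  conv_lhs at e1 => rw [pm_swap h2, mul_assoc, inv_mul_cancel_left, κ_mul, kc (h.sq h1 hu), map_mul,
    h.cs h1 hu (x_mem_Pat ⟨h1.symm, h2.symm⟩ 1), kc (h.sq h3 hv),
    (h.row h3 h1 hv hv').eq, ← mul_assoc]
  rw [← e1, h.inf h1 h3 (Or.inr h2) (mul_mem hu hv') (by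
    rw [eq_mul_inv_of_mul_eq e1]; exact mul_mem hs (inv_mem hv)), one_mul]

theorem L1 (h1 : i ≠ j) (h2 : j ≠ k) (h3 : i ≠ k) (hv : v ∈ A j k) :
    cm (e (x i j 1)) v = κ e (pm (Equiv.swap i j)) v := by
  have kc : ∀ {a b : Fin (n + 1)} {w : G}, κ e (x a b 1) w = cm (e (x a b 1)) w * w := by
    intros; rw [cm, inv_mul_cancel_right]; rfl
  have hu := h.pb.ac i j k h1 h2 h3 v hv 1
  have hu' := h.pb.ac j i k h1.symm h3 h2 _ hu 1
  have hs := h.conj (mon_pm (Equiv.swap i j)) h2 hv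
  rw [Equiv.swap_apply_of_ne_of_ne h3.symm h2.symm, Equiv.swap_apply_right] at hs
  have e1 := h.cs h3 hs (inv_mem (x_mem_Pat (i := i) (j := j) ⟨h1.symm, h3⟩ 1))
  rw [← κ_mul] at e1
  conv_lhs at e1 => rw [pm_swap h1, mul_assoc, inv_mul_cancel_left, κ_mul, kc (a := i), map_mul,
    h.cs h2 hv (x_mem_Pat ⟨h1, h2⟩ 1), kc, ← (h.col h3 h2 hu hu').eq, mul_assoc]
  rw [← e1, h.inf h2 h3 (Or.inl h1.symm) (mul_mem hu' hv) (by
    rw [eq_inv_mul_of_mul_eq e1]; exact mul_mem (inv_mem hu) hs), mul_one]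

end C6

/-- The elements `c ω` of the big root subgroups. -/
structure CZ (e : SLn n F →* G) (t : G) (A : Fin (n + 1) → Fin (n + 1) → Subgroup G)
    (z : Fin (n + 1) → Fin (n + 1) → F → G) : Prop extends C6 e t A where
  zero : ∀ i j, z i j 0 = 1
  mem : ∀ {i j}, i ≠ j → ∀ c, z i j c ∈ A i j
  sig : ∀ {i j}, i ≠ j → ∀ c, MulAut.conj t (z i j c) = e (x i j c) * z i j c
  mon : ∀ {g π d}, Mon g π d → ∀ {i j}, i ≠ j → ∀ c,
    κ e g (z i j c) = z (π i) (π j) (d i * c * ((d j)⁻¹ : Fˣ))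

theorem C6.exists_z (h : C6 e t A) : ∃ z, CZ e t A z := by
  classical
  have h0 : (0 : Fin (n + 1)) ≠ la n := zero_ne_la (by have := h.hn; omega)
  obtain ⟨η, hη, r⟩ := h.pb.onto _ _ h0 1
  rw [sig_iff h.ch.toB1] at r
  choose g π d m e1 e2 e3 using fun (i j : Fin (n + 1)) (hij : i ≠ j) (c : F) (hc : c ≠ 0) =>
    exists_mon h.hn h0 hij (Units.mk0 c hc)
  refine ⟨fun i j c => if hij : i ≠ j then if hc : c ≠ 0 then κ e (g i j hij c hc) η else 1 else 1,
    h, by simp, fun {i j} hij c => ?_, fun {i j} hij c => ?_, fun {g' π' d'} m' {i j} hij c => ?_⟩ <;>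
  by_cases hc : c = 0
  any_goals simp [hc]; done
  · simp only [dif_pos hij, dif_pos hc]
    have := h.conj (m i j hij c hc) h0 hη
    rwa [e1, e2] at this
  · simp only [dif_pos hij, dif_pos hc]
    rw [sig_κ h.ch.toB1, r, map_mul, (m i j hij c hc).κ_x, e1, e2, e3]
    congr 3; simp
  · have hc' : (d' i : F) * c * ((d' j)⁻¹ : Fˣ) ≠ 0 := by simp [hc]
    simp only [dif_pos hij, dif_pos hc, dif_pos (π'.injective.ne hij), dif_pos hc']
    rw [← κ_mul]
    refine h.uniq (m'.mul (m i j hij c hc)) (m _ _ _ _ hc') h0 (by simp [e1]) (by simp [e2]) ?_ hη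
    simp only [e1, e2, e3]
    ext; simp only [Units.val_mul, Units.val_mk0, Units.val_inv_eq_inv_val]; field_simp

namespace CZ

variable {z : Fin (n + 1) → Fin (n + 1) → F → G} (h : CZ e t A z)
include h

theorem zR (h1 : i ≠ j) (h2 : j ≠ k) (h3 : i ≠ k) (a b : F) :
    cm (z i j a) (e (x j k b)) = z i k (a * b) := by
  by_cases hb : b = 0
  · simp [hb, h.zero, cm]
  have e1 := h.R1 h1 h2 h3 (h.mem h1 (a * b ^ 2))
  rw [h.mon (mon_pm _) h1, Equiv.swap_apply_of_ne_of_ne h1 h3, Equiv.swap_apply_left] at e1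
  have m := mon_hh h1.symm (Units.mk0 b hb)
  have e2 := congrArg (κ e (hh j i (Units.mk0 b hb))) e1
  rw [map_cm, h.mon m h1, h.mon m h3, m.κ_x] at e2
  simp only [Equiv.Perm.coe_one, id, if_neg h1, if_neg h2.symm, if_neg h3.symm, if_true] at e2
  convert e2 using 2 <;> [congr 1; congr 1; skip] <;> simp <;> field_simp

theorem zL (h1 : i ≠ j) (h2 : j ≠ k) (h3 : i ≠ k) (a b : F) :
    cm (e (x i j a)) (z j k b) = z i k (a * b) := by
  by_cases ha : a = 0
  · simp [ha, h.zero, cm]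
  have e1 := h.L1 h1 h2 h3 (h.mem h2 (b / a))
  rw [h.mon (mon_pm _) h2, Equiv.swap_apply_of_ne_of_ne h3.symm h2.symm,
    Equiv.swap_apply_right] at e1
  have m := mon_hh h3 (Units.mk0 a ha)
  have e2 := congrArg (κ e (hh i k (Units.mk0 a ha))) e1
  rw [map_cm, h.mon m h2, h.mon m h3, m.κ_x] at e2
  simp only [Equiv.Perm.coe_one, id, if_neg h1.symm, if_neg h2, if_neg h3.symm, if_true] at e2
  convert e2 using 2 <;> [congr 1; congr 1; skip] <;> simp <;> field_simp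

theorem add (hik : i ≠ k) (a b : F) : z i k (a + b) = z i k a * z i k b := by
  obtain ⟨j, h1, h2⟩ := exists_third h.hn i k
  have := fun c => h.zR h1.symm h2 hik 1 c
  simp only [one_mul] at this
  rw [← this, x_add, map_mul, cm_mul_right, this, this]
  rw [this]
  exact (h.col hik h2 (h.mem hik b) (h.pb.sub j k h2 a)).symm

/-- Expansion of a commutator. -/
theorem exp (c : PC A) (h1 : i ≠ j) (h2 : j ≠ k) (h3 : i ≠ k) {a a' b b' : G} (ha : a ∈ A i j)
    (ha' : a' ∈ A i j) (hb : b ∈ A j k) (hb' : b' ∈ A j k) :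
    cm (a * a') (b * b') = cm a b * cm a' b * (cm a b' * cm a' b') := by
  have N := c.neg i j k h1 h2 h3
  have k1 : ∀ {b}, b ∈ A j k → cm (a * a') b = cm a b * cm a' b := fun hb => by
    rw [cm_mul_left (h.row h1 h3 ha (N _ ha' _ hb)), (h.row h3 h3 (N _ ha' _ hb) (N _ ha _ hb)).eq]
  rw [cm_mul_right (h.col h3 h2 (N _ (mul_mem ha ha') _ hb') hb).symm, k1 hb, k1 hb']

theorem zz (c : PC A) (h1 : i ≠ j) (h2 : j ≠ k) (h3 : i ≠ k) :
    ∃ δ, ∀ a b, cm (z i j a) (z j k b) = e (x i k (a * b * δ)) * z i k (a * b) := by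
  have N := fun a b => c.neg i j k h1 h2 h3 _ (h.mem h1 a) _ (h.mem h2 b)
  have X := h.pb.sub i k h3
  choose β hβ using fun a b => h.diff h3 (N a b) (h.mem h3 (a * b)) (by
    rw [map_cm, h.sig h1, h.sig h2, h.exp c h1 h2 h3 (h.pb.sub i j h1 a) (h.mem h1 a)
      (h.pb.sub j k h2 b) (h.mem h2 b), h.zR h1 h2 h3, h.zL h1 h2 h3, ← x_cm h1 h2 h3, mul_assoc,
      ← mul_assoc (z i k _), h.sq h3 (h.mem h3 _), one_mul]
    simp only [cm, map_mul, map_inv]) (h.sig h3 (a * b))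
  have sw : ∀ a b a' b', e (x i k a) * z i k b * (e (x i k a') * z i k b') =
      e (x i k (a + a')) * z i k (b + b') := fun a b a' b' => by
    rw [x_add, map_mul, h.add h3, (h.row h3 h3 (X a') (h.mem h3 b)).mul_mul_mul_comm]
  refine ⟨β 1 1, fun a b => (hβ a b).trans (congrArg (fun c => e (x i k c) * _)
    (bilin β (fun a a' b => ?_) (fun a b b' => ?_) (fun l hl a b => ?_) a b))⟩
  · have := h.exp c h1 h2 h3 (h.mem h1 a) (h.mem h1 a') (h.mem h2 b) (one_mem _)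
    rw [mul_one, ← h.add h1, hβ, hβ, hβ, sw, add_mul] at this
    exact e_x_inj h.ch.ker h3 (by simpa [cm] using this)
  · have := h.exp c h1 h2 h3 (h.mem h1 a) (one_mem _) (h.mem h2 b) (h.mem h2 b')
    rw [mul_one, ← h.add h2, hβ, hβ, hβ, mul_add] at this
    simp only [cm, one_mul, inv_one, mul_one, mul_inv_cancel, sw] at this
    exact e_x_inj h.ch.ker h3 (mul_right_cancel this)
  · have m := mon_hh h3 (Units.mk0 l hl)
    have e2 := congrArg (κ e (hh i k (Units.mk0 l hl))) (hβ a b)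
    rw [map_cm, map_mul, h.mon m h1, h.mon m h2, h.mon m h3, m.κ_x] at e2
    simp only [Equiv.Perm.coe_one, id, if_neg h1.symm, if_neg h2, if_neg h3.symm, if_true, inv_inv,
      inv_one, Units.val_one, one_mul, mul_one, Units.val_mk0] at e2
    rw [mul_comm b l, hβ, show l * a * (l * b) = l * (a * b) * l by ring] at e2
    rw [e_x_inj h.ch.ker h3 (mul_right_cancel e2)]; ring

theorem zz' (c : PC A) : ∃ δ, ∀ i j k, i ≠ j → j ≠ k → i ≠ k → ∀ a b,
    cm (z i j a) (z j k b) = e (x i k (a * b * δ)) * z i k (a * b) := by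
  have h0 : (0 : Fin (n + 1)) ≠ la n := zero_ne_la (by have := h.hn; omega)
  obtain ⟨r, r1, r2⟩ := exists_third h.hn 0 (la n)
  obtain ⟨δ, hδ⟩ := h.zz c r1.symm r2 h0
  refine ⟨δ, fun i j k h1 h2 h3 a b => ?_⟩
  obtain ⟨π, rfl, rfl, rfl⟩ := exists_perm3 r1.symm r2 h0 h1 h2 h3
  have m := mon_pm (F := F) π
  have e2 := congrArg (κ e (pm π)) (hδ a b)
  rw [map_cm, map_mul, h.mon m r1.symm, h.mon m r2, h.mon m h0, m.κ_x] at e2
  simpa using e2

theorem bl (c : PC A) : BL e t := by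
  obtain ⟨δ, hδ⟩ := h.zz' c
  have M : ∀ {i j}, i ≠ j → ∀ a b, e (x i j a) * z i j b ∈ A i j := fun hij a b =>
    mul_mem (h.pb.sub _ _ hij a) (h.mem hij b)
  have sw : ∀ {i k}, i ≠ k → ∀ a b a' b', e (x i k a) * z i k b * (e (x i k a') * z i k b') =
      e (x i k (a + a')) * z i k (b + b') := fun h3 a b a' b' => by
    rw [x_add, map_mul, h.add h3, (h.row h3 h3 (h.pb.sub _ _ h3 a') (h.mem h3 b)).mul_mul_mul_comm]
  refine ⟨δ, fun i j a => e (x i j a.re) * z i j a.im, ⟨fun i j hij a b => (sw hij ..).symm,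
    fun i j k l h1 h2 h3 h4 a b => ?_, fun i j k h1 h2 h3 a b => ?_⟩,
    fun i j hij a => by simp [h.zero], fun i j hij a => ?_⟩
  · by_cases r1 : i = k
    · exact h.row h1 (r1 ▸ h2) (M h1 ..) (r1 ▸ M h2 ..)
    by_cases r2 : j = l
    · exact h.col h1 (r2 ▸ h2) (M h1 ..) (r2 ▸ M h2 ..)
    exact (c.pol i j k l h1 h2 r1 h4 h3 r2 (M h1 ..) _ (M h2 ..)).symm
  · have e1 : cm (e (x i j a.re)) (e (x j k b.re)) = e (x i k (a.re * b.re)) := by
      rw [← x_cm h1 h2 h3]; simp only [cm, map_mul, map_inv]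
    have e2 : z i k (a.re * b.im) = e (x i k 0) * z i k (a.re * b.im) := by simp
    rw [h.exp c h1 h2 h3 (h.pb.sub i j h1 _) (h.mem h1 _) (h.pb.sub j k h2 _) (h.mem h2 _),
      h.zR h1 h2 h3, h.zL h1 h2 h3, hδ i j k h1 h2 h3, e1, e2, sw h3, sw h3]
    simp only [QuadraticAlgebra.re_mul, QuadraticAlgebra.im_mul]
    congr 2 <;> [congr 1; skip] <;> ring
  · rw [← MulAut.conj_apply, map_mul, sig_e h.ch.toB1, h.sig hij, ← mul_assoc, ← map_mul, ← x_add]
    simp [CharTwo.neg_eq]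

end CZ

theorem jobA6 : JobA6.{u} := fun _ _ _ _ _ hp _ _ _ _ _ _ ch pb pc => by
  obtain ⟨z, h⟩ := C6.exists_z ⟨hp.two_le, ch, pb⟩
  exact h.bl pc

end H98.Sa
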