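import Cfsg.Agent.H98.SaQ

/-! STD-A tower: `JobP2b`, the big root subgroups. -/

set_option autoImplicit false
set_option linter.unusedSectionVars false

namespace H98.Sa

open H64.SG (Cz Cs Ns Is2 Inv2 mem_Cs mem_Cz is2_of_sq)
open H67.SA Subgroup Matrix H57

universe u

variable {n : ℕ} {F : Type} [Field F] [Finite F] [_root_.CharP F 2] {G : Type u} [Group G]
  {e e' : SLn n F →* G} {t u v w : G} {g p : SLn n F} {π : Equiv.Perm (Fin (n + 1))}
  {i j k l : Fin (n + 1)} {ρ : F}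

theorem conj_x0 (h : i ≠ j) (h1 : 0 ≠ i) (h2 : 0 ≠ j) (a c : F) :
    x i j a * x 0 i c * (x i j a)⁻¹ = x 0 j (a * c) * x 0 i c := by
  rw [← x_comm h1.symm h2, mul_comm a, ← x_cm h1 h h2, cm, x_inv 0 i]
  simp only [← mul_assoc, x_mul_self, one_mul]

theorem conj_row (h : i ≠ j) (h1 : 0 ≠ i) (h2 : 0 ≠ j) (hg : g ∈ Er n F) :
    ∃ ε, ∀ a, x i j a * g * (x i j a)⁻¹ = x 0 j (a * ε) * g := by
  induction hg using closure_induction with
  | mem g hg =>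
    obtain ⟨_, k, c, rfl, rfl⟩ := hg
    by_cases r : k = i
    · exact ⟨c, fun a => r ▸ conj_x0 h h1 h2 a c⟩
    · exact ⟨0, fun a => by rw [x_comm h2.symm (Ne.symm r)]; simp⟩
  | one => exact ⟨0, by simp⟩
  | mul g g' hg hg' ih ih' =>
    obtain ⟨ε, ih⟩ := ih
    obtain ⟨ε', ih'⟩ := ih'
    refine ⟨ε + ε', fun a => ?_⟩
    rw [← conj_mul, ih, ih', mul_add, x_add, mul_assoc, mul_assoc, ← mul_assoc g,
      Row_le_Cs 0 (x_mem_Row 0 j _) g hg, mul_assoc]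
  | inv g hg ih => rwa [inv_sq (sq_Row hg)]

theorem mem_X (h : 0 ≠ j) (hg : g ∈ Er n F)
    (c : ∀ k, 0 ≠ k → k ≠ j → x k j 1 * g = g * x k j 1) : ∃ c, g = x 0 j c := by
  refine mem_XX.1 ((mem_Pat (uni_XX 0 j)).2 ⟨(mem_Row.1 hg).1, fun a b hab r => ?_⟩)
  by_cases ha : a = 0
  · subst ha
    have hb : b ≠ j := fun r' => r ⟨rfl, r'⟩
    have := congrArg (fun s : SLn n F => s.1 0 j) (c b hab hb)
    simpa [val_mul, x_coe hb, add_mul, mul_add, Matrix.single_mul_apply_of_ne _ _ _ _ _ hab,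
      Matrix.mul_single_apply_same] using this
  · exact (mem_Row.1 hg).2 a b hab ha

theorem sc_mul_Er (hg : g ∈ Er n F) (hp : p ∈ Er n F) (c : F) : sc c (g * p) = sc c g * sc c p :=
  sc_mul (sq_Row hg) (sq_Row hp) (by
    ext a b
    rw [Matrix.mul_apply, Matrix.zero_apply]
    refine Finset.sum_eq_zero fun k _ => ?_
    by_cases hk : k = 0
    · by_cases ha : a = 0
      · simp [hk, ha, (mem_Row.1 hg).1]
      · simp [hk, ha, (mem_Row.1 hg).2 a 0 ha ha]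
    · by_cases hb : k = b
      · simp [hb, (mem_Row.1 hp).1]
      · simp [hb, (mem_Row.1 hp).2 k b hb hk]) (Row_le_Cs 0 hp g hg) c

theorem Er_le_P0 (h : 0 ≠ j) : Er n F ≤ P0 n F 0 j :=
  Pat_mono fun _ _ hab r => ⟨r ▸ hab.symm, r ▸ h⟩

/-- The part of `CH` and `CP` that is used; it is invariant under `pm` and `slGraph`. -/
structure CK (e : SLn n F →* G) (t : G) : Prop extends B1 e t where
  ck : ∀ g ∈ Cz t, g ∈ Cs e.range → g = 1 ∨ g = t
  cp : ∀ i j, i ≠ j → ∀ c, ∃ w ∈ Cs ((P0 n F i j).map e), w * t * w⁻¹ = t * e (x i j c)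

/-- The results for row `i`. -/
structure RI (e : SLn n F →* G) (t : G) (i : Fin (n + 1)) : Prop where
  mul : ∀ j, i ≠ j → ∀ u v, InA e t i j u → InA e t i j v → InA e t i j (u * v)
  onto : ∀ j, i ≠ j → ∀ c, ∃ w, InA e t i j w ∧ w * t * w⁻¹ = t * e (x i j c)
  fix : ∀ j, i ≠ j → ∀ w, InA e t i j w → w ∈ Cz t → ∃ c, w = e (x i j c)
  row : ∀ j k, i ≠ j → i ≠ k → ∀ u v, InA e t i j u → InA e t i k v → Commute u v
  ar : ∀ j k, i ≠ j → j ≠ k → i ≠ k → ∀ a, InA e t i j a → ∀ c, InA e t i k (cm a (e (x j k c)))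

/-- `e Er` -/
abbrev EE (e : SLn n F →* G) : Subgroup G := (Er n F).map e

/-- The elements centralising `E` that move `t` inside `t E`. -/
def Wh (E : Subgroup G) (t : G) (h : t * t = 1) : Subgroup G where
  carrier := {w | w ∈ Cs E ∧ dl t w ∈ E}
  one_mem' := ⟨one_mem _, by simp [dl, h]⟩
  mul_mem' := fun {u v} hu hv => ⟨mul_mem hu.1 hv.1, dl_mul h (hu.1 _ hv.2) ▸ mul_mem hu.2 hv.2⟩
  inv_mem' := fun {u} hu => ⟨inv_mem hu.1, by
    have := dl_mul h (u := u⁻¹) (v := u) (inv_mem hu.1 _ hu.2)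
    rw [inv_mul_cancel, dl_of_comm h (Commute.one_left t)] at this
    exact eq_inv_of_mul_eq_one_left this.symm ▸ inv_mem hu.2⟩

/-- multiplication by `ρ` on `e Er` -/
noncomputable def rr (e : SLn n F →* G) (ρ : F) (g : G) : G :=
  e (sc ρ (Function.invFunOn e (Er n F) g))

theorem rr_e (hk : e.ker ≤ center (SLn n F)) (hg : g ∈ Er n F) : rr e ρ (e g) = e (sc ρ g) := by
  rw [rr, Set.InjOn.leftInvOn_invFunOn (fun a ha b hb r =>
    inj2 hk (is2_of_sq (sq_Row ha)) (is2_of_sq (sq_Row hb)) r) hg]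

theorem dl_κ (b : B1 e t) (g : SLn n F) (w : G) : dl t (κ e g w) = κ e g (dl t w) := by
  rw [dl, dl, map_mul, map_mul, map_mul, map_inv, κ_t b]

theorem κ_Er (hp : p ∈ Pr n F) (hv : v ∈ EE e) : κ e p v ∈ EE e :=
  H98.conj_mem_of_mem_normalizer (map_mem_Ns (Pr_le_Ns hp)) hv

theorem κ_Wh (b : B1 e t) (hp : p ∈ Pr n F) (hw : w ∈ Wh (EE e) t b.inv.1) :
    κ e p w ∈ Wh (EE e) t b.inv.1 :=
  ⟨H98.conj_mem_of_mem_normalizer
    (H98.normalizer_le_normalizer_centralizer _ (map_mem_Ns (Pr_le_Ns hp))) hw.1,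
    dl_κ b p w ▸ κ_Er hp hw.2⟩

theorem κ_rr (b : B1 e t) (hp : p ∈ Pr n F) (hv : v ∈ EE e) : κ e p (rr e ρ v) = rr e ρ (κ e p v) := by
  obtain ⟨s, hs, rfl⟩ := hv
  rw [rr_e b.ker hs, κ_e, κ_e, sc_conj (sq_Row hs),
    rr_e b.ker (H98.conj_mem_of_mem_normalizer (Pr_le_Ns hp) hs)]

/-- An element of `E` that centralises `P0 0 j` lies in the root group. -/
theorem mem_X' (b : B1 e t) (h : 0 ≠ j) (hv : v ∈ EE e)
    (c : ∀ k, 0 ≠ k → k ≠ j → e (x k j 1) * v = v * e (x k j 1)) : ∃ c, v = e (x 0 j c) := by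
  obtain ⟨s, hs, rfl⟩ := hv
  exact (mem_X h hs fun k h1 h2 => (e_comm_iff b.ker (is2_of_sq (sq_Row hs))).1 (c k h1 h2)).imp
    fun _ => congrArg e

theorem mem_X'' (b : B1 e t) (h : 0 ≠ j) (hv : v ∈ EE e) (c : v ∈ Cs ((P0 n F 0 j).map e)) :
    ∃ c, v = e (x 0 j c) :=
  mem_X' b h hv fun _ _ h2 => mem_Cs_map.1 c _ (x_mem_Pat ⟨h.symm, h2⟩ 1)

theorem t_cs (b : B1 e t) (P : Subgroup (SLn n F)) : t ∈ Cs (P.map e) := Cs_range_le P b.cen

theorem x_cs (i j : Fin (n + 1)) (c : F) : e (x i j c) ∈ Cs ((P0 n F i j).map e) :=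
  mem_Cs_map.2 fun s hs => by
    rw [← map_mul, ← map_mul, P0_le_Cs i j hs _ (mem_XX.2 ⟨c, rfl⟩)]

theorem CK.wh (h : CK e t) (hj : 0 ≠ j) (hw : w ∈ Cs ((P0 n F 0 j).map e)) {c : F}
    (r : w * t * w⁻¹ = t * e (x 0 j c)) : w ∈ Wh (EE e) t h.inv.1 :=
  ⟨H98.centralizer_anti (map_mono (Er_le_P0 hj)) hw,
    (dl_iff h.inv.1).2 r ▸ mem_map_of_mem e (x_mem_Row 0 j c)⟩

theorem CK.ker' (h : CK e t) (hn : 2 ≤ n) (A : FA n F) (hw : w ∈ Cs (EE e)) (c : Commute w t) :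
    w ∈ EE e ∨ t * w ∈ EE e := by
  have hz : w ∈ Cz t := mem_Cz.2 c.symm
  obtain ⟨β, hβ⟩ := exists_ind hn h.ker (h.cz hz)
  obtain ⟨s, hs, rfl⟩ := mem_cI.1 (A.ctM 1 le_rfl (by omega) β (Ml_one (n := n) (F := F) ▸
    hβ.fix_Pat h.ker hw))
  rw [Ml_one] at hs
  refine (h.ck _ (mul_mem hz (inv_mem (h.mem_Cz s))) (ind_conj_iff.1 hβ)).imp (fun r => ?_) fun r => ?_
  · exact mul_inv_eq_one.1 r ▸ mem_map_of_mem e hs
  · rw [mul_inv_eq_iff_eq_mul.1 r, ← mul_assoc, h.inv.1, one_mul]; exact mem_map_of_mem e hs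

theorem CK.exists_qa [Finite G] (h : CK e t) (hn : 2 ≤ n) (A : FA n F) (C : FC n F) :
    ∃ ρ, QA t (EE e) (Wh (EE e) t h.inv.1) (rr e ρ) := by
  have h0 : (0 : Fin (n + 1)) ≠ la n := zero_ne_la (by omega)
  have sq : ∀ v ∈ EE e, v * v = 1 := by
    rintro _ ⟨s, hs, rfl⟩; rw [← map_mul, sq_Row hs, map_one]
  obtain ⟨w, hw, r⟩ := h.cp _ _ h0 1
  have hW := h.wh h0 hw r
  have tE : t ∉ EE e := fun r => h.toB1.not_mem hn (map_le_range' _ r)
  obtain ⟨ρ, hρ⟩ : ∃ ρ, w * w = e (x 0 (la n) ρ) := by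
    refine mem_X'' h.toB1 h0 ((h.ker' hn A (mul_mem hW.1 hW.1) (comm_of_dl h.inv.1 (by
      rw [dl_mul h.inv.1 (hW.1 _ hW.2), sq _ hW.2]))).resolve_right fun r' => ?_) (mul_mem hw hw)
    have c : Commute (t * (w * w)) w := hW.1 _ r'
    have c' := c.mul_left ((Commute.refl w).mul_left (Commute.refl w)).inv_left
    rw [mul_inv_cancel_right] at c'
    rw [c'.symm.eq, mul_inv_cancel_right, left_eq_mul, e_x_eq_one h.ker h0] at r
    exact one_ne_zero r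
  have Q : QS t (EE e) (Wh (EE e) t h.inv.1) (rr e ρ) :=
    { tt := h.inv.1
      tE := tE
      sq := sq
      le := fun v hv => ⟨map_mono (Row_le_Cs 0) hv |> fun ⟨s, hs, r⟩ => r ▸ map_mem_Cs hs, by
        rw [dl_of_comm h.inv.1 (t_cs h.toB1 _ v hv)]; exact one_mem _⟩
      tH := ⟨t_cs h.toB1 _, by rw [dl_of_comm h.inv.1 (Commute.refl t)]; exact one_mem _⟩
      cen := fun v hv w hw => hw.1 v hv
      dm := fun w hw => hw.2
      ker := fun w hw => h.ker' hn A hw.1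
      rm := by
        rintro _ ⟨s, hs, rfl⟩
        exact rr_e h.ker hs ▸ mem_map_of_mem e (sc_mem (uni_Row 0) (sq_Row hs) hs ρ)
      add := by
        rintro _ ⟨s, hs, rfl⟩ _ ⟨s', hs', rfl⟩
        rw [← map_mul, rr_e h.ker hs, rr_e h.ker hs', rr_e h.ker (mul_mem hs hs'), sc_mul_Er hs hs',
          map_mul]
      ex := by
        rintro _ ⟨s, hs, rfl⟩ s1
        obtain ⟨p, hp, rfl⟩ := C.trr _ (x_mem_Row 0 (la n) 1) s hs (by simp [x_eq_one h0])
          (fun r => s1 (by simp [r]))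
        refine ⟨κ e p w, κ_Wh h.toB1 hp hW, by rw [dl_κ h.toB1, (dl_iff h.inv.1).2 r, κ_e], ?_⟩
        rw [← map_mul, hρ, ← κ_e, ← κ_rr h.toB1 hp (mem_map_of_mem e (x_mem_Row 0 _ 1)),
          rr_e h.ker (x_mem_Row 0 _ 1), sc_x, mul_one]
      big := fun a b => by
        have h1 : ({1, a, b} : Set G).ncard < (EE e : Set G).ncard := by
          rw [← Nat.card_coe_set_eq (EE e : Set G), SetLike.coe_sort_coe,
            card_map2 h.ker (isP_UU.to_le (Er_le_QQ.trans QQ_le_UU)), card_Er]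
          calc _ ≤ 3 := (Set.ncard_insert_le _ _).trans
                (Nat.succ_le_succ ((Set.ncard_insert_le _ _).trans (by simp)))
            _ < 2 ^ 2 := by norm_num
            _ ≤ _ := Nat.pow_le_pow_left one_lt_card 2
            _ ≤ _ := Nat.pow_le_pow_right Nat.card_pos hn
        obtain ⟨v, hv, r⟩ := Set.exists_mem_notMem_of_ncard_lt_ncard h1
        exact ⟨v, hv, by simpa [not_or] using r⟩ }
  have hr : ∀ v ∈ EE e, rr e (1 + ρ) v = v * rr e ρ v := by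
    rintro _ ⟨s, hs, rfl⟩
    rw [rr_e h.ker hs, rr_e h.ker hs, sc_add (sq_Row hs), sc_one (sq_Row hs), map_mul]
  rcases Q.main' hr with c | c
  exacts [⟨ρ, Q, c⟩, ⟨_, Q.shift hr, c⟩]

/-- The setting after the choice of `ρ`. -/
structure CQ (e : SLn n F →* G) (t : G) (ρ : F) : Prop extends CK e t where
  q : QA t (EE e) (Wh (EE e) t inv.1) (rr e ρ)

namespace CQ

/-- membership in `W` -/
abbrev W (h : CQ e t ρ) (w : G) : Prop := WW t (EE e) (Wh (EE e) t h.inv.1) (rr e ρ) w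

variable (h : CQ e t ρ)
include h

theorem conj (hp : p ∈ Pr n F) (hw : h.W w) : h.W (κ e p w) :=
  ⟨⟨κ_Wh h.toB1 hp hw.1.1, by rw [← map_mul, hw.1.2, dl_κ h.toB1, κ_rr h.toB1 hp hw.1.1.2]⟩,
    fun r => hw.2 (by
      have := κ_Er (inv_mem hp) r
      rwa [map_mul, κ_t h.toB1, κ_inv_κ] at this)⟩

theorem onto (hj : 0 ≠ j) (c : F) :
    ∃ y, h.W y ∧ y ∈ Cs ((P0 n F 0 j).map e) ∧ dl t y = e (x 0 j c) := by
  obtain ⟨w, hw, r⟩ := h.cp 0 j hj c
  have hW := h.wh hj hw r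
  rw [← dl_iff h.inv.1] at r
  rcases h.q.dich' hW with s | s
  exacts [⟨w, s, hw, r⟩, ⟨_, s, mul_mem (t_cs h.toB1 _) hw, (h.q.dl_t hW).trans r⟩]

theorem dl_X (hj : 0 ≠ j) (hw : h.W w) (c : w ∈ Cs ((P0 n F 0 j).map e)) :
    ∃ c, dl t w = e (x 0 j c) :=
  mem_X'' h.toB1 hj hw.1.1.2
    (mul_mem (t_cs h.toB1 _) (mul_mem (mul_mem c (t_cs h.toB1 _)) (inv_mem c)))

/-- The structure of `[x i j a, w]`. -/
theorem dec (hij : i ≠ j) (hi : 0 ≠ i) (hj : 0 ≠ j) (hw : h.W w) {c : F} (r : dl t w = e (x 0 i c))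
    (a : F) : h.W (κ e (x i j a) w * w⁻¹) ∧ dl t (κ e (x i j a) w * w⁻¹) = e (x 0 j (a * c)) ∧
      ∃ y ∈ Cs ((P0 n F 0 j).map e), ∃ s ∈ Er n F, κ e (x i j a) w * w⁻¹ = e s * y := by
  have h1 := h.conj (x_mem_Pat (i := i) hj.symm a) hw
  have h2 := h.q.mul' h1 (h.q.inv' hw)
  have h3 : dl t (κ e (x i j a) w * w⁻¹) = e (x 0 j (a * c)) := by
    rw [h.q.mul h1.1.1 (inv_mem hw.1.1), h.q.dl_inv hw.1.1, dl_κ h.toB1, r, κ_e, conj_x0 hij hi hj,
      ← map_mul, mul_assoc, x_mul_self, mul_one]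
  obtain ⟨y, hy, c1, c2⟩ := h.onto hj (a * c)
  obtain ⟨s, hs, r'⟩ := h.q.diff' h2 hy (h3.trans c2.symm)
  exact ⟨h2, h3, y, c1, s, hs, by rw [r', inv_mul_cancel_right]⟩

omit h in
theorem eps {y : G} (hij : i ≠ j) (hi : 0 ≠ i) (hj : 0 ≠ j) (hik : i ≠ k)
    (hy : y ∈ Cs ((P0 n F 0 k).map e)) (hg : g ∈ Er n F) :
    ∃ ε, ∀ b, κ e (x i j b) (e g * y) = e (x 0 j (b * ε)) * (e g * y) :=
  (conj_row hij hi hj hg).imp fun ε r b => by
    rw [map_mul, κ_of_Cs hy (x_mem_Pat ⟨hj.symm, hik⟩ b), κ_e, r, map_mul, mul_assoc]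

theorem eps_eq (hij : i ≠ j) (hi : 0 ≠ i) (hj : 0 ≠ j) (hw : h.W w) {c : F}
    (r : dl t w = e (x 0 i c)) {a ε : F} (r' : κ e (x i j a) (κ e (x i j a) w * w⁻¹) =
      e (x 0 j (a * ε)) * (κ e (x i j a) w * w⁻¹)) : a * ε = ρ * (a * c) := by
  obtain ⟨h1, h2, -⟩ := h.dec hij hi hj hw r a
  have h3 := h1.1.2
  rw [h2, rr_e h.ker (x_mem_Row 0 j _), sc_x] at h3
  have h4 : κ e (x i j a) (κ e (x i j a) w * w⁻¹) = (κ e (x i j a) w * w⁻¹)⁻¹ := by
    rw [map_mul, ← κ_mul, x_mul_self, map_inv, _root_.mul_inv_rev, inv_inv]; simp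
  rw [h4, inv_eq_iff_mul_eq_one, (h.q.cen _ (mem_map_of_mem e (x_mem_Row 0 j _)) _ h1.1.1).eq,
    ← mul_assoc, h3, ← map_mul, ← x_add, e_x_eq_one h.ker hj, CharTwo.add_eq_zero] at r'
  exact r'.symm

theorem rho (hp : Par n F) : ρ = 0 := by
  have hn := hp.two_le
  have hj : (0 : Fin (n + 1)) ≠ la n := zero_ne_la (by omega)
  obtain ⟨i, hi, hij⟩ := exists_third hn 0 (la n)
  have hi := hi.symm
  obtain ⟨w, hw, cw, r⟩ := h.onto hi 1
  have key : ∀ a, ∃ ε, ∀ b, κ e (x i (la n) b) (κ e (x i (la n) a) w * w⁻¹) =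
      e (x 0 (la n) (b * ε)) * (κ e (x i (la n) a) w * w⁻¹) := fun a => by
    obtain ⟨-, -, y, hy, s, hs, r'⟩ := h.dec hij hi hj hw r a
    exact r' ▸ eps hij hi hj hij hy hs
  choose ε hε using key
  have e1 := fun a => h.eps_eq hij hi hj hw r (hε a a)
  have cW : ∀ {u : G} (c : F), h.W u → Commute (e (x 0 (la n) c)) u := fun c hu =>
    h.q.cen _ (mem_map_of_mem e (x_mem_Row 0 _ c)) _ hu.1.1
  by_cases h3 : n ≤ 3
  · obtain ⟨b, b0, b1⟩ : ∃ b : F, b ≠ 0 ∧ b ≠ 1 := by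
      have := Nat.card_le_card_of_surjective (α := Bool) (fun s => if s then (0 : F) else 1)
      by_contra r
      push Not at r
      have := this fun b => (em (b = 0)).elim (fun e => ⟨true, e.symm⟩) fun e => ⟨false, (r b e).symm⟩
      have := hp.four h3
      simp at *; omega
    have k : ∀ a b, κ e (x i (la n) (b + a)) w = e (x 0 (la n) (b * ε a)) *
        ((κ e (x i (la n) a) w * w⁻¹) * (κ e (x i (la n) b) w * w⁻¹) * w) := fun a b => by
      rw [x_add, κ_mul, ← inv_mul_cancel_right (κ e (x i (la n) a) w) w, map_mul, hε]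
      simp only [mul_assoc, inv_mul_cancel_left, mul_inv_cancel_left, inv_mul_cancel, mul_one]
    have e2 := k 1 b
    rw [add_comm, k b 1, (h.q.comm' (h.dec hij hi hj hw r b).1 (h.dec hij hi hj hw r 1).1).eq] at e2
    have e3 := e_x_inj h.ker hj (mul_right_cancel e2)
    have e4 := e1 1
    have e5 := e1 b
    have : (b - 1) * b * ρ = 0 := by linear_combination (-b ^ 2) * e4 - b * e3 + e5
    simpa [b0, sub_ne_zero.2 b1] using this
  · obtain ⟨k, k0, ki, kj⟩ : ∃ k : Fin (n + 1), k ≠ 0 ∧ k ≠ i ∧ k ≠ la n := by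
      by_contra r
      push Not at r
      have := Finset.card_le_card (s := Finset.univ) (t := {0, i, la n}) fun k _ => by
        by_cases e : k = 0
        · simp [e]
        by_cases e' : k = i
        · simp [e']
        simp [r k e e']
      have := this.trans Finset.card_le_three
      simp at this; omega
    obtain ⟨h1, -, y, hy, s, hs, r'⟩ := h.dec ki.symm hi k0.symm hw r 1
    obtain ⟨ε', hε'⟩ := eps hij hi hj ki.symm hy hs
    rw [← r'] at hε'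
    have kw : κ e (x k (la n) 1) w = w := κ_of_Cs cw (x_mem_Pat ⟨hj.symm, ki⟩ 1)
    have e2 : κ e (x k (la n) 1) (κ e (x i k 1) w * w⁻¹) =
        κ e (x i k 1) (κ e (x i (la n) 1) w * w⁻¹) * (κ e (x i k 1) w * w⁻¹) := by
      rw [map_mul, map_inv, kw, map_mul, map_inv, mul_assoc, inv_mul_cancel_left, ← κ_mul, ← κ_mul]
      conv_rhs => rw [← kw, ← κ_mul, kw]
      have := x_conj ki.symm kj hij (1 : F) 1
      rw [mul_one] at this
      rw [mul_assoc (x i k 1), ← this, x_inv, ← mul_assoc (x i k 1), ← mul_assoc (x i k 1), x_mul_self,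
        one_mul]
    have c1 : ∀ {a b : Fin (n + 1)} (u : G), b ≠ i → a ≠ la n →
        κ e (x i (la n) 1) (κ e (x a b 1) u) = κ e (x a b 1) (κ e (x i (la n) 1) u) :=
      fun u h1 h2 => by rw [← κ_mul, ← κ_mul, x_comm h2.symm h1.symm]
    have c2 : ∀ {a b : Fin (n + 1)} (c : F), b ≠ 0 → a ≠ la n →
        κ e (x a b 1) (e (x 0 (la n) c)) = e (x 0 (la n) c) :=
      fun c h1 h2 => κ_of_Cs (x_cs 0 (la n) c) (x_mem_Pat ⟨h1, h2⟩ 1)
    have hD := h.conj (x_mem_Pat (i := i) k0 1) (h.dec hij hi hj hw r 1).1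
    have hε1 := hε 1 1
    replace hε' := hε' 1
    generalize κ e (x i k 1) w * w⁻¹ = D' at *
    generalize κ e (x i (la n) 1) w * w⁻¹ = D at *
    have e3 := congrArg (κ e (x i (la n) 1)) e2
    rw [c1 _ hij.symm kj, hε', map_mul, c2 _ hj.symm kj, e2, map_mul, c1 _ ki hij, hε1, hε', map_mul,
      c2 _ k0 hij, ← mul_assoc, ← mul_assoc, (cW _ hD).eq, mul_left_inj, mul_left_inj, right_eq_mul,
      e_x_eq_one h.ker hj, one_mul] at e3
    simpa [e3] using (e1 1).symm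

end CQ

theorem CQ.iff (h : CQ e t 0) (hj : 0 ≠ j) :
    InA e t 0 j w ↔ h.W w ∧ w ∈ Cs ((P0 n F 0 j).map e) := by
  have r0 : ∀ v ∈ EE e, rr e 0 v = 1 := by
    rintro _ ⟨s, hs, rfl⟩; rw [rr_e h.ker hs, sc_zero (sq_Row hs), map_one]
  refine ⟨fun ⟨h1, h2, ⟨c, h3⟩, h4⟩ => ?_, fun ⟨h1, h2⟩ => ⟨h1.1.2.trans (r0 _ h1.1.1.2), h2,
    (h.dl_X hj h1 h2).imp fun _ => (dl_iff h.inv.1).1, fun c r => h1.2 ?_⟩⟩
  · have hW := h.wh hj h2 h3
    refine ⟨⟨⟨hW, h1.trans (r0 _ hW.2).symm⟩, fun r => ?_⟩, h2⟩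
    obtain ⟨c, r⟩ := mem_X'' h.toB1 hj r (mul_mem (t_cs h.toB1 _) h2)
    exact h4 c (by rw [← r, ← mul_assoc, h.inv.1, one_mul])
  · rw [r, ← mul_assoc, h.inv.1, one_mul]; exact mem_map_of_mem e (x_mem_Row 0 j c)

theorem CQ.ri (h : CQ e t 0) : RI e t 0 where
  mul j hj u v hu hv := by
    rw [h.iff hj] at *; exact ⟨h.q.mul' hu.1 hv.1, mul_mem hu.2 hv.2⟩
  onto j hj c := (h.onto hj c).imp fun w hw => ⟨(h.iff hj).2 ⟨hw.1, hw.2.1⟩, (dl_iff h.inv.1).1 hw.2.2⟩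
  fix j hj w hw c := mem_X'' h.toB1 hj (h.q.mem_E ((h.iff hj).1 hw).1
    (dl_of_comm h.inv.1 (mem_Cz.1 c).symm)) hw.2.1
  row j k hj hk u v hu hv := h.q.comm' ((h.iff hj).1 hu).1 ((h.iff hk).1 hv).1
  ar i j hi hij hj w hw a := by
    rw [h.iff hi] at hw
    obtain ⟨c, r⟩ := h.dl_X hi hw.1 hw.2
    obtain ⟨h1, -, y, hy, s, hs, r'⟩ := h.dec hij hi hj hw.1 r a
    have w2 := ((h.iff hi).2 hw).1
    rw [show cm w (e (x i j a)) = (κ e (x i j a) w * w⁻¹)⁻¹ by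
      simp [cm, inv_sq w2, mul_assoc], h.iff hj]
    refine ⟨h.q.inv' h1, inv_mem ?_⟩
    by_cases ha : a = 0
    · simp [ha]
    obtain ⟨c', r2⟩ := mem_X' h.toB1 hj (mem_map_of_mem e hs) fun k k0 kj => by
      have ky := κ_of_Cs hy (x_mem_Pat (i := k) ⟨hj.symm, kj⟩ 1)
      refine mul_inv_eq_iff_eq_mul.1 (mul_right_cancel (b := y) ?_)
      rw [← MulAut.conj_apply]
      conv_lhs => rw [← ky, ← map_mul]
      rw [← r']
      by_cases ki : k = i
      · obtain ⟨ε, hε⟩ := CQ.eps hij hi hj hij hy hs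
        rw [← r'] at hε
        have := h.eps_eq hij hi hj hw.1 r (hε a)
        rw [zero_mul, mul_eq_zero] at this
        rw [ki, hε, this.resolve_left ha]; simp
      · have kw := κ_of_Cs hw.2 (x_mem_Pat (i := k) (j := j) ⟨hj.symm, ki⟩ 1)
        rw [map_mul, map_inv, kw, ← κ_mul, x_comm hij.symm kj, κ_mul, kw]
    rw [r', r2]
    exact mul_mem (x_cs 0 j c') hy

theorem CK.ri0 [Finite G] (h : CK e t) (hp : Par n F) (A : FA n F) (C : FC n F) : RI e t 0 := by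
  obtain ⟨ρ, q⟩ := h.exists_qa hp.two_le A C
  have h' : CQ e t ρ := ⟨h, q⟩
  obtain rfl := h'.rho hp
  exact h'.ri

theorem cs_perm (he : ∀ a b c, e' (x a b c) = e (x (π a) (π b) c)) :
    w ∈ Cs ((P0 n F i j).map e') ↔ w ∈ Cs ((P0 n F (π i) (π j)).map e) := by
  simp only [P0, mem_Cs_map_Pat, he]
  refine ⟨fun h a b hab r => ?_, fun h a b hab r =>
    h _ _ (π.injective.ne hab) ⟨π.injective.ne r.1, π.injective.ne r.2⟩⟩
  obtain ⟨a, rfl⟩ := π.surjective a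
  obtain ⟨b, rfl⟩ := π.surjective b
  exact h a b (fun r => hab (r ▸ rfl)) ⟨fun r' => r.1 (r' ▸ rfl), fun r' => r.2 (r' ▸ rfl)⟩

theorem cs_tr (he : ∀ a b c, e' (x a b c) = e (x b a c)) :
    w ∈ Cs ((P0 n F i j).map e') ↔ w ∈ Cs ((P0 n F j i).map e) := by
  simp only [P0, mem_Cs_map_Pat, he]
  exact ⟨fun h a b hab r => h b a hab.symm r.symm, fun h a b hab r => h b a hab.symm r.symm⟩

theorem CK.twe (h : CK e t) (β : Au n F) (cp : ∀ i j, i ≠ j → ∀ c,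
    ∃ w ∈ Cs ((P0 n F i j).map (twe e β)), w * t * w⁻¹ = t * twe e β (x i j c)) : CK (twe e β) t :=
  ⟨h.toB1.twe β, fun g h1 h2 => h.ck g h1 (range_twe (e := e) (β := β) ▸ h2), cp⟩

theorem CK.ri [Finite G] (h : CK e t) (hp : Par n F) (A : FA n F) (C : FC n F) (i : Fin (n + 1)) :
    RI e t i := by
  obtain ⟨π, rfl⟩ : ∃ π : Equiv.Perm (Fin (n + 1)), π 0 = i := ⟨Equiv.swap 0 i, by simp⟩
  have he : ∀ a b c, H67.SA.twe e (MulAut.conj (pm π)) (x a b c) = e (x (π a) (π b) c) :=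
    fun a b c => by rw [twe_apply, MulAut.conj_apply, pm_conj]
  have R := (h.twe (MulAut.conj (pm π)) fun i j hij c => by
    simpa only [cs_perm he, he] using h.cp _ _ (π.injective.ne hij) c).ri0 hp A C
  have hi : ∀ {a b w}, InA (H67.SA.twe e (MulAut.conj (pm π))) t a b w ↔ InA e t (π a) (π b) w := by
    simp only [InA, cs_perm he, he, implies_true]
  refine ⟨π.surjective.forall.2 fun j hj => ?_, π.surjective.forall.2 fun j hj => ?_,
    π.surjective.forall.2 fun j hj => ?_, π.surjective.forall₂.2 fun j k hj hk => ?_,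
    π.surjective.forall₂.2 fun j k hj hjk hk => ?_⟩
  · simpa only [hi] using R.mul j fun r => hj (r ▸ rfl)
  · simpa only [hi, he] using R.onto j fun r => hj (r ▸ rfl)
  · simpa only [hi, he] using R.fix j fun r => hj (r ▸ rfl)
  · simpa only [hi] using R.row j k (fun r => hj (r ▸ rfl)) fun r => hk (r ▸ rfl)
  · simpa only [hi, he] using
      R.ar j k (fun r => hj (r ▸ rfl)) (fun r => hjk (r ▸ rfl)) fun r => hk (r ▸ rfl)

theorem jobP2b (hA : JobFA) (hC : JobFC) : JobP2b.{u} := fun n F _ _ _ hp G _ _ e t ch cp => by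
  have A := hA n F hp
  have C := hC n F hp
  have h0 : (0 : Fin (n + 1)) ≠ la n := zero_ne_la (by have := hp.two_le; omega)
  have h : CK e t := ⟨ch.toB1, ch.ck, fun i j hij c => by
    obtain ⟨π, rfl, rfl⟩ := exists_perm2 hp.two_le h0 hij
    obtain ⟨w, hw, r⟩ := cp c
    exact ⟨_, (mon_pm π).cs hw, by simpa using (mon_pm π).dl ch.toB1 r⟩⟩
  have R := h.ri hp A C
  have he : ∀ a b c, twe e (slGraph _ F) (x a b c) = e (x b a c) := fun a b c => by
    rw [twe_apply, slGraph_x]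
  have R' := (h.twe (slGraph _ F) fun i j hij c => by
    simpa only [cs_tr he, he] using h.cp _ _ hij.symm c).ri hp A C
  have hi : ∀ {a b w}, InA (twe e (slGraph _ F)) t a b w ↔ InA e t b a w := by
    simp only [InA, cs_tr he, he, implies_true]
  have X : ∀ i j, i ≠ j → ∀ c, InA e t i j (e (x i j c)) := fun i j _ c =>
    ⟨by rw [← map_mul, x_mul_self, map_one], x_cs i j c, ⟨0, by simpa using ch.conj_t _⟩,
      fun c' r => ch.toB1.not_mem hp.two_le ⟨x i j c * (x i j c')⁻¹, by simp [r]⟩⟩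
  let B : Fin (n + 1) → Fin (n + 1) → Subgroup G := fun i j =>
    { carrier := {w | i ≠ j → InA e t i j w}
      one_mem' := fun hij => by simpa using X i j hij 0
      mul_mem' := fun hu hv hij => (R i).mul j hij _ _ (hu hij) (hv hij)
      inv_mem' := fun hu hij => (inv_sq (hu hij).1).symm ▸ hu hij }
  refine ⟨B, fun i j hij w => ⟨fun r => r hij, fun r _ => r⟩, fun i j _ c hij => X i j hij c,
    fun i j hij c => ((R i).onto j hij c).imp fun w r => ⟨fun _ => r.1, r.2⟩,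
    fun i j hij w hw => (R i).fix j hij w (hw hij),
    fun i j k h1 h2 u hu v hv => ((R i).row j k h1 h2 u v (hu h1) (hv h2)).symm,
    fun i j k h1 h2 u hu v hv =>
      ((R' k).row i j h1.symm h2.symm u v (hi.2 (hu h1)) (hi.2 (hv h2))).symm,
    fun i j k h1 h2 h3 a ha c _ => (R i).ar j k h1 h2 h3 a (ha h1) c,
    fun i j k h1 h2 h3 b hb c _ => ?_⟩
  have := hi.1 ((R' k).ar j i h2.symm h1.symm h3.symm b (hi.2 (hb h2)) c)
  rw [he] at this
  rwa [show cm (e (x i j c)) b = (cm b (e (x i j c)))⁻¹ by simp only [cm]; group, inv_sq this.1]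

end H98.Sa
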