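import Cfsg.Agent.H78.TEW
import Cfsg.Agent.H98.TdW1b
import Cfsg.Agent.H67.SAAB

/-! STD-2E6, slot W1b: in the wreath case `N(R₁ R₂) ≤ N(G₁)`. -/

set_option autoImplicit false
set_option linter.unusedSectionVars false

namespace H98.TeW

open H64.SG (Cz Cs Ns cjs UF Cs_le_Ns isPGroup_iff_is2 is2_one is2_of_sq)
open H81.SU (Ind cje indH ind_indH ind_one_iff range_cje)
open H92.SuW1b (tr ns_of ns_comm)
open H62.TW (CW pr G12 pr_mono pr_comm mem_Cs_G12 G12_comm)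
open H98.TdW (cj_K K_bot sw pr_K pr_comm' e_ns e_cs)
open H78.TW H98 Subgroup
open scoped commutatorElement

universe u

variable {X : Type} [Group X] [Finite X] {d : Sg X} {G : Type u} [Group G] [Finite G]
  {e e₁ e₂ : X →* G} {n t g : G} {A B C P : Subgroup X} {a b : X}

variable (f : WF d) (c : CW e t e₁ e₂)
include f

theorem p2 (h : A ≤ d.R) : IsPGroup 2 A := f.u.isP.to_le (h.trans f.u.RU)

theorem Z_cs : d.Z ≤ Cs d.R := f.u.zu.ge.trans inf_le_right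

theorem ZR : d.Z ≤ d.R := f.u.zu.ge.trans inf_le_left

theorem ZZ : ⁅d.Z, d.Z⁆ = ⊥ := commutator_eq_bot_iff_le_centralizer.2 (f.u.el.mono f.u.ZE).le_Cs

omit f in
theorem KR (ha : a ∈ d.R) (hA : A ≤ d.R) : ⁅zpowers a, A⁆ ≤ d.R :=
  commutator_le_of_le (zpowers_le.2 ha) hA

include c

theorem pr_le {A' B' : Subgroup X} (h1 : A ≤ d.R) (h2 : A' ≤ d.R) (h : pr e₁ e₂ A B ≤ pr e₁ e₂ A' B') :
    A ≤ A' ∧ B ≤ B' :=
  ⟨fun a ha => ((mem_pr2 f.i c (p2 f h2) (isPGroup_iff_is2.1 (p2 f h1) a ha)).1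
    (h (c.mem_pr.2 ⟨a, ha, 1, one_mem _, rfl⟩))).1, fun b hb =>
    ((mem_pr2 f.i c (p2 f h2) is2_one).1 (h (c.mem_pr.2 ⟨1, one_mem _, b, hb, rfl⟩))).2⟩

theorem permZ (h : n ∈ Ns (pr e₁ e₂ d.R d.R)) :
    cj n (pr e₁ e₂ d.Z ⊥) = pr e₁ e₂ d.Z ⊥ ∨ cj n (pr e₁ e₂ d.Z ⊥) = pr e₁ e₂ ⊥ d.Z := by
  obtain ⟨v, hv, k⟩ := f.u.vz
  obtain ⟨a, ha, b, hb, r⟩ := c.mem_pr.1
    (conj_mem_of_mem_normalizer h (c.mem_pr.2 ⟨v, hv, 1, one_mem _, rfl⟩))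
  have s := cj_K h (e₁ v * e₂ 1)
  rw [r, pr_K c, pr_K c, k, K_bot (one_mem _)] at s
  have cd : Nat.card (cj n (pr e₁ e₂ d.Z ⊥)) = Nat.card d.Z := by
    rw [card_cj, card_pr2 f.i c (p2 f (ZR f)), card_bot, mul_one]
  by_cases a1 : a ∈ d.Z
  · by_cases b1 : b ∈ d.Z
    · rw [K_bot (Z_cs f a1), K_bot (Z_cs f b1)] at s
      rw [s, card_pr2 f.i c (p2 f bot_le), card_bot] at cd
      exact absurd (card_eq_one.1 cd.symm).le f.u.neZ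
    · exact .inr (eq_of_le_of_card_ge (s ▸ pr_mono bot_le (f.u.nz b hb b1)) (by
        rw [cd, card_pr2 f.i c (p2 f bot_le), card_bot, one_mul])).symm
  · exact .inl (eq_of_le_of_card_ge (s ▸ pr_mono (f.u.nz a ha a1) bot_le) (by
      rw [cd, card_pr2 f.i c (p2 f (ZR f)), card_bot, mul_one])).symm

theorem nUZ (h : n ∈ Ns (pr e₁ e₂ d.R d.R)) (h2 : n ∈ Ns (pr e₁ e₂ ⊥ d.Z)) :
    n ∈ Ns (pr e₁ e₂ d.R d.Z) := ns_of fun g hg => by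
  obtain ⟨a, ha, b, hb, r⟩ := c.mem_pr.1
    (conj_mem_of_mem_normalizer h (pr_mono le_rfl (ZR f) hg))
  obtain ⟨x, hx, y, hy, rfl⟩ := c.mem_pr.1 hg
  refine c.mem_pr.2 ⟨a, ha, b, by_contra fun k => f.u.neZ ?_, r⟩
  have s := cj_K h (e₁ x * e₂ y)
  rw [r, pr_K c, pr_K c, K_bot (Z_cs f hy)] at s
  have := (cj_eq_self h2).le.trans ((pr_mono bot_le (f.u.nz b hb k)).trans s.ge)
  exact (pr_le f c bot_le (KR hx le_rfl) (cj_le_cj_iff.1 this)).2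

theorem chr (h : n ∈ Ns (pr e₁ e₂ d.R d.Z)) (h1 : n ∈ Ns (pr e₁ e₂ A B)) (hA : A ≤ d.R) (hB : B ≤ d.Z)
    (h2 : n ∈ Ns (pr e₁ e₂ C ⊥)) (hC : C ≤ d.R) (hP : P ≤ d.R)
    (k : ∀ u ∈ d.R, u ∈ P ↔ ⁅zpowers u, A⁆ ≤ C) : n ∈ Ns (pr e₁ e₂ P d.Z) := ns_of fun g hg => by
  obtain ⟨a, ha, b, hb, r⟩ := c.mem_pr.1 (conj_mem_of_mem_normalizer h (pr_mono hP le_rfl hg))
  obtain ⟨x, hx, y, hy, rfl⟩ := c.mem_pr.1 hg
  refine c.mem_pr.2 ⟨a, (k a ha).2 ?_, b, hb, r⟩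
  have s := cj_K h1 (e₁ x * e₂ y)
  rw [r, pr_K c, pr_K c, K_bot (centralizer_anti (hB.trans (ZR f)) (Z_cs f hy))] at s
  exact (pr_le f c (KR ha hA) hC (s.ge.trans
    (cj_le_of_le (pr_mono ((k x (hP hx)).1 hx) le_rfl) h2))).1

theorem nQ (h : n ∈ Ns (pr e₁ e₂ d.R d.Z)) (hZ : n ∈ Ns (pr e₁ e₂ d.Z ⊥)) :
    n ∈ Ns (pr e₁ e₂ d.Q d.Z) :=
  chr f c h (by have := ns_comm h; rwa [pr_comm' c, ZZ f] at this) (commutator_le_of_le le_rfl le_rfl)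
    bot_le hZ (ZR f) f.u.QR f.u.cQ

theorem nE (h : n ∈ Ns (pr e₁ e₂ d.R d.Z)) (hZ : n ∈ Ns (pr e₁ e₂ d.Z ⊥)) :
    n ∈ Ns (pr e₁ e₂ d.E ⊥) := by
  have := ns_comm (chr f c h (chr f c h h le_rfl le_rfl hZ (ZR f) f.u.VR f.u.cV) f.u.VR le_rfl (C := ⊥)
    (by simp [pr]) bot_le f.u.AR fun u hu => (f.u.cA u hu).trans
      (le_bot_iff.trans (commutator_eq_bot_iff_le_centralizer.trans zpowers_le)).symm)
  rwa [pr_comm' c, ZZ f, ← f.u.cE] at this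

variable (w : GW d e t e₁ e₂)
include w

omit f in
theorem inM (hE : d.E ≤ A) (h1 : n ∈ Ns (pr e₁ e₂ A B)) (h2 : n ∈ Ns (pr e₁ e₂ B A))
    (a2 : a * a = 1) (p1 : a ∈ Ns A) (p2 : a ∈ Cs B) : cje n e₁ a ∈ Ns (G12 e₁ e₂) := by
  refine tr w.uf (c.cjs_pr w.uf.inv.1 A B) (fun g hg => w.cE ?_) (by rw [← map_mul, a2, map_one])
    (mul_mem (mul_mem h1 (e_ns c p1)) (inv_mem h1))
    (conj_mem_of_mem_normalizer (normalizer_le_normalizer_centralizer _ h2) (e_cs c p2))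
  rintro _ ⟨b, hb, rfl⟩
  rw [c.diag, mul_assoc, hg.2 _ (mem_sup_right ⟨b, hE hb, rfl⟩), ← mul_assoc,
    hg.1 _ (mem_sup_left ⟨b, hE hb, rfl⟩), mul_assoc]

/-- an image of `X` in `N(G₁)` lies in `G₁` -/
theorem le_G12 {k : X →* G} (hk : k.range ≤ Ns (G12 e₁ e₂)) : k.range ≤ G12 e₁ e₂ := by
  have pf : ∀ {H : Type u} [Group H] (k : X →* H), k.range ≤ ⁅k.range, k.range⁆ := fun k => by
    rw [MonoidHom.range_eq_map, ← map_commutator]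
    exact map_mono f.i.perf.ge
  have N : k.range ≤ Ns e₁.range ⊓ Ns e₂.range := (pf k).trans (commutator_le.2 fun a ha b hb => by
    have sq : ∀ x ∈ k.range, x * x ∈ Ns e₁.range ⊓ Ns e₂.range := fun x hx =>
      (w.pm x (hk hx)).elim (fun r => mul_mem (mem_inf.2 r) (mem_inf.2 r)) fun r =>
        ⟨cj_eq_self_iff.1 ((cj_cj x x _).symm.trans ((congrArg _ r.1).trans r.2)),
          cj_eq_self_iff.1 ((cj_cj x x _).symm.trans ((congrArg _ r.2).trans r.1))⟩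
    rw [show ⁅a, b⁆ = a * a * (a⁻¹ * b * (a⁻¹ * b)) * (b⁻¹ * b⁻¹) by
      rw [commutatorElement_def]; group]
    exact mul_mem (mul_mem (sq a ha) (sq _ (mul_mem (inv_mem ha) hb))) (sq _ (inv_mem hb)))
  have inn : ∀ {e₁ : X →* G}, Function.Injective e₁ → k.range ≤ Ns e₁.range → ∀ x : X, x * x = 1 →
      ∃ s, Ind e₁ (k x) (MulAut.conj s) := fun i h x x2 => by
    let ψ := (indH i).comp (k.codRestrict _ fun y => h ⟨y, rfl⟩)
    obtain ⟨s, hs⟩ := f.a.a3 (ψ x) (Subgroup.closure_mono (fun _ r => And.intro trivial r.2)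
      (H67.SA.le_O2_of_perfect (N := ψ.range) (by
        rw [MonoidHom.range_eq_map, ← map_commutator]
        exact map_mono f.i.perf.ge) ⟨x, rfl⟩)) (is2_of_sq (by rw [← map_mul, x2, map_one]))
    exact ⟨s, hs ▸ ind_indH i ⟨k x, h ⟨x, rfl⟩⟩⟩
  have key : ∀ x : X, x * x = 1 → k x ∈ G12 e₁ e₂ := fun x x2 => by
    obtain ⟨s, i⟩ := inn c.inj (N.trans inf_le_left) x x2
    obtain ⟨s', j⟩ := inn c.inj₂ (N.trans inf_le_right) x x2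
    have hz : k x * (e₁ s * e₂ s')⁻¹ ∈ _ := mem_Cs_G12.2
      ⟨ind_one_iff.1 (by simpa using i.mul (c.ind₁ s s').inv),
        ind_one_iff.1 (by simpa using j.mul (c.ind₂ s s').inv)⟩
    have hg := c.mem_G12.2 ⟨s, s', rfl⟩
    obtain ⟨m, hm⟩ := H64.SG.odd_orderOf_of_mem w.odd hz
    have := (Commute.mul_pow (hz _ hg).symm (2 * m + 1)).symm
    rw [inv_mul_cancel_right, ← hm, pow_orderOf_eq_one, one_mul, hm, pow_succ (k x), pow_mul, pow_two,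
      ← map_mul, x2, map_one, one_pow, one_mul] at this
    exact this ▸ pow_mem hg _
  rw [MonoidHom.range_eq_map, ← f.i.gen, MonoidHom.map_closure, closure_le]
  rintro _ ⟨x, hx | hx, rfl⟩
  exacts [key x hx.1, key x hx.1]

theorem l1 (h : n ∈ Ns (pr e₁ e₂ d.R d.R)) (h1 : n ∈ Ns (pr e₁ e₂ d.Z ⊥))
    (h2 : n ∈ Ns (pr e₁ e₂ ⊥ d.Z)) : cj n e₁.range ≤ G12 e₁ e₂ := by
  have c' := c.symm w.uf.inv.1
  have a := nUZ f c h h2
  have b := nUZ f c' (sw h) (sw h1)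
  refine range_cje.ge.trans (le_G12 f c w ?_)
  rw [MonoidHom.range_eq_map, ← f.i.gen, MonoidHom.map_closure, closure_le]
  rintro _ ⟨x, hx | hx, rfl⟩
  · exact inM c w le_rfl (nE f c a h1) (sw (nE f c' b (sw h2))) hx.1 hx.2
      fun y hy => by rw [mem_bot.1 hy, one_mul, mul_one]
  · exact inM c w f.u.EQ (nQ f c a h1) (sw (nQ f c' b (sw h2))) hx.1 hx.2.1 hx.2.2

theorem fixed (h : n ∈ Ns (pr e₁ e₂ d.R d.R)) (h1 : cj n (pr e₁ e₂ d.Z ⊥) = pr e₁ e₂ d.Z ⊥) :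
    n ∈ Ns (G12 e₁ e₂) := by
  have c' := c.symm w.uf.inv.1
  have h2 := (permZ f c' (sw h)).resolve_right fun r => by
    rw [pr_comm, pr_comm (e₁ := e₁), ← h1] at r
    exact f.u.neZ (pr_le f c bot_le (ZR f) (cj_inj.1 r).le).2
  have h1 := cj_eq_self_iff.1 h1
  have h2 := cj_eq_self_iff.1 h2
  refine mem_normalizer_of_cj_le ((cj_sup _ _ _).le.trans (sup_le (l1 f c w h h1 (sw h2)) ?_))
  exact (l1 f c' w.symm (sw h) h2 (sw h1)).trans G12_comm.le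

omit f c w in
theorem jobW1b : JobW1b.{u} := fun _ _ _ d f _ _ _ _ t _ e₁ e₂ c w n hn => by
  obtain h | h := permZ f c hn
  · exact fixed f c w hn h
  · exact (mul_mem_cancel_left w.uf.mem).1 (fixed f c w (mul_mem (c.t_mem_Ns w.uf.inv.1 _) hn)
      ((cj_cj t n _).symm.trans ((congrArg _ h).trans (c.cjs_pr w.uf.inv.1 _ _))))

end H98.TeW
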