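import Cfsg.Agent.H78.TEW

/-! STD-2E6, slot WL: the facts pass to a perfect central cover with kernel of odd order. -/

set_option autoImplicit false
set_option linter.unusedSectionVars false

namespace H98.TeL

open H64.SG (O2 Cz Cs Ns Is2 Inv2 IsO2 fx mem_Cz mem_fx isPGroup_iff_is2 is2_one is2_of_sq O2_eq syl_iff)
open H67.SA (St cI mem_cI mem_St_of_finite)
open H78.TW H98 Subgroup
open scoped commutatorElement

variable {X Y : Type} [Group X] [Group Y] [Finite X] [Finite Y] {π : Y →* X} {S T U : Subgroup X}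
  {A B : Subgroup Y} {a b y : Y} {β : MulAut Y}

/-- the `2`-elements over a `2`-subgroup -/
noncomputable abbrev lf (π : Y →* X) (S : Subgroup X) : Subgroup Y := Cfsg.pCoreOf 2 (S.comap π)

theorem isP_lf : IsPGroup 2 (lf π S) := isPGroup_pCoreOf _

theorem is2_lf (h : y ∈ lf π S) : Is2 y := isPGroup_iff_is2.1 isP_lf y h

theorem pi_lf (h : y ∈ lf π S) : π y ∈ S := pCoreOf_le (S.comap π) h

variable (o : OC π)
include o

theorem eq2 (ha : Is2 a) (hb : Is2 b) (h : π a = π b) : a = b := by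
  have k : a⁻¹ * b ∈ π.ker := by simp [h]
  have h1 := mem_center_iff.1 (o.cen k) a
  rw [mul_inv_cancel_left, ← mul_inv_eq_iff_eq_mul] at h1
  exact inv_mul_eq_one.1 ((ha.inv.mul hb h1.symm).eq_one (H64.SG.odd_orderOf_of_mem o.odd k))

theorem cm2 (ha : Is2 a) (h : π a * π b = π b * π a) : a * b = b * a :=
  (mul_inv_eq_iff_eq_mul.1 (eq2 o (ha.conj b) ha (by simp [← h]))).symm

theorem mem_lf (hS : IsPGroup 2 S) : y ∈ lf π S ↔ Is2 y ∧ π y ∈ S := by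
  refine ⟨fun h => ⟨is2_lf h, pi_lf h⟩, fun h => ?_⟩
  obtain ⟨P, hP, r⟩ := exists_isSyl_le h.1.zpowers (zpowers_le.2 h.2 : _ ≤ S.comap π)
  refine (hP.eq_pCoreOf (hP.sup_res.ge.trans (sup_le le_normalizer ((res_le_of_forall_pow fun x hx =>
    ?_).trans (o.cen.trans (center_le_normalizer _)))))).le (r (mem_zpowers y))
  simpa using isPGroup_iff_forall.1 hS _ hx

theorem ex2 {x : X} (h : Is2 x) : ∃ y, Is2 y ∧ π y = x := by
  obtain ⟨y, rfl⟩ := o.surj x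
  obtain ⟨i, j, e, h1, h2⟩ := H64.SG.exists_two_odd y
  have : π (y ^ j) = 1 := (map_pow π y j ▸ h.pow j).eq_one (h2.of_dvd_nat (orderOf_map_dvd π _))
  exact ⟨_, h1, by conv_rhs => rw [e, map_mul, this, mul_one]⟩

theorem ex_lf (hS : IsPGroup 2 S) {x : X} (h : x ∈ S) : ∃ y ∈ lf π S, π y = x := by
  obtain ⟨y, h1, rfl⟩ := ex2 o (isPGroup_iff_is2.1 hS x h)
  exact ⟨y, (mem_lf o hS).2 ⟨h1, h⟩, rfl⟩

theorem map_lf (hS : IsPGroup 2 S) : (lf π S).map π = S :=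
  le_antisymm (map_le_iff_le_comap.2 (pCoreOf_le _)) fun _ => ex_lf o hS

theorem eq_lf (hA : IsPGroup 2 A) : A = lf π (A.map π) :=
  le_antisymm (fun y h => (mem_lf o (hA.map π)).2 ⟨isPGroup_iff_is2.1 hA y h, y, h, rfl⟩) fun y h => by
    obtain ⟨a, ha, e⟩ := pi_lf h
    exact eq2 o (isPGroup_iff_is2.1 hA a ha) (is2_lf h) e ▸ ha

theorem lf_mono (hT : IsPGroup 2 T) (h : S ≤ T) : lf π S ≤ lf π T :=
  fun _ r => (mem_lf o hT).2 ⟨is2_lf r, h (pi_lf r)⟩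

theorem lf_le (hS : IsPGroup 2 S) (hT : IsPGroup 2 T) : lf π S ≤ lf π T ↔ S ≤ T :=
  ⟨fun h => (map_lf o hS).ge.trans ((map_mono h).trans (map_lf o hT).le), lf_mono o hT⟩

theorem card_lf (hS : IsPGroup 2 S) : Nat.card (lf π S) = Nat.card S :=
  Nat.card_congr (Equiv.ofBijective (fun y => ⟨π y, pi_lf y.2⟩) ⟨fun a b h => Subtype.ext
    (eq2 o (is2_lf a.2) (is2_lf b.2) (congrArg Subtype.val h)), fun x =>
      let ⟨y, h, e⟩ := ex_lf o hS x.2; ⟨⟨y, h⟩, Subtype.ext e⟩⟩)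

theorem ns_lf (hS : IsPGroup 2 S) (h : π y ∈ Ns S) : y ∈ Ns (lf π S) :=
  mem_normalizer_fintype fun a ha => (mem_lf o hS).2 ⟨(is2_lf ha).conj y,
    by simpa using conj_mem_of_mem_normalizer h (pi_lf ha)⟩

theorem cs_lf (hS : IsPGroup 2 S) : y ∈ Cs (lf π S) ↔ π y ∈ Cs S :=
  ⟨fun h x hx => by
    obtain ⟨a, ha, rfl⟩ := ex_lf o hS hx
    rw [← map_mul, h a ha, map_mul], fun h a ha => cm2 o (is2_lf ha) (h _ (pi_lf ha))⟩

theorem cz_iff (h : Is2 y) : a ∈ Cz y ↔ π a ∈ Cz (π y) :=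
  ⟨fun r => mem_Cz.2 (by rw [← map_mul, mem_Cz.1 r, map_mul]), fun r => mem_Cz.2 (cm2 o h (mem_Cz.1 r))⟩

theorem comm_lf (hA : A ≤ lf π U) (hB : B ≤ lf π U) : ⁅A, B⁆ = lf π ⁅A.map π, B.map π⁆ := by
  rw [← map_commutator]; exact eq_lf o (isP_lf.to_le (commutator_le_of_le hA hB))

theorem K_lf (hU : IsPGroup 2 U) (hy : y ∈ lf π U) (hS : S ≤ U) :
    ⁅zpowers y, lf π S⁆ = lf π ⁅zpowers (π y), S⁆ := by
  rw [comm_lf o (zpowers_le.2 hy) (lf_mono o hU hS), MonoidHom.map_zpowers, map_lf o (hU.to_le hS)]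

theorem CC_lf (hS : IsPGroup 2 S) : ⁅lf π S, lf π S⁆ = lf π ⁅S, S⁆ := by
  rw [comm_lf o le_rfl le_rfl, map_lf o hS]

omit o in
theorem cl_map {s : Set X} {s' : Set Y} (h : ∀ x ∈ s, ∃ y ∈ s', π y = x) :
    closure s ≤ (closure s').map π := by
  rw [MonoidHom.map_closure]; exact closure_mono h

theorem le_cl {s : Set X} {s' : Set Y} (h1 : ∀ y ∈ s', y ∈ lf π S) (h2 : S ≤ closure s)
    (h : ∀ x ∈ s, ∃ y ∈ s', π y = x) : lf π S ≤ closure s' :=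
  have p := isP_lf.to_le ((closure_le _).2 h1)
  (lf_mono o (p.map π) (h2.trans (cl_map h))).trans (eq_lf o p).ge

theorem top_of_map (h : ⊤ ≤ A.map π) : A = ⊤ := by
  have k : ∀ y, ∃ a ∈ A, ∃ z ∈ center Y, y = a * z := fun y => by
    obtain ⟨a, ha, e⟩ := h (mem_top (π y))
    exact ⟨a, ha, a⁻¹ * y, o.cen (by simp [e]), by simp⟩
  refine top_le_iff.1 (o.perf.ge.trans (commutator_le.2 fun a _ b _ => ?_))
  obtain ⟨a, ha, z, hz, rfl⟩ := k a
  obtain ⟨b, hb, w, hw, rfl⟩ := k b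
  have : ⁅a * z, b * w⁆ = ⁅a, b⁆ := by
    calc _ = a * (z * (b * w)) * z⁻¹ * a⁻¹ * w⁻¹ * b⁻¹ := by rw [commutatorElement_def]; group
      _ = a * b * (w * a⁻¹) * w⁻¹ * b⁻¹ := by rw [← mem_center_iff.1 hz]; group
      _ = _ := by rw [← mem_center_iff.1 hw, commutatorElement_def]; group
  exact this ▸ commutator_le_of_le le_rfl le_rfl (commutator_mem_commutator ha hb)

theorem sq_lift {x : X} (h : x * x = 1) : ∃ y, y * y = 1 ∧ π y = x := by
  obtain ⟨y, h1, rfl⟩ := ex2 o (is2_of_sq h)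
  exact ⟨y, eq2 o (h1.mul h1 rfl) is2_one (by simp [h]), rfl⟩

theorem inv2 (h : Inv2 y) : Inv2 (π y) := ⟨by rw [← map_mul, h.1, map_one],
  fun e => h.2 (eq2 o (is2_of_sq h.1) is2_one (by simp [e]))⟩

variable (hc : center X = ⊥)
include hc

theorem cen_le : center Y ≤ π.ker := fun y hy => hc.le (mem_center_iff.2 fun x => by
  obtain ⟨a, rfl⟩ := o.surj x
  rw [← map_mul, mem_center_iff.1 hy, map_mul])

theorem ex_bar (β : MulAut Y) : ∃ γ : MulAut X, ∀ y, γ (π y) = π (β y) := by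
  let f := π.liftOfRightInverse _ (Function.rightInverse_surjInv o.surj) ⟨π.comp β.toMonoidHom,
    fun y hy => cen_le o hc (mem_center_iff.2 fun a => by
      obtain ⟨a, rfl⟩ := β.surjective a
      exact (map_mul β a y).symm.trans ((congrArg β (mem_center_iff.1 (o.cen hy) a)).trans (map_mul β y a)))⟩
  have k : ∀ y, f (π y) = π (β y) := π.liftOfRightInverse_comp_apply _ _ _
  exact ⟨MulEquiv.ofBijective f (Finite.surjective_iff_bijective.1 fun x => by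
    obtain ⟨y, rfl⟩ := (o.surj.comp β.surjective) x
    exact ⟨_, k y⟩), k⟩

/-- the induced automorphism -/
noncomputable def bar : MulAut Y →* MulAut X :=
  MonoidHom.mk' (fun β => (ex_bar o hc β).choose) fun a b => MulEquiv.ext fun x => by
    obtain ⟨y, rfl⟩ := o.surj x
    rw [MulAut.mul_apply, (ex_bar o hc _).choose_spec, (ex_bar o hc _).choose_spec,
      (ex_bar o hc _).choose_spec, MulAut.mul_apply]

theorem bar_pi (β : MulAut Y) (y : Y) : bar o hc β (π y) = π (β y) := (ex_bar o hc β).choose_spec y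

theorem bar_conj (y : Y) : bar o hc (MulAut.conj y) = MulAut.conj (π y) := MulEquiv.ext fun x => by
  obtain ⟨a, rfl⟩ := o.surj x
  simp [bar_pi]

theorem fx_iff (h : Is2 y) : y ∈ fx β ↔ π y ∈ fx (bar o hc β) :=
  ⟨fun r => (bar_pi o hc β y).trans (congrArg π r), fun r =>
    eq2 o (h.map β.toMonoidHom) h ((bar_pi o hc β y).symm.trans r)⟩

theorem st_bar (hS : IsPGroup 2 S) : β ∈ St (lf π S) ↔ bar o hc β ∈ St S :=
  ⟨fun h => mem_St_of_finite fun x hx => by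
    obtain ⟨a, ha, rfl⟩ := ex_lf o hS hx
    exact bar_pi o hc β a ▸ pi_lf ((h a).1 ha), fun h => mem_St_of_finite fun a ha => (mem_lf o hS).2
      ⟨(is2_lf ha).map β.toMonoidHom, bar_pi o hc β a ▸ (h _).1 (pi_lf ha)⟩⟩

variable {d : Sg X} (f : WF d)
include f

theorem bar_inj : Function.Injective (bar o hc) := (injective_iff_map_eq_one _).2 fun β h => by
  have : fx β = ⊤ := top_of_map o (f.i.gen.ge.trans ((closure_le _).2 fun x hx => by
    obtain ⟨y, h1, rfl⟩ := sq_lift o (hx.elim (·.1) (·.1))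
    exact ⟨y, (fx_iff o hc (is2_of_sq h1)).2 (by rw [h]; rfl), rfl⟩))
  exact MulEquiv.ext fun y => this.ge (mem_top y)

theorem cI_bar (hS : IsPGroup 2 S) : β ∈ cI (lf π S) ↔ bar o hc β ∈ cI S :=
  ⟨fun h => by
    obtain ⟨a, ha, rfl⟩ := mem_cI.1 h
    exact mem_cI.2 ⟨_, pi_lf ha, bar_conj o hc a⟩, fun h => by
    obtain ⟨x, hx, e⟩ := mem_cI.1 h
    obtain ⟨a, ha, rfl⟩ := ex_lf o hS hx
    exact mem_cI.2 ⟨a, ha, bar_inj o hc f (e.trans (bar_conj o hc a).symm)⟩⟩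

omit o hc f in
/-- the lifted subgroups -/
noncomputable def up (π : Y →* X) (d : Sg X) : Sg Y :=
  ⟨d.q, lf π d.U, lf π d.R, lf π d.Q, lf π d.A, lf π d.V, lf π d.E, lf π d.Z⟩

omit hc in
theorem wu : WU (up π d) := by
  have u := f.u
  have pU := u.isP
  have pR := pU.to_le u.RU
  have pQ := pR.to_le u.QR
  have pE := pQ.to_le u.EQ
  have pZ := pE.to_le u.ZE
  have pA := pR.to_le u.AR
  have pV := pR.to_le u.VR
  have K : ∀ {y} {S : Subgroup X}, y ∈ lf π d.R → S ≤ d.R → IsPGroup 2 ↥⁅zpowers (π y), S⁆ := fun h h' =>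
    pR.to_le (commutator_le_of_le (zpowers_le.2 (pi_lf h)) h')
  have m : ∀ {y} {S : Subgroup X}, y ∈ lf π d.R → IsPGroup 2 S → (y ∈ lf π S ↔ π y ∈ S) := fun h h' =>
    (mem_lf o h').trans (and_iff_right (is2_lf h))
  have RR : ⁅d.R, d.R⁆ ≤ d.R := commutator_le_of_le le_rfl le_rfl
  refine ⟨u.two_le, isP_lf, (card_lf o pU).trans u.cardU, u.cardE.trans_eq (card_lf o pE).symm,
    fun h => u.neZ ((map_lf o pZ).ge.trans ((map_mono h).trans (map_bot π).le)), lf_mono o pE u.ZE,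
    lf_mono o pQ u.EQ, lf_mono o pR u.QR, lf_mono o pR u.AR, lf_mono o pR u.VR, lf_mono o pU u.RU,
    fun y h => eq2 o ((is2_lf h).mul (is2_lf h) rfl) is2_one (by simpa using u.el _ (pi_lf h)),
    fun y h => ns_lf o pQ (u.nQ (pi_lf h)), fun y h => ns_lf o pE (u.nE (pi_lf h)),
    le_antisymm (fun y h => (m h.1 pZ).2 (u.zu.le ⟨pi_lf h.1, (cs_lf o pR).1 h.2⟩)) fun y h =>
      ⟨lf_mono o pR (u.zu.ge.trans inf_le_left) h, (cs_lf o pR).2 (u.zu.ge (pi_lf h)).2⟩,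
    fun y h r => (lf_mono o (K h le_rfl) (u.nz _ (pi_lf h) (mt (m h pZ).2 r))).trans (K_lf o pR h le_rfl).ge,
    ?_, fun y h => ?_, fun y h => ?_, fun y h => (m h pA).trans ((u.cA _ (pi_lf h)).trans (cs_lf o pV).symm),
    (congrArg _ u.cE).trans (CC_lf o pA).symm, le_cl o (fun _ h => h.1) u.invU fun x hx => ?_,
    le_cl o (fun _ h => h.1) u.cl fun x hx => ?_⟩
  · obtain ⟨v, hv, e⟩ := u.vz
    obtain ⟨y, hy, rfl⟩ := ex_lf o pR hv
    exact ⟨y, hy, (K_lf o pR hy le_rfl).trans (congrArg _ e)⟩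
  · change _ ↔ ⁅_, ⁅lf π d.R, lf π d.R⁆⁆ ≤ lf π d.Z
    rw [CC_lf o pR, K_lf o pR h RR, lf_le o (K h RR) pZ]
    exact (m h pQ).trans (u.cQ _ (pi_lf h))
  · change _ ↔ ⁅_, lf π d.R⁆ ≤ lf π d.Z
    rw [K_lf o pR h le_rfl, lf_le o (K h le_rfl) pZ]
    exact (m h pV).trans (u.cV _ (pi_lf h))
  · obtain ⟨y, h, rfl⟩ := sq_lift o hx.2
    exact ⟨y, ⟨(mem_lf o pU).2 ⟨is2_of_sq h, hx.1⟩, h⟩, rfl⟩
  · obtain ⟨y, h, rfl⟩ := ex_lf o pR hx.1
    refine ⟨y, ⟨h, hx.2.trans ((card_lf o (pU.to_le inf_le_left)).ge.trans (card_le_of_le fun a ha => ?_))⟩, rfl⟩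
    exact ⟨lf_mono o pU inf_le_left ha, (cz_iff o (is2_lf h)).2 (pi_lf ha).2⟩

theorem wi : WI (up π d) := by
  have pQ := f.u.isP.to_le (f.u.QR.trans f.u.RU)
  have pE := pQ.to_le f.u.EQ
  refine ⟨fun N hN => (f.i.qs _ (hN.map π o.surj)).imp (fun h => ?_) fun h => top_of_map o h.ge, o.perf,
    le_antisymm (cen_le o hc) o.cen ▸ o.odd, (syl_iff (G := Y)).2 ⟨le_top, isP_lf, fun P h1 h2 _ => ?_⟩,
    top_of_map o (f.i.gen.ge.trans (cl_map fun x hx => ?_)), fun y hy => ?_⟩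
  · exact (map_eq_bot_iff N |>.1 (le_bot_iff.1 (h.trans hc.le))).trans o.cen
  · rw [eq_lf o h1, (syl_iff.1 f.i.syl).eq_of_le (h1.map π)
      ((map_lf o f.u.isP).ge.trans (map_mono h2)) le_top]; rfl
  · obtain ⟨y, h, rfl⟩ := sq_lift o (hx.elim (·.1) (·.1))
    exact ⟨y, hx.imp (fun r => ⟨h, ns_lf o pE r.2⟩) fun r =>
      ⟨h, ns_lf o pQ r.2.1, (cs_lf o (pE.to_le f.u.ZE)).2 r.2.2⟩, rfl⟩
  · obtain ⟨x, hx⟩ := f.i.ic _ (inv2 o hy)
    obtain ⟨a, rfl⟩ := o.surj x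
    exact ⟨a, (mem_lf o pE).2 ⟨(is2_of_sq hy.1).conj a, by simpa using hx⟩⟩

theorem wa : WA (up π d) := by
  have pU := f.u.isP
  have pR := pU.to_le f.u.RU
  have pE := pR.to_le (f.u.EQ.trans f.u.QR)
  have i := bar_inj o hc f
  refine ⟨fun β h h2 => ?_, fun β h => (cI_bar o hc f pE).2 (f.a.ctE _ fun x hx => ?_),
    fun β h => (st_bar o hc pR).2 (f.a.nr ((st_bar o hc pU).1 h)),
    fun β h => (st_bar o hc pE).2 (f.a.nu ((st_bar o hc pU).1 h)), fun β h h2 h3 => ?_,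
    fun B h => card_map_of_injective (K := B) i ▸ f.a.ab _ (h.map _), fun β h => ?_,
    fun y D β h1 h2 h3 h4 => i ((f.a.oc _ (D.map π) _ (inv2 o h1) ⟨?_, fun x hx => ?_, h2.2.2.1.map π,
      fun R r1 r2 r3 => ?_⟩ ?_ (orderOf_injective _ i β ▸ h4)).trans (map_one _).symm)⟩
  · rw [O2_eq] at h
    obtain ⟨x, hx⟩ := f.a.a3 _ (by
      rw [O2_eq]; exact res_mono le_top (map_res_le (bar o hc) ⊤ ⟨β, h, rfl⟩)) (h2.map _)
    obtain ⟨a, rfl⟩ := o.surj x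
    exact ⟨a, i (hx.trans (bar_conj o hc a).symm)⟩
  · obtain ⟨a, ha, rfl⟩ := ex_lf o pE hx
    rw [bar_pi, h a ha]
  · refine le_trans (Nat.mul_le_mul_left _ ((card_le_of_le fun a ha => ?_).trans
      (card_lf o (pU.to_le inf_le_left)).le)) ((f.a.ub _ ((st_bar o hc pU).1 h) (h2.map _)
        (mt (cI_bar o hc f pR).2 h3)).trans (card_lf o pU).ge)
    exact (mem_lf o (pU.to_le inf_le_left)).2
      ⟨is2_lf ha.1, pi_lf ha.1, (fx_iff o hc (is2_lf ha.1)).1 ha.2⟩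
  · obtain ⟨P, h1, h2, h3⟩ := f.a.sz (bar o hc β) (by rw [← map_mul, h, map_one])
    exact ⟨_, fun a ha => (fx_iff o hc (is2_lf ha)).2 (h1 (pi_lf ha)), isP_lf, h3.trans (card_lf o h2).ge⟩
  · rintro _ ⟨a, ha, rfl⟩
    exact (cz_iff o (is2_of_sq h1.1)).1 (h2.1 ha)
  · obtain ⟨a, rfl⟩ := o.surj x
    exact le_normalizer_map π ⟨a, h2.2.1 ((cz_iff o (is2_of_sq h1.1)).2 hx), rfl⟩
  · exact (map_lf o r3).ge.trans (map_mono (h2.2.2.2 _
      (fun a ha => (cz_iff o (is2_of_sq h1.1)).2 (r1 (pi_lf ha)))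
      (fun a ha => ns_lf o r3 (r2 ((cz_iff o (is2_of_sq h1.1)).1 ha))) isP_lf))
  · rintro _ ⟨a, ha, rfl⟩
    rw [bar_pi, h3 a ha]

omit o hc f in
theorem jobWL : JobWL := fun _ _ _ d f hc _ _ _ π o => ⟨up π d, rfl, wu o f, wi o hc f, wa o hc f⟩

end H98.TeL
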