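import Cfsg.Agent.H64.SFMod

/-! STD-F4, slot EA: the facts on the model, lifted to `G₁`. -/

set_option autoImplicit false
set_option linter.unusedSectionVars false

namespace H98.SfEA

open H64.SG (Cz Cs Ns cjs Is2 Cov is2_of_sq syl_iff odd_orderOf_of_mem)
open H67.SA (cm IG le_IG IG_le mem_IG mem_sup_zp)
open H64.SF H98 Subgroup
open H86.WR (XF)
open scoped commutatorElement

universe u

section
variable {Y : Type} [Group Y] {G : Type u} [Group G] [Finite G] {L : Subgroup G} (c : Cov Y L)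
  {t v w : G}

theorem le_of_im (hp : L ≤ ⁅L, L⁆) {H : Subgroup G} (h : ⊤ ≤ c.im H) : L ≤ H := by
  have k : ∀ a ∈ L, ∃ a' ∈ H, a' ∈ L ∧ ∀ b ∈ L, ⁅a, b⁆ = ⁅a', b⁆ := fun a ha => by
    obtain ⟨n, h1, h2, h3⟩ := c.mem_im.1 (h (mem_top (c.pi a)))
    refine ⟨n, h1, h2, fun b hb => ?_⟩
    have h4 := c.ker_cen _ (mul_mem (inv_mem h2) ha) (by
      rw [c.pi_mul _ (inv_mem h2) _ ha, c.pi_inv h2, h3, inv_mul_cancel]) b hb
    calc _ = n * (n⁻¹ * a * b) * a⁻¹ * b⁻¹ := by rw [commutatorElement_def]; group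
      _ = _ := by rw [← h4, commutatorElement_def]; group
  refine hp.trans (commutator_le.2 fun a ha b hb => ?_)
  obtain ⟨a', h1, h2, h3⟩ := k a ha
  obtain ⟨b', h4, -, h5⟩ := k b hb
  rw [h3 b hb, ← commutatorElement_inv, h5 a' h2, commutatorElement_inv]
  exact commutator_le_of_le le_rfl le_rfl (commutator_mem_commutator h1 h4)

theorem pi_tw (ht : t ∈ Ns L) (hv : v ∈ L) (hw : w ∈ L) :
    w * v * (t * w⁻¹ * t⁻¹) ∈ L ∧ c.pi (w * v * (t * w⁻¹ * t⁻¹)) = c.pi w * c.pi v * (c.ac t (c.pi w))⁻¹ := by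
  have h1 := conj_mem_of_mem_normalizer ht (inv_mem hw)
  exact ⟨mul_mem (mul_mem hw hv) h1, by rw [c.pi_mul _ (mul_mem hw hv) _ h1, c.pi_mul _ hw _ hv,
    c.ac_pi _ ht _ (inv_mem hw), c.pi_inv hw, map_inv]⟩

theorem pi_sq (ht : t ∈ Ns L) (t2 : t * t = 1) (hv : v ∈ L) (h : v * t * (v * t) = 1) :
    c.pi v * c.ac t (c.pi v) = 1 := by
  rw [← c.ac_pi _ ht _ hv, ← c.pi_mul _ hv _ (conj_mem_of_mem_normalizer ht hv),
    inv_eq_of_mul_eq_one_right t2, ← c.pi_one, ← h]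
  simp only [mul_assoc]

/-- Twisted conjugacy lifts. -/
theorem lift (ht : t ∈ Ns L) (hv : v ∈ L) (hw : w ∈ L) (v2 : v * t * (v * t) = 1)
    (w2 : w * t * (w * t) = 1) {y : Y} (h : c.pi v = y * c.pi w * (c.ac t y)⁻¹) :
    ∃ g ∈ L, v * t = g * (w * t) * g⁻¹ := by
  obtain ⟨y, hy, rfl⟩ := c.surj y
  obtain ⟨h1, h2⟩ := pi_tw c ht hw hy
  have b2 : y * (w * t) * y⁻¹ * (y * (w * t) * y⁻¹) = 1 := by rw [conj_mul, w2]; simp
  have e : v * t * (y * (w * t) * y⁻¹) = v * (y * w * (t * y⁻¹ * t⁻¹))⁻¹ := by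
    rw [← inv_eq_of_mul_eq_one_right b2]; group
  have h3 := mul_mem hv (inv_mem h1)
  obtain ⟨k, hk⟩ := c.ker_odd _ h3 (by rw [c.pi_mul _ hv _ (inv_mem h1), c.pi_inv h1, h2, h, mul_inv_cancel])
  have := H9.UF.dih v2 b2 k
  rw [← hk, ← e, pow_orderOf_eq_one, mul_one] at this
  exact ⟨_, mul_mem (inv_mem (pow_mem (e ▸ h3) k)) hy, this.symm.trans (by group)⟩

end

theorem jobEA : JobEA.{u} := by
  intro F _ _ _ Y _ _ G _ _ ι τ Gd U A e t G₁ c Us m h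
  have t2 := h.inv.1
  have eL : ∀ u, e u ∈ G₁ := fun u => h.le ⟨u, rfl⟩
  have nt : t ∉ G₁ := fun r => m.tne (by
    rw [← h.act, c.ac_of_mem r]
    exact (map_mono m.ns.perfect).trans ((map_commutator _ _ MulAut.conj).le.trans
      (commutator_mono le_top le_top)) ⟨_, trivial, rfl⟩)
  have odd : Odd (Nat.card (Cs G₁)) := h.toCE.odd_of (centralizer_anti h.le)
    (normalizer_le_normalizer_centralizer _ h.tn) fun r => m.tne (by
      rw [← h.act, c.ac_of_Cs r]; exact one_mem _)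
  have et : ∀ {u}, u * u = 1 → e u * t * (e u * t) = 1 := fun hu => by
    rw [mul_assoc, ← mul_assoc t, h.comm, mul_assoc _ t, t2, mul_one, ← map_mul, hu, map_one]
  have L := fun {v w} => lift c (v := v) (w := w) h.tn
  have L1 : ∀ {v y}, v ∈ G₁ → v * t * (v * t) = 1 → c.pi v = y * (τ y)⁻¹ →
      ∃ g ∈ G₁, v * t = g * t * g⁻¹ := fun hv v2 r => by
    simpa using L hv (one_mem _) v2 (by simpa using t2) (by rw [c.pi_one, mul_one, h.act, r])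
  have L2 : ∀ {v y a}, v ∈ G₁ → v * t * (v * t) = 1 → c.pi v = y * ι (x F 47 a) * (τ y)⁻¹ →
      ∃ g ∈ G₁, v * t = g * (t * e (x F 47 a)) * g⁻¹ := fun hv v2 r =>
    h.comm _ ▸ L hv (eL _) v2 (et (x_sq (by decide) _)) (by rw [h.pi, h.act, r])
  have tx : ∀ u, u * u = 1 → Gd u → ∃ w ∈ G₁, t * e u = w * t * w⁻¹ := fun u h1 h2 =>
    let ⟨g, hg⟩ := m.gdc u h1 h2
    h.comm u ▸ L1 (eL u) (et h1) ((h.pi u).trans hg)
  have UL : Us ≤ G₁ := fun g hg => ((h.up g).1 hg).1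
  have tU : t ∈ Ns Us := mem_normalizer_fintype fun g hg =>
    have r := (h.up g).1 hg
    (h.up _).2 ⟨conj_mem_of_mem_normalizer h.tn r.1, r.2.1.conj t, by
      rw [c.ac_pi _ h.tn _ r.1, h.act]; exact (m.stU _).1 r.2.2⟩
  have cb := fun v (hv : v ∈ Us) v2 => m.cob _ ((h.up v).1 hv).2.2 (h.act ▸ pi_sq c h.tn t2 (UL hv) v2)
  refine ⟨odd, ?_, tx, fun v hv v2 => ?_, fun v hv r => ?_, fun z hz z2 => ?_, fun n h1 h2 y h3 => ?_⟩
  · refine le_antisymm (IG_le h.cz h.le fun w hw => ?_) (le_of_im c h.perf ?_) ▸ h.toB1.le_Ns_IG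
    · obtain ⟨u, h1, h2⟩ := h.toB1.exists_sq hw
      rw [← h.comm] at h2
      rcases h.gd u (isConj_iff.2 ⟨w, h2⟩) with rfl | r
      · exact ⟨1, one_mem _, by simp [h2]⟩
      · exact let ⟨g, h3, h4⟩ := tx u h1 r; ⟨g, h3, h4.symm.trans h2.symm⟩
    obtain ⟨a, T, ⟨a1, -, a2⟩, a3⟩ := m.gen
    have a4 := m.ce 44 (.inl rfl) a (m.bb _ _ a1).2
    obtain ⟨b, b1, b2, rfl⟩ := c.exists_lift2 (is2_of_sq a4)
    have b3 := inv_eq_of_mul_eq_one_right (c.sq_of_pi b1 b2 a4)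
    have b4 := conj_mem_of_mem_normalizer h.tn b1
    have b5 : c.pi (t * b * t⁻¹) = τ (c.pi b) := h.act ▸ c.ac_pi _ h.tn _ b1
    have x2 := x_sq (F := F) (r := 44) (by decide) T
    have b6 : cm b t = e (x F 44 T) := by
      rw [cm, b3, mul_assoc, mul_assoc, ← mul_assoc t]
      refine c.eq_of_pi_eq (mul_mem b1 b4) (eL _) (b2.mul (b2.conj t) (c.comm_of_pi b4 b1 (b2.conj t) ?_))
        ((is2_of_sq x2).map e) (by rw [c.pi_mul _ b1 _ b4, b5, a2, h.pi])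
      rw [b5, ← inv_eq_of_mul_eq_one_right (a2 ▸ (map_mul ι _ _).symm.trans (by rw [x2, map_one]) :
        c.pi b * τ (c.pi b) * (c.pi b * τ (c.pi b)) = 1), mul_inv_rev, ← map_inv,
        inv_eq_of_mul_eq_one_right a4]
    refine a3.ge.trans (sup_le ?_ ?_)
    · rintro _ ⟨u, rfl⟩
      exact h.pi u ▸ c.pi_mem_im (le_IG ⟨u, rfl⟩) (eL u)
    · rintro _ ⟨_, ⟨u, rfl⟩, rfl⟩
      have := c.pi_mem_im (mem_IG (t := t) (L := e.range) ⟨_, b6.symm⟩ ⟨u, rfl⟩)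
        (mul_mem (mul_mem b1 (eL u)) (inv_mem b1))
      rwa [c.pi_conj b1 (eL u), h.pi] at this
  · have s0 := c.isSyl_of_im le_rfl h.twoU UL (by rw [h.im, c.im_top]; exact syl_iff.1 m.syl)
    have tP : t ∈ Us ⊔ zpowers t := mem_sup_right (mem_zpowers t)
    have s1 : IsSyl 2 (Us ⊔ zpowers t) (G₁ ⊔ zpowers t) := ⟨sup_le_sup_right UL _,
      H64.SG.isPGroup_sup_zpowers h.twoU tU (is2_of_sq t2), fun Q hQ h1 h2 => le_antisymm (fun a ha => by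
        have e1 := s0.eq_of_le (hQ.to_le inf_le_left) (le_inf (le_sup_left.trans h1) UL) inf_le_right
        exact (mem_sup_zp tU t2).2 (((mem_sup_zp h.tn t2).1 (h2 ha)).imp (fun r => e1.le ⟨ha, r⟩)
          fun r => e1.le ⟨mul_mem ha (h1 tP), r⟩)) h1⟩
    obtain ⟨g, g1, g2⟩ := s1.exists_cj_le (is2_of_sq v2).zpowers (zpowers_le.2
      (mul_mem (mem_sup_left hv) (mem_sup_right (mem_zpowers t))))
    have g3 : g ∈ Ns G₁ := sup_le le_normalizer (zpowers_le.2 h.tn) g1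
    have g4 := ((mem_sup_zp tU t2).1 (g2 (conj_mem_cj (mem_zpowers _)))).resolve_left fun r => nt (by
      simpa [mul_assoc, mul_mem_cancel_left hv] using conj_mem_of_mem_normalizer' g3 (UL r))
    have e1 : g * (v * t) * g⁻¹ * t * t = g * (v * t) * g⁻¹ := by rw [mul_assoc _ t t, t2, mul_one]
    have g5 : g * (v * t) * g⁻¹ * t * t * (g * (v * t) * g⁻¹ * t * t) = 1 := by
      rw [e1, conj_mul, v2]; simp
    have k : ∀ s, t * s = s * t → (∃ a ∈ G₁, g * (v * t) * g⁻¹ * t * t = a * s * a⁻¹) →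
        ∃ a ∈ G₁, v * t = a * s * a⁻¹ := fun s hs ⟨a, ha, e2⟩ => by
      have e3 : v * t = g⁻¹ * a * s * (g⁻¹ * a)⁻¹ := by
        rw [mul_inv_rev, mul_assoc g⁻¹, mul_assoc g⁻¹, ← mul_assoc (a * s), ← e2, e1]; group
      refine ((mem_sup_zp h.tn t2).1 (mul_mem (inv_mem g1) (mem_sup_left ha))).elim (⟨_, ·, e3⟩)
        fun r => ⟨_, r, ?_⟩
      rw [e3, mul_assoc _ t, hs]; group
    rcases cb _ g4 g5 with ⟨w, -, r⟩ | ⟨y, a, h1, h2, r⟩
    · exact (k t rfl (L1 (UL g4) g5 r)).imp fun _ r => ⟨r.1, .inl r.2⟩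
    · exact (k _ (by rw [mul_assoc, h.comm]) (L2 (UL g4) g5 r)).imp fun _ r => ⟨r.1, .inr ⟨a, h1, h2, r.2⟩⟩
  · have v2 := (H9.UF.inv2_conj h.inv r).1
    rcases cb v hv v2 with ⟨w, hw, e1⟩ | ⟨y, a, h1, h2, e1⟩
    · obtain ⟨w, w1, w2, rfl⟩ := c.mem_im.1 (h.im.ge hw)
      have w3 : w * 1 * (t * w⁻¹ * t⁻¹) ∈ Us :=
        mul_mem (mul_mem w1 (one_mem _)) (conj_mem_of_mem_normalizer tU (inv_mem w1))
      refine ⟨w, w1, ?_⟩
      rw [c.eq_of_pi_eq (UL hv) (UL w3) ((h.up _).1 hv).2.1 ((h.up _).1 w3).2.1 (by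
        rw [(pi_tw c h.tn (one_mem _) w2).2, c.pi_one, mul_one, h.act, e1])]
      group
    · obtain ⟨g, -, e2⟩ := L2 (UL hv) v2 e1
      exact ((h.gd _ (r.trans (isConj_iff.2 ⟨g, e2.symm⟩).symm)).elim
        (fun e => h1 ((x_eq_one (by decide)).1 e)) h2).elim
  · obtain ⟨u, hu⟩ := m.icin (c.pi z) (by rw [← c.pi_mul _ hz _ hz, z2, c.pi_one])
    obtain ⟨y, hy⟩ := isConj_iff.1 hu
    obtain ⟨y, y1, rfl⟩ := c.surj y
    rw [← c.pi_conj y1 hz, ← h.pi] at hy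
    have y2 := mul_mem (mul_mem y1 hz) (inv_mem y1)
    refine ⟨y⁻¹, inv_mem y1, u, ?_⟩
    rw [← c.eq_of_pi_eq y2 (eL u) ((is2_of_sq z2).conj y) ((is2_of_sq (m.inj ?_)).map e) hy]
    · group
    · rw [map_mul, ← h.pi, ← hy, ← c.pi_mul _ y2 _ y2, conj_mul, z2, map_one, ← c.pi_one]; simp
  · obtain ⟨l, l1, k, k1, -, k2, -, rfl⟩ := c.exists_split2 m.ns.cen h1 h2 h3
    rwa [k2.eq_one (odd_orderOf_of_mem odd k1), mul_one]

end H98.SfEA
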