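import Cfsg.Agent.H64.SFSpec
import Cfsg.Agent.H64.SGA2
import Cfsg.Agent.H64.SGKit
import Cfsg.Agent.H59.SOInd
import Cfsg.Agent.S1054
import Cfsg.Agent.H68.TwE6

/-! STD-F4, slot H: pass to `N(O) / O` and lift back. -/

set_option autoImplicit false
set_option linter.unusedSectionVars false

namespace H98.SfH

open H64.SG (O2 Cz Cs Ns cjs Is2 Inv2 IsO2 Cov Qt mem_Cz Cs_le_Ns is2_of_sq odd_orderOf_of_mem)
open H59.SO (NS Ind B1 CE CW cje exists_ind)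
open H64.SF H98 Subgroup Function
open scoped commutatorElement

universe u

variable {X Y : Type} [Group X] [Group Y] {G H : Type u} [Group G] [Group H] [Finite G]
  {O : Subgroup G} (q : Qt O H)

theorem ns_of (h : IsSimpleGroup X ∧ ¬ IsMulCommutative X) : NS X := ⟨h.1, fun g e => by
  rcases h.1.eq_bot_or_eq_top_of_normal (center X) inferInstance with k | k
  · exact k.le (mem_center_iff.2 fun a =>
      (mul_inv_eq_iff_eq_mul.1 (show g * a * g⁻¹ = a from congr($e a))).symm)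
  · exact absurd ⟨⟨fun a b => mem_center_iff.1 (k.ge (mem_top b)) a⟩⟩ h.2⟩

/-- Homomorphisms from a perfect group to `C(O)` are determined modulo `O`. -/
theorem hom_eq {Z : Type*} [Group Z] (hp : (⊤ : Subgroup Z) ≤ ⁅(⊤ : Subgroup Z), ⊤⁆) (f g : Z →* G)
    (hf : ∀ a, f a ∈ Cs O) (hg : ∀ a, g a ∈ Cs O) (h : ∀ a, q.p (f a) = q.p (g a)) (a : Z) :
    f a = g a := by
  have k := fun a => q.mem_of_eq (Cs_le_Ns O (hf a)) (Cs_le_Ns O (hg a)) (h a)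
  let d : Z →* G := MonoidHom.mk' (fun a => (f a)⁻¹ * g a) fun a b => by
    rw [← mul_assoc _ (f b)⁻¹, inv_mem (hf b) _ (k a)]; simp [mul_assoc]
  refine inv_mul_eq_one.1 ((hp.trans (commutator_le.2 fun a _ b _ => ?_) : ⊤ ≤ d.ker) (mem_top a))
  rw [MonoidHom.mem_ker, map_commutatorElement, commutatorElement_eq_one_iff_mul_comm]
  exact mul_mem (inv_mem (hf b)) (hg b) _ (k a)

theorem im_comm {A : Subgroup G} (h : A ≤ Ns O) : q.im ⁅A, A⁆ = ⁅q.im A, q.im A⁆ := by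
  rw [Qt.im, Qt.im, ← map_commutator]
  congr 1
  apply map_injective (subtype_injective _)
  rw [map_commutator, subgroupOf_map_subtype, subgroupOf_map_subtype, inf_eq_left.2 h,
    inf_eq_left.2 (commutator_le_of_le h h)]

/-- `A` is the perfect lift of `B`. -/
structure Lf (B : Subgroup H) (A : Subgroup G) (r : A →* B) : Prop where
  le : A ≤ Cs O
  perf : A ≤ ⁅A, A⁆
  surj : Surjective r
  val : ∀ a, (r a : H) = q.p a
  ns : ∀ n ∈ Ns O, q.p n ∈ Ns B → n ∈ Ns A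
  cs : ∀ n ∈ Ns O, q.p n ∈ Cs B → n ∈ Cs A
  max : ∀ D ≤ Cs O, D ≤ ⁅D, D⁆ → (∀ d ∈ D, q.p d ∈ B) → D ≤ A
  odd : ∀ a, Odd (orderOf (r a)) → Odd (orderOf a)

theorem exists_lf {B : Subgroup H} (hB : B ≤ q.im (Cs O)) (hp : B ≤ ⁅B, B⁆) : ∃ A r, Lf q B A r := by
  let W : Subgroup G := Cs O ⊓ (B.comap q.φ).map (Ns O).subtype
  have mW : ∀ {w}, w ∈ W ↔ w ∈ Cs O ∧ q.p w ∈ B := and_congr_right fun h =>
    ⟨by rintro ⟨a, k, rfl⟩; exact (q.eq a ▸ k : q.p a ∈ B), fun h' =>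
      ⟨⟨_, Cs_le_Ns O h⟩, show q.φ _ ∈ B from (q.eq _).symm ▸ h', rfl⟩⟩
  have W1 : W ≤ Ns O := inf_le_left.trans (Cs_le_Ns O)
  have W2 : q.im W = B := le_antisymm (fun _ h => by
    obtain ⟨w, k, -, rfl⟩ := q.mem_im.1 h; exact (mW.1 k).2) fun b h => by
      obtain ⟨w, h1, h2, rfl⟩ := q.mem_im.1 (hB h); exact q.p_mem (mW.2 ⟨h1, h⟩) h2
  have A1 : ⁅W, W⁆ ≤ W := commutator_le_of_le le_rfl le_rfl
  have A2 : q.im ⁅W, W⁆ = B := by
    rw [im_comm q W1, W2]; exact le_antisymm (commutator_le_of_le le_rfl le_rfl) hp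
  have A3 : ∀ w ∈ W, ∃ a ∈ ⁅W, W⁆, ∀ v ∈ W, ⁅w, v⁆ = ⁅a, v⁆ := fun w hw => by
    obtain ⟨a, h1, h2, h3⟩ := q.mem_im.1 (A2.ge (mW.1 hw).2)
    refine ⟨a, h1, fun v hv => ?_⟩
    calc _ = a * (a⁻¹ * w * v) * w⁻¹ * v⁻¹ := by rw [commutatorElement_def]; group
      _ = _ := by rw [hv.1 _ (q.mem_of_eq h2 (W1 hw) h3), commutatorElement_def]; group
  have A4 : ⁅W, W⁆ ≤ ⁅⁅W, W⁆, ⁅W, W⁆⁆ := commutator_le.2 fun w hw v hv => by
    obtain ⟨a, h1, h2⟩ := A3 w hw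
    obtain ⟨b, h3, h4⟩ := A3 v hv
    rw [h2 v hv, ← commutatorElement_inv, h4 a (A1 h1), commutatorElement_inv]
    exact commutator_mem_commutator h1 h3
  have A5 : ∀ n ∈ Ns O, q.p n ∈ Ns B → n ∈ Ns ⁅W, W⁆ := fun n h1 h2 =>
    le_normalizer_commutator le_rfl le_rfl (mem_normalizer_fintype fun w hw => mW.2
      ⟨conj_mem_of_mem_normalizer (normalizer_le_normalizer_centralizer O h1) hw.1,
        (q.conj h1 (W1 hw)).symm ▸ conj_mem_of_mem_normalizer h2 (mW.1 hw).2⟩)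
  refine ⟨⁅W, W⁆, (q.φ.comp (inclusion (A1.trans W1))).codRestrict B fun a => ?_, A1.trans inf_le_left,
    A4, fun b => ?_, fun a => q.eq _, A5, fun n h1 h2 a ha => ?_, fun D h1 h2 h3 => ?_, fun a h => ?_⟩
  · exact (q.eq _).symm ▸ (mW.1 (A1 a.2)).2
  · obtain ⟨a, h1, -, h3⟩ := q.mem_im.1 (A2.ge b.2)
    exact ⟨⟨a, h1⟩, Subtype.ext ((q.eq _).trans h3)⟩
  · have := hom_eq q (H64.commutator_eq_top_of_le A4).ge ((MulAut.conj n).toMonoidHom.comp ⁅W, W⁆.subtype)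
      ⁅W, W⁆.subtype       (fun a => conj_mem_of_mem_normalizer (normalizer_le_normalizer_centralizer O h1) (A1 a.2).1)
      (fun a => (A1 a.2).1) (fun a => (q.conj h1 (W1 (A1 a.2))).trans (by
        rw [← h2 _ (mW.1 (A1 a.2)).2, mul_inv_cancel_right]; try rfl)) ⟨a, ha⟩
    exact (mul_inv_eq_iff_eq_mul.1 this).symm
  · have : D ≤ W := fun d hd => mW.2 ⟨h1 hd, h3 d hd⟩
    exact h2.trans (commutator_mono this this)
  · have a1 := W1 (A1 a.2)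
    rw [← orderOf_coe] at h ⊢
    replace h : Odd (orderOf (q.p a)) := q.eq ⟨a, a1⟩ ▸ h
    exact H64.SG.odd_orderOf_of_pow (h.mul (odd_orderOf_of_mem q.odd ((q.ker _ (pow_mem a1 _)).1
      ((q.pow a1 _).trans (pow_orderOf_eq_one _))))) (by rw [pow_mul, pow_orderOf_eq_one])

variable {e : X →* G} {e' : X →* H} {t : G} (hX : NS X) (e1 : ∀ s, e' s = q.p (e s))
  (hL : e.range ≤ Cs O) (t1 : t ∈ Cs O) (hi : Injective e')
include hX e1 hL t1 hi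

theorem bl0 (hY : NS Y) {ι : X →* Y} {τ : MulAut Y} {B : Subgroup H} {c : Cov Y B}
    (h : Bl0 ι τ e' (q.p t) B c) : ∃ A c', Bl0 ι τ e t A c' := by
  have nN : (q.im (Cs O)).Normal := ⟨fun n hn g => by simpa using mul_mem (q.conj_mem_C g hn) hn⟩
  have eN : ∀ s, e' s ∈ q.im (Cs O) := fun s => e1 s ▸ q.p_mem (hL ⟨s, rfl⟩) (Cs_le_Ns O (hL ⟨s, rfl⟩))
  have hB : B ≤ q.im (Cs O) := by
    rcases hY.normal (c.im (q.im (Cs O))) (hN := Normal.map inferInstance _ c.piH_surjective) with k | k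
    · obtain ⟨a, ha⟩ := hX.exists_ne
      refine absurd (hX.eq_one fun b => hi ?_) ha
      rw [map_mul, map_mul]
      exact (c.ker_cen _ (h.le ⟨a, rfl⟩) (k.le (c.pi_mem_im (eN a) (h.le ⟨a, rfl⟩))) _ (h.le ⟨b, rfl⟩)).symm
    refine h.perf.trans (commutator_le.2 fun a ha b hb => ?_)
    obtain ⟨n, h1, h2, h3⟩ := c.mem_im.1 (k.ge (mem_top (c.pi a)))
    have h4 := c.ker_cen _ (mul_mem (inv_mem h2) ha) (by
      rw [c.pi_mul _ (inv_mem h2) _ ha, c.pi_inv h2, h3, inv_mul_cancel]) b hb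
    have : ⁅a, b⁆ = n * (b * n⁻¹ * b⁻¹) := by
      calc _ = n * (n⁻¹ * a * b) * a⁻¹ * b⁻¹ := by rw [commutatorElement_def]; group
        _ = _ := by rw [← h4]; group
    exact this ▸ mul_mem h1 (nN.conj_mem _ (inv_mem h1) b)
  obtain ⟨A, r, l⟩ := exists_lf q hB h.perf
  have A1 : A ≤ Ns O := l.le.trans (Cs_le_Ns O)
  have hs : Surjective (c.piH.comp r) := c.piH_surjective.comp l.surj
  have hk : (c.piH.comp r).ker = center A := le_antisymm (fun (z : A) hz => mem_center_iff.2 fun (a : A) =>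
    Subtype.ext (a1 := a * z) (l.cs z (A1 z.2) (l.val z ▸ c.ker_cen _ (r z).2 hz) a a.2)) fun z hz =>
      hY.eq_one fun y => by
        obtain ⟨a, rfl⟩ := hs y
        rw [← map_mul, ← map_mul, mem_center_iff.1 hz]
  let c' := Cov.ofHom _ hs hk (fun a ha => l.odd a (by simpa using c.ker_odd _ (r a).2 ha)) l.perf
  have cp : ∀ a ∈ A, c'.pi a = c.pi (q.p a) := fun a ha =>
    (Cov.ofHom_pi _ hs hk _ _ ⟨a, ha⟩).trans (congrArg c.pi (l.val _))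
  have le : e.range ≤ A := l.max _ hL hX.range_perfect (by rintro _ ⟨s, rfl⟩; exact e1 s ▸ h.le ⟨s, rfl⟩)
  have tn := l.ns t (Cs_le_Ns O t1) h.tn
  refine ⟨A, c', le, fun u => by rw [cp _ (le ⟨u, rfl⟩), ← e1, h.pi], tn, MulEquiv.ext fun y => ?_, l.perf⟩
  obtain ⟨a, ha, rfl⟩ := c'.surj y
  rw [← c'.ac_pi t tn a ha, cp _ (conj_mem_of_mem_normalizer tn ha), q.conj (Cs_le_Ns O t1) (A1 ha),
    c.ac_pi _ h.tn _ (l.val ⟨a, ha⟩ ▸ (r ⟨a, ha⟩).2), h.act, cp a ha]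

theorem cw (kit : ∀ (A : Subgroup G) (π : A →* X), Surjective π → π.ker ≤ center A →
      _root_.commutator A = ⊤ → Odd (Nat.card π.ker) → Injective π) {f₁ f₂ : X →* H}
    (h : CW e' (q.p t) f₁ f₂) : ∃ e₁ e₂, CW e t e₁ e₂ := by
  have eC : ∀ s, e s ∈ Cs O := fun s => hL ⟨s, rfl⟩
  have t2 := Cs_le_Ns O t1
  have hB : f₁.range ≤ q.im (Cs O) := by
    rw [MonoidHom.range_eq_map, map_le_iff_le_comap]
    refine hX.perfect.trans (commutator_le.2 fun a _ b _ => ?_)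
    have := q.conj_mem_C (f₁ a) (e1 b ▸ q.p_mem (eC b) (Cs_le_Ns O (eC b)) : e' b ∈ _)
    rw [h.diag, mul_assoc (f₁ a), mul_assoc (f₁ b), ← map_inv, ← h.comm] at this
    simpa [commutatorElement_def, mul_assoc] using this
  obtain ⟨A, r, l⟩ := exists_lf q hB hX.range_perfect
  let π := (MonoidHom.ofInjective h.inj).symm.toMonoidHom.comp r
  have hs : Surjective π := (MonoidHom.ofInjective h.inj).symm.surjective.comp l.surj
  have h1 : ∀ z ∈ π.ker, r z = 1 := fun z hz =>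
    (map_eq_one_iff _ (MonoidHom.ofInjective h.inj).symm.injective).1 hz
  let ψ := MulEquiv.ofBijective π ⟨kit A π hs (fun z hz => mem_center_iff.2 fun a => Subtype.ext
    (l.cs z (Cs_le_Ns O (l.le z.2)) (by rw [← l.val, h1 z hz]; exact one_mem _) a a.2))
      (H64.commutator_eq_top_of_le l.perf) (H64.SG.odd_card_of_forall fun z hz =>
        l.odd z (by simp [h1 z hz])), hs⟩
  let e₁ := A.subtype.comp ψ.symm.toMonoidHom
  have m1 : ∀ a, e₁ a ∈ A := fun a => (ψ.symm a).2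
  have p1 : ∀ a, q.p (e₁ a) = f₁ a := fun a => (l.val _).symm.trans
    ((MonoidHom.apply_ofInjective_symm h.inj _).symm.trans (congrArg f₁ (ψ.apply_symm_apply a)))
  have m2 : ∀ a, cje t e₁ a ∈ Cs O := fun a => mul_mem (mul_mem t1 (l.le (m1 a))) (inv_mem t1)
  have p2 : ∀ a, q.p (cje t e₁ a) = f₂ a := fun a =>
    (q.conj t2 (Cs_le_Ns O (l.le (m1 a)))).trans (by rw [p1, h.sw])
  have cm : ∀ a b, e₁ a * cje t e₁ b = cje t e₁ b * e₁ a := fun a b =>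
    l.cs _ (Cs_le_Ns O (m2 b)) (by rintro _ ⟨c, rfl⟩; rw [p2, h.comm]) _ (m1 a)
  refine ⟨e₁, cje t e₁, A.subtype_injective.comp ψ.symm.injective, cm, hom_eq q hX.perfect e
    (MonoidHom.mk' (fun a => e₁ a * cje t e₁ a) fun a b => ?_) eC
      (fun a => mul_mem (l.le (m1 a)) (m2 a)) fun a => ?_, fun _ => rfl⟩
  · rw [map_mul, map_mul, mul_assoc, mul_assoc, ← mul_assoc (e₁ b), cm b a, mul_assoc]
  · rw [← e1, h.diag, ← p1, ← p2, ← q.mul (Cs_le_Ns O (l.le (m1 a))) (Cs_le_Ns O (m2 a))]; rfl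

omit hX e1 hL t1 hi in
theorem jobH (hAB : JobAB.{u}) (hFA : JobFA) (hFI : JobFI) (hK : JobKit.{u}) : JobH.{u} := by
  intro hH F _ _ _ G _ _ e t h
  have hX := (hFA F).ns
  obtain ⟨o1, ko⟩ := h.toCE.odd_core
  have ole := H64.SG.O2_le (Cs e.range ⊓ Cz t)
  have ct : Cz t ≤ Ns (O2 (Cs e.range ⊓ Cz t)) := (le_normalizer_inf
    (h.cz.trans (normalizer_le_normalizer_centralizer _)) le_normalizer).trans (H64.SG.Ns_le_Ns_O2 _)
  have no : ∀ g u, g * t * g⁻¹ = t * e u → g ∈ Ns (O2 (Cs e.range ⊓ Cz t)) := fun g u hg => by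
    by_cases hu : u = 1
    · exact ct (mem_Cz.2 (by rw [hu, map_one, mul_one, mul_inv_eq_iff_eq_mul] at hg; exact hg.symm))
    have h1 : t * e u * (t * e u) = 1 := by rw [← hg, conj_mul, h.inv.1]; simp
    rw [mul_assoc, ← mul_assoc (e u), ← h.comm, ← mul_assoc, ← mul_assoc, h.inv.1, one_mul] at h1
    obtain ⟨-, u', A', i', a', -, h3⟩ := (hAB F G e t h.toCE.b0).edge g u _
      ⟨(H59.SO.sq_e h.inj).1 h1, hu⟩ hg (H64.SG.isO2_pCoreOf _)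
    refine inv_mem_iff.1 (mem_normalizer_of_cj_le ?_)
    rintro _ ⟨o, ho, rfl⟩
    have k : ∀ a, g * a * g⁻¹ * o = o * (g * a * g⁻¹) → a * (g⁻¹ * o * g⁻¹⁻¹) = g⁻¹ * o * g⁻¹⁻¹ * a :=
      fun a ha => by
        calc _ = g⁻¹ * (g * a * g⁻¹ * o) * g := by group
          _ = _ := by rw [ha]; group
    have h4 : g⁻¹ * o * g⁻¹⁻¹ ∈ Cz t := mem_Cz.2 (k t (by
      rw [hg, mul_assoc, (ole ho).1 _ ⟨u, rfl⟩, ← mul_assoc, mem_Cz.1 (ole ho).2, mul_assoc]))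
    have h5 : Odd (orderOf (g⁻¹ * o * g⁻¹⁻¹)) := H64.SG.odd_orderOf_of_pow
      (odd_orderOf_of_mem o1 ho) (by rw [conj_pow, pow_orderOf_eq_one]; simp)
    obtain ⟨β, hβ⟩ := exists_ind h.inj (h.cz h4)
    exact H64.SG.mem_O2_of_odd ⟨(hβ.eq_one_iff h.inj).1 ((hFI F).cta u' A' i' a' β (hβ.odd h.inj h5)
      (hβ.fix h.inj fun a ha => k a ((ole ho).1 _ (map_le_range _ _ (h3.le (conj_mem_cj ha)))))), h4⟩ h5
  generalize O2 (Cs e.range ⊓ Cz t) = O at o1 ko ole ct no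
  obtain ⟨q⟩ := H64.SG.exists_qt o1
  have hL : e.range ≤ Cs O := le_centralizer_iff.1 (ole.trans inf_le_left)
  have t1 : t ∈ Cs O := fun o ho => (mem_Cz.1 (ole ho).2).symm
  have t2 := Cs_le_Ns O t1
  have t3 := is2_of_sq h.inv.1
  have x1 : ∀ s, e s ∈ Ns O := fun s => Cs_le_Ns O (hL ⟨s, rfl⟩)
  let e' := q.φ.comp (e.codRestrict (Ns O) x1)
  have e1 : ∀ s, e' s = q.p (e s) := fun s => q.eq _
  have e3 : e'.range = q.im e.range := le_antisymm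
    (by rintro _ ⟨s, rfl⟩; exact e1 s ▸ q.p_mem ⟨s, rfl⟩ (x1 s)) fun g hg => by
      obtain ⟨_, ⟨s, rfl⟩, -, rfl⟩ := q.mem_im.1 hg
      exact ⟨s, e1 s⟩
  have hi : Injective e' := (injective_iff_map_eq_one _).2 fun s hs => hX.eq_one fun b =>
    (H59.SO.e_comm_iff h.inj).1 ((ole ((q.ker _ (x1 s)).1 (e1 s ▸ hs))).1 _ ⟨b, rfl⟩).symm
  have tr : ∀ {g u}, g * t * g⁻¹ = t * e u → q.p g * q.p t * (q.p g)⁻¹ = q.p t * e' u := fun hg => by
    rw [← q.conj (no _ _ hg) t2, hg, q.mul t2 (x1 _), e1]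
  have b1 : B1 e' (q.p t) := ⟨hi, ⟨by rw [← q.mul t2 t2, h.inv.1, q.one], fun e => h.inv.2 (t3.eq_one
    (odd_orderOf_of_mem o1 ((q.ker t t2).1 e)))⟩, e3 ▸ q.p_mem_Cs h.cen t2, fun g hg => by
      obtain ⟨g, g1, g2, rfl⟩ := q.lift_Cz t2 t3 hg
      exact e3 ▸ q.p_mem_Ns (h.cz g2) g1⟩
  have ck : ∀ g ∈ Cz (q.p t), g ∈ Cs e'.range → g = 1 ∨ g = q.p t := fun g g1 g2 => by
    obtain ⟨g, g3, g4, rfl⟩ := q.lift_Cz t2 t3 g1
    obtain ⟨β, hβ⟩ := exists_ind h.inj (h.cz g4)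
    refine (ko g ((hβ.eq_one_iff h.inj).1 (MulEquiv.ext fun s => hi ?_)) g4).imp (q.ker g g3).2 fun e => ?_
    · rw [e1, ← hβ, q.conj g3 (x1 s), ← e1, ← g2 _ ⟨s, rfl⟩, mul_inv_cancel_right]; rfl
    · have := (q.ker _ (mul_mem g3 t2)).2 e
      rw [q.mul g3 t2] at this
      rw [eq_inv_of_mul_eq_one_left this, b1.inv_eq]
  have H : CH e' (q.p t) := by
    refine ⟨⟨⟨b1, fun R h1 h2 => ?_⟩, ?_⟩, ck⟩
    · obtain ⟨T, T1, T2⟩ := exists_isSyl_le (H9.UF.pg_zp b1.inv.1) (zpowers_le.2 b1.cen)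
      have : Nontrivial T := ⟨⟨_, T2 (mem_zpowers _)⟩, 1, fun e => b1.inv.2 (congrArg Subtype.val e)⟩
      obtain ⟨⟨z, z1⟩, z2⟩ := @exists_ne _ T1.isPGroup.center_nontrivial 1
      have z3 : ∀ a ∈ T, a * z = z * a := fun a ha => congrArg Subtype.val (mem_center_iff.1 z1 ⟨a, ha⟩)
      have z4 := (ck z (mem_Cz.2 (z3 _ (T2 (mem_zpowers _)))) (T1.le z.2)).resolve_left
        fun e => z2 (Subtype.ext (Subtype.ext e))
      refine (T1.card_le h2 h1).trans ((card_le_of_le fun a ha => ?_).trans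
        (H59.SO.card_zpowers_inv2 b1.inv).le)
      rcases ck a (mem_Cz.2 (z4 ▸ (z3 a ha).symm)) (T1.le ha) with rfl | rfl
      exacts [one_mem _, mem_zpowers _]
    · obtain ⟨g, c, hc, g1, g2⟩ := h.mv
      exact ⟨q.p g, c, hc, tr g1, by
        rw [e1, ← q.mul (no _ _ g1) (x1 _), g2, q.mul (x1 _) (no _ _ g1)]⟩
  have bl : ∀ {Y : Type} [Group Y] {ι : H86.WR.XF F →* Y} {τ Gd}, NS Y →
      (∃ B c, Bl ι τ Gd e' (q.p t) B c) → ∃ A c, Bl ι τ Gd e t A c := fun hY ⟨B, c, b⟩ =>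
    let ⟨A, c', b'⟩ := bl0 q hX e1 hL t1 hi hY b.toBl0
    ⟨A, c', b', fun u hu => let ⟨g, hg⟩ := isConj_iff.1 hu; b.gd u (isConj_iff.2 ⟨_, tr hg⟩)⟩
  refine (hH F _ e' _ H).imp (fun ⟨_, _, w⟩ => cw q hX e1 hL t1 hi (fun A => (hK F A).2) w)
    (Or.imp (bl (ns_of (Cfsg.Agent.S1054.result _ (by simp)))) fun ⟨K, a, b, c, x, w⟩ =>
      ⟨K, a, b, c, x, w.imp (bl (hFA K).ns) (bl (ns_of (H68.simple_E6 x.hq x.hK)))⟩)

end H98.SfH
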