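import Cfsg.Agent.H64.SFMod
import Cfsg.Agent.H86.NUT1
import Cfsg.Agent.H98.SfH

/-! STD-F4, slot M1: the basic facts on the models `E₆(F)` and `²E₆(q)`. -/

set_option autoImplicit false
set_option linter.unusedSectionVars false

namespace H98.SfM1

open Cfsg.Lie H63 H64 H65 H98 Subgroup Function
open H64.SG (Syl Cs cjs UU syl_iff)
open H59.SO (NS)
open H86.WR (XF)
open H64.SF H46.SF
open H67.SA (cm St mem_St_of_finite)

section Gen

variable {F : Type} [Field F] [Finite F] [_root_.CharP F 2] {Y : Type} [Group Y] {R : Type} [CommRing R]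
  {ι : XF F →* Y} {τ : MulAut Y} {φ : F →+* R} {σ : RingAut R} {η : R} {y : ℕ → R → Y}
  (h : SY ι τ true φ σ η y)
include h

theorem two (a : R) : a + a = 0 := by
  rw [← two_mul, ← one_add_one_eq_two, ← map_one φ, ← map_add, CharTwo.add_self_eq_zero, map_zero,
    zero_mul]

theorem sphi (c : F) : σ (φ c) = φ c := (h.rg.fix _).2 ⟨c, rfl⟩

theorem y_inv {r : ℕ} (hr : S r) (a : R) : (y r a)⁻¹ = y r a := by
  have h0 : y r 0 = 1 := by simpa using h.add r hr 0 0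
  exact inv_eq_of_mul_eq_one_right (by rw [h.add r hr, two h, h0])

theorem tr {r : ℕ} (hr : S r) (c : F) : y r (η * φ c) * τ (y r (η * φ c)) = ι (x F r c) := by
  rw [h.ty r hr, h.add r hr, map_mul, sphi h, h.rg.eta, ← h.yx r hr, add_mul, ← add_assoc, two h,
    zero_add, one_mul]

theorem y_act {B : Subgroup Y} (hB : ι.range ≤ B) {w : List ℕ} (hw : Wd w) {r : ℕ} (hr : S r)
    (k : ∀ a, y r a ∈ B) (a : R) : y (act w r) a ∈ B := by
  induction w generalizing a with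
  | nil => exact k a
  | cons s w ih =>
    have h1 : Wd w := fun v hv => hw v (List.mem_cons_of_mem _ hv)
    have h2 : S (act w r) := ⟨(act_lt h1 hr.1).1, (act_lt h1 hr.1).2.trans hr.2⟩
    have h3 := h.nw _ h2 s (hw s List.mem_cons_self) (if sh s then σ a else a)
    rw [show (if (sh s && true) = true then σ (if sh s then σ a else a) else
      if sh s then σ a else a) = a by cases sh s <;> simp [h.rg.ss]] at h3
    rw [act_cons, ← h3]
    exact mul_mem (mul_mem (hB ⟨_, rfl⟩) (ih h1 _)) (inv_mem (hB ⟨_, rfl⟩))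

theorem gen_all {B : Subgroup Y} (hB : ι.range ≤ B) (hc : cjs (y 44 η) ι.range ≤ B) {r : ℕ}
    (hr : S r) (a : R) : y r a ∈ B := by
  have s1 : S 44 := by decide +kernel
  have s2 : S 14 := by decide +kernel
  have s3 : S 40 := by decide +kernel
  have k : ∀ a, y 40 a ∈ B := fun a => by
    obtain ⟨d, hd⟩ := (h.rg.fix (a + σ a)).1 (by rw [map_add, h.rg.ss, add_comm])
    obtain ⟨c, e⟩ := (h.rg.fix (a + σ (η * φ d))).1 (by
      rw [map_add, h.rg.ss, map_mul, sphi h, h.rg.eta, hd]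
      linear_combination (exp := 1) - two h a)
    have h1 := h.c120 44 14 s1 s2 (by decide +kernel) η (φ d)
    rw [show ad 44 14 = 40 by decide +kernel, if_pos rfl, h.yx 14 s2] at h1
    rw [show a = φ c + σ (η * φ d) by rw [e, add_assoc, two h, add_zero], ← h.add 40 s3, h.yx 40 s3,
      ← h1]
    exact mul_mem (hB ⟨_, rfl⟩) (mul_mem (hc ⟨_, ⟨_, rfl⟩, rfl⟩) (inv_mem (hB ⟨_, rfl⟩)))
  have k2 := y_act h hB (wd0_spec 40 s3.1).2.1.reverse s3 k
  rw [show act (wd0 40).reverse 40 = 44 by decide +kernel] at k2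
  have k3 := y_act h hB (wd0_spec r hr.1).2.1 s1 k2 a
  have k4 := (wd0_spec r hr.1).2.2
  rw [hr.2, if_pos rfl] at k4
  rwa [k4] at k3

theorem m1_of {U : Subgroup Y} {A : ℕ → Y → Prop} (ns : NS Y) (inj : Injective ι)
    (t2 : ∀ g, τ (τ g) = g) (fix : ∀ g, g ∈ ι.range ↔ τ g = g) (syl : Syl U ⊤) (stU : τ ∈ St U)
    (hA : ∀ b i, A b i ↔ b = 44 ∧ ∃ a, i = y 44 a)
    (top : ∀ B : Subgroup Y, ι.range ≤ B → (∀ r, S r → ∀ a, y r a ∈ B) → B = ⊤) :
    M1 ι τ Sh U A := by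
  have s1 : S 44 := by decide +kernel
  refine ⟨ns, inj, MulEquiv.ext t2, fun g => (fix g).symm, syl, stU,
    Or.inr ⟨fun _ => Iff.rfl, fun b i k => ((hA b i).1 k).1⟩, fun b i k => ?_, fun b i k c => ?_,
    ?_, y 44 η, 1, ⟨(hA _ _).2 ⟨rfl, _, rfl⟩, one_ne_zero, by simpa using tr h s1 1⟩,
    top _ le_sup_left fun r hr => gen_all h le_sup_left le_sup_right hr⟩
  · obtain ⟨rfl, a, rfl⟩ := (hA b i).1 k
    exact ⟨Or.inl rfl, mem_Cs_US.2 fun r hr h1 c =>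
      (h.cp 44 s1 r (H64.SF.mem_lY.2 ⟨h1, Or.inl (mem_lQ.1 hr).2⟩) a c).symm⟩
  · obtain ⟨rfl, -⟩ := (hA b i).1 k
    exact ⟨_, (hA _ _).2 ⟨rfl, _, rfl⟩, tr h s1 c⟩
  · rintro _ - ⟨k, c, -, rfl⟩
    refine ⟨ι k * y 44 (η * φ c), ?_⟩
    rw [map_mul, map_mul, map_inv, ← tr h s1 c, map_mul τ, h.te, mul_inv_rev, h.ty 44 s1, y_inv h s1]
    group

end Gen

theorem m1E : OnE fun _ _ _ _ ι τ Gd U A => M1 ι τ Gd U A := by
  intro F _ _ _
  obtain ⟨η, y, h, sw, hs⟩ := jobYE F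
  have k : ∀ r, S r → ∀ a b, ∃ c, yE F r a b = y r c := fun r hr a b => by
    cases e : sw r
    exacts [⟨(a, b), by simp [hs r hr, e]⟩, ⟨(b, a), by simp [hs r hr, e]⟩]
  have s1 : S 44 := by decide +kernel
  refine m1_of h.toSY (SfH.ns_of (Cfsg.Agent.S1054.result _ (by simp))) iE_inj gE_gE
    (fun _ => mem_range_iE) (syl_iff.2 (H64.SG.syl_UU chevE6 F))
    (mem_St_of_finite (H86.NU.gE_UU F)) (fun b i => and_congr_right fun _ => ?_)
    fun B h1 h2 => yE_gen fun r hr a b => ?_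
  · refine ⟨fun ⟨a, b, e⟩ => e ▸ k 44 s1 a b, fun ⟨⟨a, b⟩, e⟩ => ?_⟩
    rw [e, hs 44 s1]
    split_ifs
    exacts [⟨_, _, rfl⟩, ⟨_, _, rfl⟩]
  · cases e : sh r
    · exact h1 ⟨x F r a, by rw [iE_x hr, yE_long e, yE_long e]⟩
    · obtain ⟨c, e1⟩ := k r ⟨hr, e⟩ a b
      exact e1 ▸ h2 r ⟨hr, e⟩ c

theorem sylT {F K : Type} [Field F] [Finite F] [_root_.CharP F 2] [Field K] [Fintype K] [_root_.CharP K 2]
    (X : Qx F K) : IsSyl 2 (H86.NU.UT X) ⊤ := by
  obtain ⟨P, hP, h⟩ := exists_isSyl_le (H86.NT.isP (X := X)) le_top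
  refine (h.eq_or_lt.resolve_right fun h => ?_) ▸ hP
  refine (lt_inf_normalizer hP.isPGroup h).not_ge fun g hg => ?_
  have h1 := hg.2
  rw [← H86.NT.U_eq] at h1
  obtain ⟨u, hu, k, hk, rfl⟩ := (H86.NT.TT X).mem_B.1 ((normalizer_U (H86.NT.Gp_top (X := X))).le h1)
  rw [H86.NT.U_eq] at hu
  rwa [H86.NT.H_two hk (H64.SG.isPGroup_iff_is2.1 hP.isPGroup _
    ((mul_mem_cancel_left (h.le hu)).1 hg.1)), mul_one]

theorem m1T : OnT fun _ _ _ _ ι τ Gd U A => M1 ι τ Gd U A := by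
  intro F K _ _ _ _ _ _ X
  obtain ⟨η, h⟩ := H86.NT.ty X
  refine m1_of h.toSY (SfH.ns_of (H68.simple_E6 X.hq X.hK)) (iT_inj _ _ _ _) (tT_tT _ _)
    (fun _ => mem_range_iT _ _ _ _) (syl_iff.2 (sylT X))
    (mem_St_of_finite fun g hg => H86.NU.gE_UU K _ hg) (fun b i => and_congr_right fun _ => ?_)
    fun B h1 h2 => yT_gen X.hq X.hK X.hf fun r hr a ha => ?_
  · have : sw 44 = true := by decide +kernel
    simp only [yQ, this, if_true]
    exact ⟨fun ⟨a, e⟩ => ⟨X.σ a, by rw [ss, e]⟩, fun ⟨a, e⟩ => ⟨_, e⟩⟩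
  · cases e : sh r
    · obtain ⟨c, rfl⟩ := (X.hφ a).1 (ha.resolve_left (by simp [e]))
      exact h1 ⟨_, iT_x X.hq X.hK X.hf X.hφ hr c⟩
    · have := h2 r ⟨hr, e⟩ (if sw r then X.σ a else a)
      rwa [yQ, show (if sw r then X.σ (if sw r then X.σ a else a) else if sw r then X.σ a else a) = a by
        cases sw r <;> simp [ss]] at this

theorem jobM1 : JobM1 := ⟨m1E, m1T⟩

end H98.SfM1
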