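import Cfsg.Agent.H98.OcCore
import Cfsg.Agent.H74.O8Spec

/-! Tower O8, job CORE8: a large elementary subgroup with the local data `Loc8` is strongly closed. -/

set_option autoImplicit false

namespace H98.O8c

open Subgroup Cfsg H98 H1.Gold H74.OC H74.O8
open H98.Oc (fib_le rel_card le_nor_of_wc ncard_orb)
open scoped commutatorElement

universe u

variable {G : Type u} [Group G] {A B Q P : Subgroup G} {m : ℕ}

/-- the part of `Loc8` that is used for all conjugates -/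
structure L0 (Q : Subgroup G) (m : ℕ) : Prop where
  ab : Q ≤ cen Q
  sq : ∀ a ∈ Q, a ^ 2 = 1
  card : Nat.card Q = m ^ 2
  two : ∀ B : Subgroup G, B ≤ nor Q → (∀ b ∈ B, b * b ∈ Q) → Nat.card B ≤ 4 * Nat.card ↥(B ⊓ Q)
  cen : ∀ t ∈ nor Q, t ∉ Q → t * t ∈ Q → Nat.card ↥(Q ⊓ cen1 t) = m

theorem l0 (h : Loc8 Q m) : L0 Q m :=
  ⟨le_centralizer_iff_isMulCommutative.2 h.el.1, h.el.2, h.card, h.two, h.cen⟩

theorem L0.isP (h : L0 Q m) : IsPGroup 2 Q := isPGroup_iff_forall.2 fun x hx => ⟨1, h.sq x hx⟩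

theorem L0.sq' (h : L0 Q m) {a : G} (ha : a ∈ Q) (B : Subgroup G) : a * a ∈ B := by
  rw [← pow_two, h.sq a ha]; exact one_mem B

theorem L0.cj (h : L0 Q m) (g : G) : L0 (cj g Q) m where
  ab := (cj_mono g h.ab).trans (cj_centralizer g Q).le
  sq := by rintro _ ⟨a, ha, rfl⟩; rw [← map_pow, h.sq a ha, map_one]
  card := (card_cj g Q).trans h.card
  two := fun B a b => by
    have := h.two (H98.cj g⁻¹ B) (cj_le_iff.2 (by rwa [inv_inv, cj_normalizer])) fun x hx => by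
      have := mem_cj.1 (b _ (mem_cj.1 hx))
      simpa [mul_assoc] using this
    rwa [card_cj, ← card_cj g (_ ⊓ _), cj_inf, cj_cj_inv] at this
  cen := fun t a b c => by
    have := h.cen (g⁻¹ * t * g) (mem_cj.1 ((cj_normalizer g Q).ge a)) (fun e => b (mem_cj.2 e))
      (by simpa [mul_assoc] using mem_cj.1 c)
    rwa [← card_cj g, cj_inf, cj_cen1, show g * (g⁻¹ * t * g) * g⁻¹ = t by group] at this

variable [Finite G]

theorem L0.eq (h : L0 A m) (h' : L0 B m) (hm : 4 < m) (e : B ≤ nor A) : B = A := by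
  refine eq_of_le_of_card_ge (fun b hb => by_contra fun r => ?_) (h.card.trans h'.card.symm).le
  have h1 := h.two B e fun b hb => h'.sq' hb _
  have h2 := card_le_of_le (show B ⊓ A ≤ A ⊓ cen1 b from
    fun x hx => ⟨hx.2, cen_le_cen1 hb (h'.ab hx.1)⟩)
  rw [h.cen b (e hb) r (h'.sq' hb _)] at h2
  rw [h'.card] at h1
  nlinarith

theorem L0.le_nor (h : L0 A m) (hm : 4 < m) (hP : IsPGroup 2 P) (e : A ≤ P) : P ≤ nor A :=
  le_nor_of_wc (fun g => h.eq (h.cj g) hm) hP e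

theorem exists_sq {W : Subgroup G} (hW : IsPGroup 2 W) (h : ¬ W ≤ A) :
    ∃ w ∈ W, w ∉ A ∧ w * w ∈ A := by
  by_contra r
  push Not at r
  refine h fun w hw => ?_
  obtain ⟨k, hk⟩ := isPGroup_iff_forall.1 hW w hw
  have key : ∀ k, ∀ w ∈ W, w ^ 2 ^ k ∈ A → w ∈ A := fun k => by
    induction k with
    | zero => simp
    | succ k ih =>
      refine fun w hw e => ih w hw (by_contra fun n => r _ (pow_mem hw _) n ?_)
      rwa [← pow_two, ← pow_mul, ← pow_succ]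
  exact key k w hw (hk ▸ one_mem A)

/-- The join of subgroups of exponent two that commute modulo `D`. -/
theorem sq_iSup {F : Set (Subgroup G)} {D : Subgroup G} (h1 : ∀ M ∈ F, M ≤ nor D)
    (h2 : ∀ M ∈ F, ∀ M' ∈ F, ⁅M, M'⁆ ≤ D) (h3 : ∀ M ∈ F, ∀ a ∈ M, a * a ∈ D) :
    ∀ a ∈ sSup F, a * a ∈ D := by
  have k : ⁅sSup F, sSup F⁆ ≤ D := (le_stab_iff.1 (sSup_le fun M hM => le_stab_iff.2 ⟨h1 M hM, by
    rw [commutator_comm]
    exact (le_stab_iff.1 (sSup_le fun M' hM' => le_stab_iff.2 ⟨h1 M' hM', h2 M hM M' hM'⟩)).2⟩)).2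
  intro a ha
  rw [sSup_eq_iSup'] at ha
  refine (iSup_induction _ (C := fun a => a ∈ sSup F ∧ a * a ∈ D) ha
    (fun M a ha => ⟨le_sSup M.2 ha, h3 M M.2 a ha⟩) ⟨one_mem _, by simp⟩ ?_).2
  rintro a b ⟨a1, a2⟩ ⟨b1, b2⟩
  refine ⟨mul_mem a1 b1, ?_⟩
  rw [show a * b * (a * b) = a * a * ⁅a⁻¹, b⁆ * (b * b) by rw [commutatorElement_def]; group]
  exact mul_mem (mul_mem a2 (k (commutator_mem_commutator (inv_mem a1) b1))) b2

theorem ti (hG : Big G) (hm : 16 ≤ m) (h0 : L0 Q m) (g : G)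
    (ne : cj g Q ≠ Q) : cj g Q ⊓ Q = ⊥ := by
  classical
  by_contra nb
  obtain ⟨⟨A, B⟩, ⟨⟨hA, hB⟩, AB⟩, mx⟩ := Set.exists_max_image
    {x : Subgroup G × Subgroup G | (L0 x.1 m ∧ L0 x.2 m) ∧ x.1 ≠ x.2}
    (fun x => Nat.card ↥(x.1 ⊓ x.2)) (Set.toFinite _) ⟨(cj g Q, Q), ⟨h0.cj g, h0⟩, ne⟩
  simp only at hA hB AB mx
  have m4 : 4 < m := by omega
  set D := A ⊓ B with hD
  have nD : D ≠ ⊥ := fun e => nb (eq_bot_of_card_le _ (by
    have := mx (cj g Q, Q) ⟨⟨h0.cj g, h0⟩, ne⟩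
    rwa [e, card_bot] at this))
  have mx' : ∀ A' B', L0 A' m → L0 B' m → A' ≠ B' → D ≤ A' → D ≤ B' → A' ⊓ B' = D :=
    fun A' B' a b c d e => (eq_of_le_of_card_ge (le_inf d e) (mx (A', B') ⟨⟨a, b⟩, c⟩)).symm
  have D2 : IsPGroup 2 D := hA.isP.to_le inf_le_left
  have ch : H98.CharP 2 (cen D) := (hG.ch D D2 nD).normal
    (centralizer_le_normalizer _) (normalizer_le_normalizer_centralizer D)
  have AX : A ≤ cen D := hA.ab.trans (centralizer_anti inf_le_left)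
  have BX : B ≤ cen D := hB.ab.trans (centralizer_anti inf_le_right)
  set W := pCoreOf 2 (cen D)
  have W2 : IsPGroup 2 W := isPGroup_pCoreOf _
  have XW : cen D ≤ nor W := self_le_normalizer_pCoreOf _
  have DW : D ≤ W := le_pCoreOf D2 (inf_le_left.trans AX) (centralizer_le_normalizer _)
  have Wn : ∀ A', L0 A' m → A' ≤ cen D → W ≤ nor A' := fun A' a b => le_sup_left.trans
    (a.le_nor m4 (W2.to_sup_of_normal_left' a.isP (b.trans XW)) le_sup_right)
  have nAW : ¬ A ≤ W := fun e => AB (hB.eq hA m4 (e.trans (Wn B hB BX)))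
  have dm : Nat.card D ≤ m := by
    obtain ⟨w, hw, r, r2⟩ := exists_sq W2 fun e : W ≤ A =>
      nAW (ch.le_pCoreOf AX (hA.ab.trans (centralizer_anti e)))
    exact hA.cen w (Wn A hA AX hw) r r2 ▸ card_le_of_le
      fun x hx => ⟨hx.1, mem_cen1.2 (pCoreOf_le (cen D) hw x hx)⟩
  have a2 : 2 * Nat.card D ≤ Nat.card ↥(W ⊓ A) := by
    obtain ⟨k, hk⟩ := card_dvd_of_le (le_inf DW inf_le_left : D ≤ W ⊓ A)
    have k0 : k ≠ 0 := fun e => by simpa [e] using (hk ▸ Nat.card_pos : 0 < Nat.card D * k)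
    have k1 : k ≠ 1 := fun e => by
      have e := eq_of_le_of_card_ge (le_inf DW inf_le_left : D ≤ W ⊓ A) (by rw [hk, e, mul_one])
      refine nAW (le_trans ?_ (le_pCoreOf (A := cen D ⊓ stab W D) (ch.isPGroup_of_quadratic inf_le_left
        (le_bot_iff.1 ((commutator_mono (le_stab_iff.1 inf_le_right).2 inf_le_left).trans
          (commutator_eq_bot_iff_le_centralizer.2 (le_centralizer_centralizer D)).le))) inf_le_left
        (le_normalizer_inf le_normalizer (le_normalizer_stab XW (centralizer_le_normalizer _)))))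
      exact le_inf AX (le_stab_iff.2 ⟨AX.trans (centralizer_le_normalizer _), (le_inf
        (commutator_le_left' (AX.trans XW)) (commutator_le_right' (Wn A hA AX))).trans e.ge⟩)
    rw [hk, mul_comm]
    exact Nat.mul_le_mul_left _ (by omega)
  set F := {M | ∃ a ∈ cen D, cj a A = M}
  have FL : ∀ M ∈ F, L0 M m ∧ D ≤ M ∧ Nat.card ↥(W ⊓ M) = Nat.card ↥(W ⊓ A) := by
    rintro _ ⟨a, ha, rfl⟩
    exact ⟨hA.cj a, (cj_eq_self (centralizer_le_normalizer _ ha)).ge.trans (cj_mono a inf_le_left),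
      by rw [← card_cj a (W ⊓ A), cj_inf, cj_eq_self (XW ha)]⟩
  obtain ⟨S, hS, AS⟩ := exists_isSyl_le hA.isP AX
  have SA := hA.le_nor m4 hS.isPGroup AS
  have BF : B ∈ F := by
    obtain ⟨x, hx, r⟩ := hS.exists_cj_le hB.isP BX
    exact ⟨x⁻¹, inv_mem hx, by rw [← hA.eq (hB.cj x) m4 (r.trans SA), cj_inv_cj]⟩
  have AF : A ∈ F := ⟨1, one_mem _, cj_one A⟩
  have FX : ∀ M ∈ F, W ≤ nor M := fun M hM => Wn M (FL M hM).1
    ((FL M hM).1.ab.trans (centralizer_anti (FL M hM).2.1))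
  set Y := sSup ((W ⊓ ·) '' F)
  have YW : Y ≤ W := sSup_le (by rintro _ ⟨M, -, rfl⟩; exact inf_le_left)
  have MY : ∀ M ∈ F, W ⊓ M ≤ Y := fun M hM => le_sSup ⟨M, hM, rfl⟩
  have Ysq : ∀ a ∈ Y, a * a ∈ D := sq_iSup (by
      rintro _ ⟨M, -, rfl⟩
      exact inf_le_left.trans ((pCoreOf_le _).trans (centralizer_le_normalizer _))) (by
      rintro _ ⟨M, hM, rfl⟩ _ ⟨M', hM', rfl⟩
      by_cases e : M = M'
      · subst e
        exact (commutator_mono inf_le_right inf_le_right).trans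
          ((commutator_eq_bot_iff_le_centralizer.2 (FL M hM).1.ab).le.trans bot_le)
      · exact (le_inf ((commutator_mono inf_le_right inf_le_left).trans (commutator_le_left' (FX M hM)))
          ((commutator_mono inf_le_left inf_le_right).trans (commutator_le_right' (FX M' hM')))).trans
          (mx' _ _ (FL M hM).1 (FL M' hM').1 e (FL M hM).2.1 (FL M' hM').2.1).le)
    (by rintro _ ⟨M, hM, rfl⟩ a ha; exact (FL M hM).1.sq' ha.2 _)
  have up := fib_le (T := (Y : Set G) \ D) (S := F) (k := Nat.card ↥(W ⊓ A) - Nat.card D)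
    (fun w => if e : ∃ M ∈ F, w ∈ M then e.choose else ⊥) fun M hM => by
      obtain ⟨a, b, c⟩ := FL M hM
      rw [← c]
      refine le_trans (le_of_eq (Set.ncard_sdiff (s := (D : Set G)) (t := ((W ⊓ M : Subgroup G) : Set G))
        (le_inf DW b)).symm) (Set.ncard_le_ncard fun w hw => ⟨⟨MY M hM hw.1, hw.2⟩, ?_⟩)
      have e : ∃ M ∈ F, w ∈ M := ⟨M, hM, hw.1.2⟩
      simp only [dif_pos e]
      by_contra r
      obtain ⟨a', b', -⟩ := FL _ e.choose_spec.1
      exact hw.2 ((mx' _ _ a' a r b' b).le ⟨e.choose_spec.2, hw.1.2⟩)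
  rw [Set.ncard_sdiff (s := (D : Set G)) ((le_inf DW inf_le_left).trans (MY A AF))] at up
  have up' := hA.two Y (YW.trans (Wn A hA AX)) fun a ha => (Ysq a ha).1
  have up2 := card_le_of_le (inf_le_inf_right A YW)
  have lo : {M | ∃ a ∈ A, cj a B = M}.ncard ≤ (F \ {A}).ncard := Set.ncard_le_ncard (by
    rintro _ ⟨a, ha, rfl⟩
    obtain ⟨x, hx, rfl⟩ := BF
    exact ⟨⟨a * x, mul_mem (AX ha) hx, (cj_cj _ _ _).symm⟩,
      fun e => AB (cj_inj.1 ((cj_eq_self_of_mem ha).trans (Eq.symm e)))⟩)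
  rw [Set.ncard_sdiff_singleton_of_mem (s := F) ⟨1, one_mem _, cj_one A⟩, ncard_orb] at lo
  have lo' := hB.two (nor B ⊓ A) inf_le_left fun a ha => hA.sq' ha.2 _
  have i1 := card_le_of_le (show nor B ⊓ A ⊓ B ≤ D from fun x hx => ⟨hx.1.2, hx.2⟩)
  have i2 := rel_card (nor B) A
  have hn : F.ncard = (nor A).relIndex (cen D) := ncard_orb _ _
  have od : ¬ 2 ∣ F.ncard := fun e => hS.not_dvd_relIndex (e.trans (hn ▸ relIndex_dvd_of_le_left _ SA))
  have dp : 0 < Nat.card D := Nat.card_pos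
  have n5 : 4 ≤ (nor B).relIndex A := by
    by_contra r
    rw [hA.card] at i2
    nlinarith
  have n7 : F.ncard ≤ 7 := by
    by_contra r
    change (Nat.card ↥(W ⊓ A) - Nat.card D) * F.ncard ≤ Nat.card Y - Nat.card D at up
    have := Nat.mul_le_mul_left (Nat.card ↥(W ⊓ A) - Nat.card D) (show 8 ≤ F.ncard by omega)
    omega
  have pr : F.ncard.Prime := by
    obtain e | e : F.ncard = 5 ∨ F.ncard = 7 := by omega
    all_goals rw [e]; norm_num
  haveI := Fact.mk pr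
  obtain ⟨x, hx⟩ := exists_prime_orderOf_dvd_card' (G := cen D) F.ncard (hn ▸ relIndex_dvd_card _ _)
  obtain ⟨d, d1⟩ := ne_bot_iff_exists_ne_one.1 nD
  have o2 : orderOf (d : G) = 2 := orderOf_eq_prime (hA.sq d d.2.1) fun e => d1 (Subtype.ext e)
  have := hG.sp.mul_le (x.2 d d.2) (by
    rw [o2, orderOf_coe, hx]; exact (Nat.Prime.coprime_iff_not_dvd Nat.prime_two).2 od)
  rw [o2, orderOf_coe, hx] at this
  omega

theorem jobCORE8 : JobCORE8.{u} := fun G _ _ Q m hG h hm => by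
  have h0 := l0 h
  have m4 : 4 < m := by omega
  obtain ⟨S, hS, QS⟩ := exists_isSyl_le h0.isP le_top
  have SN := h0.le_nor m4 hS.isPGroup QS
  refine hG.sc S Q hS h.el (fun e => ?_) ⟨QS, fun u hu g ht => by_contra fun r => ?_⟩
  · have := h.card
    rw [e, card_bot] at this
    nlinarith
  obtain ⟨P, hP, AP⟩ := exists_isSyl_le (H := cen1 (g * u * g⁻¹)) (h0.isP.to_le inf_le_left) inf_le_right
  obtain ⟨c, hc', k⟩ := hP.exists_cj_le (h0.cj g).isP ((h0.cj g).ab.trans (cen_le_cen1 (conj_mem_cj hu)))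
  have h1 := (h0.cj g).cj c
  have h2 := h1.two _ (AP.trans (h1.le_nor m4 hP.isPGroup k)) fun a ha => h0.sq' ha.1 _
  rw [h0.cen _ (SN ht) r ((h0.cj g).sq' (conj_mem_cj hu) _), cj_cj] at h2
  have := ti hG hm h0 (c * g) fun e => r (by
    have := conj_mem_cj (g := c) (conj_mem_cj (g := g) hu)
    rwa [cj_cj, e, mem_cen1.1 hc', mul_inv_cancel_right] at this)
  have := card_le_of_le (show Q ⊓ cen1 (g * u * g⁻¹) ⊓ cj (c * g) Q ≤ ⊥ from
    fun x hx => this.le ⟨hx.2, hx.1.1⟩)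
  rw [card_bot] at this
  omega

end H98.O8c
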