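/- S3275, chapter U0, section C: the `L₃(2)` configuration. -/
import Cfsg.Agent.H98.DP0CSpec

set_option autoImplicit false

namespace H98.DP0C

open Subgroup Cfsg H98 H48.DP H57.DPC H48.DP2
open scoped commutatorElement

universe u

section

variable {G : Type u} [Group G] {g : G} {A B : Subgroup G}

theorem ninf (h1 : g ∈ No A) (h2 : g ∈ No B) : g ∈ No (A ⊓ B) :=
  zpowers_le.1 (le_normalizer_inf (zpowers_le.2 h1) (zpowers_le.2 h2))

theorem nsup (h1 : g ∈ No A) (h2 : g ∈ No B) : g ∈ No (A ⊔ B) :=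
  zpowers_le.1 (le_normalizer_sup (zpowers_le.2 h1) (zpowers_le.2 h2))

theorem nno (h1 : g ∈ No A) : g ∈ No (No A) := le_normalizer h1

theorem eq_of_card_le [Finite G] (h : A ≤ B) (h' : Nat.card B ≤ Nat.card A) : A = B :=
  eq_of_le_of_card_ge h h'

end

theorem jobCL : JobCL.{u} := by
  intro ks G _ _ M Q X0 y z u h hX0 yX0 zX0 nX0 mX0
  have : Fact (Nat.Prime 2) := ⟨Nat.prime_two⟩
  let Ok : Subgroup G → Prop := fun X => IsPGroup 2 X ∧ y ∈ No X ∧ z ∈ No X ∧ ¬ X ≤ M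
  have : Nonempty {X // Ok X} := ⟨⟨X0, hX0, yX0, zX0, nX0⟩⟩
  obtain ⟨⟨X, hX, yX, zX, nX⟩, mx0⟩ :=
    Finite.exists_max fun X : {X // Ok X} => Nat.card ↥(X.1 ⊓ M)
  have mx : ∀ Y : Subgroup G, IsPGroup 2 Y → y ∈ No Y → z ∈ No Y → ¬ Y ≤ M →
      Nat.card ↥(Y ⊓ M) ≤ Nat.card ↥(X ⊓ M) := fun Y a b c d => mx0 ⟨Y, a, b, c, d⟩
  obtain ⟨yM, zM, -⟩ := Bd.mem h
  have hQ : IsPGroup 2 Q := h.o2 ▸ isPGroup_pCoreOf M
  have QM : Q ≤ M := h.o2 ▸ pCoreOf_le M
  have yQ : y ∈ No Q := h.no ▸ yM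
  have zQ : z ∈ No Q := h.no ▸ zM
  have yJ : y ∈ No (X ⊓ M) := ninf yX (le_normalizer yM)
  have zJ : z ∈ No (X ⊓ M) := ninf zX (le_normalizer zM)
  have lt : X ⊓ M < X := lt_of_le_of_ne inf_le_left fun e => nX (inf_eq_left.1 e)
  have J1 : X ⊓ M ≠ ⊥ := fun e => mX0 (by
    have := mx X0 hX0 yX0 zX0 nX0
    rw [e, card_bot] at this
    exact card_le_one_iff_eq_bot _ |>.1 this)
  have XM : X ⊓ No (X ⊓ M) ⊓ M = X ⊓ M :=
    le_antisymm (inf_le_inf_right _ inf_le_left) (le_inf (le_inf inf_le_left le_normalizer) inf_le_right)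
  have lt' := lt_inf_normalizer hX lt
  have JM : X ⊓ M ≤ M := inf_le_right
  have hJ : IsPGroup 2 ↥(X ⊓ M) := hX.to_inf_left
  generalize X ⊓ M = J at *
  have JQ : J ≤ Q := h.iso J JM hJ yJ zJ
  have nX' : ¬ X ⊓ No J ≤ M := fun e => lt'.ne' ((inf_eq_left.2 e).symm.trans XM)
  have hX' : IsPGroup 2 ↥(X ⊓ No J) := hX.to_inf_left
  have yX' := ninf yX (nno yJ)
  have zX' := ninf zX (nno zJ)
  have X'J : X ⊓ No J ≤ No J := inf_le_right
  generalize X ⊓ No J = X' at *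
  have ltQ : J < Q ⊓ No J :=
    lt_inf_normalizer hQ (lt_of_le_of_ne JQ fun e => nX' (X'J.trans (by rw [e, h.no])))
  have hQ1 : IsPGroup 2 ↥(Q ⊓ No J) := hQ.to_inf_left
  have yQ1 := ninf yQ (nno yJ)
  have zQ1 := ninf zQ (nno zJ)
  have star : ∀ H : Subgroup G, Q ⊓ No J ≤ H → X' ≤ H → y ∈ H → z ∈ H → O2 H ≤ J := by
    intro H h1 h2 h3 h4
    have nO := self_le_normalizer_pCoreOf (p := 2) H
    have hO := isPGroup_pCoreOf (p := 2) H
    have OM : O2 H ≤ M := by_contra fun k => by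
      have := mx (O2 H ⊔ Q ⊓ No J) (hO.to_sup_of_normal_left' hQ1 (h1.trans nO)) (nsup (nO h3) yQ1)
        (nsup (nO h4) zQ1) fun e => k (le_sup_left.trans e)
      exact ltQ.ne (eq_of_card_le ltQ.le ((card_le_of_le (le_inf le_sup_right
        (inf_le_left.trans QM))).trans this))
    have := mx (O2 H ⊔ X') (hO.to_sup_of_normal_left' hX' (h2.trans nO)) (nsup (nO h3) yX')
      (nsup (nO h4) zX') fun e => nX' (le_sup_right.trans e)
    exact (le_inf le_sup_left OM).trans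
      (eq_of_card_le (le_inf (lt'.le.trans le_sup_right) JM) this).ge
  have oJ : O2 (No J) = J :=
    le_antisymm (star _ inf_le_right X'J yJ zJ) (le_pCoreOf hJ le_normalizer le_rfl)
  obtain ⟨i, L, k⟩ := ks G M Q (No J) y z u h (no_ne_top h.toHyp hJ J1) yJ zJ
    (fun e => nX' (X'J.trans e)) fun e => ltQ.not_ge (e.trans oJ.le)
  have Q1L : Q ⊓ No J ≤ L := k.two _ inf_le_right hQ1 ((nor_shift zQ1 i).2 yQ1)
  have X'L : X' ≤ L := k.two _ X'J hX' ((nor_shift zX' i).2 yX')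
  have JL : J ≤ L := oJ ▸ k.OL
  refine ⟨y * z ^ i, J, L, Bd.shift h i, J1, JQ, oJ, JL, k.LH, k.nor, k.two, oJ ▸ k.iso, k.zL,
    k.yH, oJ ▸ k.yL, ?_, fun e => nX' (X'L.trans e),
    fun Y a b c d => mx Y a ((nor_shift c i).1 b) c d, fun N hN N1 LN yN => ?_⟩
  · have := k.four (Q ⊓ L) inf_le_right hQ.to_inf_left (ninf zQ (le_normalizer k.zL))
      (oJ.le.trans (le_inf JQ JL))
    rw [oJ] at this
    exact this.resolve_left fun e => ltQ.not_ge ((le_inf inf_le_left Q1L).trans e.le)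
  · have zN : z ∈ No N := LN k.zL
    have yN' : y ∈ No N := (nor_shift zN i).1 yN
    have OJ := star (No N) (Q1L.trans LN) (X'L.trans LN) yN' zN
    obtain ⟨j, L2, k2⟩ := ks G M Q (No N) y z u h (no_ne_top h.toHyp hN N1) yN' zN
      (fun e => nX' ((X'L.trans LN).trans e))
      fun e => ltQ.not_ge (((le_inf inf_le_left (Q1L.trans LN)).trans e).trans OJ)
    have a := k2.four J (k2.two _ (JL.trans LN) hJ ((nor_shift zJ j).2 yJ)) hJ zJ OJ
    have b := (k2.four _ (k2.two _ (Q1L.trans LN) hQ1 ((nor_shift zQ1 j).2 yQ1)) hQ1 zQ1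
      (OJ.trans ltQ.le)).resolve_left fun e => ltQ.not_ge (e.le.trans OJ)
    rcases a with a | a
    · rw [a]; exact self_le_normalizer_pCoreOf _
    · have := relIndex_mul_relIndex _ _ _ OJ ltQ.le
      rw [a, b] at this
      exact absurd (relIndex_eq_one.1 (show J.relIndex (Q ⊓ No J) = 1 by omega)) ltQ.not_ge

end H98.DP0C
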