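/- S3275, chapter alpha: pushing up over `S₃`. -/
import Cfsg.Agent.H48.DP0Spec
import Cfsg.Agent.H52.Chief
import Cfsg.Agent.H98.RD

set_option autoImplicit false

namespace H98.DpPU

open Subgroup Cfsg H98 H48.DP
open scoped commutatorElement

universe u

variable {G : Type u} [Group G] [Finite G]

omit [Finite G] in
theorem mx {A B C : Subgroup G} {p : ℕ} (hp : p.Prime) (h : A.relIndex C = p) (h1 : A ≤ B)
    (h2 : B ≤ C) : B = A ∨ B = C := by
  have e := relIndex_mul_relIndex A B C h1 h2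
  rw [h] at e
  rcases (Nat.dvd_prime hp).1 (Dvd.intro _ e) with k | k
  · exact .inl (le_antisymm (relIndex_eq_one.1 k) h1)
  · rw [k] at e
    exact .inr (le_antisymm h2 (relIndex_eq_one.1 (by
      simpa [hp.ne_zero] using (Nat.mul_eq_left hp.ne_zero).1 e)))

theorem pu (D V Q : Subgroup G) (y s : G) (hD : IsPGroup 2 D) (VD : V ≤ D) (i2 : V.relIndex D = 2)
    (QV : Q ≤ V) (cQ : Ce Q ≤ Q) (y3 : orderOf y = 3) (yV : y ∈ No V) (DV : D ≤ No V) (sD : s ∈ D)
    (sV : s ∉ V) (sy : s * y * s⁻¹ * y ∈ V) (nc : ¬ ⁅D, D⁆ ≤ Q) :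
    ∃ C : Subgroup G, C ≠ ⊥ ∧ IsPGroup 2 C ∧ No D ≤ No C ∧ y ∈ No C := by
  have : Fact (Nat.Prime 2) := ⟨Nat.prime_two⟩
  have hV : IsPGroup 2 V := hD.to_le VD
  have y2 : y ^ 2 ∉ D := fun h => by
    obtain ⟨k, hk⟩ := hD ⟨_, h⟩
    have h1 : y ^ (2 * 2 ^ k) = 1 := by rw [pow_mul]; exact congrArg Subtype.val hk
    have h2 := orderOf_dvd_of_pow_eq_one h1
    rw [y3, ← pow_succ'] at h2
    exact absurd (Nat.prime_three.dvd_of_dvd_pow h2) (by norm_num)
  have yD : y ∉ D := fun h => y2 (pow_mem h 2)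
  have yA : y ∈ zpowers y ⊔ V := mem_sup_left (mem_zpowers y)
  have i3 : V.relIndex (zpowers y ⊔ V) = 3 := by
    rw [relIndex_sup_of_norm (zpowers_le.2 yV)]
    have e := relIndex_mul_relIndex ⊥ (V ⊓ zpowers y) (zpowers y) bot_le inf_le_right
    have e3 : (⊥ : Subgroup G).relIndex (zpowers y) = 3 := by
      rw [relIndex_bot_left, Nat.card_zpowers, y3]
    rcases mx Nat.prime_three e3 bot_le (inf_le_right (a := V)) with k | k
    · rw [← inf_relIndex_right, k, e3]
    · exact absurd (VD (inf_eq_right.1 k (mem_zpowers y))) yD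
  have sA : s ∈ No (zpowers y ⊔ V) := mem_normalizer_of_cj_le (by
    rw [cj_sup, cj_eq_self (DV sD)]
    refine sup_le ?_ le_sup_right
    rw [cj, MonoidHom.map_zpowers, zpowers_le]
    have := mul_mem (mem_sup_right sy : _ ∈ zpowers y ⊔ V) (inv_mem yA)
    rwa [mul_inv_cancel_right] at this)
  have DA : D ≤ No (zpowers y ⊔ V) := by
    rcases mx Nat.prime_two i2 (le_inf VD (le_sup_right.trans le_normalizer))
      (inf_le_left (b := No (zpowers y ⊔ V))) with k | k
    · exact absurd (k ▸ (⟨sD, sA⟩ : s ∈ D ⊓ No (zpowers y ⊔ V))) sV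
    · exact inf_eq_left.1 k
  obtain ⟨L, hL⟩ : ∃ L, L = D ⊔ (zpowers y ⊔ V) := ⟨_, rfl⟩
  have DL : D ≤ L := hL ▸ le_sup_left
  have yL : y ∈ L := hL ▸ mem_sup_right yA
  have LV : L ≤ No V := hL ▸ sup_le DV (sup_le (zpowers_le.2 yV) le_normalizer)
  have j3 : D.relIndex L = 3 := by
    rw [hL, H96.relIndex_sup_of_le_normalizer DA, ← inf_relIndex_right]
    rcases mx Nat.prime_three i3 (le_inf VD le_sup_right) inf_le_right with k | k
    · rw [k, i3]
    · exact absurd (inf_eq_right.1 k yA) yD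
  have hS : IsSyl 2 D L := isSyl_of_not_dvd_relIndex DL hD (by rw [j3]; norm_num)
  have oV : pCoreOf 2 L = V := by
    refine (mx Nat.prime_two i2 (le_pCoreOf hV (VD.trans DL) LV) hS.pCoreOf_le).resolve_right
      fun k => y2 ?_
    have hy : y ∈ No D := k ▸ self_le_normalizer_pCoreOf L yL
    have := mul_mem (inv_mem (mul_mem sD (conj_mem_of_mem_normalizer hy (inv_mem sD)))) (VD sy)
    convert this using 1
    rw [sq]; group
  have i6 : V.relIndex L = 6 := by rw [← relIndex_mul_relIndex V D L VD DL, i2, j3]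
  have sy' : ∀ T, IsSyl 2 T L → V ≤ T ∧ V.relIndex T = 2 ∧ T.relIndex L = 3 := fun T hT => by
    have h1 : V ≤ T := oV ▸ hT.pCoreOf_le
    have e := relIndex_mul_relIndex V T L h1 hT.le
    have h2 := hT.not_dvd_relIndex
    obtain ⟨k, hk⟩ := hT.isPGroup.index (V.subgroupOf T)
    have h3 : ¬ 3 ∣ V.relIndex T := fun d =>
      absurd (Nat.prime_three.dvd_of_dvd_pow (hk ▸ d : 3 ∣ 2 ^ k)) (by norm_num)
    rw [i6] at e
    have h4 := Nat.le_of_dvd (by norm_num) (Dvd.intro _ e)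
    generalize V.relIndex T = a at *
    generalize T.relIndex L = b at *
    refine ⟨h1, ?_⟩
    interval_cases a <;> omega
  have r1 : H52.R1 2 2 L := by
    refine ⟨fun T hT => ⟨T, le_rfl, lt_of_le_of_ne hT.le fun e => ?_, fun X a b =>
      (mx Nat.prime_three (sy' T hT).2.2 a b).imp_left fun e => e.le⟩, fun T hT => ?_, one_lt_two,
      fun T hT => ?_, fun T hT t ht => ?_, fun T T' hT hT' e t ht h1 H h2 h3 => ?_,
      fun T hT B h1 h2 _ => ?_⟩
    · have := (sy' T hT).2.2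
      rw [e, relIndex_self] at this
      omega
    · rw [oV, ← (sy' T hT).2.1, ← relIndex_bot_left, ← relIndex_bot_left, mul_comm,
        relIndex_mul_relIndex _ _ _ bot_le (sy' T hT).1]
    · rw [oV]
      refine commutator_le.2 fun a ha b hb => ?_
      have k := fun (x y : T) => mul_mem_iff_of_index_two (sy' T hT).2.1 (a := x) (b := y)
      have := (k (⟨a, ha⟩ * ⟨b, hb⟩) (⟨b, hb⟩ * ⟨a, ha⟩)⁻¹).2 (by rw [inv_mem_iff, k, k]; tauto)
      have h : a * b * (b * a)⁻¹ ∈ V := this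
      rwa [commutatorElement_def, mul_assoc, ← mul_inv_rev]
    · rw [oV]
      exact sq_mem_of_index_two (sy' T hT).2.1 ⟨t, ht⟩
    · rw [oV] at h1
      rcases mx Nat.prime_two (sy' T' hT').2.1 (le_inf (sy' T' hT').1 ((sy' T hT).1.trans h2))
        inf_le_left with k | k
      · exact absurd (k ▸ (⟨ht, h3⟩ : t ∈ T' ⊓ H)) h1
      · exact e ▸ sup_le h2 (inf_eq_left.1 k)
    · rw [oV] at h1 ⊢
      exact mx Nat.prime_two (sy' T hT).2.1 h1 h2
  have hc : H98.CharP 2 L := by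
    unfold H98.CharP
    rw [oV]
    exact inf_le_right.trans (((centralizer_anti QV).trans cQ).trans QV)
  by_contra! hn
  have hd : H52.NoChar L D := fun N h1 h2 h3 h4 => hn N h2 (hD.to_le h1) (by
    have := normalizer_le_normalizer_map_subtype (N.subgroupOf D)
    rwa [map_subgroupOf_eq_of_le h1] at this) (h4 yL)
  rcases r1.push hc hS hd with ⟨A, h⟩ | ⟨A, Y, g, h⟩
  · have := hd.lcs_eq_bot hS h.dec h.dec_cent inf_le_left h.Y_lcs
    exact nc (((commutator_eq_bot_iff_le_centralizer.1 this).trans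
      (centralizer_anti (QV.trans VD))).trans cQ)
  · exact absurd h.eq_three (by norm_num)

end H98.DpPU
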