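import Cfsg.Agent.H48.DP1Spec
import Cfsg.Agent.S3121
import Cfsg.Agent.H84.Inv

/-! S3275, chapter (1), slot UR1: the Sylow `2`-subgroups of `C(L)` are cyclic. -/

set_option autoImplicit false
set_option linter.unusedSectionVars false

namespace H98.DpUR1

open Subgroup Cfsg H48.DP

universe u

variable {G : Type u} [Group G] [Finite G] {L : Subgroup G} {a b s x y g i j k l w : G}

theorem ord2 (h : w * w = 1) (h1 : w ≠ 1) : orderOf w = 2 :=
  orderOf_eq_prime (by rw [pow_two, h]) h1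

theorem mc1 : w ∈ C1 l ↔ w * l = l * w := mem_centralizer_singleton_iff

/-- `⟨i, j⟩` is quaternion or dihedral of order `8`. -/
structure Q8 {G : Type u} [Group G] (i j : G) : Prop where
  ne : i * i ≠ 1
  i4 : i * i * (i * i) = 1
  j4 : j * j * (j * j) = 1
  ji : j * i * j⁻¹ = i⁻¹

theorem Q8.nc (h : Q8 i j) : i * j ≠ j * i := fun e =>
  h.ne (mul_eq_one_iff_eq_inv.2 (by rw [← h.ji, ← e, mul_inv_cancel_right]))

theorem Q8.ct (h : Q8 i j) : j * (i * i) = i * i * j := by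
  rw [← mul_inv_eq_iff_eq_mul, ← conj_mul, h.ji, ← mul_inv_rev]
  exact inv_eq_of_mul_eq_one_right h.i4

theorem Q8.map {H : Type u} [Group H] (h : Q8 i j) (f : G →* H) (hf : f i * f i ≠ 1) :
    Q8 (f i) (f j) :=
  ⟨hf, by simpa using congrArg f h.i4, by simpa using congrArg f h.j4, by simpa using congrArg f h.ji⟩

structure St (L : Subgroup G) (a b s x y : G) : Prop extends UM L a b s x y where
  std : IsStandardSubgroup L
  nlk : ∀ n ∈ No L, ∃ l ∈ L, l⁻¹ * n ∈ Ce L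

/-- the `2`-subgroups of `C_K(k)` are cyclic of order at most `4` -/
def Sm (L : Subgroup G) (k : G) : Prop :=
  ∀ U ≤ Ce L, IsPGroup 2 U → U ≤ C1 k → IsCyclic U ∧ Nat.card U ≤ 4

namespace St

variable (h : St L a b s x y)
include h

theorem eq1 (h1 : w ∈ L) (h2 : w ∈ Ce L) : w = 1 := mem_bot.1 (h.cen ▸ mem_inf.2 ⟨h1, h2⟩)

theorem ii : b⁻¹ * a * (b⁻¹ * a) = a ^ 2 * b ^ 2 := by
  have c : Commute a b := h.ab
  rw [← pow_two, (c.symm.inv_left).mul_pow, inv_pow, ← (c.pow_pow 2 2).inv_right.eq,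
    inv_eq_of_mul_eq_one_right (by rw [← pow_add, h.b4] : b ^ 2 * b ^ 2 = 1)]

theorem q8 : Q8 (b⁻¹ * a) (s * (a ^ 2)⁻¹) := by
  have c : Commute a b := h.ab
  have si := inv_eq_of_mul_eq_one_right h.s2
  have sb : s * b * s⁻¹ = a := by
    rw [← h.sa, show s * (s * a * s⁻¹) * s⁻¹ = s * s * a * (s * s)⁻¹ by group, h.s2]; simp
  have z2 : a ^ 2 * b ^ 2 * (a ^ 2 * b ^ 2) = 1 := by
    rw [← pow_two, (c.pow_pow 2 2).mul_pow, ← pow_mul, ← pow_mul, h.a4, h.b4, mul_one]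
  refine ⟨?_, by rw [h.ii, z2], ?_, ?_⟩
  · rw [h.ii]
    exact fun e => absurd (h.ind 2 2 (by simpa [zpow_ofNat] using e)).1 (by decide)
  · have : s * (a ^ 2)⁻¹ * (s * (a ^ 2)⁻¹) = (a ^ 2 * b ^ 2)⁻¹ := by
      rw [← h.sa, conj_pow]
      nth_rw 2 [← si]
      group
    rw [this, ← mul_inv_rev, z2, inv_one]
  · have : (a ^ 2)⁻¹ * (b⁻¹ * a) = b⁻¹ * a * (a ^ 2)⁻¹ :=
      ((c.inv_right.mul_right (Commute.refl a)).pow_left 2).inv_left.eq
    rw [mul_assoc s, this, mul_inv_rev, inv_inv, ← mul_assoc, mul_assoc s, inv_mul_cancel_right,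
      ← conj_mul, h.sa, show s * b⁻¹ * s⁻¹ = a⁻¹ by rw [← sb]; group, mul_inv_rev, inv_inv]

theorem zL : a ^ 2 * b ^ 2 ∈ L := mul_mem (pow_mem h.aL 2) (pow_mem h.bL 2)

theorem zo : orderOf (a ^ 2 * b ^ 2) = 2 := h.ii ▸ ord2 h.q8.i4 h.q8.ne

theorem cen8 (q : Q8 i j) (hi : i ∈ L) (hj : j ∈ L) (hw : w ∈ L) (w2 : w * w = 1)
    (c1 : w * i = i * w) (c2 : w * j = j * w) : w = 1 ∨ w = i * i := by
  by_contra! n
  obtain ⟨m, m1, m2⟩ := h.one _ (mul_mem hi hi) (ord2 q.i4 q.ne)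
  have cj : ∀ (m : G) {c d : G}, Commute c d → Commute (m * c * m⁻¹) (m * d * m⁻¹) :=
    fun m _ _ e => e.map (MulAut.conj m)
  have c3 : Commute w (i * i) := Commute.mul_right c1 c1
  obtain ⟨m', m3, m4, m5⟩ := h.two (m * w * m⁻¹) (mul_mem (mul_mem m1 hw) (inv_mem m1))
    (ord2 (by rw [conj_mul, w2]; simp) (by simpa using n.1)) (m2 ▸ cj m c3)
    (by rw [← m2]; simpa using n.2)
  have k : ∀ c ∈ L, Commute c w → Commute c (i * i) →
      m' * (m * c * m⁻¹) * m'⁻¹ ∈ closure {a, b} := fun c hc e1 e2 => by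
    have e3 := m5 ▸ cj m' (cj m e1)
    have e4 := cj m' (m2 ▸ cj m e2)
    rw [m4.eq, mul_inv_cancel_right] at e4
    exact h.cV _ (mul_mem (mul_mem m3 (mul_mem (mul_mem m1 hc) (inv_mem m1))) (inv_mem m3)) e3
      (by simpa using e3.inv_right.mul_right e4)
  have ab : closure {a, b} ≤ centralizer (closure {a, b} : Subgroup G) := (closure_le _).2 (by
    rw [centralizer_closure]
    rintro _ (rfl | rfl) _ (rfl | rfl) <;> simp [h.ab])
  have := ab (k j hj c2.symm q.ct) _ (k i hi c1.symm (mul_assoc _ _ _).symm)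
  rw [conj_mul, conj_mul, conj_mul, conj_mul] at this
  exact q.nc (by simpa using this)

theorem cr (hw : w ∈ cj g (Ce L)) (o : orderOf w = 2) : C1 w ≤ cj g (No L) := fun c hc =>
  mem_cj.2 (H14.std_centralizer_le h.std (t := g⁻¹ * w * g)
    (by rw [← o]; simpa using (MulAut.conj g⁻¹).orderOf_eq w) (mem_cj.1 hw) (mc1.2 (by
      rw [show g⁻¹ * c * g * (g⁻¹ * w * g) = g⁻¹ * (c * w) * g by group, mc1.1 hc]; group)))

theorem dis (hg : g ∉ No L) (h1 : w ∈ Ce L) (h2 : w ∈ cj g (Ce L)) {m : ℕ} (h3 : w ^ 2 ^ m = 1) :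
    w = 1 := by
  have o := (h.std.2.1.2 g (h.std.2.2.2 ▸ hg)).of_dvd_nat (orderOf_dvd_natCard _ (mem_inf.2 ⟨h1, h2⟩))
  exact orderOf_eq_one_iff.1 (Nat.Coprime.eq_one_of_dvd ((Nat.coprime_two_right.2 o).pow_right m)
    (orderOf_dvd_of_pow_eq_one h3))

theorem nk {n : G} (hn : n ∈ cj g (No L)) (hw : w ∈ cj g (Ce L)) : n * w * n⁻¹ ∈ cj g (Ce L) := by
  have e : No L = No (Ce L) := h.std.2.2.2
  rw [e, cj_normalizer] at hn
  exact conj_mem_of_mem_normalizer hn hw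

theorem rho (g : G) : ∃ ρ : cj g (No L) →* G, (∀ n, ρ n ∈ L) ∧ ∀ n, ρ n = 1 ↔ n.1 ∈ cj g (Ce L) := by
  choose f f1 f2 using fun n : cj g (No L) => h.nlk _ (mem_cj.1 n.2)
  have u : ∀ n, ∀ l ∈ L, l⁻¹ * (g⁻¹ * n.1 * g) ∈ Ce L → f n = l := fun n l h1 h2 =>
    inv_mul_eq_one.1 (h.eq1 (mul_mem (inv_mem (f1 n)) h1) (by
      simpa [mul_assoc] using mul_mem (f2 n) (inv_mem h2)))
  refine ⟨MonoidHom.mk' f fun n n' => u _ _ (mul_mem (f1 n) (f1 n')) ?_, f1, fun n =>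
    ⟨fun e => mem_cj.2 ?_, fun e => u n 1 (one_mem _) (by simpa using mem_cj.1 e)⟩⟩
  · have := mul_mem (f2 n) (f2 n')
    rw [← mul_assoc, ← f2 n _ (inv_mem (f1 n'))] at this
    simpa [mul_assoc] using this
  · simpa [show f n = 1 from e] using f2 n

theorem inv2 (hl : l ∈ L) (hk : k ∈ Ce L) (l1 : l ≠ 1) (l2 : l * l = 1) (k2 : k * k = 1) :
    orderOf (l * k) = 2 := ord2 (by rw [mul_assoc, ← mul_assoc k, ← hk l hl, mul_assoc, k2, mul_one, l2])
      fun e => l1 (h.eq1 hl (eq_inv_of_mul_eq_one_left e ▸ inv_mem hk))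

theorem ab0 (hg : g ∉ No L) (hk : k ∈ Ce L) (k2 : k * k = 1)
    (hr : a ^ 2 * b ^ 2 * k ∈ cj g (Ce L)) :
    Sm L k ∨ k = 1 ∧ b⁻¹ * a ∈ cj g (Ce L) ∧ s * (a ^ 2)⁻¹ ∈ cj g (Ce L) := by
  have c : Commute a b := h.ab
  have q := h.q8
  have cr := h.cr hr (h.inv2 h.zL hk (h.ii ▸ q.ne) (h.ii ▸ q.i4) k2)
  have J : ∀ c ∈ L, Commute c (a ^ 2 * b ^ 2) → c ∈ cj g (No L) := fun c h1 h2 =>
    cr (mc1.2 (h2.mul_right (hk c h1)))
  have yN := J y h.yL (c.mul_pow 2 ▸ h.yc.pow_right 2)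
  have a2 : Commute (a ^ 2) (a ^ 2 * b ^ 2) := (Commute.refl _).mul_right (c.pow_pow 2 2)
  by_cases hy : y ∈ cj g (Ce L)
  · have k : ∀ c ∈ cj g (No L), y * c * y⁻¹ * c⁻¹ ∈ cj g (Ce L) := fun c hc => by
      simpa [mul_assoc] using mul_mem hy (h.nk hc (inv_mem hy))
    have k1 := k _ (J _ (pow_mem h.aL 2) a2)
    have k3 := k s (J s h.sL (by
      have := a2.inv_left
      rw [← h.ii] at this ⊢
      simpa using (Commute.mul_left q.ct this.inv_left)))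
    rw [h.y1] at k1
    rw [h.y2, show s * a⁻¹ * b * s⁻¹ = (s * a * s⁻¹)⁻¹ * (s * (s * a * s⁻¹) * s⁻¹) by
      conv_rhs => rw [h.sa]
      rw [← h.sa]; group, show s * (s * a * s⁻¹) * s⁻¹ = s * s * a * (s * s)⁻¹ by group, h.s2, h.sa,
      one_mul, inv_one, mul_one] at k3
    exact .inr ⟨h.dis hg hk ((mul_mem_cancel_left (h.ii ▸ mul_mem k3 k3)).1 hr) (m := 1)
      (by rw [pow_one, pow_two, k2]), k3, k1⟩
  refine .inl fun U h1 h2 h3 => ?_
  obtain ⟨ρ, r1, r2⟩ := h.rho g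
  have hU : U ≤ cj g (No L) := fun u hu =>
    cr (mc1.2 (Commute.mul_right (h1 hu _ h.zL).symm (mc1.1 (h3 hu))))
  have inj : Function.Injective (ρ.comp (inclusion hU)) := (injective_iff_map_eq_one _).2 fun u e =>
    let ⟨m, hm⟩ := h2 u
    Subtype.ext (h.dis hg (h1 u.2) ((r2 _).1 e) (congrArg Subtype.val hm))
  have e := MonoidHom.ofInjective inj
  obtain ⟨c1, c2⟩ := h.c3 (ρ ⟨y, yN⟩) (r1 _) (orderOf_eq_prime (by
    rw [← map_pow, ← map_one ρ]; exact congrArg ρ (Subtype.ext h.y3)) fun e => hy ((r2 _).1 e))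
    (ρ.comp (inclusion hU)).range (by rintro _ ⟨u, rfl⟩; exact r1 _) (h2.of_equiv e) (by
      rintro _ ⟨u, rfl⟩
      refine mc1.2 ?_
      rw [MonoidHom.comp_apply, ← map_mul, ← map_mul]
      exact congrArg ρ (Subtype.ext (h1 u.2 y h.yL).symm))
  exact ⟨e.isCyclic.2 c1, Nat.card_congr e.toEquiv ▸ c2⟩

theorem ab1 (hg : g ∉ No L) (hl : l ∈ L) (hk : k ∈ Ce L) (l1 : l ≠ 1) (l2 : l * l = 1)
    (k2 : k * k = 1) (hr : l * k ∈ cj g (Ce L)) : Sm L k ∨ k = 1 ∧ ∃ g ∉ No L,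
      b⁻¹ * a ∈ cj g (Ce L) ∧ s * (a ^ 2)⁻¹ ∈ cj g (Ce L) := by
  obtain ⟨m, m1, m2⟩ := h.one l hl (ord2 l2 l1)
  have hg' : m * g ∉ No L := fun e => hg ((mul_mem_cancel_left (le_normalizer m1)).1 e)
  refine (h.ab0 hg' hk k2 ?_).imp_right fun e => ⟨e.1, _, hg', e.2⟩
  rw [← cj_cj, ← m2, mul_assoc, hk _ (inv_mem m1), ← mul_assoc, mul_assoc m]
  exact conj_mem_cj hr

theorem notB (hg : g ∉ No L) (hi : b⁻¹ * a ∈ cj g (Ce L)) (hj : s * (a ^ 2)⁻¹ ∈ cj g (Ce L)) :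
    False := by
  have c : Commute a b := h.ab
  have zK : a ^ 2 * b ^ 2 ∈ cj g (Ce L) := h.ii ▸ mul_mem hi hi
  have cz := h.cr zK h.zo
  have KN : Ce L ≤ cj g (No L) := fun k hk => cz (mc1.2 (hk _ h.zL).symm)
  have q := h.q8.map (MulAut.conj g⁻¹).toMonoidHom fun e => h.q8.ne
    ((MulAut.conj g⁻¹).injective (by rw [map_one, map_mul]; exact e))
  replace hi : (MulAut.conj g⁻¹).toMonoidHom (b⁻¹ * a) ∈ Ce L := by simpa using mem_cj.1 hi
  replace hj : (MulAut.conj g⁻¹).toMonoidHom (s * (a ^ 2)⁻¹) ∈ Ce L := by simpa using mem_cj.1 hj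
  generalize (MulAut.conj g⁻¹).toMonoidHom (b⁻¹ * a) = i at q hi
  generalize (MulAut.conj g⁻¹).toMonoidHom (s * (a ^ 2)⁻¹) = j at q hj
  have aL := pow_mem h.aL 2
  have a2 : a ^ 2 * a ^ 2 = 1 := by rw [← pow_add, h.a4]
  have a1 : a ^ 2 ≠ 1 := fun e => absurd (h.ind 2 0 (by simpa [zpow_ofNat] using e)).1 (by decide)
  have aN : a ^ 2 ∈ cj g (No L) := cz (mc1.2 ((Commute.refl _).mul_right (c.pow_pow 2 2)))
  obtain ⟨ρ, r1, r2⟩ := h.rho g
  have q' : Q8 (⟨i, KN hi⟩ : cj g (No L)) ⟨j, KN hj⟩ := ⟨fun e => q.ne (congrArg Subtype.val e),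
    Subtype.ext q.i4, Subtype.ext q.j4, Subtype.ext q.ji⟩
  have q2 := q'.map ρ fun e => q.ne (h.dis hg (mul_mem hi hi) ((r2 (_ * _)).1 ((map_mul ρ _ _).trans e))
    (m := 1) (by rw [pow_one, pow_two, q.i4]))
  have cm : ∀ k (hk : k ∈ Ce L), ρ ⟨_, aN⟩ * ρ ⟨k, KN hk⟩ = ρ ⟨k, KN hk⟩ * ρ ⟨_, aN⟩ := fun k hk => by
    rw [← map_mul, ← map_mul]; exact congrArg ρ (Subtype.ext (hk _ aL))
  rcases h.cen8 q2 (r1 _) (r1 _) (r1 ⟨_, aN⟩) (by
    rw [← map_mul, ← map_one ρ]; exact congrArg ρ (Subtype.ext a2)) (cm i hi) (cm j hj) with e | e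
  · have LN : L ≤ cj g (No L) := h.gen.trans (sup_le (inf_le_right.trans cz)
      (inf_le_right.trans (h.cr ((r2 _).1 e) (ord2 a2 a1))))
    have := h.simple
    refine h.std.2.2.1 g (fun e => hg (cj_eq_self_iff.1 e)) (commutator_eq_bot_iff_le_centralizer.2 ?_)
    rw [← cj_centralizer]
    rcases (⟨fun w hw n => h.nk (LN n.2) hw⟩ : ((cj g (Ce L)).subgroupOf L).Normal).eq_bot_or_eq_top
      with e | e
    · exact absurd (congrArg Subtype.val (mem_bot.1 (e.le (show (⟨_, h.zL⟩ : L) ∈ _ from zK))))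
        (show a ^ 2 * b ^ 2 ≠ 1 by rw [← h.ii]; exact h.q8.ne)
    · exact subgroupOf_eq_top.1 e
  rcases h.ab1 hg aL (mul_mem hi hi) a1 a2 q.i4 ((r2 (⟨_, aN⟩ * (⟨i, KN hi⟩ * ⟨i, KN hi⟩))).1 (by
    rw [map_mul, map_mul, e, q2.i4])) with e | e
  · have p : ∀ {i : G}, i * i * (i * i) = 1 → IsPGroup 2 (zpowers i) := fun e =>
      isPGroup_zpowers (k := 2) (by rw [← e]; simp [pow_succ, mul_assoc])
    obtain ⟨c1, -⟩ := e (zpowers i ⊔ zpowers j) (sup_le (zpowers_le.2 hi) (zpowers_le.2 hj))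
      ((p q.i4).to_sup_of_normal_left' (p q.j4) (zpowers_le.2 (mem_normalizer_of_cj_le (by
        rw [cj, MonoidHom.map_zpowers, zpowers_le]
        change j * i * j⁻¹ ∈ zpowers i
        rw [q.ji]; exact inv_mem (mem_zpowers i)))))
      (sup_le (zpowers_le.2 (mc1.2 (mul_assoc _ _ _).symm)) (zpowers_le.2 (mc1.2 q.ct)))
    exact q.nc (congrArg Subtype.val (c1.isMulCommutative.is_comm.comm
      (⟨i, mem_sup_left (mem_zpowers i)⟩ : ↥(zpowers i ⊔ zpowers j)) ⟨j, mem_sup_right (mem_zpowers j)⟩))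
  · exact q.ne e.1

theorem cyc (hk : k ∈ Ce L) (k2 : k * k = 1) (e : Sm L k) {R : Subgroup G} (hR : IsSyl 2 R (Ce L)) :
    IsCyclic R ∧ Nat.card R ≤ 4 := by
  obtain ⟨P, hP, kP⟩ := exists_isSyl_le (p := 2) (isPGroup_zpowers (x := k) (k := 1)
    (by rw [pow_one, pow_two, k2])) (zpowers_le.2 hk)
  have kP := kP (mem_zpowers k)
  have key : P ≤ C1 k := by
    by_cases k1 : k = 1
    · exact fun u _ => mc1.2 (by simp [k1])
    obtain ⟨c, cP, oc, cc⟩ := H14.exists_central_involution hP.isPGroup fun e => k1 (mem_bot.1 (e ▸ kP))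
    obtain rfl : c = k := H84.eq_of_mem_isCyclic_of_orderOf_two
      (e (P ⊓ C1 k) (inf_le_left.trans hP.le) (hP.isPGroup.to_le inf_le_left) inf_le_right).1
      ⟨cP, mc1.2 (cc k kP).symm⟩ ⟨kP, mc1.2 rfl⟩ oc (ord2 k2 k1)
    exact fun u hu => mc1.2 (cc u hu)
  obtain ⟨c1, c2⟩ := e P hP.le hP.isPGroup key
  obtain ⟨m, -, rfl⟩ := hR.exists_cj_eq hP
  exact ⟨(R.equivMapOfInjective _ (MulAut.conj m).injective).isCyclic.2 c1, card_cj m R ▸ c2⟩

end St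

theorem jobUR1 : JobUR1.{u} := by
  intro act G _ _ hy L a b s x y std u3 um
  have := hy.simple
  have LK : ¬ L ≤ Ce L := fun e => by
    have := um.card
    rw [← inf_eq_left.2 e, um.cen, card_bot] at this
    omega
  have h : St L a b s x y := ⟨um, std, fun n hn => by
    have e := subgroupOfEquivOfLe (le_normalizer : L ≤ No L)
    have := um.simple
    have := e.isSimpleGroup
    have c : center ↥(L.subgroupOf (No L)) = ⊥ := (eq_bot_iff_forall _).2 fun z hz =>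
      Subtype.ext (Subtype.ext (mem_bot.1 (um.cen ▸ mem_inf.2 ⟨z.2, fun l hl =>
        congrArg (·.1.1) (mem_center_iff.1 hz ⟨⟨l, le_normalizer hl⟩, hl⟩)⟩)))
    obtain ⟨F, _, _, f1, ⟨f2⟩⟩ := u3
    obtain ⟨l, l1, l2⟩ := (act (No L) (hy.nd.sub _) (L.subgroupOf (No L))
      ⟨Normal.isSubnormal inferInstance, (H14.quasi_congr e).2 std.1⟩ (.inr (.inr ⟨F, _, _, f1,
        ⟨((QuotientGroup.quotientMulEquivOfEq c).trans QuotientGroup.quotientBot).trans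
          (e.trans f2)⟩⟩))).2 ⟨n, hn⟩ (le_normalizer_of_normal (mem_top _))
    exact ⟨l, l1, fun m hm => congrArg Subtype.val (l2 ⟨m, le_normalizer hm⟩ hm)⟩⟩
  have F : generalizedFittingSubgroup G = ⊤ :=
    (inferInstance : (generalizedFittingSubgroup G).Normal).eq_bot_or_eq_top.resolve_left
      H14.fstar_ne_bot
  have e : generalizedFittingSubgroup G ≃* G := (MulEquiv.subgroupCongr F).trans topEquiv
  obtain ⟨g, hg, r, r1, o⟩ : ∃ g ∉ No L, ∃ r ∈ cj g (Ce L) ⊓ No L, orderOf r = 2 := by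
    by_contra! no
    rcases Cfsg.Agent.S3121.result e.isSimpleGroup (fun c => hy.nc ⟨⟨fun p q => e.symm.injective (by
        rw [map_mul, map_mul, c.is_comm.comm])⟩⟩) _ std.2.1 (fun g hg =>
          Nat.not_even_iff_odd.1 fun ev => by
        rw [← std.2.2.2] at hg ev
        obtain ⟨r, hr, o⟩ := H14.exists_involution_mem ev.two_dvd
        exact no g hg r hr o) with hn | ⟨M, hM⟩
    · rcases hn.eq_bot_or_eq_top with k | k
      · have := std.2.1.1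
        rw [k, card_bot] at this
        exact absurd this (by decide)
      · exact LK (le_top.trans k.ge)
    obtain ⟨h1, ⟨t, ht, ho⟩, h3⟩ := (H88.isStronglyEmbedded_iff M).1 hM
    refine hy.se (M.comap (e.symm : G →* _)) ((H88.isStronglyEmbedded_iff _).2 ⟨fun k => h1 ?_,
      ⟨e t, by simpa using ht, by rw [e.orderOf_eq, ho]⟩, fun s hs so g hg =>
        h3 (e.symm s) hs (by rw [e.symm.orderOf_eq, so]) _ (by simpa using hg)⟩)
    rw [← map_comap_eq_self_of_surjective (f := (e.symm : G →* _)) e.symm.surjective M, k,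
      map_top_of_surjective _ e.symm.surjective]
  obtain ⟨l, hl, hk⟩ := h.nlk r r1.2
  obtain ⟨k, rfl⟩ : ∃ k, r = l * k := ⟨l⁻¹ * r, by simp⟩
  rw [inv_mul_cancel_left] at hk
  have rr : l * l * (k * k) = 1 := by
    rw [mul_assoc, ← mul_assoc l k, hk l hl, mul_assoc k, ← mul_assoc l k, ← pow_two, ← o,
      pow_orderOf_eq_one]
  have l2 : l * l = 1 := h.eq1 (mul_mem hl hl) (eq_inv_of_mul_eq_one_left rr ▸ inv_mem (mul_mem hk hk))
  rw [l2, one_mul] at rr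
  have l1 : l ≠ 1 := fun e => by
    rw [e, one_mul] at o r1
    rw [h.dis hg hk r1.1 (m := 1) (by rw [pow_one, pow_two, rr]), orderOf_one] at o
    omega
  refine ⟨fun R => h.cyc hk rr ?_, g, l, hl, k, hk, l1, l2, rr, r1.1⟩
  exact (h.ab1 hg hl hk l1 l2 rr r1.1).resolve_right fun ⟨_, _, e1, e2, e3⟩ => h.notB e1 e2 e3

end H98.DpUR1
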