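import Cfsg.Agent.H96.Struct4
import Cfsg.Agent.H98.SymM

/-! Pushing up with a group of automorphisms of odd order of a Sylow `2`-subgroup. -/

set_option autoImplicit false

namespace H98

open Subgroup Cfsg H96
open scoped commutatorElement

universe u

variable {G : Type u} [Group G]

theorem le_or_le_of_cover {U X Y : Subgroup G} (h : ∀ x ∈ U, x ∈ X ∨ x ∈ Y) : U ≤ X ∨ U ≤ Y := by
  by_contra! hh
  obtain ⟨x, hx, hx'⟩ := SetLike.not_le_iff_exists.1 hh.1
  obtain ⟨y, hy, hy'⟩ := SetLike.not_le_iff_exists.1 hh.2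
  rcases h _ (mul_mem hx hy) with e | e
  · exact hx' ((mul_mem_cancel_right ((h y hy).resolve_right hy')).1 e)
  · exact hy' ((mul_mem_cancel_left ((h x hx).resolve_left hx')).1 e)

/-- image of a subgroup of `S` under an automorphism of `S` -/
def amap {S : Subgroup G} (a : MulAut S) (X : Subgroup G) : Subgroup G :=
  (X.subgroupOf S).map (S.subtype.comp a.toMonoidHom)

section amap

variable {S X Y : Subgroup G} {a b : MulAut S}

theorem amap_inj (a : MulAut S) : Function.Injective (S.subtype.comp a.toMonoidHom) :=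
  S.subtype_injective.comp a.injective

theorem mem_amap {x : S} : ((a x : S) : G) ∈ amap a X ↔ (x : G) ∈ X :=
  mem_map_iff_mem (amap_inj a)

theorem amap_le (a : MulAut S) (X : Subgroup G) : amap a X ≤ S := by
  rintro _ ⟨x, -, rfl⟩; exact (a x).2

theorem amap_amap (a b : MulAut S) (X : Subgroup G) : amap a (amap b X) = amap (a * b) X := by
  refine le_antisymm ?_ ?_
  · rintro _ ⟨y, ⟨x, hx, e⟩, rfl⟩
    exact ⟨x, hx, congrArg (fun z : S => ((a z : S) : G)) (Subtype.ext e)⟩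
  · rintro _ ⟨x, hx, rfl⟩
    exact ⟨b x, mem_amap.2 hx, rfl⟩

theorem amap_one (h : X ≤ S) : amap (1 : MulAut S) X = X := map_subgroupOf_eq_of_le h

theorem amap_mono (a : MulAut S) (h : X ≤ Y) : amap a X ≤ amap a Y := map_mono (comap_mono h)

theorem amap_sup (a : MulAut S) (hX : X ≤ S) (hY : Y ≤ S) :
    amap a (X ⊔ Y) = amap a X ⊔ amap a Y := by
  rw [amap, subgroupOf_sup hX hY, Subgroup.map_sup]; rfl

theorem amap_cent (a : MulAut S) (hY : Y ≤ S) :
    amap a (X ⊓ centralizer (Y : Set G)) = amap a X ⊓ centralizer (amap a Y : Set G) := by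
  rw [amap, amap, amap, ← map_inf_centralizer (amap_inj a), centralizer_subgroupOf hY]; rfl

theorem amap_char (a : MulAut S) (hX : X ≤ S) (h : (X.subgroupOf S).Characteristic) :
    amap a X = X := by
  rw [amap, ← Subgroup.map_map, characteristic_iff_map_eq.1 h a, map_subgroupOf_eq_of_le hX]

theorem amap_norm (a : MulAut S) (h : S ≤ normalizer (X : Set G)) :
    S ≤ normalizer (amap a X : Set G) := fun s hs => by
  obtain ⟨t, ht⟩ := a.surjective ⟨s, hs⟩
  have := map_le_normalizer_map (S.subtype.comp a.toMonoidHom)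
    (comap_le_normalizer_comap S.subtype h) ⟨t, t.2, rfl⟩
  have e : ((a t : S) : G) = s := congrArg Subtype.val ht
  rw [← e]; exact this

theorem amap_ea {p : ℕ} (a : MulAut S) (h : IsElementaryAbelian p X) :
    IsElementaryAbelian p (amap a X) := H12.ea_map (H12.ea_comap h _ S.subtype_injective) _

theorem amap_relIndex (a : MulAut S) (hX : X ≤ S) (hY : Y ≤ S) :
    (centralizer (amap a Y : Set G)).relIndex (amap a X) = (centralizer (Y : Set G)).relIndex X := by
  rw [← inf_relIndex_left, ← amap_cent a hY, amap, amap,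
    relIndex_map_map_of_injective _ _ (amap_inj a), relIndex_subgroupOf hX, inf_relIndex_left]

end amap

variable [Finite G]

theorem exists_odd_inv {S M : Subgroup G} (hG : CharP 2 (⊤ : Subgroup G)) (hS : IsSyl 2 S ⊤)
    (um : UMax S M ⊤) (A : Subgroup (MulAut S)) (hA : Odd (Nat.card A)) :
    ∃ U : Subgroup G, U ≠ ⊥ ∧ U.Normal ∧ U ≤ S ∧ ∀ a ∈ A, amap a U ≤ U := by
  by_contra! hno
  have hch : ∀ C ≤ S, C ≠ ⊥ → (C.subgroupOf S).Characteristic → normalizer (C : Set G) ≤ M :=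
    fun C h1 h2 h3 => um.le_of_ne (by
      have := normalizer_le_normalizer_map_subtype (hN := h3) _ 
      rw [map_subgroupOf_eq_of_le h1] at this
      exact le_normalizer.trans this) le_top fun e =>
      let ⟨a, _, ha⟩ := hno C h2 (normal_of_top_le_normalizer e.ge) h1
      ha (amap_char a h1 h3).le
  set Q := pCoreOf 2 (⊤ : Subgroup G) with hQ
  have hQS : Q ≤ S := hS.pCoreOf_le
  have hQ1 : Q ≠ ⊥ := hG.pCoreOf_ne_bot fun e => um.not_le (e ▸ bot_le)
  have c : SX 2 S M := ⟨⟨hG, hS, inf_le_right.trans ((centralizer_le_normalizer _).trans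
    (hch _ (oz_le S) (oz_ne_bot hS.isPGroup fun e => hQ1 (eq_bot_iff.2 (e ▸ hQS))) (char_oz S))),
    fun C h1 h2 h3 => inf_le_right.trans (hch C (h1.trans (bm_le S)) h2
      (haveI := char_bm (p := 2) S; char_trans h1 (bm_le S) h3))⟩, inSB _⟩
  set V := oz 2 Q with hV
  set B := bm 2 S with hB
  have hVQ : V ≤ Q := oz_le Q
  have hVS := hVQ.trans hQS
  have hQC : Q ≤ centralizer (V : Set G) := le_centralizer_oz Q
  have hnQ : ⊤ ≤ normalizer (Q : Set G) := self_le_normalizer_pCoreOf ⊤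
  have hnV : ⊤ ≤ normalizer (V : Set G) := le_normalizer_oz hnQ
  have hbc : ∀ E ∈ BB 2 M, bU 2 E ≤ V ∧ ⁅Q, E⁆ ≤ V ∧ ¬ jt 2 S ≤ centralizer (V : Set G) := by
    intro E hE
    obtain ⟨_, _, s, _, d⟩ := block_bc' hG hS le_top (hE.1.block hG hS)
    refine ⟨d.U_le_V, (d.OE_eq ((d.comm_le_Q le_rfl (le_top.trans hnQ)).trans ?_)).le.trans d.U_le_V,
      fun h => d.jt_not_le (h.trans (centralizer_anti d.U_le_V))⟩
    rcases d.typ with e | ⟨_, _, _, _, _, x, -⟩
    · exact e.le
    · exact absurd x.three (by norm_num)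
  have hBM : ¬ sSup (BB 2 M) ≤ M := fun h => um.not_le (c.sup_eq.ge.trans (sup_le le_rfl h))
  have hres : ⁅Q, res 2 ⊤⁆ ≤ V := (le_stab_iff.1 ((um.res_le hS.isPGroup le_top hBM
    (le_normalizer_sSup fun E hE t _ => c.cj_mem hE t)).trans (sSup_le fun E hE =>
      le_stab_iff.2 ⟨le_top.trans hnV, (hbc E hE).2.1⟩))).2
  have hJ : ¬ jt 2 S ≤ centralizer (V : Set G) := by
    obtain ⟨E, hE, -⟩ : ∃ E ∈ BB 2 M, ¬ E ≤ M := by
      by_contra! h; exact hBM (sSup_le h)
    exact (hbc E hE).2.2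
  have hVea : IsElementaryAbelian 2 V := ea_oz Q
  haveI : IsMulCommutative V := hVea.1
  obtain ⟨Γ, _, _, _, _, ⟨b⟩⟩ := exists_br hnV
  have hC : ⊤ ⊓ centralizer ((V ⊓ centralizer (S : Set G) : Subgroup G) : Set G) ≤ M :=
    (inf_le_inf_left _ (centralizer_anti (le_inf c.oz_le (oz_le_centralizer S)))).trans c.h1
  have mp := b.mp hVea hS um hQC hC
  have hSC : S ⊓ centralizer (V : Set G) ≤ Q := um.inf_le_pCoreOf hS
    ((le_inf le_top (centralizer_anti inf_le_left)).trans hC) (le_normalizer_centralizer hnV)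
  have hom : b.bar B = om 2 (Md V) (b.bar S) := b.bar_bm_eq mp hVea hVS le_top hJ
  have hcard : ∀ W : Subgroup G, Nat.card (b.bar W) = (centralizer (V : Set G)).relIndex W :=
    fun W => Nat.eq_of_mul_eq_mul_right (Nat.card_pos (α := ↥(W ⊓ centralizer (V : Set G)))) (by
      rw [b.card_bar le_top, mul_comm, inf_comm, H12.card_inf_mul_relIndex])
  have hind : ∀ W : Subgroup G, (fx (Md V) (b.bar W)).index =
      (centralizer (W : Set G)).relIndex V := fun W => by
    rw [← AddSubgroup.relIndex_top_right, ← relIndex_up, up_top, b.up_fx le_top, inf_relIndex_left]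
  have G1 : ∀ W : Subgroup G, IsElementaryAbelian 2 W → (centralizer (V : Set G)).relIndex W ≤
      (centralizer (W : Set G)).relIndex V := fun W hW => by
    rw [← hcard, ← hind]; exact mp.ctx.no _ (b.ea hW)
  have hVB : V ≤ B := by
    obtain ⟨A₀, hA₀⟩ := H13.maxAb_nonempty 2 S
    refine le_sup_right.trans ((H12.le_thompsonSubgroupOf (sup_mem_maxEA
      (Q := centralizer (V : Set G)) hA₀ hVea hVS inf_le_right ?_)).trans (jt_le_bm S))
    rw [inf_relIndex_left]; exact G1 _ hA₀.2.1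
  have hnC : ∀ W : Subgroup G, S ≤ normalizer (W : Set G) →
      S ≤ normalizer ((B ⊓ centralizer (W : Set G) : Subgroup G) : Set G) := fun W h =>
    le_normalizer_inf (le_normalizer_bm le_normalizer) (le_normalizer_centralizer h)
  have G2 : ∀ W ≤ B, IsElementaryAbelian 2 W → S ≤ normalizer (W : Set G) →
      ¬ W ≤ centralizer (V : Set G) → (centralizer (W : Set G)).relIndex V ≤
        (centralizer (V : Set G)).relIndex W → b.bar W = om 2 (Md V) (b.bar S) ∧
        B = W ⊔ B ⊓ centralizer (V : Set G) := fun W h1 h2 h3 h4 h5 => by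
    have h6 : b.bar W = om 2 (Md V) (b.bar S) := le_antisymm (hom ▸ b.bar_mono h1) (mp.om_le_of (by
      rintro _ ⟨x, hx, rfl⟩
      rw [← cj_eq_self_iff, ← b.bar_cj, cj_eq_self (g := (x : G)) (h3 hx)])
      ⟨b.ea h2, by rwa [hcard, hind]⟩ (mt (b.bar_eq_bot le_top).1 h4)
      (b.bar_mono (h1.trans (bm_le S))) le_rfl)
    refine ⟨h6, le_antisymm ?_ (sup_le h1 inf_le_left)⟩
    have h7 := (b.bar_le_iff le_top).1 (hom.trans h6.symm).le
    rw [b.pre_bar le_top, top_inf_eq] at h7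
    rw [inf_comm B, ← sup_inf_of_le_left (le_top.trans (le_normalizer_centralizer hnV)) h1]
    exact le_inf h7 le_rfl
  -- the rank one piece
  obtain ⟨A₁, L, B₁, hb, tA, hLM, eom, hBL, hcm, -⟩ := mp.exists_split fun e =>
    hJ ((jt_le_bm S).trans ((b.bar_eq_bot le_top).1 (hom.trans e)))
  have hA1 : A₁ ≤ om 2 (Md V) (b.bar S) := eom ▸ le_sup_left
  have hfx : fx (Md V) (res 2 ⊤) ≤ fx (Md V) L := fun v hv => by
    by_contra hv0
    have h1 := hb.irred (le_top.trans ((self_le_normalizer_res ⊤).trans normalizer_le_nrm_fx)) hv hv0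
    refine hLM (((hb.isSyl mp.h0).eq_of_isPGroup (res_eq_bot_iff.1 (eq_bot_iff.2 fun g hg =>
      hb.faith (res_le L hg) fun w => ?_))).ge.trans (hA1.trans (om_le.trans mp.um.le)))
    obtain ⟨w₁, h2, w₂, h3, rfl⟩ := exists_add_of_sup h1 w
    rw [map_add, dl_of_fx h2 (res_mono le_top hg), dl_of_fx h3 (res_le L hg), add_zero]
    exact zero_mem _
  have KM : ∀ y ∈ B, ∀ v ∈ V, ⁅y, v⁆ ∈ centralizer (res 2 (⊤ : Subgroup G) : Set G) →
      y ∈ b.pre B₁ ∨ v ∈ up (fx (Md V) A₁) := fun y hy v hv h => by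
    have h1 : b.π ⟨y, trivial⟩ ∈ A₁ ⊔ B₁ := eom ▸ hom ▸ b.mem_bar hy
    obtain ⟨a, ha, a', ha', e⟩ := (mem_sup_right_norm (le_normalizer_of_le_centralizer
      (hBL.trans (centralizer_anti hb.le)))).1 h1
    have h2 : dl (b.π ⟨y, trivial⟩) (Md.mk v hv) ∈ fx (Md V) L := hfx (by
      have : b.bar (res 2 ⊤) = res 2 ⊤ := by
        rw [Br.bar, res_subgroupOf, ← res_top, map_res, map_top_of_surjective _ b.surj]
      rw [← this, b.mem_fx_bar le_top, b.val_dl]; exact h)
    rw [e, mp.quad_om.dl_mul (hA1 ha) (eom ▸ mem_sup_right ha'),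
      add_mem_cancel_right (hcm (dl_mem_cm ha' trivial))] at h2
    by_cases hv' : Md.mk v hv ∈ fx (Md V) A₁
    · exact Or.inr ⟨_, hv', rfl⟩
    · exact Or.inl ((b.mem_pre (x := ⟨y, trivial⟩)).2 (by rw [e, hb.inj ha hv' h2, one_mul]; exact ha'))
  have KN : ∀ N ≤ up (fx (Md V) A₁), S ≤ normalizer (N : Set G) → N ≤ centralizer (B : Set G) := by
    intro N h1 h2 n hn
    obtain ⟨A₂, h3, h4⟩ := Off.exists_minOff (p := 2) (V := Md V)
      ⟨ea_mono mp.off_om.1 hA1, tA.idx.le⟩ tA.ne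
    refine (b.mem_fx_bar (v := Md.mk n (up_le _ (h1 hn))) le_top).1 (hom ▸ mem_fx_sSup fun C hC => ?_)
    obtain ⟨_, ⟨t, ht, rfl⟩, rfl⟩ := mp.conj_minOff h4 hC.1 (h3.trans (hA1.trans om_le)) hC.2
    refine mem_fx_cj.2 (fx_anti h3 (val_mem_up.1 (h1 ?_)))
    rw [← map_inv, b.act, coe_inv, inv_inv]
    exact conj_mem_of_mem_normalizer' (h2 ht) hn
  have hconj : ∀ q ∈ Q, ∀ e ∈ res 2 (⊤ : Subgroup G), ∃ v ∈ V, e * q * e⁻¹ = v * q :=
    fun q hq e he => ⟨⁅e, q⁆, by
      rw [← commutatorElement_inv]; exact inv_mem (hres (commutator_mem_commutator hq he)), by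
      rw [commutatorElement_def]; group⟩
  have K1 : ∀ q ∈ Q, q * q ∈ centralizer (res 2 (⊤ : Subgroup G) : Set G) := fun q hq e he => by
    obtain ⟨v, hv, h⟩ := hconj q hq e he
    have h1 := hQC hq v hv
    have h2 := hVea.2 v hv
    rw [← mul_inv_eq_iff_eq_mul]
    calc e * (q * q) * e⁻¹ = (e * q * e⁻¹) * (e * q * e⁻¹) := by group
      _ = v * (q * v) * q := by rw [h]; group
      _ = v ^ 2 * (q * q) := by rw [← h1, pow_two]; group
      _ = _ := by rw [h2, one_mul]
  have K2 : ∀ q ∈ Q, ∀ r ∈ Q, ⁅q, r⁆ ∈ centralizer (res 2 (⊤ : Subgroup G) : Set G) :=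
    fun q hq r hr e he => by
    obtain ⟨v, hv, h⟩ := hconj q hq e he
    obtain ⟨w, hw, h'⟩ := hconj r hr e he
    have c1 : Commute v q := hQC hq v hv
    have c2 : Commute v r := hQC hr v hv
    have c3 : Commute w q := hQC hq w hw
    have c4 : Commute w r := hQC hr w hw
    have c5 : Commute v w := hQC (hVQ hw) v hv
    rw [← mul_inv_eq_iff_eq_mul, conjugate_commutatorElement, h, h', commutatorElement_def,
      commutatorElement_def]
    calc v * q * (w * r) * (v * q)⁻¹ * (w * r)⁻¹ = v * (q * (w * r) * q⁻¹) * v⁻¹ * (w * r)⁻¹ := by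
          group
      _ = (q * w) * r * q⁻¹ * r⁻¹ * w⁻¹ := by
          rw [((c1.mul_right (c5.mul_right c2)).mul_right c1.inv_right).eq]; group
      _ = w * (q * r * q⁻¹ * r⁻¹) * w⁻¹ := by rw [← c3.eq]; group
      _ = _ := by
          rw [(((c3.mul_right c4).mul_right c3.inv_right).mul_right c4.inv_right).eq]; group
  have G3 : ∀ U₁ U₂ : Subgroup G, U₁ ≤ B → U₂ ≤ B → IsElementaryAbelian 2 U₁ →
      IsElementaryAbelian 2 U₂ → S ≤ normalizer (U₁ : Set G) → S ≤ normalizer (U₂ : Set G) →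
      b.bar U₁ = om 2 (Md V) (b.bar S) → b.bar U₂ = om 2 (Md V) (b.bar S) →
      B = U₁ ⊔ B ⊓ centralizer (V : Set G) → B = U₂ ⊔ B ⊓ centralizer (V : Set G) →
      B = V ⊔ B ⊓ centralizer (U₁ : Set G) → B = V ⊔ B ⊓ centralizer (U₂ : Set G) →
      B ⊓ centralizer (U₁ : Set G) ≤ centralizer (U₂ : Set G) := by
    intro U₁ U₂ h1 h2 a1 a2 n1 n2 o1 o2 e1 e2 f1 f2
    have hBS : B ≤ S := bm_le S
    have d1 : ∀ x ∈ B, ∃ u ∈ U₁, ∃ r ∈ B ⊓ centralizer (V : Set G), x = u * r := fun x hx =>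
      (mem_sup_left_norm (h1.trans (hBS.trans (hnC V (le_top.trans hnV))))).1 (e1 ▸ hx)
    have d3 : ∀ W : Subgroup G, S ≤ normalizer (W : Set G) → B = V ⊔ B ⊓ centralizer (W : Set G) →
        ∀ x ∈ B, ∃ u ∈ V, ∃ r ∈ B ⊓ centralizer (W : Set G), x = u * r := fun W h e x hx =>
      (mem_sup_left_norm (hVS.trans (hnC W h))).1 (e ▸ hx)
    have hfA : V ⊓ centralizer (U₁ : Set G) ≤ up (fx (Md V) A₁) := by
      rw [← b.up_fx le_top, o1, up_le_up]; exact fx_anti hA1
    have s1 : U₂ ≤ centralizer (U₁ : Set G) := by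
      have h3 : U₂ ≤ up (fx (Md V) A₁) ⊔ B ⊓ centralizer (U₁ : Set G) := by
        refine (le_or_le_of_cover (X := b.pre B₁) fun x hx => ?_).resolve_left fun h =>
          hb.not_comm (hA1.trans (o2.ge.trans (((b.bar_le_iff le_top).2 h).trans hBL)))
        obtain ⟨u, hu, c, hc, rfl⟩ := d3 U₁ n1 f1 x (h2 hx)
        obtain ⟨u₁, hu₁, r, hr, rfl⟩ := d1 c hc.1
        have c1 : Commute u₁ r := ((mul_mem_cancel_left (H12.ea_le_centralizer a1 hu₁)).1 hc.2) _ hu₁
        have c2 : Commute u r := hr.2 u hu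
        have i1 : u₁ * u₁ = 1 := by rw [← pow_two]; exact a1.2 _ hu₁
        have i2 : u * u = 1 := by rw [← pow_two]; exact hVea.2 _ hu
        have i3 : u * (u₁ * r) * (u * (u₁ * r)) = 1 := by rw [← pow_two]; exact a2.2 _ hx
        have h4 : ⁅u₁, u⁆ = r * r := by
          have h5 : u * u₁ * (u * u₁) * (r * r) = 1 := by
            rw [← i3]
            calc u * u₁ * (u * u₁) * (r * r) = u * u₁ * (u * u₁ * r) * r := by simp only [mul_assoc]
              _ = _ := by rw [(c2.mul_left c1).eq]; simp only [mul_assoc]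
          rw [← inv_eq_of_mul_eq_one_right h5, commutatorElement_def]
          simp only [mul_inv_rev, inv_eq_of_mul_eq_one_right i1, inv_eq_of_mul_eq_one_right i2,
            mul_assoc]
        rcases KM u₁ (h1 hu₁) u hu (h4 ▸ K1 r (hSC ⟨hBS hr.1, hr.2⟩)) with h | h
        · exact Or.inl (mul_mem (b.le_pre _ ⟨trivial, hQC (hVQ hu)⟩)
            (mul_mem h (b.le_pre _ ⟨trivial, hr.2⟩)))
        · exact Or.inr (mul_mem_sup h hc)
      have h4 := KN (V ⊓ (U₂ ⊔ B ⊓ centralizer (U₁ : Set G))) (fun n hn => by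
        obtain ⟨u, hu, c, hc, rfl⟩ := (mem_sup_left_norm ((up_le _).trans (hVS.trans
          (hnC U₁ n1)))).1 (sup_le h3 le_sup_right hn.2)
        exact mul_mem hu (hfA ⟨(mul_mem_cancel_left (up_le _ hu)).1 hn.1, hc.2⟩))
        (le_normalizer_inf (le_top.trans hnV) (le_normalizer_sup n2 (hnC U₁ n1)))
      intro x hx
      obtain ⟨u, hu, c, hc, e⟩ := d3 U₁ n1 f1 x (h2 hx)
      rw [e]
      exact mul_mem (centralizer_anti h1 (h4 ⟨hu, by
        rw [eq_mul_inv_of_mul_eq e.symm]; exact mul_mem_sup hx (inv_mem hc)⟩)) hc.2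
    set R := B ⊓ centralizer (V : Set G) ⊓ centralizer (U₁ : Set G) with hR
    have nR : S ≤ normalizer (R : Set G) :=
      le_normalizer_inf (hnC V (le_top.trans hnV)) (le_normalizer_centralizer n1)
    have s2 : R ≤ centralizer (U₂ : Set G) := by
      have h4 := KN (V ⊓ (R ⊔ B ⊓ centralizer (U₂ : Set G))) (fun n hn => by
        obtain ⟨r, hr, c, hc, rfl⟩ := (mem_sup_left_norm (inf_le_left.trans (inf_le_left.trans
          (hBS.trans (hnC U₂ n2))))).1 hn.2
        obtain ⟨a, ha, ha1⟩ := tA.exists_ne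
        obtain ⟨x, hx, rfl⟩ := o2.ge (hA1 ha)
        refine (KM x (h2 hx) _ hn.1 ?_).resolve_left fun h => ha1
          (hb.eq_one_of_centralizes ha (hBL (b.mem_pre.1 h)))
        obtain ⟨u₁, hu₁, q, hq, e⟩ := d1 x (h2 hx)
        have c1 : Commute (x : G) c := hc.2 _ hx
        have c2 : Commute u₁ r := hr.2 _ hu₁
        have h5 : ⁅(x : G), r * c⁆ = u₁ * ⁅q, r⁆ * u₁⁻¹ := by
          rw [commutatorElement_def, commutatorElement_def]
          calc (x : G) * (r * c) * (x : G)⁻¹ * (r * c)⁻¹ = x * r * (c * (x : G)⁻¹) * c⁻¹ * r⁻¹ := by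
                group
            _ = u₁ * (q * r * q⁻¹) * (u₁⁻¹ * r⁻¹) := by rw [← c1.inv_left.eq, e]; group
            _ = _ := by rw [c2.inv_inv.eq]; group
        rw [h5]
        exact conj_mem_of_mem_normalizer (le_normalizer_centralizer (self_le_normalizer_res ⊤)
          trivial) (K2 q (hSC ⟨hBS hq.1, hq.2⟩) r (hSC ⟨hBS hr.1.1, hr.1.2⟩)))
        (le_normalizer_inf (le_top.trans hnV) (le_normalizer_sup nR (hnC U₂ n2)))
      intro x hx
      obtain ⟨u, hu, c, hc, e⟩ := d3 U₂ n2 f2 x hx.1.1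
      rw [e]
      exact mul_mem (centralizer_anti h2 (h4 ⟨hu, by
        rw [eq_mul_inv_of_mul_eq e.symm]; exact mul_mem_sup hx (inv_mem hc)⟩)) hc.2
    intro x hx
    obtain ⟨u₁, hu₁, r, hr, rfl⟩ := d1 x hx.1
    exact mul_mem (le_centralizer_iff.1 s1 hu₁)
      (s2 ⟨hr, (mul_mem_cancel_left (H12.ea_le_centralizer a1 hu₁)).1 hx.2⟩)
  have hnVS : S ≤ normalizer (V : Set G) := le_top.trans hnV
  have haB : ∀ a : MulAut S, amap a B = B := fun a => amap_char a (bm_le S) (char_bm S)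
  have hr : ∀ a : MulAut S, (centralizer (amap a V : Set G)).relIndex V =
      (centralizer (V : Set G)).relIndex (amap a⁻¹ V) := fun a => by
    rw [← amap_relIndex a (amap_le _ _) hVS, amap_amap, mul_inv_cancel, amap_one hVS]
  have hsym : ∀ a : MulAut S, amap a⁻¹ V ≤ centralizer (V : Set G) →
      amap a V ≤ centralizer (V : Set G) := fun a h => by
    have := amap_mono a (le_inf le_rfl h)
    rw [amap_cent a hVS, amap_amap, mul_inv_cancel, amap_one hVS] at this
    exact le_centralizer_iff.1 (this.trans inf_le_right)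
  obtain ⟨a, ha, hna⟩ : ∃ a ∈ A, ¬ amap a V ≤ centralizer (V : Set G) := by
    by_contra! h
    have h1 : V ≤ ⨆ a : A, amap (a : MulAut S) V := (amap_one hVS).ge.trans (le_iSup
      (fun a : A => amap (a : MulAut S) V) 1)
    have h2 : ⨆ a : A, amap (a : MulAut S) V ≤ Q := iSup_le fun a => (le_inf (amap_le _ _)
      (h a a.2)).trans hSC
    obtain ⟨a, ha, h3⟩ := hno _ (fun e => oz_ne_bot (isPGroup_pCoreOf ⊤) hQ1
      (eq_bot_iff.2 (e ▸ h1))) (normal_of_top_le_normalizer (by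
        rw [← hS.sup_res]
        exact sup_le (le_normalizer_iSup fun a => amap_norm _ hnVS) (fun g hg =>
          mem_normalizer_of_cj_le (by
            rintro _ ⟨x, hx, rfl⟩
            obtain ⟨v, hv, e⟩ := hconj x (h2 hx) g hg
            change g * x * g⁻¹ ∈ _
            rw [e]; exact mul_mem (h1 hv) hx)))) (h2.trans hQS)
    refine h3 ?_
    rw [amap, map_le_iff_le_comap, subgroupOf, ← map_le_map_iff_of_injective S.subtype_injective,
      map_comap_eq, range_subtype]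
    refine inf_le_right.trans (iSup_le fun a' => ?_)
    rintro _ ⟨x, hx, rfl⟩
    exact ⟨(a' : MulAut S) x, le_iSup (fun a : A => amap (a : MulAut S) V) (⟨a, ha⟩ * a') ⟨x, hx, rfl⟩, rfl⟩
  have hG2 : ∀ a : MulAut S, ¬ amap a V ≤ centralizer (V : Set G) → _ := fun a h =>
    G2 (amap a V) (haB a ▸ amap_mono a hVB) (amap_ea a hVea) (amap_norm a hnVS) h (by
      rw [hr a]
      refine (G1 _ (amap_ea _ hVea)).trans ?_
      rw [hr, inv_inv])
  have hG2' : ∀ a : MulAut S, ¬ amap a⁻¹ V ≤ centralizer (V : Set G) →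
      B = V ⊔ B ⊓ centralizer (amap a V : Set G) := fun a h => by
    have := congrArg (amap a) (hG2 _ h).2
    rwa [amap_sup a (amap_le _ _) (inf_le_left.trans (bm_le S)), amap_cent a hVS, haB, amap_amap,
      mul_inv_cancel, amap_one hVS] at this
  have hna' : ¬ amap a⁻¹ V ≤ centralizer (V : Set G) := mt (hsym a) hna
  have h1 := G3 (amap a V) (amap a⁻¹ V) (haB a ▸ amap_mono a hVB) (haB a⁻¹ ▸ amap_mono _ hVB)
    (amap_ea a hVea) (amap_ea _ hVea) (amap_norm a hnVS) (amap_norm _ hnVS) (hG2 a hna).1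
    (hG2 _ hna').1 (hG2 a hna).2 (hG2 _ hna').2 (hG2' a hna') (hG2' _ (by rwa [inv_inv]))
  have h2 : amap (a ^ 2) (B ⊓ centralizer (V : Set G)) ≤ B ⊓ centralizer (V : Set G) := by
    have := amap_mono a (le_inf inf_le_left h1)
    rwa [amap_cent a (amap_le _ _), amap_cent a (amap_le _ _), amap_amap, amap_amap, mul_inv_cancel,
      amap_one hVS, haB, ← haB (a * a), ← amap_cent _ hVS, haB, ← pow_two] at this
  have h3 : ∀ k : ℕ, amap ((a ^ 2) ^ k) (B ⊓ centralizer (V : Set G)) ≤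
      B ⊓ centralizer (V : Set G) := fun k => by
    induction k with
    | zero => rw [pow_zero, amap_one (inf_le_left.trans (bm_le S))]
    | succ k ih => rw [pow_succ', ← amap_amap]; exact (amap_mono _ ih).trans h2
  obtain ⟨k, hk⟩ := hA
  have h4 : (a ^ 2) ^ (k + 1) = a := by
    have : a ^ Nat.card A = 1 := congrArg Subtype.val (pow_card_eq_one' (x := (⟨a, ha⟩ : A)))
    rw [hk] at this
    rw [← pow_mul, show 2 * (k + 1) = 2 * k + 1 + 1 by ring, pow_succ, this, one_mul]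
  exact hna ((amap_mono a (le_inf hVB (hVQ.trans hQC))).trans ((h4 ▸ h3 (k + 1)).trans
    inf_le_right))

end H98
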