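import Cfsg.Agent.H57.U2CSpec

/-! S3275, chapter U2F, job HY. -/

set_option autoImplicit false

namespace H98.DpvHY

open Subgroup Cfsg H98 H48.DP H57.U2C

universe u

variable {G : Type u} [Group G] [Finite G]

theorem card_le_rel {U V I : Subgroup G} (hU : U ≤ V) (h : ∀ u ∈ U, u ∈ I → u = 1) :
    Nat.card U ≤ I.relIndex V := by
  refine Nat.card_le_card_of_injective
    (fun u : U => ((⟨u, hU u.2⟩ : V) : V ⧸ I.subgroupOf V)) fun a b e => ?_
  have e' := QuotientGroup.eq.1 e
  have := h _ (mul_mem (inv_mem a.2) b.2) e'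
  exact Subtype.ext (inv_mul_eq_one.1 this)

theorem cen_of_small {U : Subgroup G} (h2 : ∀ u ∈ U, u ^ 2 = 1) (hc : Nat.card U < 4) {g : G}
    (hg : g ∈ No U) : g ∈ Ce U := by
  have : Fact (Nat.Prime 2) := ⟨Nat.prime_two⟩
  have hp : IsPGroup 2 U := fun u => ⟨1, Subtype.ext (by simpa using h2 u u.2)⟩
  obtain ⟨k, hk⟩ := hp.exists_card_eq
  have hk2 : Nat.card U ≤ 2 := by
    rcases k with _ | _ | k
    · omega
    · omega
    · have : 0 < 2 ^ k := by positivity
      rw [pow_succ, pow_succ] at hk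
      omega
  intro u hu
  by_contra hne
  have u1 : u ≠ 1 := fun e => hne (by rw [e, one_mul, mul_one])
  have hu' : g * u * g⁻¹ ∈ U := (mem_normalizer_iff.1 hg u).1 hu
  have v1 : g * u * g⁻¹ ≠ 1 := fun e => u1 (by
    have : u = g⁻¹ * (g * u * g⁻¹) * g := by group
    rw [this, e]; group)
  have uv : u ≠ g * u * g⁻¹ := fun e => hne (by
    calc u * g = g * u * g⁻¹ * g := by rw [← e]
      _ = g * u := by group)
  have := Fintype.ofFinite U
  have h3 : 2 < Fintype.card U := Fintype.two_lt_card_iff.2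
    ⟨1, ⟨u, hu⟩, ⟨_, hu'⟩, fun e => u1 (congrArg Subtype.val e).symm,
      fun e => v1 (congrArg Subtype.val e).symm, fun e => uv (congrArg Subtype.val e)⟩
  rw [Nat.card_eq_fintype_card] at hk2
  omega

theorem hy : HY.{u} := by
  intro G _ _ M Q K F V I h hI
  by_contra hn
  have hlt : I.relIndex V < 4 := not_le.1 hn
  obtain ⟨B, BF, Be, Bc⟩ := h.e27
  have BV : B ≤ No V := BF.trans (h.FK.trans h.KU)
  have key : ∀ E : Subgroup G, E ≤ B → 9 ≤ Nat.card E → Nat.card ↥(V ⊓ Ce E) < 4 :=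
    fun E EB Ec => lt_of_le_of_lt (card_le_rel inf_le_left fun u hu huI => by
      by_contra u1
      refine hI u hu.1 huI u1 ⟨E, EB.trans BF, ⟨?_, fun a ha => Be.2 a (EB ha)⟩, Ec,
        fun e he => mem_centralizer_singleton_iff.2 (hu.2 e he)⟩
      have := Be.1
      exact ⟨⟨fun a b => Subtype.ext (mul_comm_of_mem_isMulCommutative B (EB a.2) (EB b.2))⟩⟩) hlt
  have : Fact (Nat.Prime 2) := ⟨Nat.prime_two⟩
  have : Fact (Nat.Prime 3) := ⟨Nat.prime_three⟩
  have V2 : IsPGroup 2 V := fun u => ⟨1, Subtype.ext (by simpa using h.ea.2 u u.2)⟩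
  have B3 : IsPGroup 3 B := fun u => ⟨1, Subtype.ext (by simpa using Be.2 u u.2)⟩
  have := Be.1
  have VB : V ≤ Ce B := by
    refine H1.le_of_cocyclic_centralizer_le BV
      (IsPGroup.coprime_card_of_ne 3 2 (by decide) B V B3 V2) _ fun Y YB hc => ?_
    have c3 : Nat.card (B ⧸ Y.subgroupOf B) ≤ 3 := by
      rw [← hc.exponent_eq_card]
      refine Nat.le_of_dvd (by decide) (Monoid.exponent_dvd_of_forall_pow_eq_one fun q => ?_)
      obtain ⟨b, rfl⟩ := QuotientGroup.mk_surjective q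
      rw [← QuotientGroup.mk_pow, show b ^ 3 = 1 from Subtype.ext (Be.2 b b.2)]
      rfl
    have c9 : 9 ≤ Nat.card Y := by
      have e := card_eq_card_quotient_mul_card_subgroup (Y.subgroupOf B)
      rw [Nat.card_congr (subgroupOfEquivOfLe YB).toEquiv] at e
      by_contra h9
      have : Nat.card (B ⧸ Y.subgroupOf B) * Nat.card Y ≤ 3 * 8 := Nat.mul_le_mul c3 (by omega)
      omega
    have hbY : ∀ b ∈ B, b ∈ No (Ce Y) := fun b hb =>
      normalizer_le_normalizer_centralizer _ (centralizer_le_normalizer _ fun y hy =>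
        mul_comm_of_mem_isMulCommutative B (YB hy) hb)
    refine le_centralizer_iff.1 fun b hb => cen_of_small (U := V ⊓ Ce Y)
      (fun u hu => h.ea.2 u hu.1) (key Y YB c9)
      (inf_normalizer_le_normalizer_inf ⟨BV hb, hbY b hb⟩)
  have e : V ⊓ Ce B = V := inf_eq_left.2 VB
  have hV := key B le_rfl (by omega)
  rw [e] at hV
  exact h.big fun f hf => cen_of_small h.ea.2 hV (h.KU (h.FK hf))

end H98.DpvHY
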