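import Cfsg.Agent.H98.SaP2b
import Cfsg.Agent.H63.A8Def

/-! A8S tower (S3152): `J8P2b`, the big root subgroups for `SL₄(2)`; port of `H98.SaP2b`. -/

set_option autoImplicit false
set_option linter.unusedSectionVars false

namespace H98.A8P2b

open H64.SG (Cz Cs Ns Is2 Inv2 mem_Cs mem_Cz is2_of_sq)
open H67.SA Subgroup Matrix H57 H98.Sa H63.A8

universe u

variable {n : ℕ} {F : Type} [Field F] [Finite F] [_root_.CharP F 2] {G : Type u} [Group G]
  {e e' : SLn n F →* G} {t u v w : G} {g p : SLn n F} {π : Equiv.Perm (Fin (n + 1))}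
  {i j k l : Fin (n + 1)} {ρ : F}

theorem qa8 [Finite G] (h : CK e t) (hn : 2 ≤ n) (A : FA n F) (C : FC8 n F) :
    ∃ ρ, QA t (EE e) (Wh (EE e) t h.inv.1) (rr e ρ) := by
  have h0 : (0 : Fin (n + 1)) ≠ la n := zero_ne_la (by omega)
  have sq : ∀ v ∈ EE e, v * v = 1 := by
    rintro _ ⟨s, hs, rfl⟩; rw [← map_mul, sq_Row hs, map_one]
  obtain ⟨w, hw, r⟩ := h.cp _ _ h0 1
  have hW := h.wh h0 hw r
  have tE : t ∉ EE e := fun r => h.toB1.not_mem hn (map_le_range' _ r)
  obtain ⟨ρ, hρ⟩ : ∃ ρ, w * w = e (x 0 (la n) ρ) := by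
    refine mem_X'' h.toB1 h0 ((h.ker' hn A (mul_mem hW.1 hW.1) (comm_of_dl h.inv.1 (by
      rw [dl_mul h.inv.1 (hW.1 _ hW.2), sq _ hW.2]))).resolve_right fun r' => ?_) (mul_mem hw hw)
    have c : Commute (t * (w * w)) w := hW.1 _ r'
    have c' := c.mul_left ((Commute.refl w).mul_left (Commute.refl w)).inv_left
    rw [mul_inv_cancel_right] at c'
    rw [c'.symm.eq, mul_inv_cancel_right, left_eq_mul, e_x_eq_one h.ker h0] at r
    exact one_ne_zero r
  have Q : QS t (EE e) (Wh (EE e) t h.inv.1) (rr e ρ) :=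
    { tt := h.inv.1
      tE := tE
      sq := sq
      le := fun v hv => ⟨map_mono (Row_le_Cs 0) hv |> fun ⟨s, hs, r⟩ => r ▸ map_mem_Cs hs, by
        rw [dl_of_comm h.inv.1 (t_cs h.toB1 _ v hv)]; exact one_mem _⟩
      tH := ⟨t_cs h.toB1 _, by rw [dl_of_comm h.inv.1 (Commute.refl t)]; exact one_mem _⟩
      cen := fun v hv w hw => hw.1 v hv
      dm := fun w hw => hw.2
      ker := fun w hw => h.ker' hn A hw.1
      rm := by
        rintro _ ⟨s, hs, rfl⟩
        exact rr_e h.ker hs ▸ mem_map_of_mem e (sc_mem (uni_Row 0) (sq_Row hs) hs ρ)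
      add := by
        rintro _ ⟨s, hs, rfl⟩ _ ⟨s', hs', rfl⟩
        rw [← map_mul, rr_e h.ker hs, rr_e h.ker hs', rr_e h.ker (mul_mem hs hs'), sc_mul_Er hs hs',
          map_mul]
      ex := by
        rintro _ ⟨s, hs, rfl⟩ s1
        obtain ⟨p, hp, rfl⟩ := C.trr _ (x_mem_Row 0 (la n) 1) s hs (by simp [x_eq_one h0])
          (fun r => s1 (by simp [r]))
        refine ⟨κ e p w, κ_Wh h.toB1 hp hW, by rw [dl_κ h.toB1, (dl_iff h.inv.1).2 r, κ_e], ?_⟩
        rw [← map_mul, hρ, ← κ_e, ← κ_rr h.toB1 hp (mem_map_of_mem e (x_mem_Row 0 _ 1)),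
          rr_e h.ker (x_mem_Row 0 _ 1), sc_x, mul_one]
      big := fun a b => by
        have h1 : ({1, a, b} : Set G).ncard < (EE e : Set G).ncard := by
          rw [← Nat.card_coe_set_eq (EE e : Set G), SetLike.coe_sort_coe,
            card_map2 h.ker (isP_UU.to_le (Er_le_QQ.trans QQ_le_UU)), card_Er]
          calc _ ≤ 3 := (Set.ncard_insert_le _ _).trans
                (Nat.succ_le_succ ((Set.ncard_insert_le _ _).trans (by simp)))
            _ < 2 ^ 2 := by norm_num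
            _ ≤ _ := Nat.pow_le_pow_left one_lt_card 2
            _ ≤ _ := Nat.pow_le_pow_right Nat.card_pos hn
        obtain ⟨v, hv, r⟩ := Set.exists_mem_notMem_of_ncard_lt_ncard h1
        exact ⟨v, hv, by simpa [not_or] using r⟩ }
  have hr : ∀ v ∈ EE e, rr e (1 + ρ) v = v * rr e ρ v := by
    rintro _ ⟨s, hs, rfl⟩
    rw [rr_e h.ker hs, rr_e h.ker hs, sc_add (sq_Row hs), sc_one (sq_Row hs), map_mul]
  rcases Q.main' hr with c | c
  exacts [⟨ρ, Q, c⟩, ⟨_, Q.shift hr, c⟩]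

theorem rho8 (h : CQ e t ρ) (h3 : 3 ≤ n) : ρ = 0 := by
  have hn : 2 ≤ n := by omega
  have hj : (0 : Fin (n + 1)) ≠ la n := zero_ne_la (by omega)
  obtain ⟨i, hi, hij⟩ := exists_third hn 0 (la n)
  have hi := hi.symm
  obtain ⟨w, hw, cw, r⟩ := h.onto hi 1
  have key : ∀ a, ∃ ε, ∀ b, κ e (x i (la n) b) (κ e (x i (la n) a) w * w⁻¹) =
      e (x 0 (la n) (b * ε)) * (κ e (x i (la n) a) w * w⁻¹) := fun a => by
    obtain ⟨-, -, y, hy, s, hs, r'⟩ := h.dec hij hi hj hw r a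
    exact r' ▸ CQ.eps hij hi hj hij hy hs
  choose ε hε using key
  have e1 := fun a => h.eps_eq hij hi hj hw r (hε a a)
  have cW : ∀ {u : G} (c : F), h.W u → Commute (e (x 0 (la n) c)) u := fun c hu =>
    h.q.cen _ (mem_map_of_mem e (x_mem_Row 0 _ c)) _ hu.1.1
  obtain ⟨k, k0, ki, kj⟩ : ∃ k : Fin (n + 1), k ≠ 0 ∧ k ≠ i ∧ k ≠ la n := by
    by_contra r
    push Not at r
    have := Finset.card_le_card (s := Finset.univ) (t := {0, i, la n}) fun k _ => by
      by_cases e : k = 0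
      · simp [e]
      by_cases e' : k = i
      · simp [e']
      simp [r k e e']
    have := this.trans Finset.card_le_three
    simp at this; omega
  obtain ⟨h1, -, y, hy, s, hs, r'⟩ := h.dec ki.symm hi k0.symm hw r 1
  obtain ⟨ε', hε'⟩ := CQ.eps hij hi hj ki.symm hy hs
  rw [← r'] at hε'
  have kw : κ e (x k (la n) 1) w = w := κ_of_Cs cw (x_mem_Pat ⟨hj.symm, ki⟩ 1)
  have e2 : κ e (x k (la n) 1) (κ e (x i k 1) w * w⁻¹) =
      κ e (x i k 1) (κ e (x i (la n) 1) w * w⁻¹) * (κ e (x i k 1) w * w⁻¹) := by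
    rw [map_mul, map_inv, kw, map_mul, map_inv, mul_assoc, inv_mul_cancel_left, ← κ_mul, ← κ_mul]
    conv_rhs => rw [← kw, ← κ_mul, kw]
    have := x_conj ki.symm kj hij (1 : F) 1
    rw [mul_one] at this
    rw [mul_assoc (x i k 1), ← this, x_inv, ← mul_assoc (x i k 1), ← mul_assoc (x i k 1), x_mul_self,
      one_mul]
  have c1 : ∀ {a b : Fin (n + 1)} (u : G), b ≠ i → a ≠ la n →
      κ e (x i (la n) 1) (κ e (x a b 1) u) = κ e (x a b 1) (κ e (x i (la n) 1) u) :=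
    fun u h1 h2 => by rw [← κ_mul, ← κ_mul, x_comm h2.symm h1.symm]
  have c2 : ∀ {a b : Fin (n + 1)} (c : F), b ≠ 0 → a ≠ la n →
      κ e (x a b 1) (e (x 0 (la n) c)) = e (x 0 (la n) c) :=
    fun c h1 h2 => κ_of_Cs (x_cs 0 (la n) c) (x_mem_Pat ⟨h1, h2⟩ 1)
  have hD := h.conj (x_mem_Pat (i := i) k0 1) (h.dec hij hi hj hw r 1).1
  have hε1 := hε 1 1
  replace hε' := hε' 1
  generalize κ e (x i k 1) w * w⁻¹ = D' at *
  generalize κ e (x i (la n) 1) w * w⁻¹ = D at *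
  have e3 := congrArg (κ e (x i (la n) 1)) e2
  rw [c1 _ hij.symm kj, hε', map_mul, c2 _ hj.symm kj, e2, map_mul, c1 _ ki hij, hε1, hε', map_mul,
    c2 _ k0 hij, ← mul_assoc, ← mul_assoc, (cW _ hD).eq, mul_left_inj, mul_left_inj, right_eq_mul,
    e_x_eq_one h.ker hj, one_mul] at e3
  simpa [e3] using (e1 1).symm

theorem ri08 [Finite G] (h : CK e t) (hp : Par8 n F) (A : FA n F) (C : FC8 n F) : RI e t 0 := by
  obtain ⟨ρ, q⟩ := qa8 h hp.two_le A C
  have h' : CQ e t ρ := ⟨h, q⟩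
  obtain rfl := rho8 h' hp.three.ge
  exact h'.ri

theorem ri8 [Finite G] (h : CK e t) (hp : Par8 n F) (A : FA n F) (C : FC8 n F) (i : Fin (n + 1)) :
    RI e t i := by
  obtain ⟨π, rfl⟩ : ∃ π : Equiv.Perm (Fin (n + 1)), π 0 = i := ⟨Equiv.swap 0 i, by simp⟩
  have he : ∀ a b c, H67.SA.twe e (MulAut.conj (pm π)) (x a b c) = e (x (π a) (π b) c) :=
    fun a b c => by rw [twe_apply, MulAut.conj_apply, pm_conj]
  have R := ri08 (h.twe (MulAut.conj (pm π)) fun i j hij c => by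
    simpa only [cs_perm he, he] using h.cp _ _ (π.injective.ne hij) c) hp A C
  have hi : ∀ {a b w}, InA (H67.SA.twe e (MulAut.conj (pm π))) t a b w ↔ InA e t (π a) (π b) w := by
    simp only [InA, cs_perm he, he, implies_true]
  refine ⟨π.surjective.forall.2 fun j hj => ?_, π.surjective.forall.2 fun j hj => ?_,
    π.surjective.forall.2 fun j hj => ?_, π.surjective.forall₂.2 fun j k hj hk => ?_,
    π.surjective.forall₂.2 fun j k hj hjk hk => ?_⟩
  · simpa only [hi] using R.mul j fun r => hj (r ▸ rfl)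
  · simpa only [hi, he] using R.onto j fun r => hj (r ▸ rfl)
  · simpa only [hi, he] using R.fix j fun r => hj (r ▸ rfl)
  · simpa only [hi] using R.row j k (fun r => hj (r ▸ rfl)) fun r => hk (r ▸ rfl)
  · simpa only [hi, he] using
      R.ar j k (fun r => hj (r ▸ rfl)) (fun r => hjk (r ▸ rfl)) fun r => hk (r ▸ rfl)

theorem jobP2b (hA : J8FA) (hC : J8FC) : J8P2b.{u} := fun n F _ _ _ hp G _ _ e t ch cp => by
  have A := hA n F hp
  have C := hC n F hp
  have h0 : (0 : Fin (n + 1)) ≠ la n := zero_ne_la (by have := hp.two_le; omega)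
  have h : CK e t := ⟨ch.toB1, ch.ck, fun i j hij c => by
    obtain ⟨π, rfl, rfl⟩ := exists_perm2 hp.two_le h0 hij
    obtain ⟨w, hw, r⟩ := cp c
    exact ⟨_, (mon_pm π).cs hw, by simpa using (mon_pm π).dl ch.toB1 r⟩⟩
  have R := ri8 h hp A C
  have he : ∀ a b c, twe e (slGraph _ F) (x a b c) = e (x b a c) := fun a b c => by
    rw [twe_apply, slGraph_x]
  have R' := ri8 (h.twe (slGraph _ F) fun i j hij c => by
    simpa only [cs_tr he, he] using h.cp _ _ hij.symm c) hp A C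
  have hi : ∀ {a b w}, InA (twe e (slGraph _ F)) t a b w ↔ InA e t b a w := by
    simp only [InA, cs_tr he, he, implies_true]
  have X : ∀ i j, i ≠ j → ∀ c, InA e t i j (e (x i j c)) := fun i j _ c =>
    ⟨by rw [← map_mul, x_mul_self, map_one], x_cs i j c, ⟨0, by simpa using ch.conj_t _⟩,
      fun c' r => ch.toB1.not_mem hp.two_le ⟨x i j c * (x i j c')⁻¹, by simp [r]⟩⟩
  let B : Fin (n + 1) → Fin (n + 1) → Subgroup G := fun i j =>
    { carrier := {w | i ≠ j → InA e t i j w}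
      one_mem' := fun hij => by simpa using X i j hij 0
      mul_mem' := fun hu hv hij => (R i).mul j hij _ _ (hu hij) (hv hij)
      inv_mem' := fun hu hij => (inv_sq (hu hij).1).symm ▸ hu hij }
  refine ⟨B, fun i j hij w => ⟨fun r => r hij, fun r _ => r⟩, fun i j _ c hij => X i j hij c,
    fun i j hij c => ((R i).onto j hij c).imp fun w r => ⟨fun _ => r.1, r.2⟩,
    fun i j hij w hw => (R i).fix j hij w (hw hij),
    fun i j k h1 h2 u hu v hv => ((R i).row j k h1 h2 u v (hu h1) (hv h2)).symm,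
    fun i j k h1 h2 u hu v hv =>
      ((R' k).row i j h1.symm h2.symm u v (hi.2 (hu h1)) (hi.2 (hv h2))).symm,
    fun i j k h1 h2 h3 a ha c _ => (R i).ar j k h1 h2 h3 a (ha h1) c,
    fun i j k h1 h2 h3 b hb c _ => ?_⟩
  have := hi.1 ((R' k).ar j i h2.symm h1.symm h3.symm b (hi.2 (hb h2)) c)
  rw [he] at this
  rwa [show cm (e (x i j c)) b = (cm b (e (x i j c)))⁻¹ by simp only [cm]; group, inv_sq this.1]

end H98.A8P2b
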