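import Cfsg.Agent.H67.SWDef
import Cfsg.Agent.H54.SPFW
import Cfsg.Agent.H72.SPFR

/-! STD-SP wreath endgame, slot UB: `U` and `[U, β]` have class at least `3`. -/

set_option autoImplicit false
set_option linter.unusedSectionVars false

namespace H98.SwUB

open H64.SG (Ns Is2)
open H67.SA (St cI mem_St_of_finite conj_mem_St mem_cI)
open H67.UA hiding Par
open H67.SP H67.SW Subgroup Finset
open H72.SPF (wev wsm memU hfe cc)
open scoped commutatorElement

variable {n : ℕ} {F : Type} [Field F] [StarRing F] [TrivialStar F] [_root_.CharP F 2] [Finite F]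

/-- the index with value `i` -/
abbrev ix (n i : ℕ) : Fin (n + 1) := Fin.ofNat (n + 1) i
/-- the entries, indexed by numbers -/
def en (g : XU n F) (i j : ℕ) : F := mt g (ix n i) (ix n j)
/-- upper triangular -/
def Tri (g : XU n F) : Prop := ∀ j v, Wk j v → Wk j (ac g v)

theorem ix_val {i : ℕ} (h : i ≤ n) : (ix n i).val = i := Nat.mod_eq_of_lt (by omega)

theorem Tri.low {g : XU n F} (h : Tri g) {i j : ℕ} (hi : i ≤ n) (hj : j < i) : en g i j = 0 := by
  rw [en, ← ac_ev]
  exact h i _ (wev (by rw [ix_val (by omega)]; exact hj)) _ (ix_val hi).ge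

theorem en_mul {g h : XU n F} (tg : Tri g) (th : Tri h) (i d : ℕ) (hi : i + d ≤ n) :
    en (g * h) i (i + d) = ∑ k ∈ range (d + 1), en g i (i + k) * en h (i + k) (i + d) := by
  have e1 : en (g * h) i (i + d) = ∑ k ∈ range (n + 1), en g i k * en h k (i + d) := by
    rw [← Fin.sum_univ_eq_sum_range (fun k => en g i k * en h k (i + d)), en, mt_mul, Matrix.mul_apply]
    simp only [en, ix, Fin.ofNat_val_eq_self]
  rw [e1, ← sum_subset (range_subset_range.2 (by omega : i + (d + 1) ≤ n + 1)) fun k h1 h2 => by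
    rw [th.low (by simpa [Nat.lt_succ_iff] using h1) (by simp at h2; omega), mul_zero],
    sum_range_add, sum_eq_zero fun k hk => by rw [tg.low (by omega) (mem_range.1 hk), zero_mul],
    zero_add]

variable [hp : Par n F] [Base n F]

theorem triU {u : XU n F} (h : u ∈ UU n F) : Tri u := fun j v hv => by
  have := H72.SPF.wadd ((FV.mem_U u).1 h j v fun i hi => hv i (by omega)) hv
  rwa [add_assoc, v_add_self, add_zero] at this

theorem diagU {u : XU n F} (h : u ∈ UU n F) (i : ℕ) : en u i i = 1 := by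
  have := (FV.mem_U u).1 h _ _ (wev (i := ix n i) (Nat.lt_succ_self _)) _ le_rfl
  rw [Pi.add_apply, ac_ev, ev_apply, if_pos rfl] at this
  rw [en]; linear_combination this - two0 F

theorem triN {g : XU n F} (h : g ∈ Ns (UU n F)) : Tri g := fun j => by
  induction j with
  | zero =>
    intro v hv
    rw [show v = 0 from funext fun i => hv i (Nat.zero_le _), ac_zero]
    exact fun _ _ => rfl
  | succ j ih =>
    intro v hv i hi
    obtain ⟨u, hu, e⟩ := H54.SPF.root (F := F) (show (⟨j, by omega⟩ : Fin (n + 1)) < i from hi)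
    have := ih _ ((FV.mem_U _).1 (H98.conj_mem_of_mem_normalizer (inv_mem h) hu) j v hv)
    rw [ac_add, ac_mul, ac_mul, ac_ac_inv, inv_inv] at this
    exact (e _).symm.trans (this _ le_rfl)

theorem en1 {g h : XU n F} (tg : Tri g) (th : Tri h) {i : ℕ} (hi : i ≤ 2) : en (g * h) i (i + 1) =
    en g i i * en h i (i + 1) + en g i (i + 1) * en h (i + 1) (i + 1) := by
  have := hp.five
  rw [en_mul tg th i 1 (by omega)]; simp [sum_range_succ]

theorem enU {g h : XU n F} (tg : g ∈ UU n F) (th : h ∈ UU n F) {i : ℕ} (hi : i ≤ 2) :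
    en (g * h) i (i + 1) = en h i (i + 1) + en g i (i + 1) := by
  rw [en1 (triU tg) (triU th) hi, diagU tg, diagU th, one_mul, mul_one]

theorem key {a b c : XU n F} (ha : a ∈ UU n F) (hb : b ∈ UU n F) (hc : c ∈ UU n F)
    (a0 : en a 0 1 ≠ 0) (a1 : en a 1 2 = 0) (b1 : en b 1 2 ≠ 0) (c0 : en c 0 1 = 0)
    (c2 : en c 2 3 ≠ 0) : ⁅⁅a, b⁆, c⁆ ≠ 1 := fun h => by
  have := hp.five
  have hx : ⁅a, b⁆ ∈ UU n F := mul_mem (mul_mem (mul_mem ha hb) (inv_mem ha)) (inv_mem hb)
  have e1 : ⁅a, b⁆ * (b * a) = a * b := by rw [commutatorElement_def]; group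
  have e2 := commutatorElement_eq_one_iff_mul_comm.1 h
  generalize ⁅a, b⁆ = x at hx e1 e2
  have k : ∀ i ≤ 2, en x i (i + 1) = 0 := fun i hi => by
    have := congrArg (en · i (i + 1)) e1
    simp only [enU hx (mul_mem hb ha) hi, enU hb ha hi, enU ha hb hi] at this
    linear_combination this
  have k0 : en x 0 1 = 0 := k 0 (by omega)
  have k2 : en x 2 3 = 0 := k 2 le_rfl
  have e3 := congrArg (en · 0 (0 + 2)) e1
  have e4 := congrArg (en · 0 (0 + 3)) e2
  simp only [en_mul (triU hx) (triU (mul_mem hb ha)) 0 2 (by omega),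
    en_mul (triU ha) (triU hb) 0 2 (by omega), en_mul (triU hx) (triU hc) 0 3 (by omega),
    en_mul (triU hc) (triU hx) 0 3 (by omega)] at e3 e4
  have e5 := en_mul (triU hb) (triU ha) 0 2 (by omega)
  simp only [sum_range_succ, range_zero, sum_empty, zero_add, diagU ha, diagU hb, diagU hc, diagU hx,
    diagU (mul_mem hb ha), k0, k2, a1, c0] at e3 e4 e5
  refine mul_ne_zero (mul_ne_zero a0 b1) c2 ?_
  linear_combination e4 + (e5 - e3) * en c 2 3

theorem rootU {i : ℕ} (hi : i ≤ 2) (c : F) : ∃ u ∈ UU n F, ∀ j ≤ 2,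
    en u j (j + 1) = if j = i then c else 0 := by
  have := hp.five
  have v0 : (ix n i).val = i := ix_val (by omega)
  have v1 : (ix n (i + 1)).val = i + 1 := ix_val (by omega)
  refine ⟨_, memU (i := ix n i) (by omega) (y := c • ev (ix n (i + 1)).rev)
    (wsm (wev (by rw [Fin.val_rev]; omega)) c) (if n = 2 * i + 1 then c else 0), fun j hj => ?_⟩
  have v2 : (ix n j).val = j := ix_val (by omega)
  have v3 : (ix n (j + 1)).val = j + 1 := ix_val (by omega)
  rw [en, mt_EE (FV.ok _ _ _ (by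
    rw [hf_smul_left, hfe, if_neg (by rw [Fin.val_rev]; omega), mul_zero]))]
  simp only [mE, Matrix.add_apply, Matrix.one_apply, op_apply, Matrix.smul_apply, Pi.smul_apply,
    ev_apply, star_trivial, Fin.ext_iff, Fin.val_rev, v0, v1, v2, v3, smul_eq_mul]
  split_ifs <;> first | omega | simp [cc]

theorem jobUB : JobUB := by
  intro n F _ _ _ _ _ hp _ _ _
  have fin : ∀ {N : Subgroup (XU n F)}, (∀ i ≤ 2, ∃ w ∈ UU n F, w ∈ N ∧ ∀ j ≤ 2,
      (en w j (j + 1) ≠ 0 ↔ j = i)) → ⁅⁅N, N⁆, N⁆ ≠ ⊥ := fun h e => by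
    obtain ⟨a, a1, a2, a3⟩ := h 0 (by omega)
    obtain ⟨b, b1, b2, b3⟩ := h 1 (by omega)
    obtain ⟨c, c1, c2, c3⟩ := h 2 (by omega)
    exact key a1 b1 c1 ((a3 0 (by omega)).2 rfl) (by simpa using a3 1 (by omega))
      ((b3 1 (by omega)).2 rfl) (by simpa using c3 0 (by omega)) ((c3 2 le_rfl).2 rfl)
      (mem_bot.1 (e ▸ commutator_mem_commutator (commutator_mem_commutator a2 b2) c2))
  refine ⟨fin fun i hi => ?_, fun β h1 h2 h3 N hN => fin fun i hi => ?_⟩
  · obtain ⟨u, u1, u2⟩ := rootU (n := n) hi (1 : F)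
    exact ⟨u, u1, u1, fun j hj => by simp [u2 j hj]⟩
  have : Finite (XU n F) := Subtype.finite
  obtain ⟨g, σ, rfl⟩ := FA.semi β
  have s1 : fs n F σ ∈ St (UU n F) := mem_St_of_finite fun u hu => (FV.mem_U _).2 fun j v hv i hi => by
    have e := congrFun (FA.fs_ac σ u fun i => σ.symm (v i)) i
    have := (FV.mem_U u).1 hu j (fun i => σ.symm (v i)) (fun i hi => by simp [hv i hi]) i hi
    simp only [RingEquiv.apply_symm_apply] at e
    rw [Pi.add_apply, e, ← σ.apply_symm_apply (v i), ← map_add]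
    exact (congrArg σ this).trans (map_zero σ)
  have g1 : g ∈ Ns (UU n F) := conj_mem_St.1 (by simpa using mul_mem h1 (inv_mem s1))
  have s2 : σ ≠ 1 := by
    rintro rfl
    have e : fs n F 1 = 1 := by simpa using FA.fs_mul (n := n) (1 : RingAut F) 1
    rw [e, mul_one] at h2 h3
    obtain ⟨k, hk⟩ := h2
    exact h3 (mem_cI.2 ⟨g, H54.SPF.le_U (H64.SG.isPGroup_sup_zpowers FW.sylU.2.1 g1
      ⟨k, FA.ns.cen _ (by rw [map_pow, hk])⟩) le_sup_left (mem_sup_right (mem_zpowers g)), rfl⟩)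
  have g2 : ∀ j ≤ 3, en g j j ≠ 0 := fun j hj => by
    have := hp.five
    have e := en_mul (triN g1) (triN (inv_mem g1)) j 0 (by omega)
    rw [mul_inv_cancel, add_zero, diagU (one_mem _)] at e
    exact left_ne_zero_of_mul_eq_one (by simpa using e.symm)
  obtain ⟨c, hc⟩ : ∃ c, en g i i * σ c ≠ c * en g (i + 1) (i + 1) := by
    by_contra! k
    refine s2 (RingEquiv.ext fun c => mul_left_cancel₀ (g2 i (by omega)) ?_)
    have := k 1
    rw [map_one, mul_one, one_mul] at this
    rw [k c, ← this, mul_comm]; rfl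
  obtain ⟨u, u1, u2⟩ := rootU (n := n) hi c
  have u3 := (h1 u).1 u1
  have u4 := (s1 u).1 u1
  refine ⟨_, mul_mem u3 (inv_mem u1), hN u u1, fun j hj => ?_⟩
  have e1 := enU (mul_mem u3 (inv_mem u1)) u1 hj
  have e2 := en1 (triU u3) (triN g1) hj
  rw [inv_mul_cancel_right] at e1
  rw [diagU u3, one_mul, e1, show (MulAut.conj g * fs n F σ) u * g = g * fs n F σ u from
    inv_mul_cancel_right _ _, en1 (triN g1) (triU u4) hj, diagU u4, mul_one,
    show en (fs n F σ u) j (j + 1) = σ (en u j (j + 1)) from rfl, u2 j hj] at e2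
  split_ifs at e2 with e
  · subst e
    exact ⟨fun _ => rfl, fun _ e => hc (by rw [e] at e2; linear_combination e2)⟩
  · refine ⟨fun k => absurd (mul_right_cancel₀ (g2 (j + 1) (by omega)) ?_) k, fun k => absurd k e⟩
    rw [map_zero] at e2
    linear_combination -e2

end H98.SwUB
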