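import Cfsg.Agent.H86.SPODef

/-! STD-SP endgame, orthogonal model, slot M3: the field involutions. -/

set_option autoImplicit false
set_option linter.unusedSectionVars false

namespace H98.SpoM3

open H64.SG (is2_of_sq isPGroup_sup_zpowers)
open H59.SO (Om Au E gam Lin Fr gam_ofO E_fix add_self2)
open H86.SPO H56 H58 QuadraticMap Module Subgroup

variable {F V : Type} [Field F] [_root_.CharP F 2] [AddCommGroup V] [Module F V]
  {Q : QuadraticForm F V}

/-- A semilinear involution fixes a nonsingular vector. -/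
theorem fixv {T : Gam Q} (h : T * T = 1) (hs : T.σ ≠ 1) {e f : V} (hef : polar Q e f = 1) :
    ∃ a, Q a ≠ 0 ∧ T a = a := by
  by_contra! k
  have k0 : ∀ a, T a = a → Q a = 0 := fun a ha => by_contra fun h => k a h ha
  have tt : ∀ x, T (T x) = x := fun x => congrArg (fun S : Gam Q => S x) h
  have k1 : ∀ a b, T a = a → T b = b → polar Q a b = 0 := fun a b ha hb => by
    rw [polar, k0 a ha, k0 b hb, k0 _ (by rw [map_add, ha, hb])]; simp
  have k2 : ∀ x, T (x + T x) = x + T x := fun x => by rw [map_add, tt, add_comm]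
  obtain ⟨c, hc⟩ : ∃ c, T.σ c + c ≠ 0 := by
    by_contra! k
    exact hs (RingEquiv.ext fun c => CharTwo.add_eq_zero.1 (k c))
  have k3 : ∀ x, (T.σ c + c) • x = T.σ c • (x + T x) + (c • x + T (c • x)) := fun x => by
    rw [T.map_smul, smul_add, add_smul, add_add_add_comm, add_self2 F, add_zero]
  have : polar Q ((T.σ c + c) • e) ((T.σ c + c) • f) = 0 := by
    rw [k3, k3]
    simp only [polar_add_left _ (_ • (_ + _)), polar_add_right _ _ (_ • (_ + _)), polar_smul_left,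
      polar_smul_right, k1 _ _ (k2 _) (k2 _), smul_zero, add_zero]
  simp [hef, hc] at this

theorem jobM3 : JobM3 := by
  intro n F _ _ _ _ _ _ _ _ _ V _ _ _ Q ι r w d k l1 xs β b2 b3 o1 o2
  refine .inr ⟨fun u _ => xs.lo u, ?_⟩
  have fa := d.fa
  have p := d.par.toPar0
  have qw : Q w ≠ 0 := by simp [d.qw]
  have t2 := k.t2 w
  have ti := inv_eq_of_mul_eq_one_right t2
  obtain ⟨α, hα⟩ := fa.syl _ (isPGroup_sup_zpowers b3.zpowers (u := ta Q w)
    (mem_normalizer_of_cj_le (by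
      rw [cj, MonoidHom.map_zpowers, zpowers_le]
      convert inv_mem (mem_zpowers (β * ta Q w)) using 1
      simp [ti, inv_eq_of_mul_eq_one_right b2, mul_assoc, t2])) (is2_of_sq t2))
  have tm := mem_sup_right (S := zpowers (β * ta Q w)) (mem_zpowers (ta Q w))
  have la := l1 α (hα _ tm)
  have lb : Lin Q β := by
    have := mul_mem (mul_mem (inv_mem la) (hα _ (mul_mem (mem_sup_left (mem_zpowers _)) tm))) la
    simpa [mul_assoc, t2, Lin] using this
  obtain ⟨T, c1, rfl⟩ := lb.exists_one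
  have T2 : T * T = 1 := k.inj _ _ (by simp [Gam.mul_c, c1]) rfl (by rw [map_mul, b2, map_one])
  have hs : T.σ ≠ 1 := fun e => by
    obtain ⟨g, rfl⟩ := k.iso T c1 e
    by_cases hg : g ∈ EG Q
    · exact o1 ⟨g, hg⟩ (gam_ofO ⟨g, hg⟩)
    · exact o2 ⟨_, p.mul_mem hg (p.refl_notMem qw)⟩ (by rw [← gam_ofO, ta, ← map_mul, ← map_mul])
  obtain ⟨a, a1, a2⟩ := fixv T2 hs (e := r.e 0) (f := r.f 0) (by simp [r.ef])
  obtain ⟨s, -, s1⟩ := k.nm a a1
  have a3 : T (s • a) = s • a := by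
    have e := T.map_Q (s • a)
    rw [T.map_smul, a2, c1, s1, map_one, one_mul, ← s1, QuadraticMap.map_smul, QuadraticMap.map_smul,
      smul_eq_mul, smul_eq_mul, mul_left_inj' a1] at e
    rw [T.map_smul, a2, CharTwo.add_eq_zero.1 (pow_eq_zero_iff two_ne_zero |>.1
      (show (T.σ s + s) ^ 2 = 0 by rw [CharTwo.add_sq, pow_two, pow_two, e, CharTwo.add_self_eq_zero]))]
  obtain ⟨y, hy⟩ := k.w1 _ w s1 d.qw
  set T' := Gam.ofO Q y.1 * T * (Gam.ofO Q y.1)⁻¹ with hT
  have e1 : gam Q T' = MulAut.conj y * gam Q T * (MulAut.conj y)⁻¹ := by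
    rw [hT, map_mul, map_mul, map_inv, gam_ofO]
  have e2 : T' w = w := by
    conv_lhs => rw [← hy]
    rw [hT, ← Gam.ofO_apply, Gam.mul_apply, Gam.inv_apply_apply, Gam.mul_apply, a3, Gam.ofO_apply, hy]
  have e3 : gam Q T' * ta Q w = ta Q w * gam Q T' := by
    rw [← mul_inv_eq_iff_eq_mul, k.gm, e2]
  have e4 : ι.range.map (gam Q T' : Om Q →* Om Q) = ι.range := H67.SA.mem_St_iff_map.1 fun g => by
    rw [d.rng, d.rng, ← k.fx w _ qw, ← k.fx w _ qw, ← MulAut.mul_apply, ← e3, MulAut.mul_apply,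
      (gam Q T').injective.eq_iff]
  let φ := MonoidHom.ofInjective d.inj
  let ψ : MulAut _ := φ.trans ((((gam Q T').subgroupMap _).trans (MulEquiv.subgroupCongr e4)).trans φ.symm)
  have e5 : ∀ u, gam Q T' (ι u) = ι (ψ u) := fun u => by
    simp only [ψ, MulEquiv.trans_apply, φ]
    rw [MonoidHom.apply_ofInjective_symm]
    rfl
  have o3 : H64.SF.Outer ψ := fun g e => hs (RingEquiv.ext fun c => by
    have f1 : ∀ c, gam Q ((Gam.ofO Q (ι g).1)⁻¹ * T') (r.z c) = r.z c := fun c => by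
      obtain ⟨u, hu⟩ := (d.rng (r.z c)).2 (E_fix (d.we 0) (by simp [d.we 1]))
      rw [map_mul, map_inv, gam_ofO, ← hu, MulAut.mul_apply, e5, e]
      simp [mul_assoc]
    have := fa.isFl _ _ _ _ _ r.ts r.ts (by simpa only [Fr.z, one_smul] using f1 1) c
    rw [f1, fa.flg] at this
    simpa [hT] using ((r.z_inj p).1 this).symm)
  obtain ⟨z, z1, z2, z3⟩ := xs.fz ψ (MulEquiv.ext fun u => d.inj (by
    rw [MulAut.mul_apply, ← e5, ← e5, ← MulAut.mul_apply, e1, conj_mul, b2]; simp)) o3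
  exact ⟨y, _, ψ, z, e1, e3, e5, o3, z1, z2, z3⟩

end H98.SpoM3
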