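import Cfsg.Agent.H67.SPSpec
import Cfsg.Agent.H98.SfH

/-! STD-SP (row S3129), slot H: pass to `N(O) / O` and lift back. -/

set_option autoImplicit false
set_option linter.unusedSectionVars false

namespace H98.SpH

open H64.SG (O2 Cz Cs Ns Is2 Inv2 IsO2 Cov Qt mem_Cz Cs_le_Ns is2_of_sq odd_orderOf_of_mem)
open H59.SO (NS Ind B1 CE CW cje exists_ind)
open H67.UA hiding Par
open H67.SP H98 Subgroup Function

universe u

section Model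

variable {n : ℕ} {F : Type} [Field F] [StarRing F] [TrivialStar F] [_root_.CharP F 2] [Finite F]
  [p : Par n F] [Base n F] [FC n F]

theorem wk_ev {j : ℕ} {i : Fin (n + 1)} (h : i.val < j) (c : F) : Wk j (c • ev i : Vn n F) :=
  fun k hk => by
    rw [Pi.smul_apply, ev_apply, if_neg (fun e => by subst e; omega), smul_zero]

theorem M2_le : Mk n F 2 ≤ Qk n F 2 := fun g hg => by
  obtain ⟨a, b, c, rfl⟩ := (FV.mem_M2 g).1 hg
  have h5 := p.five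
  have v1 : ((1 : Fin (n + 1)) : ℕ) = 1 := by
    rw [Fin.val_one', Nat.mod_eq_of_lt (by omega)]
  have w0 : Wk 2 (ev 0 : Vn n F) := by simpa using wk_ev (n := n) (i := 0) (j := 2) (by simp) (1 : F)
  have w1 : Wk 2 (ev 1 : Vn n F) := by simpa using wk_ev (n := n) (i := 1) (j := 2) (by omega) (1 : F)
  exact mul_mem (mul_mem (FV.EE_Q 2 (by omega) _ _ _ w0 fun _ _ => rfl)
    (FV.EE_Q 2 (by omega) _ _ _ w0 (wk_ev (by omega) b))) (FV.EE_Q 2 (by omega) _ _ _ w1 fun _ _ => rfl)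

/-- An automorphism of odd order that fixes `Pc (C z)` pointwise is trivial. -/
theorem cta {z : XU n F} (hz : Rt z) (β : MulAut (XU n F)) (ho : Odd (orderOf β))
    (hβ : ∀ a ∈ Pc (Cz z), β a = a) : β = 1 := by
  have key : ∀ (x : XU n F) (Q Z : Subgroup (XU n F)), IsConj x z → Q ≤ Pc (Cz x) → IsPGroup 2 Z →
      (∀ α : MulAut (XU n F), (∀ u ∈ Q, α u = u) → ∃ ζ ∈ Z, α = MulAut.conj ζ) → β = 1 := by
    intro x Q Z c h1 h2 h3
    obtain ⟨m, rfl⟩ := isConj_iff.1 c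
    have h4 : (Pc (Cz x)).map (MulAut.conj m).toMonoidHom ≤ Pc (Cz (m * x * m⁻¹)) :=
      le_Pc (by
        rintro _ ⟨a, ha, rfl⟩
        refine mem_Cz.2 ?_
        change m * x * m⁻¹ * (m * a * m⁻¹) = m * a * m⁻¹ * (m * x * m⁻¹)
        rw [conj_mul, conj_mul, mem_Cz.1 (Pc_le _ ha)])
        (by rw [← map_commutator]; exact map_mono (Pc_perf _))
    obtain ⟨ζ, h5, h6⟩ := h3 ((MulAut.conj m)⁻¹ * β * MulAut.conj m) fun u hu => by
      rw [MulAut.mul_apply, MulAut.mul_apply, hβ (MulAut.conj m u) (h4 ⟨u, h1 hu, rfl⟩)]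
      exact MulAut.inv_apply_self _ _ _
    have h7 : Is2 ζ := isPGroup_iff_forall.1 h2 ζ h5
    have h8 : β = MulAut.conj m * MulAut.conj ζ * (MulAut.conj m)⁻¹ := by rw [← h6]; group
    exact (h8 ▸ (h7.map MulAut.conj).conj _ : Is2 β).eq_one ho
  have q2 := fun a : F => FC.o2 (n := n) a (1 : F) one_ne_zero
  rcases hz with k | k | k
  · refine key _ (QQ n F) (QQ n F) ((FR.lr z).1 k) ?_ (FR.o2 _ (ev_ne 0)).2.2.1 FC.cQ
    rw [FR.cz _ _ (ev_ne 0) one_ne_zero]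
    exact (FR.o2 _ (ev_ne 0)).1.trans (le_Pc le_rfl (FR.perf _ (ev_ne 0)))
  · refine key _ (Qk n F 2) (Mk n F 2) ((FR.sr z).1 k) ?_ ((q2 0).2.2.1.to_le M2_le) FC.cQ2
    simpa [zu, xa] using (q2 0).1
  · refine key _ (Qk n F 2) (Mk n F 2) ((FR.cr z).1 k) ?_ ((q2 0).2.2.1.to_le M2_le) FC.cQ2
    simpa [zu, xc, xa, xb] using (q2 1).1

theorem rt_xb : Rt (xb n F) := .inl ((FR.lr _).2 (IsConj.refl _))
theorem rt_xa : Rt (xa n F) := .inr (.inl ((FR.sr _).2 (IsConj.refl _)))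

theorem sq_of_rt {z : XU n F} (hz : Rt z) : z * z = 1 := by
  obtain ⟨h1, h2, h3⟩ := FR.rk z
  rcases hz with k | k | k
  exacts [(h1.1 k).1.1, (h2.1 k).1.1, (h3.1 k).1.1]

end Model

theorem jobH : JobH.{u} := by
  intro hMV n F _ _ _ _ _ _ G _ _ e t hB hC P hP hH h hc
  have hX : NS (XU n F) := FA.ns
  obtain ⟨o1, ko⟩ := h.odd_core
  have ole := H64.SG.O2_le (Cs e.range ⊓ Cz t)
  have no : ∀ g u, Rt u → g * t * g⁻¹ = t * e u → g * e u = e u * g →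
      g ∈ Ns (O2 (Cs e.range ⊓ Cz t)) := fun g u hu hg hg' => by
    have h3 := (ab h.b0).edge g u u hg (mul_inv_eq_iff_eq_mul.2 hg')
    refine inv_mem_iff.1 (mem_normalizer_of_cj_le ?_)
    rintro _ ⟨o, ho, rfl⟩
    have k : ∀ a, g * a * g⁻¹ * o = o * (g * a * g⁻¹) → a * (g⁻¹ * o * g⁻¹⁻¹) = g⁻¹ * o * g⁻¹⁻¹ * a :=
      fun a ha => by
        calc _ = g⁻¹ * (g * a * g⁻¹ * o) * g := by group
          _ = _ := by rw [ha]; group
    have h4 : g⁻¹ * o * g⁻¹⁻¹ ∈ Cz t := mem_Cz.2 (k t (by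
      rw [hg, mul_assoc, (ole ho).1 _ ⟨u, rfl⟩, ← mul_assoc, mem_Cz.1 (ole ho).2, mul_assoc]))
    have h5 : Odd (orderOf (g⁻¹ * o * g⁻¹⁻¹)) := H64.SG.odd_orderOf_of_pow
      (odd_orderOf_of_mem o1 ho) (by rw [conj_pow, pow_orderOf_eq_one]; simp)
    obtain ⟨β, hβ⟩ := exists_ind h.inj (h.cz h4)
    exact H64.SG.mem_O2_of_odd ⟨(hβ.eq_one_iff h.inj).1 (cta hu β (hβ.odd h.inj h5)
      (hβ.fix h.inj fun a ha => k a ((ole ho).1 _ (map_le_range _ _ (h3.le (conj_mem_cj ha)))))), h4⟩ h5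
  generalize O2 (Cs e.range ⊓ Cz t) = O at o1 ko ole no
  obtain ⟨q⟩ := H64.SG.exists_qt o1
  have hL : e.range ≤ Cs O := le_centralizer_iff.1 (ole.trans inf_le_left)
  have t1 : t ∈ Cs O := fun o ho => (mem_Cz.1 (ole ho).2).symm
  have t2 := Cs_le_Ns O t1
  have t3 := is2_of_sq h.inv.1
  have x1 : ∀ s, e s ∈ Ns O := fun s => Cs_le_Ns O (hL ⟨s, rfl⟩)
  let e' := q.φ.comp (e.codRestrict (Ns O) x1)
  have e1 : ∀ s, e' s = q.p (e s) := fun s => q.eq _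
  have e3 : e'.range = q.im e.range := le_antisymm
    (by rintro _ ⟨s, rfl⟩; exact e1 s ▸ q.p_mem ⟨s, rfl⟩ (x1 s)) fun g hg => by
      obtain ⟨_, ⟨s, rfl⟩, -, rfl⟩ := q.mem_im.1 hg
      exact ⟨s, e1 s⟩
  have hi : Injective e' := (injective_iff_map_eq_one _).2 fun s hs => hX.eq_one fun b =>
    (H59.SO.e_comm_iff h.inj).1 ((ole ((q.ker _ (x1 s)).1 (e1 s ▸ hs))).1 _ ⟨b, rfl⟩).symm
  have mv : ∀ u, Rt u → Mv e t u → Mv e' (q.p t) u := fun u hu ⟨g, g1, g2⟩ =>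
    have g3 := no g u hu g1 g2
    ⟨q.p g, by rw [← q.conj g3 t2, g1, q.mul t2 (x1 _), e1],
      by rw [e1, ← q.mul g3 (x1 _), g2, q.mul (x1 _) g3]⟩
  have bk : ∀ u, Rt u → Fu e' (q.p t) u → Fu e t u := fun u hu hf => by
    obtain ⟨g', hg⟩ := isConj_iff.1 hf
    obtain ⟨g, g1, rfl⟩ := q.surj g'
    refine isConj_iff.2 ⟨g, (q.eq2 (mul_mem t1 (hL ⟨u, rfl⟩)) (mul_mem (mul_mem g1 t2) (inv_mem g1))
      (t3.mul ((is2_of_sq (sq_of_rt hu)).map e) (h.comm u)) (t3.conj g) ?_).symm⟩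
    rw [q.conj g1 t2, hg, q.mul t2 (x1 _), e1]
  have fz : Fz e' (q.p t) = Fz e t := funext fun u => propext (and_congr_right fun hu =>
    ⟨bk u hu, fun k => let ⟨g, g1, _⟩ := mv u hu (hMV n F G e t hB hC h.b0 u hu k)
      isConj_iff.2 ⟨g, g1⟩⟩)
  have b1 : B1 e' (q.p t) := ⟨hi, ⟨by rw [← q.mul t2 t2, h.inv.1, q.one], fun e => h.inv.2 (t3.eq_one
    (odd_orderOf_of_mem o1 ((q.ker t t2).1 e)))⟩, e3 ▸ q.p_mem_Cs h.cen t2, fun g hg => by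
      obtain ⟨g, g1, g2, rfl⟩ := q.lift_Cz t2 t3 hg
      exact e3 ▸ q.p_mem_Ns (h.cz g2) g1⟩
  have ck : ∀ g ∈ Cz (q.p t), g ∈ Cs e'.range → g = 1 ∨ g = q.p t := fun g g1 g2 => by
    obtain ⟨g, g3, g4, rfl⟩ := q.lift_Cz t2 t3 g1
    obtain ⟨β, hβ⟩ := exists_ind h.inj (h.cz g4)
    refine (ko g ((hβ.eq_one_iff h.inj).1 (MulEquiv.ext fun s => hi ?_)) g4).imp (q.ker g g3).2 fun e => ?_
    · rw [e1, ← hβ, q.conj g3 (x1 s), ← e1, ← g2 _ ⟨s, rfl⟩, mul_inv_cancel_right]; rfl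
    · have := (q.ker _ (mul_mem g3 t2)).2 e
      rw [q.mul g3 t2] at this
      rw [eq_inv_of_mul_eq_one_left this, b1.inv_eq]
  have H : CH e' (q.p t) := by
    refine ⟨⟨b1, fun R h1 h2 => ?_⟩, ck⟩
    obtain ⟨T, T1, T2⟩ := exists_isSyl_le (H9.UF.pg_zp b1.inv.1) (zpowers_le.2 b1.cen)
    have : Nontrivial T := ⟨⟨_, T2 (mem_zpowers _)⟩, 1, fun e => b1.inv.2 (congrArg Subtype.val e)⟩
    obtain ⟨⟨z, z1⟩, z2⟩ := @exists_ne _ T1.isPGroup.center_nontrivial 1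
    have z3 : ∀ a ∈ T, a * z = z * a := fun a ha => congrArg Subtype.val (mem_center_iff.1 z1 ⟨a, ha⟩)
    have z4 := (ck z (mem_Cz.2 (z3 _ (T2 (mem_zpowers _)))) (T1.le z.2)).resolve_left
      fun e => z2 (Subtype.ext (Subtype.ext e))
    refine (T1.card_le h2 h1).trans ((card_le_of_le fun a ha => ?_).trans
      (H59.SO.card_zpowers_inv2 b1.inv).le)
    rcases ck a (mem_Cz.2 (z4 ▸ (z3 a ha).symm)) (T1.le ha) with rfl | rfl
    exacts [one_mem _, mem_zpowers _]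
  rcases hH _ e' _ H (hc.imp (mv _ rt_xb) fun k => ⟨mv _ rt_xa k.1, fun k' => k.2 (bk _ rt_xb k')⟩)
    with ⟨_, _, w⟩ | ⟨Y, _, ι, τ, h1, B, c, h2⟩
  · refine .inl (SfH.cw q hX e1 hL t1 hi (fun A π h1 h2 h3 _ => ?_) w)
    have := H21.card_ker_dvd_multCard (π := π) ⟨h1, h2, h3 ▸ le_top⟩
    rw [FA.mult, Nat.dvd_one, card_eq_one] at this
    exact (MonoidHom.ker_eq_bot_iff π).1 this
  · exact .inr ⟨Y, _, ι, τ, fz ▸ h1, SfH.bl0 q hX e1 hL t1 hi (hP Y ι τ _ h1) h2⟩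

end H98.SpH
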