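import Cfsg.Agent.H98.HrPR

/-! Job G1 of the HR tower: in case NS the groups `N c ⊓ N d` are not all of odd order. -/

set_option autoImplicit false

namespace H98.Hr

open MulAction Cfsg Subgroup H89.K H98 H82.HR

universe u v

section Four

variable {G : Type u} [Group G] [Finite G] {Z N U V W : Subgroup G} {z s t w g d : G} {q : ℕ}

theorem four_cases (h : Nat.card Z = 4) (hz : z ∈ Z) (hs : s ∈ Z) (ht : t ∈ Z) (z1 : z ≠ 1)
    (s1 : s ≠ 1) (t1 : t ≠ 1) (s2 : s ≠ z) (t2 : t ≠ z) (st : s ≠ t) (hw : w ∈ Z) :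
    w = 1 ∨ w = z ∨ w = s ∨ w = t := by
  have e : ({1, z, s, t} : Set G) = Z := Set.eq_of_subset_of_ncard_le
    (by rintro _ (rfl | rfl | rfl | rfl); exacts [Z.one_mem, hz, hs, ht]) (by
      rw [Set.ncard_insert_of_notMem (by simp [z1.symm, s1.symm, t1.symm]),
        Set.ncard_insert_of_notMem (by simp [s2.symm, t2.symm]), Set.ncard_pair st]
      exact h.le)
  exact (Set.ext_iff.1 e w).2 hw

theorem sq_cen (h : Nat.card Z = 4) (hz : z ∈ Z) (z1 : z ≠ 1) (hg : g ∈ nor Z)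
    (e : g * z = z * g) : g * g ∈ cen Z := fun w hw => by
  have k : ∀ {s : G}, g * s * g⁻¹ = z → s = z := fun {s} r => by
    rw [mul_inv_eq_iff_eq_mul, ← e] at r; exact mul_left_cancel r
  have fin : g * (g * w * g⁻¹) * g⁻¹ = w → w * (g * g) = g * g * w := fun r => by
    conv_lhs => rw [← r]
    group
  by_cases w1 : w = 1
  · simp [w1]
  by_cases w2 : w = z
  · rw [w2, mul_assoc, e, ← mul_assoc, ← mul_assoc, e]
  by_cases w3 : g * w * g⁻¹ = w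
  · exact fin (by rw [w3, w3])
  have hs := conj_mem_of_mem_normalizer hg hw
  rcases four_cases h hz hs hw z1 (by simpa using w1) w1 (fun r => w2 (k r)) w2 w3
    (conj_mem_of_mem_normalizer hg hs) with r | r | r | r
  · exact absurd (by simpa using r) w1
  · exact absurd (k (k r)) w2
  · exact absurd (mul_left_cancel (mul_right_cancel r)) w3
  · exact fin r

theorem card_U (h : BF N U V q) (hU : U ≤ ZZ U) : Nat.card U = q := by
  rw [← h.card, le_antisymm ZZ_le hU]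

theorem pow4_cen (h : BF N U V 4) (hU : U ≤ ZZ U) (hz : z ∈ U) (z1 : z ≠ 1) (hg : g ∈ nor N)
    (e : g * z = z * g) : g ^ 4 ∈ cen N := by
  have h1 := h.cen_le hz z1 hg e
  have h2 := sq_cen (card_U h hU) hz z1 h1 e
  obtain ⟨x, hx, h3⟩ := h.bor (mul_mem hg hg) (mul_mem h1 h1)
  have h4 := h.ker2 (mul_mem (inv_mem (le_normalizer (h.sylU.le hx))) (mul_mem hg hg)) h3
    (mul_mem (inv_mem (show x ∈ cen U from (hU hx).2.2)) h2)
  have h5 := mul_mem h4 h4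
  rwa [show x⁻¹ * (g * g) * (x⁻¹ * (g * g)) = x⁻¹ * (g * g * x⁻¹) * (g * g) by group,
    ← h2 _ (U.inv_mem hx), ← mul_assoc x⁻¹, ← mul_inv_rev, (hU hx).2.1,
    show (1 : G)⁻¹ * (g * g) * (g * g) = g ^ 4 by simp [pow_succ, mul_assoc]] at h5

theorem fix_DD (h : BF N U V q) (hU : U ≤ ZZ U) (hd : d ∈ DD N U V) (d1 : d ≠ 1)
    (hW : IsSyl 2 W N) (e : d ∈ nor W) : W = U ∨ W = V := by
  refine (em _).imp_right fun r => ?_
  obtain ⟨x, hx, rfl⟩ := h.trans hW r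
  have h1 := h.uniq (conj_mem_of_mem_normalizer hd.1.2 hx) hx (by
    rw [← cj_cj, cj_eq_self (inv_mem hd.2), ← cj_cj, cj_eq_self e])
  by_cases x1 : x = 1
  · rw [x1, cj_one]
  · exact absurd (h.DD_free hU hd hx x1 (mul_inv_eq_iff_eq_mul.1 h1)) d1

theorem sq_mem_DD (h : BF N U V q) (hU : U ≤ ZZ U) (hd : d ∈ DD N U V) (d1 : d ≠ 1)
    (hg : g ∈ N) (e : g * d = d * g) : g * g ∈ DD N U V := by
  have k : ∀ {W}, IsSyl 2 W N → d ∈ nor W → cj g W = U ∨ cj g W = V := fun hW r =>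
    fix_DD h hU hd d1 (hW.cj_of_mem hg)
      (cj_eq_self_iff.1 (by rw [cj_cj, ← e, ← cj_cj, cj_eq_self r]))
  refine ⟨⟨mul_mem hg hg, cj_eq_self_iff.1 ?_⟩, cj_eq_self_iff.1 ?_⟩ <;> rw [← cj_cj] <;>
  rcases k h.sylU hd.1.2 with r | r <;> rcases k h.sylV hd.2 with r' | r' <;>
  first
  | exact absurd (cj_inj.1 (r'.trans r.symm)) h.ne
  | rw [r, r]
  | rw [r, r']
  | rw [r', r']
  | rw [r', r]

/-- An outer involution of `L₂(4)` centralises a torus. -/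
theorem swap (kb : JobKB.{u}) (h : BF N U V 4) (hU : U ≤ ZZ U) (h1 : t ∈ nor N) (h2 : t ∈ nor U)
    (h3 : t * t = 1) (h4 : t ∉ cen (ZZ U)) :
    ∃ W₁ W₂, BF N W₁ W₂ 4 ∧ W₁ ≤ ZZ W₁ ∧ ∀ d ∈ DD N W₁ W₂, d * t = t * d := by
  obtain ⟨c2, gam⟩ := (kb G N U V 4 h).2.2.1 t h1 h2 h3 h4
  obtain ⟨V, h, h5⟩ : ∃ V, BF N U V 4 ∧ t ∈ nor V := by
    obtain ⟨x, hx, r⟩ := h.bor h1 h2
    have k : ∀ y, cj t (cj y V) = cj (t * y * t⁻¹ * x) V := fun y => by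
      conv_rhs => rw [← cj_eq_self r]
      rw [cj_cj, cj_cj]; congr 1; group
    have e : t * x * t⁻¹ * x = 1 :=
      h.uniq (mul_mem (conj_mem_of_mem_normalizer h2 hx) hx) U.one_mem (by
        have := k 1
        rw [cj_one, mul_one, mul_inv_cancel, one_mul] at this
        rw [← k, ← this, cj_cj, h3])
    obtain ⟨y, hy, e1⟩ := gam x (hU hx) (by
      rw [← (hU hx).2.1] at e; exact (mul_inv_eq_iff_eq_mul.1 (mul_right_cancel e)).symm)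
    have := h.cj' (le_normalizer (h.sylU.le hy.1))
    rw [cj_eq_self_of_mem hy.1] at this
    refine ⟨_, this, cj_eq_self_iff.1 ?_⟩
    rw [k, mul_inv_eq_iff_eq_mul.1 e1, mul_assoc, ← hy.2.2 x hx, ← mul_assoc, (hU hx).2.1, one_mul]
  have k : ∀ y, cj t (cj y V) = cj (t * y * t⁻¹) V := fun y => by
    conv_rhs => rw [← cj_eq_self h5]
    rw [cj_cj, cj_cj]; congr 1; group
  obtain ⟨w, hw, w1⟩ : ∃ w ∈ U, t * w * t⁻¹ ≠ w := by
    by_contra r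
    push Not at r
    exact h4 fun w hw => (mul_inv_eq_iff_eq_mul.1 (r w hw.1)).symm
  obtain ⟨z, hz, z1⟩ := exists_inv (C := ZZ U ⊓ centralizer {t})
    (h.sylU.isPGroup.to_le (inf_le_left.trans ZZ_le)) (fun e => by rw [e, card_bot] at c2; omega)
  have z2 : t * z * t⁻¹ = z := mul_inv_eq_iff_eq_mul.2 (hz.2 t rfl)
  have hw' := conj_mem_of_mem_normalizer h2 hw
  have tt : t * (t * w * t⁻¹) * t⁻¹ = w := by
    rw [show t * (t * w * t⁻¹) * t⁻¹ = t * t * w * (t * t)⁻¹ by group, h3]; simp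
  have s1 := h.sylV.cj_of_mem (h.sylU.le hw)
  have s2 := h.sylV.cj_of_mem (h.sylU.le hw')
  have ne : cj (t * w * t⁻¹) V ≠ cj w V := fun e => w1 (h.uniq hw' hw e)
  have b := h.all s1 s2 ne
  have fx : ∀ W, IsSyl 2 W N → W ≠ cj w V → W ≠ cj (t * w * t⁻¹) V → cj t W = W := fun W hW n1 n2 => by
    by_cases e : W = U
    · rw [e, cj_eq_self h2]
    obtain ⟨y, hy, rfl⟩ := h.trans hW e
    rcases four_cases (card_U h hU) hz.1.1 hw hw' z1.1 (fun e => w1 (by simp [e]))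
      (fun e => w1 (by rw [← tt, e]; simp)) (fun e => w1 (e ▸ z2))
      (fun e => w1 (by rw [← tt, e, z2, z2])) w1.symm hy with e | e | e | e
    · rw [e, cj_one, cj_eq_self h5]
    · rw [k, e, z2]
    · exact absurd (by rw [e]) n1
    · exact absurd (by rw [e]) n2
  refine ⟨_, _, b, (eq_of_le_of_card_ge ZZ_le ?_).ge, fun d hd => ?_⟩
  · rw [b.card, card_cj, h.sylV.card_eq, ← h.sylU.card_eq, card_U h hU]
  have hm : t * d * t⁻¹ * d⁻¹ ∈ N := mul_mem (conj_mem_of_mem_normalizer h1 hd.1.1) (inv_mem hd.1.1)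
  have e := mem_bot.1 (h.inf_cen.le ⟨hm, h.ker (le_normalizer hm) fun W hW => cj_eq_self_iff.1 (by
    rw [H82.TP.inv_of_sq h3, ← cj_cj, ← cj_cj, ← cj_cj]
    by_cases n1 : W = cj w V
    · rw [n1, cj_eq_self (inv_mem hd.1.2), k, cj_eq_self hd.2, k, tt]
    by_cases n2 : W = cj (t * w * t⁻¹) V
    · rw [n2, cj_eq_self (inv_mem hd.2), k, tt, cj_eq_self hd.1.2, k]
    rw [fx _ (hW.cj_of_mem (inv_mem hd.1.1))
      (fun e => n1 (by rw [← cj_cj_inv d W, e, cj_eq_self hd.1.2]))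
      (fun e => n2 (by rw [← cj_cj_inv d W, e, cj_eq_self hd.2])), cj_cj_inv, fx W hW n1 n2])⟩)
  rw [mul_inv_eq_one, mul_inv_eq_iff_eq_mul] at e
  exact e.symm

end Four

section Act

variable {G : Type u} {Ω : Type v} [Group G] [Finite G] [MulAction G Ω] {N : Ω → Subgroup G}
  {q : ℕ} {a b c d : Ω} {U V U' V' : Subgroup G} {x y z g : G}

theorem eq_one_of_odd {I : Subgroup G} (h : Odd (Nat.card I)) (hx : x ∈ I) {k : ℕ}
    (e : x ^ 2 ^ k = 1) : x = 1 :=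
  orderOf_eq_one_iff.1 (Nat.eq_one_of_dvd_coprimes (Nat.Coprime.pow_left k (Nat.coprime_two_left.2 h))
    (orderOf_dvd_of_pow_eq_one e) (I.orderOf_dvd_natCard hx))

/-- The setting of the job with a pair of points and Sylow subgroups. -/
structure G1 (N : Ω → Subgroup G) (q : ℕ) (a b : Ω) (U V U' V' : Subgroup G) : Prop where
  H : Hy N q
  ns : NS N
  odd : ∀ c d : Ω, c ≠ d → Odd (Nat.card ↥(N c ⊓ N d))
  ne : a ≠ b
  f : BF (N a) U V q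
  f' : BF (N b) U' V' q
  z : ∃ z ∈ ZZ U, z ≠ 1 ∧ z • b = b
  z' : ∃ z ∈ ZZ U', z ≠ 1 ∧ z • a = a
  comm : ∀ x ∈ U, x • b = b → ∀ y ∈ U', y • a = a → x * y = y * x

theorem exists_G1 (H : Hy N q) (ns : NS N)
    (ev : ∀ c d : Ω, c ≠ d → Even (Nat.card ↥(N c ⊓ stabilizer G d)))
    (odd : ∀ c d : Ω, c ≠ d → Odd (Nat.card ↥(N c ⊓ N d))) (hab : a ≠ b) :
    ∃ U V U' V', G1 N q a b U V U' V' := by
  obtain ⟨T, hT⟩ := exists_isSyl 2 (stabilizer G a ⊓ stabilizer G b)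
  have key : ∀ {c d : Ω}, c ≠ d → IsSyl 2 T (stabilizer G c ⊓ stabilizer G d) →
      ∃ U V, BF (N c) U V q ∧ (∃ z ∈ ZZ U, z ≠ 1 ∧ z • d = d) ∧ ∀ x ∈ U, x • d = d → x ∈ T :=
    fun {c d} hcd hT => by
    have h1 := hT.inf_of_le_normalizer (N := N c ⊓ stabilizer G d) (inf_le_inf_right _ (H.le c))
      (le_normalizer_inf (fun x hx => H.nor_N (hT.le hx).1)
        (le_normalizer_of_le (hT.le.trans inf_le_right)))
    obtain ⟨U, hU, h2⟩ := exists_isSyl_le h1.isPGroup (inf_le_right.trans inf_le_left)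
    obtain ⟨V, f⟩ := H.frame hU
    obtain ⟨z, hz, z1, z2⟩ := exists_inv h1.isPGroup fun e =>
      h1.eq_bot_iff.1 e (even_iff_two_dvd.1 (ev c d hcd))
    refine ⟨U, V, f, ⟨z, f.cent z (h2 hz) z2, z1, hz.2.2⟩, fun x hx e => ?_⟩
    exact ((h1.eq_of_le (Q := U ⊓ stabilizer G d) (hU.isPGroup.to_le inf_le_left)
      (le_inf h2 (inf_le_right.trans inf_le_right)) (inf_le_inf_right _ hU.le)).le ⟨hx, e⟩).1
  obtain ⟨U, V, f, hz, h1⟩ := key hab hT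
  obtain ⟨U', V', f', hz', h2⟩ := key hab.symm (inf_comm (stabilizer G a) _ ▸ hT)
  refine ⟨U, V, U', V', H, ns, odd, hab, f, f', hz, hz', fun x hx e y hy e' => ?_⟩
  obtain ⟨k, hk⟩ := isPGroup_iff_forall.1 hT.isPGroup (x * y * x⁻¹ * y⁻¹)
    (mul_mem (mul_mem (mul_mem (h1 x hx e) (h2 y hy e')) (inv_mem (h1 x hx e))) (inv_mem (h2 y hy e')))
  have := eq_one_of_odd (odd a b hab) ⟨by
    have := mul_mem (f.sylU.le hx) (conj_mem_of_mem_normalizer (H.nor_N e') (inv_mem (f.sylU.le hx)))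
    simpa [mul_assoc] using this,
    (N b).mul_mem (conj_mem_of_mem_normalizer (H.nor_N e) (f'.sylU.le hy))
      ((N b).inv_mem (f'.sylU.le hy))⟩ hk
  rwa [mul_inv_eq_one, mul_inv_eq_iff_eq_mul] at this

namespace G1

variable (h : G1 N q a b U V U' V')
include h

omit [Finite G] in
theorem symm : G1 N q b a U' V' U V :=
  ⟨h.H, h.ns, h.odd, h.ne.symm, h.f', h.f, h.z', h.z, fun x hx e y hy e' => (h.comm y hy e' x hx e).symm⟩

/-- The centraliser of an involution of `N c` fixes `c`. -/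
theorem cen_fix (hz : z ∈ N c) (z1 : z ≠ 1) (z2 : z * z = 1) (e : g * z = z * g) : g • c = c := by
  by_contra r
  refine z1 (eq_one_of_odd (h.odd _ _ r) ⟨?_, hz⟩ (k := 1) (by rw [pow_one, pow_two, z2]))
  have := h.H.conj_mem g hz
  rwa [e, mul_inv_cancel_right] at this

theorem nor_U (hy : y ∈ U') (e : y • a = a) : y ∈ nor U := by
  obtain ⟨z, hz, z1, z2⟩ := h.z
  exact h.f.cen_le hz.1 z1 (h.H.nor_N e) (h.comm z hz.1 z2 y hy e).symm

theorem not_cen (hn : ¬ ZZ U ≤ stabilizer G b) (hy : y ∈ ZZ U') (y1 : y ≠ 1) : y ∉ cen (ZZ U) :=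
  fun e => hn fun w hw => h.cen_fix (h.f'.sylU.le hy.1) y1 hy.2.1 (e w hw)

theorem uniq (kb : JobKB.{u}) (hn : ¬ ZZ U ≤ stabilizer G b) (hx : x ∈ ZZ U') (hy : y ∈ ZZ U')
    (x1 : x ≠ 1) (y1 : y ≠ 1) (e : x • a = a) (e' : y • a = a) : x = y := by
  by_contra r
  rcases (kb G _ U V q h.f).2.2.2 x (h.H.nor_N e) y (h.H.nor_N e') (h.nor_U hx.1 e) (h.nor_U hy.1 e')
    hx.2.1 hy.2.1 (hy.2.2 x hx.1) with k | k | k
  · exact h.not_cen hn hx x1 k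
  · exact h.not_cen hn hy y1 k
  · exact h.not_cen hn (mul_mem hx hy) (fun k => r (mul_right_cancel (k.trans hy.2.1.symm))) k

theorem not_le' (kb : JobKB.{u}) (hn : ¬ ZZ U ≤ stabilizer G b) : ¬ ZZ U' ≤ stabilizer G a := fun e => by
  obtain ⟨x, hx, y, hy, x1, y1, r⟩ := h.f'.two
  exact r (h.uniq kb hn hx hy x1 y1 (e hx) (e hy))

theorem not_le (ka : JobKA.{u}) (kb : JobKB.{u}) : ¬ ZZ U ≤ stabilizer G b := fun e => by
  have e' : ZZ U' ≤ stabilizer G a := by_contra fun r => h.symm.not_le' kb r e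
  have c : ∀ x ∈ ZZ U', x ∈ cen (ZZ U) := fun x hx w hw => h.comm w hw.1 (e hw) x hx.1 (e' hx)
  obtain ⟨t, ht, t1, tv⟩ : ∃ t ∈ ZZ U', t ≠ 1 ∧ TV U t := by
    obtain ⟨x, hx, y, hy, x1, y1, r⟩ := h.f'.two
    rcases h.f.q2G (h.nor_U hx.1 (e' hx)) (h.nor_U hy.1 (e' hy)) (c x hx) (c y hy) (h.f'.pow4 hx.1)
      (h.f'.pow4 hy.1) (h.f'.pow4 (mul_mem hx.1 hy.1)) with k | k | k
    exacts [⟨x, hx, x1, k⟩, ⟨y, hy, y1, k⟩,
      ⟨_, mul_mem hx hy, fun k => r (mul_right_cancel (k.trans hy.2.1.symm)), k⟩]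
  obtain ⟨x, hx, r⟩ := (ka G _ U V q h.f).1 t (h.H.nor_N (e' ht)) (h.nor_U ht.1 (e' ht)) (c t ht) tv
  have hN := h.f.sylU.le hx
  have x2 : x * x = 1 := mem_bot.1 (h.f.inf_cen.le ⟨mul_mem hN hN, by
    have := inv_mem (mul_mem r r)
    rwa [show x⁻¹ * t * (x⁻¹ * t) = x⁻¹ * t * x⁻¹ * t by group, ← r _ (inv_mem hN),
      show x⁻¹ * (x⁻¹ * t) * t = (x * x)⁻¹ * (t * t) by group, ht.2.1, mul_one, inv_inv] at this⟩)
  refine h.ns a b h.ne U h.f.sylU fun w hw => h.cen_fix (h.f'.sylU.le ht.1) t1 ht.2.1 ?_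
  have := mul_mem (show x ∈ cen U from (h.f.cent x hx x2).2.2) (centralizer_anti h.f.sylU.le r)
  rw [mul_inv_cancel_left] at this
  exact this w hw

theorem q4 (ka : JobKA.{u}) (kb : JobKB.{u}) : q = 4 := by
  obtain ⟨z, hz, z1, z2⟩ := h.z
  obtain ⟨t, ht, t1, t2⟩ := h.z'
  rw [← ((kb G _ U V q h.f).2.2.1 t (h.H.nor_N t2) (h.nor_U ht.1 t2) ht.2.1
    (h.not_cen (h.not_le ka kb) ht t1)).1]
  suffices Nat.card ↥(ZZ U ⊓ centralizer {t}) = 2 by rw [this]; rfl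
  refine (Nat.card_eq_two_iff' 1).2 ⟨⟨z, hz, fun s hs => hs ▸ (h.comm z hz.1 z2 t ht.1 t2).symm⟩,
    fun e => z1 (congrArg Subtype.val e), fun w hw => Subtype.ext ?_⟩
  exact h.symm.uniq kb (h.symm.not_le ka kb) w.2.1 hz (fun e => hw (Subtype.ext e)) z1
    (h.cen_fix (h.f'.sylU.le ht.1) t1 ht.2.1 (w.2.2 t rfl).symm) z2

theorem sq (ka : JobKA.{u}) (kb : JobKB.{u}) (hy : y ∈ U') (e : y • a = a) : y * y = 1 := by
  obtain ⟨z, hz, z1, z2⟩ := h.z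
  exact by_contra fun r => h.not_cen (h.not_le ka kb) (h.f'.e4 y hy) r
    (sq_cen (h.f.card.trans (h.q4 ka kb)) hz z1 (nor_le_ZZ (h.nor_U hy e))
      (h.comm z hz.1 z2 y hy e).symm)

theorem le_ZZ (ka : JobKA.{u}) (kb : JobKB.{u}) : U ≤ ZZ U := by
  by_contra hU
  obtain ⟨z, hz, z1, z2⟩ := h.z
  obtain ⟨t, ht, t1, t2⟩ := h.z'
  obtain ⟨y, hy, e1, e2⟩ := (kb G _ U V q h.f).1 (U' ⊓ stabilizer G a)
    (h.f'.sylU.isPGroup.to_le inf_le_left) (fun r hr => h.nor_U hr.1 hr.2) z hz z1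
    (fun r hr => (h.comm z hz.1 z2 r hr.1 hr.2).symm) hU
  have e3 := e2 t ⟨ht.1, t2⟩
  obtain ⟨w, hw, e4⟩ := ((kb G _ U V q h.f).2.2.1 t (h.H.nor_N t2) (h.nor_U ht.1 t2) ht.2.1
    (h.not_cen (h.not_le ka kb) ht t1)).2 _ e3 (comm_comm ht.2.1 e3.2.1)
  have e5 := h.symm.sq ka kb (mul_mem (inv_mem hw.1) hy)
    (h.cen_fix (h.f'.sylU.le ht.1) t1 ht.2.1 (g := w⁻¹ * y) (by
      calc w⁻¹ * y * t = w⁻¹ * (t * y * t⁻¹ * y⁻¹)⁻¹ * t * y := by group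
        _ = t * (w⁻¹ * y) := by rw [← e4]; group))
  rw [H82.TP.inv_of_sq hw.2.1, mul_assoc, ← mul_assoc y, hw.2.2 y hy, mul_assoc, e1, ← mul_assoc,
    hw.2.1, one_mul] at e5
  exact z1 e5

theorem false (ka : JobKA.{u}) (kb : JobKB.{u}) : False := by
  obtain rfl := h.q4 ka kb
  obtain ⟨t, ht, t1, t2⟩ := h.z'
  obtain ⟨W₁, W₂, f, hW, e⟩ := swap kb h.f (h.le_ZZ ka kb) (h.H.nor_N t2) (h.nor_U ht.1 t2) ht.2.1
    (h.not_cen (h.not_le ka kb) ht t1)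
  have c : ∀ d ∈ DD (N a) W₁ W₂, d ^ 4 ∈ cen (N b) := fun d hd =>
    pow4_cen h.f' (h.symm.le_ZZ ka kb) ht.1 t1
      (h.H.nor_N (h.cen_fix (h.f'.sylU.le ht.1) t1 ht.2.1 (e d hd))) (e d hd)
  have c3 : Nat.card (DD (N a) W₁ W₂) = 3 := f.card_DD hW
  have := Finite.one_lt_card_iff_nontrivial.1 (by rw [c3]; norm_num : 1 < Nat.card (DD (N a) W₁ W₂))
  obtain ⟨⟨d, hd⟩, d1⟩ := exists_ne (1 : DD (N a) W₁ W₂)
  have d1 : d ≠ 1 := fun r => d1 (Subtype.ext r)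
  have d3 : d ^ 3 = 1 := orderOf_dvd_iff_pow_eq_one.1 (c3 ▸ (DD (N a) W₁ W₂).orderOf_dvd_natCard hd)
  have hc := c d hd
  rw [pow_succ, d3, one_mul] at hc
  have I : N a ⊓ N b = ⊥ := eq_bot_iff.2 fun i hi => eq_one_of_odd (h.odd a b h.ne) hi (k := 3) (by
    have := c _ (sq_mem_DD f hW hd d1 hi.1 (hc i hi.2))
    rw [← pow_two, ← pow_mul] at this
    exact mem_bot.1 (h.f'.inf_cen.le ⟨pow_mem hi.2 _, this⟩))
  obtain ⟨x, hx, r⟩ := SetLike.not_le_iff_exists.1 (h.H.not_le h.ne.symm)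
  have c1 := h.H.card_I h.ne (Ne.symm r : a ≠ x • a)
  rw [I, card_bot, card_eq_one] at c1
  refine d1 (mem_bot.1 (c1.le ⟨hd.1.1, ?_⟩))
  have := h.H.conj_mem x hd.1.1
  rwa [hc x hx, mul_inv_cancel_right] at this

end G1

end Act

theorem jobG1 (ka : JobKA.{u}) (kb : JobKB.{u}) : JobG1.{u, v} := fun _ _ _ _ _ _ _ H ns ev odd => by
  obtain ⟨a, b, -, hab, -⟩ := H.t2.big
  obtain ⟨U, V, U', V', h⟩ := exists_G1 H ns ev odd hab
  exact h.false ka kb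

end H98.Hr
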