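import Cfsg.Agent.H82.HRKit

/-! Job PR of the HR tower: adjacent pairs of Sylow subgroups are bad, full or of type I. -/

set_option autoImplicit false

namespace H98.Hr

open MulAction Cfsg Subgroup H89.K H98 H82.HR

universe u

variable {G : Type u} [Group G]

theorem dvd_of_free {K : Subgroup G} {S : Set G} (hS : ∀ k ∈ K, ∀ s ∈ S, k * s * k⁻¹ ∈ S)
    (free : ∀ k ∈ K, ∀ s ∈ S, k * s * k⁻¹ = s → k = 1) : Nat.card K ∣ S.ncard := by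
  let _ : MulAction K S :=
    { smul := fun u s => ⟨u * s * (u : G)⁻¹, hS u u.2 s s.2⟩
      one_smul := fun s => Subtype.ext (by show ((1 : K) : G) * s * ((1 : K) : G)⁻¹ = s; simp)
      mul_smul := fun u v s => Subtype.ext (by
        show ((u * v : K) : G) * s * ((u * v : K) : G)⁻¹ = u * (v * s * (v : G)⁻¹) * (u : G)⁻¹
        rw [Subgroup.coe_mul]; group) }
  rw [← Nat.card_coe_set_eq, Nat.card_congr (selfEquivOrbitsQuotientProd (G := K) (X := S)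
    fun s => eq_bot_iff.2 fun k hk =>
      Subtype.ext (free k k.2 s s.2 (congrArg Subtype.val hk))), Nat.card_prod]
  exact Dvd.intro_left _ rfl

/-- A map on `T` whose fibres lie in cosets of `K`. -/
theorem card_le_fib [Finite G] {T : Set G} {K S : Subgroup G} (f : G → G) (h1 : ∀ t ∈ T, f t ∈ S)
    (h2 : ∀ s ∈ T, ∀ t ∈ T, f s = f t → s⁻¹ * t ∈ K) : Nat.card T ≤ Nat.card S * Nat.card K := by
  classical
  have hex : ∀ y : G, ∃ r : G, (∃ t ∈ T, f t = y) → r ∈ T ∧ f r = y := fun y => by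
    by_cases h : ∃ t ∈ T, f t = y
    · obtain ⟨t, ht⟩ := h; exact ⟨t, fun _ => ht⟩
    · exact ⟨1, fun e => (h e).elim⟩
  choose r hr using hex
  rw [← Nat.card_prod]
  refine Nat.card_le_card_of_injective (fun t : T => ((⟨f t, h1 t t.2⟩ : S),
    (⟨(r (f t))⁻¹ * t, h2 _ (hr _ ⟨t, t.2, rfl⟩).1 _ t.2 (hr _ ⟨t, t.2, rfl⟩).2⟩ : K))) fun s t e => ?_
  have e1 : f s = f t := congrArg (fun p : S × K => (p.1 : G)) e
  have e2 : (r (f s))⁻¹ * s = (r (f t))⁻¹ * t := congrArg (fun p : S × K => (p.2 : G)) e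
  rw [e1] at e2
  exact Subtype.ext (mul_left_cancel e2)

theorem card_le_comm [Finite G] {T : Set G} {U K S : Subgroup G} {x : G} (hT : ∀ t ∈ T, t ∈ U)
    (h1 : ∀ t ∈ T, x * t * x⁻¹ * t⁻¹ ∈ S) (h2 : ∀ t ∈ U, t * x = x * t → t ∈ K) :
    Nat.card T ≤ Nat.card S * Nat.card K :=
  card_le_fib (fun t => x * t * x⁻¹ * t⁻¹) h1 fun s hs t ht e =>
    h2 _ (U.mul_mem (U.inv_mem (hT s hs)) (hT t ht)) (by
      have e' : x * s * x⁻¹ * s⁻¹ = x * t * x⁻¹ * t⁻¹ := e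
      calc s⁻¹ * t * x = s⁻¹ * (x * t * x⁻¹ * t⁻¹)⁻¹ * x * t := by group
        _ = x * (s⁻¹ * t) := by rw [← e']; group)

theorem card_le_comm' [Finite G] {T K S : Subgroup G} {x : G} (h1 : ∀ t ∈ T, t * x * t⁻¹ * x⁻¹ ∈ S)
    (h2 : ∀ t ∈ T, t * x = x * t → t ∈ K) : Nat.card T ≤ Nat.card S * Nat.card K :=
  card_le_comm (T := T) (fun _ h => h) (fun t ht => by simpa [mul_assoc] using S.inv_mem (h1 t ht)) h2

theorem pow_le_of_dvd {i j k : ℕ} (h : j < k) (e : 2 ^ i ∣ 2 ^ k - 2 ^ j) : 2 ^ i ≤ 2 ^ j := by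
  refine Nat.pow_le_pow_right two_pos (not_lt.1 fun hi => ?_)
  have h1 : 2 ^ (j + 1) ∣ 2 ^ k - 2 ^ j := (pow_dvd_pow 2 hi).trans e
  have h2 : 2 ^ (j + 1) ∣ 2 ^ k := pow_dvd_pow 2 h
  have h3 := (Nat.dvd_sub_iff_right (Nat.pow_le_pow_right two_pos h.le) h2).1 h1
  exact absurd ((Nat.pow_dvd_pow_iff_le_right one_lt_two).1 h3) (by omega)

theorem exists_inv [Finite G] {C : Subgroup G} (h : IsPGroup 2 C) (h1 : C ≠ ⊥) :
    ∃ x ∈ C, x ≠ 1 ∧ x * x = 1 := by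
  have hd : 2 ∣ Nat.card C := h.card_eq_or_dvd.resolve_left (by rwa [card_eq_one])
  obtain ⟨x, hx⟩ := exists_prime_orderOf_dvd_card' 2 hd
  have hx' : orderOf (x : G) = 2 := by rw [Subgroup.orderOf_coe, hx]
  exact ⟨x, x.2, H82.TP.ne_of_ord hx', H82.TP.sq_of_ord hx'⟩

/-- For an involution `x` the commutator `[x, t]` of order two is centralised by `x`. -/
theorem comm_comm {x t : G} (hx : x * x = 1) (h : x * t * x⁻¹ * t⁻¹ * (x * t * x⁻¹ * t⁻¹) = 1) :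
    x * t * x⁻¹ * t⁻¹ * x = x * (x * t * x⁻¹ * t⁻¹) := by
  have hi := H82.TP.inv_of_sq hx
  rw [hi] at h ⊢
  calc x * t * x * t⁻¹ * x = (x * t * x * t⁻¹ * (x * t * x * t⁻¹)) * t * x⁻¹ * t⁻¹ := by group
    _ = (x * x) * t * x * t⁻¹ := by rw [h, hx, hi]
    _ = _ := by group

variable {N U V N' U' V' : Subgroup G} {q : ℕ} {x y : G}

theorem comm_ZZ (hx : x ∈ nor U) (hy : y ∈ ZZ U) : x * y * x⁻¹ * y⁻¹ ∈ ZZ U :=
  (ZZ U).mul_mem (conj_mem_of_mem_normalizer (nor_le_ZZ hx) hy) ((ZZ U).inv_mem hy)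

/-- The elements of `A` with the property `TV U`. -/
def tvSub (U A : Subgroup G) : Subgroup G where
  carrier := {x | (x ∈ A ∧ x ∈ nor U) ∧ TV U x}
  one_mem' := ⟨⟨A.one_mem, one_mem _⟩, fun y _ => by simp⟩
  mul_mem' := fun {s t} hs ht => ⟨⟨A.mul_mem hs.1.1 ht.1.1, mul_mem hs.1.2 ht.1.2⟩, fun y hy => by
    have := (ZZ U).mul_mem (conj_mem_of_mem_normalizer (nor_le_ZZ hs.1.2) (ht.2 y hy)) (hs.2 y hy)
    rwa [show s * (t * y * t⁻¹ * y⁻¹) * s⁻¹ * (s * y * s⁻¹ * y⁻¹) = s * t * y * (s * t)⁻¹ * y⁻¹ by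
      group] at this⟩
  inv_mem' := fun {s} hs => ⟨⟨A.inv_mem hs.1.1, inv_mem hs.1.2⟩, fun y hy => by
    have := conj_mem_of_mem_normalizer' (nor_le_ZZ hs.1.2) ((ZZ U).inv_mem (hs.2 y hy))
    rwa [show s⁻¹ * (s * y * s⁻¹ * y⁻¹)⁻¹ * s = s⁻¹ * y * s⁻¹⁻¹ * y⁻¹ by group] at this⟩

/-- A subgroup meeting every triple `x, y, x y` has index at most two. -/
theorem card_le_two [Finite G] {A B : Subgroup G}
    (h : ∀ x ∈ A, ∀ y ∈ A, x ∈ B ∨ y ∈ B ∨ x * y ∈ B) : Nat.card A ≤ 2 * Nat.card B := by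
  classical
  by_cases h1 : A ≤ B
  · have := card_le_of_le h1; omega
  obtain ⟨a, ha, hb⟩ := SetLike.not_le_iff_exists.1 h1
  rw [← Nat.card_eq_fintype_card (α := Bool) |>.trans Fintype.card_bool, ← Nat.card_prod]
  refine Nat.card_le_card_of_injective (fun x : A => if e : (x : G) ∈ B then (true, (⟨x, e⟩ : B))
    else (false, ⟨a * x, ((h a ha x x.2).resolve_left hb).resolve_left e⟩)) fun s t e => ?_
  by_cases e1 : (s : G) ∈ B <;> by_cases e2 : (t : G) ∈ B <;> simp [e1, e2] at e <;> exact e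

/-- The hypotheses of the job. -/
structure Adj (N U V N' U' V' : Subgroup G) (q : ℕ) : Prop where
  b : BF N U V q
  b' : BF N' U' V' q
  card : Nat.card U = Nat.card U'
  ne : U ⊓ nor U' ≠ ⊥
  ne' : U' ⊓ nor U ≠ ⊥
  c : ∀ x ∈ U' ⊓ nor U, x ≠ 1 → ∀ y ∈ U, y * x = x * y ↔ y ∈ nor U'
  c' : ∀ x ∈ U ⊓ nor U', x ≠ 1 → ∀ y ∈ U', y * x = x * y ↔ y ∈ nor U

namespace Adj

variable [Finite G] (h : Adj N U V N' U' V' q)
include h

omit [Finite G] in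
theorem symm : Adj N' U' V' N U V q := ⟨h.b', h.b, h.card.symm, h.ne', h.ne, h.c', h.c⟩

omit [Finite G] in
theorem comm (hx : x ∈ U' ⊓ nor U) (hy : y ∈ U ⊓ nor U') : y * x = x * y := by
  by_cases e : x = 1
  · simp [e]
  · exact (h.c x hx e y hy.1).2 hy.2

theorem inv : ∃ x ∈ ZZ U ⊓ nor U', x ≠ 1 := by
  obtain ⟨x, hx, h1, h2⟩ := exists_inv (h.b.sylU.isPGroup.to_le inf_le_left) h.ne
  exact ⟨x, ⟨h.b.cent x hx.1 h2, hx.2⟩, h1⟩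

theorem lt (hz : ¬ ZZ U ≤ nor U') : Nat.card ↥(ZZ U ⊓ nor U') < q := by
  rw [← h.b.card]
  exact lt_of_le_of_ne (card_le_of_le inf_le_left) fun e =>
    hz (inf_eq_left.1 (eq_of_le_of_card_ge inf_le_left e.ge))

theorem le (hz : ¬ ZZ U ≤ nor U') : Nat.card ↥(U' ⊓ nor U) ≤ Nat.card ↥(ZZ U ⊓ nor U') := by
  have hd := dvd_of_free (K := U' ⊓ nor U) (S := (ZZ U : Set G) \ (ZZ U ⊓ nor U' : Subgroup G))
    (fun k hk s hs => ⟨conj_mem_of_mem_normalizer (nor_le_ZZ hk.2) hs.1, fun e => hs.2 ⟨hs.1, by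
      have := mul_mem (mul_mem (inv_mem (le_normalizer hk.1)) e.2) (le_normalizer hk.1)
      simpa [mul_assoc] using this⟩⟩)
    fun k hk s hs e => by_contra fun e1 =>
      hs.2 ⟨hs.1, (h.c k hk e1 s hs.1.1).1 (mul_inv_eq_iff_eq_mul.1 e).symm⟩
  rw [Set.ncard_diff (SetLike.coe_subset_coe.2 inf_le_left), ← Nat.card_coe_set_eq,
    ← Nat.card_coe_set_eq] at hd
  obtain ⟨i, hi⟩ := (h.b'.sylU.isPGroup.to_le (inf_le_left (b := nor U))).exists_card_eq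
  obtain ⟨j, hj⟩ := (h.b.sylU.isPGroup.to_le
    ((inf_le_left (b := nor U')).trans ZZ_le)).exists_card_eq
  obtain ⟨k, hk⟩ := h.b.pow_q
  have hl := h.lt hz
  have e1 : Nat.card (ZZ U : Set G) = 2 ^ k := h.b.card.trans hk
  have e2 : Nat.card ((ZZ U ⊓ nor U' : Subgroup G) : Set G) = 2 ^ j := hj
  rw [hi, e1, e2] at hd
  rw [hj, hk] at hl
  rw [hi, hj]
  exact pow_le_of_dvd ((Nat.pow_lt_pow_iff_right one_lt_two).1 hl) hd

theorem not_le (hz : ¬ ZZ U ≤ nor U') : ¬ ZZ U' ≤ nor U := fun e => by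
  have h1 := h.le hz
  have h2 := h.lt hz
  have h3 : Nat.card (ZZ U') ≤ Nat.card ↥(U' ⊓ nor U) := card_le_of_le (le_inf ZZ_le e)
  rw [h.b'.card] at h3
  omega

theorem eqs (hz : ¬ ZZ U ≤ nor U') : ZZ U ⊓ nor U' = U ⊓ nor U' ∧
    Nat.card ↥(U ⊓ nor U') = Nat.card ↥(U' ⊓ nor U) := by
  have h1 := h.le hz
  have h2 := h.symm.le (h.not_le hz)
  have h3 : Nat.card ↥(ZZ U' ⊓ nor U) ≤ Nat.card ↥(U' ⊓ nor U) :=
    card_le_of_le (inf_le_inf_right _ ZZ_le)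
  have h4 : ZZ U ⊓ nor U' ≤ U ⊓ nor U' := inf_le_inf_right _ ZZ_le
  have h5 := card_le_of_le h4
  exact ⟨eq_of_le_of_card_ge h4 (by omega), by omega⟩

theorem bad (kb : JobKB.{u}) (hz : ¬ ZZ U ≤ nor U') : U ≤ ZZ U := by
  by_contra hU
  obtain ⟨x, hx, x1⟩ := h.symm.inv
  have hx' : x ∈ U' ⊓ nor U := ⟨hx.1.1, hx.2⟩
  have hr : ∀ y : ↥(ZZ U ⊓ nor U'), ∃ t ∈ U, t * t = y ∧ x * t * x⁻¹ * t⁻¹ ∈ ZZ U := fun y => by
    by_cases e : (y : G) = 1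
    · exact ⟨1, U.one_mem, by simp [e], by simp⟩
    obtain ⟨t, ht, e1, e2⟩ := (kb G N U V q h.b).1 (U' ⊓ nor U)
      (h.b'.sylU.isPGroup.to_le inf_le_left) inf_le_right y y.2.1 e
      (fun r hr => (h.comm hr ⟨y.2.1.1, y.2.2⟩).symm) hU
    exact ⟨t, ht, e1, e2 x hx'⟩
  choose t ht e1 e2 using hr
  let T : Set G := {s | s ∈ U ∧ x * s * x⁻¹ * s⁻¹ ∈ ZZ U}
  have sq : ∀ (y : ↥(ZZ U ⊓ nor U')) (w : ZZ U), t y * w * (t y * w) = y := fun y w => by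
    rw [mul_assoc, ← mul_assoc (w : G), ← w.2.2.2 _ (ht y), mul_assoc, w.2.2.1, mul_one, e1]
  have h1 : Nat.card (↥(ZZ U ⊓ nor U') × ZZ U) ≤ Nat.card T :=
    Nat.card_le_card_of_injective (fun p => ⟨t p.1 * p.2, U.mul_mem (ht _) p.2.2.1, by
      have := (ZZ U).mul_mem (e2 p.1) (conj_mem_of_mem_normalizer (nor_le_ZZ (le_normalizer (ht p.1)))
        (comm_ZZ hx.2 p.2.2))
      rwa [show x * t p.1 * x⁻¹ * (t p.1)⁻¹ * (t p.1 * (x * p.2 * x⁻¹ * (p.2 : G)⁻¹) * (t p.1)⁻¹) =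
        x * (t p.1 * p.2) * x⁻¹ * (t p.1 * p.2)⁻¹ by group] at this⟩) fun p p' e => by
      have e' : t p.1 * p.2 = t p'.1 * p'.2 := congrArg Subtype.val e
      have e3 : p.1 = p'.1 := Subtype.ext (by rw [← sq p.1 p.2, e', sq])
      rw [e3] at e'
      exact Prod.ext e3 (Subtype.ext (mul_left_cancel e'))
  have h2 : Nat.card T ≤ Nat.card ↥(ZZ U ⊓ nor U') * Nat.card ↥(ZZ U ⊓ nor U') :=
    card_le_comm (U := U) (fun _ hs => hs.1)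
      (fun s hs => ⟨hs.2, (h.c x hx' x1 _ hs.2.1).1 (comm_comm hx.1.2.1 hs.2.2.1)⟩)
      fun s hs e => (h.eqs hz).1.ge ⟨hs, (h.c x hx' x1 s hs).1 e⟩
  rw [Nat.card_prod, h.b.card] at h1
  exact absurd (Nat.le_of_mul_le_mul_left (h1.trans h2) Nat.card_pos) (Nat.not_le.2 (h.lt hz))

theorem q2 (hz : ZZ U ≤ nor U') (hx : x ∈ U' ⊓ nor U) (hy : y ∈ U' ⊓ nor U) :
    TV U x ∨ TV U y ∨ TV U (x * y) :=
  h.b.q2G hx.2 hy.2 (fun _ e => h.comm hx ⟨e.1, hz e⟩) (fun _ e => h.comm hy ⟨e.1, hz e⟩)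
    (h.b'.pow4 hx.1) (h.b'.pow4 hy.1) (h.b'.pow4 (U'.mul_mem hx.1 hy.1))

theorem claim (kb : JobKB.{u}) (hz : ZZ U ≤ nor U') (hz' : ZZ U' ≤ nor U) (hU : ¬ U ≤ nor U') :
    ¬ U ≤ ZZ U ∧ Nat.card U = q ^ 2 ∧ U' ⊓ nor U = ZZ U' := by
  have h0 : ¬ U ≤ ZZ U := fun e => hU (e.trans hz)
  obtain ⟨y, hy, hy'⟩ := SetLike.not_le_iff_exists.1 hU
  have key : ∀ B : Subgroup G, B ≤ U' ⊓ nor U → (∀ x ∈ B, TV U x) → Nat.card B ≤ q := fun B h1 h2 => by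
    have := card_le_comm' (K := ⊥) (fun t ht => h2 t ht y hy) fun t ht e =>
      mem_bot.2 (by_contra fun e1 => hy' ((h.c t (h1 ht) e1 y hy).1 e.symm))
    rwa [card_bot, mul_one, h.b.card] at this
  have h1 : Nat.card ↥(U' ⊓ nor U) ≤ 2 * Nat.card (tvSub U (U' ⊓ nor U)) :=
    card_le_two fun s hs t ht => (h.q2 hz hs ht).imp (fun e => ⟨⟨hs, hs.2⟩, e⟩)
      (Or.imp (fun e => ⟨⟨ht, ht.2⟩, e⟩) fun e => ⟨⟨mul_mem hs ht, mul_mem hs.2 ht.2⟩, e⟩)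
  have h2 := key (tvSub U (U' ⊓ nor U)) (fun _ e => e.1.1) fun _ e => e.2
  obtain ⟨w, hw, w1, tw⟩ : ∃ w ∈ U ⊓ nor U', w ≠ 1 ∧ TV U' w := by
    obtain ⟨a, ha, b, hb, a1, b1, ab⟩ := h.b.two
    rcases h.symm.q2 hz' ⟨ha.1, hz ha⟩ ⟨hb.1, hz hb⟩ with e | e | e
    · exact ⟨a, ⟨ha.1, hz ha⟩, a1, e⟩
    · exact ⟨b, ⟨hb.1, hz hb⟩, b1, e⟩
    · exact ⟨_, ⟨mul_mem ha.1 hb.1, hz (mul_mem ha hb)⟩, fun e1 =>
        ab (mul_right_cancel (e1.trans hb.2.1.symm)), e⟩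
  have h3 : Nat.card U' ≤ Nat.card (ZZ U') * Nat.card ↥(U' ⊓ nor U) :=
    card_le_comm (T := U') (U := U') (K := U' ⊓ nor U) (fun _ e => e) (fun t ht => tw t ht)
      fun t ht e => ⟨ht, (h.c' w hw w1 t ht).1 e⟩
  rw [h.b'.card, ← h.card] at h3
  obtain ⟨h4, h5⟩ := (kb G N U V q h.b).2.1 h0 (by nlinarith)
  refine ⟨h0, h4, (eq_of_le_of_card_ge (le_inf ZZ_le hz') ?_).symm⟩
  rw [h.b'.card]
  refine key _ le_rfl fun x hx t ht => h5 _ (conj_mem_of_mem_normalizer hx.2 ht) t ht ?_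
  have := h.comm hx ⟨(h.b.e4 t ht).1, hz (h.b.e4 t ht)⟩
  calc x * t * x⁻¹ * (x * t * x⁻¹) = x * (t * t) * x⁻¹ := by group
    _ = t * t := by rw [← this]; group

end Adj

theorem jobPR (kb : JobKB.{u}) : JobPR.{u} := fun G _ _ N U V N' U' V' q b b' h1 h2 h3 h4 h5 => by
  have h : Adj N U V N' U' V' q := ⟨b, b', h1, h2, h3, h4, h5⟩
  by_cases hz : ZZ U ≤ nor U'
  swap
  · exact Or.inl ⟨h.bad kb hz, fun e => hz (ZZ_le.trans e), (h.eqs hz).2⟩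
  have hz' : ZZ U' ≤ nor U := by_contra fun e => h.symm.not_le e hz
  have hq := b.q4
  by_cases hU : U ≤ nor U'
  · by_cases hU' : U' ≤ nor U
    · exact Or.inr (Or.inl ⟨hU, hU'⟩)
    obtain ⟨-, e1, e2⟩ := h.symm.claim kb hz' hz hU'
    rw [inf_eq_left.2 hU] at e2
    have e3 := b.card
    rw [← e2, h1, e1] at e3
    nlinarith
  obtain ⟨e0, e1, e2⟩ := h.claim kb hz hz' hU
  have hU' : ¬ U' ≤ nor U := fun e => by
    rw [inf_eq_left.2 e] at e2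
    have e3 := b'.card
    rw [← e2, ← h1, e1] at e3
    nlinarith
  exact Or.inr (Or.inr ⟨(h.symm.claim kb hz' hz hU').2.2, e2, e0, e1⟩)

end H98.Hr
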