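import Cfsg.Agent.H98.TrZ
import Cfsg.Agent.H52.MCL

/-! Rank one groups whose large abelian subgroups lie in the Chermak-Delgado lattice. -/

set_option autoImplicit false
set_option linter.unusedSectionVars false

namespace H98

open Subgroup Cfsg H96 H52 H13
open scoped commutatorElement

universe u

variable {X : Type u} [Group X] {p q : ℕ} [hp : Fact p.Prime] [Finite X]
  {L T M A N D W W₀ : Subgroup X}

theorem spr_exists_trans (h : Spr p q L W W₀) (hT : IsSyl p T L) (hM : UMax T M L) {g g' : X}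
    (hg : g ∈ L) (hgM : g ∉ M) (hg' : g' ∈ L) (hgM' : g' ∉ M) : ∃ s ∈ T, g'⁻¹ * (s * g) ∈ M := by
  have o1 := h.r1.opp_cj_of_not_mem hT hM hg hgM
  have o2 := h.r1.opp_cj_of_not_mem hT hM hg' hgM'
  obtain ⟨w, hw, hw0⟩ := SetLike.not_le_iff_exists.1 (h.not_fx_le (hT.cj_of_mem hg))
  have hwW := fx_le _ _ _ hw
  obtain ⟨u, hu, u', hu', e⟩ := h.exists_mul hT (hT.cj_of_mem hg') o2 hwW
  obtain ⟨s, hs, e'⟩ := h.surj_left hT hwW (fun e => hw0 (h.inf_le o1 ⟨e, hw⟩)) (inv_mem hu)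
  refine ⟨s, hs, by_contra fun hn => ?_⟩
  have hsL := hT.le hs
  have o3 := congrArg (cj g') (h.r1.opp_cj_of_not_mem hT hM
    (L.mul_mem (L.inv_mem hg') (L.mul_mem hsL hg)) hn)
  rw [cj_sup, cj_cj, mul_inv_cancel_left, cj_eq_self_of_mem hg'] at o3
  refine h.nonopp_of_mem (w := s * w * s⁻¹) ?_ ?_ ?_ o3
  · have h1 : ⁅s, w⁆ * u ∈ W₀ := by
      have := conj_mem_of_mem_normalizer' (h.nWW (fx_le _ _ _ hu)) (inv_mem e')
      simpa [mul_assoc] using this
    have h2 : s * w * s⁻¹ = ⁅s, w⁆ * u * u' := by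
      rw [mul_assoc _ u, ← e, commutatorElement_def]; group
    rw [h2]
    exact mul_mem (h.le_fx (hT.cj_of_mem hg').le h1) hu'
  · rw [← cj_cj, ← h.cj_fx hsL]
    exact conj_mem_cj hw
  · exact fun e => hw0 (by simpa [mul_assoc] using conj_mem_of_mem_normalizer' (h.nW₀ hsL) e)

theorem nv_le_normalizer_zc (h : Nv p q L) (hT : IsSyl p T L) (hM : UMax T M L) :
    M ≤ normalizer (zc T : Set X) := fun m hm => by
  have hT' := hT.cj_of_mem (hM.le' hm)
  have := h.spr.fx_eq_of_nonopp hT hT' fun e => hM.not_le (e.ge.trans (sup_le hM.le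
    (cj_le_of_le_of_mem hM.le hm)))
  rw [h.fxz _ hT, h.fxz _ hT', ← cj_zc] at this
  exact cj_eq_self_iff.1 this.symm

theorem r1_regA (h : Spr p q L W W₀) (hT : IsSyl p T L) (hM : UMax T M L)
    (hA : A ⊔ pCoreOf p L = T) {g : L} (hg : (g : X) ∉ M) :
    RegA p (A.subgroupOf L) ((pCoreOf p L).subgroupOf L) ((1 : L) : L ⧸ M.subgroupOf L) g := by
  have hAT : A ≤ T := le_sup_left.trans hA.le
  have hQM := hT.pCoreOf_le.trans hM.le
  have ne : ∀ x : L, (x : L ⧸ M.subgroupOf L) = (1 : L) ↔ (x : X) ∈ M := fun x => by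
    rw [QuotientGroup.eq, mul_one, inv_mem_iff, mem_subgroupOf]
  have sm : ∀ a x y : L, a • (x : L ⧸ M.subgroupOf L) = y ↔ (y : X)⁻¹ * (a * x) ∈ M := fun a x y => by
    rw [MulAction.Quotient.smul_mk, smul_eq_mul, eq_comm, QuotientGroup.eq, mem_subgroupOf]; rfl
  have ker : ∀ k ∈ (pCoreOf p L).subgroupOf L, ∀ c : L ⧸ M.subgroupOf L, k • c = c := fun k hk c => by
    induction c using QuotientGroup.induction_on with
    | _ x =>
    rw [sm, ← mul_assoc]
    exact hQM (conj_mem_of_mem_normalizer' (self_le_normalizer_pCoreOf L x.2) hk)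
  refine ⟨fun e => hg ((ne g).1 e), fun a ha => (sm _ _ _).2 (by simpa using hM.le (hAT ha)),
    fun c hc => ?_, fun a ha c hc e => ?_, ker, fun a ha => h.r1.pow T hT a (hAT ha), ?_⟩
  · induction c using QuotientGroup.induction_on with
    | _ x =>
    obtain ⟨s, hs, e⟩ := spr_exists_trans h hT hM g.2 hg x.2 fun e => hc ((ne x).2 e)
    obtain ⟨a, ha, k, hk, rfl⟩ := (mem_sup_left_norm (le_normalizer_pCoreOf_of_le
      (hAT.trans hT.le))).1 (hA.ge hs)
    refine ⟨⟨a, hT.le (hAT ha)⟩, ha, ?_⟩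
    rw [← ker ⟨k, pCoreOf_le L hk⟩ hk g, smul_smul, sm]
    exact e
  · induction c using QuotientGroup.induction_on with
    | _ x =>
    rw [sm, ← mul_assoc] at e
    have hx : (x : X)⁻¹ ∉ M := fun e => hc ((ne x).2 (inv_mem_iff.1 e))
    by_contra hn
    refine hM.not_le (h.r1.ti T _ hT (hT.cj_of_mem (L.inv_mem x.2))
      (h.r1.opp_cj_of_not_mem hT hM (L.inv_mem x.2) hx) _ (by
        simpa using conj_mem_cj (g := (x : X)⁻¹) (hAT ha)) (fun e' => hn ?_) M hM.le e)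
    simpa [mul_assoc, mem_subgroupOf] using conj_mem_of_mem_normalizer (self_le_normalizer_pCoreOf L x.2) e'
  · obtain ⟨a, ha, hn⟩ := SetLike.not_le_iff_exists.1 fun e : A ≤ pCoreOf p L =>
      h.r1.not_le_Q hT (hA.ge.trans (sup_le e le_rfl))
    exact ⟨⟨a, hT.le (hAT ha)⟩, ha, hn⟩

theorem cz_eq_of_maxAb (hA : A ∈ maxAb 0 T) : cz T A = A :=
  le_antisymm (le_of_cent_maxAb hA inf_le_left inf_le_right) (le_inf hA.1 (maxAb_ab hA))

theorem cd_case (hp2 : Odd p) (h : Nv p q L) (hT : IsSyl p T L) (hM : UMax T M L) (hcl : CL T T)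
    (hcd : ∀ A ∈ maxAb 0 T, CD T A) (hA : A ∈ maxAb 0 T) (hAQ : ¬ A ≤ pCoreOf p L)
    (hD : ⁅pCoreOf p L, M⁆ ≤ D) : ⁅pCoreOf p L, L⁆ ≤ D := by
  classical
  by_contra hn
  obtain ⟨e1, hA₁⟩ := h.maxAb_spec hT hA hAQ
  have hQT := hT.pCoreOf_le
  have hAL := hA.1.trans hT.le
  have nQ := self_le_normalizer_pCoreOf (p := p) L
  let α : L →* MulAut (pCoreOf p L) := (pCoreOf p L).normalizerMonoidHom.comp (inclusion nQ)
  have hα : ∀ g x, (α g x : X) = g * x * (g : X)⁻¹ := fun g x => rfl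
  let R := (D.subgroupOf (pCoreOf p L)).map (Abelianization.of (G := pCoreOf p L))
  let φ := (QuotientGroup.mk' R).comp (Abelianization.of (G := pCoreOf p L))
  have hφ : ∀ x y, φ x = φ y ↔ (x : X) * (y : X)⁻¹ ∈ D := fun x y => by
    rw [← mul_inv_eq_one, ← map_inv, ← map_mul]
    refine (QuotientGroup.eq_one_iff _).trans ⟨fun e => ?_, fun e => mem_map_of_mem _ e⟩
    have e' : x * y⁻¹ ∈ R.comap Abelianization.of := e
    rw [comap_map_eq, Abelianization.ker_of] at e'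
    refine (sup_le le_rfl ?_ : _ ≤ D.subgroupOf (pCoreOf p L)) e'
    rw [← map_subtype_le_map_subtype, map_subtype_commutator, subgroupOf_map_subtype]
    exact le_inf ((commutator_mono le_rfl (hQT.trans hM.le)).trans hD) (commutator_le_of_le le_rfl le_rfl)
  have := Fintype.ofFinite (L ⧸ M.subgroupOf L)
  obtain ⟨C, _, Φ, t, x, hx⟩ := exists_tf (p := p) (α := α) (M := M.subgroupOf L) (φ := φ)
    ((isPGroup_pCoreOf L).of_surjective φ ((QuotientGroup.mk'_surjective R).comp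
      (QuotientGroup.mk'_surjective (commutator (pCoreOf p L)))))
    (fun e => hT.not_dvd_relIndex (e.trans (relIndex_dvd_of_le_left L hM.le)))
    (fun m hm x => (hφ _ _).2 (by
      rw [hα, ← commutatorElement_def]
      exact hD (commutator_comm M _ ▸ commutator_mem_commutator hm x.2)))
    (fun e => hn (by
      rw [commutator_comm, commutator_le]
      exact fun g hg x hx => (hφ _ _).1 (e ⟨g, hg⟩ ⟨x, hx⟩)))
  obtain ⟨g, hg, hgM⟩ := hM.exists_not_mem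
  have r := r1_regA h.spr hT hM e1 (g := ⟨g, hg⟩) hgM
  have opp := h.spr.r1.opp_cj_of_not_mem hT hM hg hgM
  have hT' := hT.cj_of_mem hg
  have hg1 : (⟨g, hg⟩ : L) • ((1 : L) : L ⧸ M.subgroupOf L) = (⟨g, hg⟩ : L) := by
    rw [MulAction.Quotient.smul_mk, smul_eq_mul, mul_one]
  have kill : ∀ B R : Subgroup X, B ≤ pCoreOf p L → cj g B ≤ R → A ≤ normalizer (R : Set X) →
      (∀ z ∈ R, ∃ a ∈ B, ∃ b ∈ cj g B, a * b = z) →
      (∀ y : pCoreOf p L, y.1 ∈ B → ∀ a ∈ A.subgroupOf L, Φ (α a y) = Φ y) →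
      ∀ y : pCoreOf p L, y.1 ∈ B → Φ y = 1 := fun B R k1 k2 k3 k4 k5 y hy => by
    refine t.kill r hp2 hg1 (s := {y | y.1 ∈ B}) k5 (fun y hy a ha => ?_) hy
    obtain ⟨y₁, h1, y₂, h2, e⟩ := k4 _ (conj_mem_of_mem_normalizer (k3 ha) (k2 (conj_mem_cj hy)))
    refine ⟨⟨y₁, k1 h1⟩, h1, ⟨_, k1 (mem_cj.1 h2)⟩, mem_cj.1 h2, Subtype.ext ?_⟩
    simp only [coe_mul, hα]
    exact e.symm.trans (by group)
  have nV := hAL.trans (n_Vv (p := p) L)
  have kZ := kill (zc T) (Vv p L) ((h.zc_le hT).trans (Vv_le_Q L)) (cj_zc g T ▸ h.zc_le hT') nV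
    (fun z hz => by
      obtain ⟨u, hu, u', hu', e⟩ := h.exists_mul hT hT' opp hz
      exact ⟨u, hu, u', cj_zc g T ▸ hu', e.symm⟩)
    fun y hy a ha => congrArg Φ (Subtype.ext (by
      rw [hα, hy.2 a (hA.1 ha), mul_inv_cancel_right]))
  have kV : ∀ y : pCoreOf p L, y.1 ∈ Vv p L → Φ y = 1 := fun y hy => by
    obtain ⟨u, hu, u', hu', e⟩ := h.exists_mul hT hT' opp hy
    rw [← cj_zc, mem_cj] at hu'
    have k1 := (h.zc_le hT).trans (Vv_le_Q L)
    have : y = ⟨u, k1 hu⟩ * α ⟨g, hg⟩ ⟨_, k1 hu'⟩ := Subtype.ext (by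
      simp only [coe_mul, hα, e]; group)
    rw [this, map_mul, kZ _ hu, t.conj_eq ((kZ _ hu').trans (map_one Φ).symm), map_one, map_one, one_mul]
  have hAV : ⁅Vv p L ⊔ A ⊓ pCoreOf p L, A⁆ ≤ Vv p L := by
    rw [commutator_sup_centralizer_left (inf_le_left.trans (maxAb_ab hA))
      (Or.inl (inf_le_left.trans nV))]
    exact commutator_le_left' nV
  have hA₁Q : Vv p L ⊔ A ⊓ pCoreOf p L ≤ pCoreOf p L := sup_le (Vv_le_Q L) inf_le_right
  have hA₂ := cj_mem_maxAb g hA₁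
  have hA₂Q := cj_le_of_le hA₁Q (nQ hg)
  have c1 := hcd _ hA₁
  obtain ⟨c2, c3⟩ := CL.move (h.cl_Q hT' (hcl.cj g)) (h.cl_Q hT hcl) (c1.cj g) hA₂Q
    ((cz_eq_of_maxAb hA₂).le.trans hA₂Q)
  have kA := kill _ _ hA₁Q le_sup_right (by
      have c4 := c1.cz_inf c2
      rw [c3, cz_eq_of_maxAb hA₁, cz_eq_of_maxAb hA₂] at c4
      rw [← c4]
      refine le_normalizer_inf (le_normalizer_of_le hA.1) (le_normalizer_centralizer
        (le_normalizer_of_commutator_le ((commutator_mono le_rfl le_rfl).trans (hAV.trans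
        (le_inf le_sup_left ?_))) inf_le_left))
      rw [cj_sup, cj_eq_self (n_Vv L hg)]
      exact le_sup_left)
    (fun z hz => c1.exists_mul c2 hz) fun y hy a ha => by
      rw [← mul_inv_eq_one, ← map_inv, ← map_mul]
      refine kV _ ?_
      rw [coe_mul, hα, coe_inv, ← commutatorElement_def]
      exact hAV (commutator_comm A _ ▸ commutator_mem_commutator ha hy)
  have kA' : ∀ (l : L) (y : pCoreOf p L), (l : X)⁻¹ * y * l ∈ A → Φ y = 1 := fun l y hy => by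
    have k1 := conj_mem_of_mem_normalizer' (nQ l.2) y.2
    have : y = α l ⟨_, k1⟩ := Subtype.ext (by simp only [hα]; group)
    rw [this, t.conj_eq ((kA ⟨_, k1⟩ (mem_sup_right ⟨hy, k1⟩)).trans (map_one Φ).symm), map_one, map_one]
  have hxL := pCoreOf_le L x.2
  have hB : cj (x : X) A ∈ maxAb 0 T := cj_eq_self_of_mem (hQT x.2) ▸ cj_mem_maxAb (x : X) hA
  have hBL := hB.1.trans hT.le
  let Y := ((A ⊔ cj (x : X) A).subgroupOf (pCoreOf p L)).map Φ
  have : ∀ z : Y, ∃ y : pCoreOf p L, Φ y = z ∧ ∃ a ∈ A, ∃ b ∈ cj (x : X) A, a * b = y := fun ⟨z, y, hy, e⟩ =>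
    ⟨y, e, (hcd _ hA).exists_mul (hcd _ hB) hy⟩
  choose y hy a ha b hb e using this
  refine hx (t.norm_zero r hp2 Y (fun z => ⟨(⟨a z, hAL (ha z)⟩ : L) • _, fun e =>
    r.ne (smul_left_cancel _ (e.trans (r.fix _ (ha z)).symm))⟩) (fun z z' e' => ?_) fun a ha => ?_)
  · have k1 : (a z')⁻¹ * a z ∈ pCoreOf p L := r.reg ((⟨a z', hAL (ha z')⟩ : L)⁻¹ * ⟨a z, hAL (ha z)⟩)
      (A.mul_mem (A.inv_mem (ha z')) (ha z)) _ r.ne (by
        rw [mul_smul, show (⟨a z, hAL (ha z)⟩ : L) • _ = _ from congrArg Subtype.val e', inv_smul_smul])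
    have k2 := conj_mem_of_mem_normalizer' (nQ (hBL (hb z'))) k1
    have k3 : (y z')⁻¹ * y z = ⟨_, k2⟩ * (⟨_, k2⟩⁻¹ * ((y z')⁻¹ * y z)) := by group
    refine Subtype.ext ?_
    rw [← hy, ← hy, eq_comm, ← inv_mul_eq_one, ← map_inv, ← map_mul, k3, map_mul,
      kA' ⟨_, L.inv_mem (hBL (hb z'))⟩, kA' ⟨x, hxL⟩, one_mul]
    · rw [← mem_cj]
      have : ((⟨_, k2⟩⁻¹ * ((y z')⁻¹ * y z) : pCoreOf p L) : X) = (b z')⁻¹ * b z := by
        simp only [coe_mul, coe_inv, ← e]; group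
      rw [this]
      exact mul_mem (inv_mem (hb z')) (hb z)
    · simpa [mul_assoc] using A.mul_mem (A.inv_mem (ha z')) (ha z)
  · rw [← map_inv, ← map_mul]
    refine mem_map_of_mem _ ?_
    rw [mem_subgroupOf, coe_mul, hα, coe_inv, mul_assoc, mul_assoc, ← mul_assoc (x : X)]
    exact mul_mem (mem_sup_left ha) (mem_sup_right (conj_mem_cj (A.inv_mem ha)))

theorem cd_of_sF (hT : IsPGroup p T) (h : sF p T = ⊥) (hA : A ∈ maxAb 0 T) : CD T A := by
  obtain ⟨H, hH⟩ := exists_fm p T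
  have h1 : ⁅H, H⁆ = ⊥ := eq_bot_iff.2 ((comm_le_Ph (hT.to_le hH.1.1.le)).trans
    ((le_iSup (fun H : {H // FM p T H} => Ph H.1) ⟨H, hH⟩).trans h.le))
  have h2 := commutator_eq_bot_iff_le_centralizer.1 h1
  refine (hH.1.1.of_cm hA.1 ?_).1
  rw [cm, cm, cz, cz, inf_eq_left.2 h2, inf_eq_left.2 (maxAb_ab hA)]
  exact Nat.mul_le_mul (maxAb_max hA H hH.1.1.le h2) (maxAb_max hA H hH.1.1.le h2)

theorem r1_of_normal (h : R1 p q L) (hN : N ≤ L) (hn : L ≤ normalizer (N : Set X))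
    (e : N ⊔ pCoreOf p L = L) : R1 p q N := by
  have eQ : pCoreOf p N = pCoreOf p L ⊓ N := pCoreOf_eq_inf_of_normal hN hn
  have nQ : ∀ B ≤ N, B ≤ normalizer (pCoreOf p L : Set X) := fun B hB =>
    le_normalizer_pCoreOf_of_le (hB.trans hN)
  have d : ∀ B ≤ N, pCoreOf p N ≤ B → (B ⊔ pCoreOf p L) ⊓ N = B := fun B h1 h2 => by
    rw [sup_inf_of_le_left (nQ B h1) h1, ← eQ, sup_eq_left.2 h2]
  have up : ∀ T, IsSyl p T N → IsSyl p (T ⊔ pCoreOf p L) L := fun T hT => by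
    obtain ⟨S, hS, h1⟩ := exists_isSyl_le hT.isPGroup (hT.le.trans hN)
    have h2 : S ⊓ N = T := hT.eq_of_le (hS.isPGroup.to_inf_left) (le_inf h1 hT.le) inf_le_right
    have h3 := sup_inf_of_le_right (nQ N le_rfl) hS.pCoreOf_le
    rw [e, inf_eq_right.2 hS.le, inf_comm, h2] at h3
    rwa [← h3]
  refine ⟨fun T hT => ?_, fun T hT => ?_, h.one_lt, fun T hT => ?_, fun T hT t ht => ?_,
    fun T T' hT hT' e' t ht htQ H h1 h2 => ?_, fun T hT B h1 h2 h3 => ?_⟩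
  · obtain ⟨M, hM⟩ := h.umax _ (up T hT)
    refine ⟨M ⊓ N, le_inf (le_sup_left.trans hM.le) hT.le, lt_of_le_of_ne inf_le_right fun e' =>
      hM.not_le (e.ge.trans (sup_le (e'.ge.trans inf_le_left) (le_sup_right.trans hM.le))),
      fun Y h1 h2 => ?_⟩
    rcases hM.uniq (Y ⊔ pCoreOf p L) (sup_le_sup_right h1 _) (sup_le (h2.trans hN) (pCoreOf_le L))
      with h3 | h3
    · exact Or.inl (le_inf (le_sup_left.trans h3) h2)
    · exact Or.inr (by rw [← d Y h2 (hT.pCoreOf_le.trans h1), h3, inf_eq_right.2 hN])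
  · have h1 := H12.card_sup_mul_card_inf (nQ T hT.le)
    have h2 : T ⊓ pCoreOf p L = pCoreOf p N := le_antisymm (eQ ▸ le_inf inf_le_right
      (inf_le_left.trans hT.le)) (le_inf hT.pCoreOf_le (eQ ▸ inf_le_left))
    rw [h.card _ (up T hT), h2, mul_right_comm] at h1
    exact (Nat.eq_of_mul_eq_mul_right Nat.card_pos h1).symm
  · rw [eQ]
    exact le_inf ((commutator_mono le_sup_left le_sup_left).trans (h.comm _ (up T hT)))
      (commutator_le_of_le hT.le hT.le)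
  · rw [eQ]
    exact ⟨h.pow _ (up T hT) t (mem_sup_left ht), pow_mem (hT.le ht) _⟩
  · have h3 := h.ti _ _ (up T hT) (up T' hT') (by rw [sup_sup_sup_comm, e', sup_idem, e]) t
      (mem_sup_left ht) (fun e => htQ (eQ ▸ ⟨e, hT'.le ht⟩)) (H ⊓ N ⊔ pCoreOf p L)
      (sup_le_sup_right (le_inf h1 hT.le) _) (mem_sup_left ⟨h2, hT'.le ht⟩)
    exact ((le_inf (hN.trans h3) le_rfl).trans (d _ inf_le_right
      (hT.pCoreOf_le.trans (le_inf h1 hT.le))).le).trans inf_le_left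
  · rcases h.irr _ (up T hT) (B ⊔ pCoreOf p L) le_sup_right (sup_le_sup_right h2 _) (fun g hg => by
      obtain ⟨n, hnN, k, hk, rfl⟩ := (mem_sup_left_norm (nQ N le_rfl)).1 (e.ge hg.1)
      refine mul_mem ?_ (le_normalizer (mem_sup_right hk))
      have h4 := (mul_mem_cancel_right (le_normalizer (mem_sup_right hk))).1 hg.2
      have h5 := le_normalizer_inf (zpowers_le.2 h4) (zpowers_le.2 (le_normalizer hnN))
      rw [d T hT.le hT.pCoreOf_le] at h5
      exact zpowers_le.1 (le_normalizer_sup (zpowers_le.2 (h3 ⟨hnN, zpowers_le.1 h5⟩))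
        (zpowers_le.2 (nQ N le_rfl hnN)))) with h4 | h4
    · exact Or.inl (by rw [← d B (h2.trans hT.le) h1, h4, eQ])
    · exact Or.inr (by rw [← d B (h2.trans hT.le) h1, h4, d T hT.le hT.pCoreOf_le])

end H98
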