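import Cfsg.Agent.H4.Cover

/-! Derangements with class sizes in a set of primes give a nilpotent subgroup of small index. -/

set_option autoImplicit false
open Cfsg H4
open scoped Pointwise

namespace H98.CsH

variable {G : Type*} [Group G]

theorem ind_sub (Y : Subgroup G) (c : Y) :
    ind c = (Subgroup.centralizer ({(c : G)} : Set G)).relIndex Y := by
  unfold ind Subgroup.relIndex
  congr 1
  ext g
  rw [Subgroup.mem_subgroupOf, mem_cent_iff, mem_cent_iff]
  exact ⟨fun h => congrArg Subtype.val h, fun h => Subtype.ext h⟩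

theorem ind_sub_dvd_mul [Finite G] {y : G} (c : Subgroup.centralizer ({y} : Set G))
    (h : (orderOf y).Coprime (orderOf (c : G))) : ind c ∣ ind (y * (c : G)) := by
  have hc : Commute y (c : G) := (mem_cent_iff.mp c.2).symm
  rw [ind_sub]
  unfold ind
  rw [H24.centralizer_mul_of_coprime hc h, ← Subgroup.inf_relIndex_right, inf_comm]
  exact Subgroup.relIndex_dvd_index_of_le inf_le_left

theorem not_dvd_order_of_mem_sylow [Finite G] {r l : ℕ} [Fact r.Prime] (hl : l.Prime) (hrl : r ≠ l)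
    (R : Sylow r G) {x : G} (hx : x ∈ (R : Subgroup G)) : ¬ l ∣ orderOf x := by
  obtain ⟨k, hk⟩ := R.isPGroup' ⟨x, hx⟩
  have h1 : orderOf x ∣ r ^ k := orderOf_dvd_of_pow_eq_one (by simpa using congrArg Subtype.val hk)
  intro h
  exact hrl ((Nat.prime_dvd_prime_iff_eq hl Fact.out).mp (hl.dvd_of_dvd_pow (h.trans h1))).symm

theorem mem_sylow_of_normal [Finite G] {l : ℕ} [Fact l.Prime] (P : Sylow l G)
    [hn : (P : Subgroup G).Normal] {x : G} {k : ℕ} (hx : orderOf x = l ^ k) :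
    x ∈ (P : Subgroup G) := by
  refine mem_of_coprime_index ?_
  rw [hx]
  exact ((Nat.Prime.coprime_iff_not_dvd Fact.out).mpr P.not_dvd_index).pow_left k

/-- If all `l'`-elements have class sizes in `τ` and `l ∉ τ`, there is a nilpotent subgroup of
`τ`-index. -/
theorem nil_of_regular [Finite G] (τ : ℕ → Prop) {l : ℕ} (hl : l.Prime) (hτ : ¬ τ l)
    (h : ∀ s : G, ¬ l ∣ orderOf s → ∀ r : ℕ, r.Prime → r ∣ ind s → τ r) :
    ∃ H : Subgroup G, Group.IsNilpotent H ∧ ∀ r : ℕ, r.Prime → r ∣ H.index → τ r := by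
  haveI : Fact l.Prime := ⟨hl⟩
  obtain ⟨P⟩ : Nonempty (Sylow l G) := inferInstance
  have h' : ∀ x : G, ¬ l ∣ orderOf x → ¬ l ∣ ind x := fun x hx hd => hτ (h x hx l hl hd)
  haveI hn := sylow_normal_of_not_dvd_ind P h'
  have hc : ∀ x : G, ¬ l ∣ orderOf x → x ∈ Subgroup.centralizer ((P : Subgroup G) : Set G) :=
    fun x hx => mem_centralizer_of_coprime_ind _ (P.isPGroup'.exists_card_eq.elim fun k hk => by
      rw [hk]; exact ((Nat.Prime.coprime_iff_not_dvd hl).mpr (h' x hx)).pow_left k)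
  refine ⟨(P : Subgroup G) ⊔ Subgroup.center G, ?_, fun r hr hd => ?_⟩
  · set H := (P : Subgroup G) ⊔ Subgroup.center G
    let f := (QuotientGroup.mk' (Subgroup.center G)).comp H.subtype
    have hp : IsPGroup l f.range := by
      rintro ⟨_, ⟨x, hx⟩, rfl⟩
      obtain ⟨a, ha, z, hz, rfl⟩ := Subgroup.mem_sup_of_normal_right.mp hx
      obtain ⟨k, hk⟩ := P.isPGroup' ⟨a, ha⟩
      refine ⟨k, Subtype.ext ?_⟩
      have h1 : a ^ l ^ k = 1 := by simpa using congrArg Subtype.val hk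
      have h2 : (QuotientGroup.mk' (Subgroup.center G)) z = 1 := (QuotientGroup.eq_one_iff z).mpr hz
      show (QuotientGroup.mk' (Subgroup.center G) (a * z)) ^ l ^ k = 1
      rw [map_mul, h2, mul_one, ← map_pow, h1, map_one]
    haveI := hp.isNilpotent
    refine isNilpotent_of_ker_le_center f.rangeRestrict fun x hx => ?_
    rw [MonoidHom.ker_rangeRestrict, MonoidHom.mem_ker] at hx
    have h3 : (x : G) ∈ Subgroup.center G := (QuotientGroup.eq_one_iff _).mp hx
    exact Subgroup.mem_center_iff.mpr fun g => Subtype.ext (Subgroup.mem_center_iff.mp h3 g)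
  · by_contra hτr
    haveI : Fact r.Prime := ⟨hr⟩
    have hrl : r ≠ l := by
      rintro rfl
      exact P.not_dvd_index (hd.trans (Subgroup.index_dvd_of_le le_sup_left))
    obtain ⟨R⟩ : Nonempty (Sylow r G) := inferInstance
    have hall : ∀ g : G, ¬ r ∣ ind g := by
      intro g
      obtain ⟨e, f, hef, ⟨k, hk⟩, hf⟩ := H24.exists_p_decomp hl g
      obtain ⟨Q, hQ⟩ := H18.exists_sylow_le_of_not_dvd (p := r)
        (H := Subgroup.centralizer ({g ^ f} : Set G)) (fun hd => hτr (h _ hf r hr hd))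
      refine not_dvd_ind_of_mem_centralizer_sylow Q ?_
      rw [← hef]
      refine Subgroup.mul_mem _ (fun y hy => ?_) (le_cent_iff_mem_centralizer.mp hQ)
      exact (hc y (not_dvd_order_of_mem_sylow hl hrl Q hy) _ (mem_sylow_of_normal P hk)).symm
    have htop : Subgroup.centralizer ((R : Subgroup G) : Set G) = ⊤ :=
      eq_top_of_forall_conj_mem fun x => exists_conj_mem_centralizer_sylow R (hall x)
    have hR : (R : Subgroup G) ≤ Subgroup.center G := fun y hy =>
      Subgroup.mem_center_iff.mpr fun g => ((htop ▸ Subgroup.mem_top g :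
        g ∈ Subgroup.centralizer ((R : Subgroup G) : Set G)) y hy).symm
    exact R.not_dvd_index (hd.trans (Subgroup.index_dvd_of_le (hR.trans le_sup_right)))

theorem coprime_of_primes {a b : ℕ} (τ : ℕ → Prop) (ha : ∀ r : ℕ, r.Prime → r ∣ a → τ r)
    (hb : ∀ r : ℕ, r.Prime → r ∣ b → ¬ τ r) : a.Coprime b :=
  Nat.coprime_of_dvd fun r hr h1 h2 => hb r hr h2 (ha r hr h1)

/-- Lemma H. -/
theorem nil_of_derangements [Finite G] (τ : ℕ → Prop) {C : Subgroup G} (hC : C ≠ ⊤)
    (h1 : ∀ r : ℕ, r.Prime → r ∣ C.index → ¬ τ r)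
    (h2 : ∀ x : G, (∀ g : G, g * x * g⁻¹ ∉ C) → ∀ r : ℕ, r.Prime → r ∣ ind x → τ r) :
    ∃ H : Subgroup G, Group.IsNilpotent H ∧ ∀ r : ℕ, r.Prime → r ∣ H.index → τ r := by
  obtain ⟨x, hx⟩ : ∃ x : G, ∀ g : G, g * x * g⁻¹ ∉ C := by
    by_contra hh
    push Not at hh
    exact hC (eq_top_of_forall_conj_mem hh)
  have hpow : ∀ (e : ℕ) (g : G), g * x ^ e * g⁻¹ ∈ C → x ^ e ∈ C := by
    intro e g hg
    obtain ⟨a, ha, c, hc, he⟩ := exists_mul_of_coprime_index
      (coprime_of_primes τ (h2 x hx) h1) g⁻¹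
    have ha' : a * x ^ e = x ^ e * a := mem_cent_iff.mp (cent_le_cent_pow x e ha)
    have hg' : g = c⁻¹ * a⁻¹ := by rw [← mul_inv_rev, ← he, inv_inv]
    have h3 : x ^ e = c * (g * x ^ e * g⁻¹) * c⁻¹ := by
      rw [he, hg']
      calc x ^ e = a⁻¹ * (a * x ^ e) := by group
        _ = a⁻¹ * (x ^ e * a) := by rw [ha']
        _ = _ := by group
    rw [h3]
    exact C.mul_mem (C.mul_mem hc hg) (C.inv_mem hc)
  obtain ⟨e, l, k, hl, hk, hy⟩ : ∃ e l k : ℕ, l.Prime ∧ orderOf (x ^ e) = l ^ k ∧ x ^ e ∉ C := by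
    by_contra hh
    push Not at hh
    exact hx 1 (by simpa using mem_of_forall_primePow_mem x fun e q k hq _ hk => hh e q k hq hk)
  set y := x ^ e
  have hyd : ∀ g : G, g * y * g⁻¹ ∉ C := fun g hg => hy (hpow e g hg)
  haveI : Fact l.Prime := ⟨hl⟩
  have hτ : ¬ τ l := by
    refine h1 l hl ?_
    by_contra hd
    obtain ⟨Q, hQ⟩ := H18.exists_sylow_le_of_not_dvd (p := l) hd
    have hp : IsPGroup l (Subgroup.zpowers y) := IsPGroup.of_card (by rw [Nat.card_zpowers, hk])
    obtain ⟨Q', hQ'⟩ := hp.exists_le_sylow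
    obtain ⟨g, hg⟩ := MulAction.exists_smul_eq G Q' Q
    refine hyd g (hQ ?_)
    rw [← hg]
    exact Subgroup.smul_mem_pointwise_smul y (MulAut.conj g) _ (hQ' (Subgroup.mem_zpowers y))
  obtain ⟨H, hH, hHi⟩ := nil_of_regular (G := Subgroup.centralizer ({y} : Set G)) τ hl hτ (by
    intro s hs r hr hd
    have hco : (orderOf y).Coprime (orderOf (s : G)) := by
      rw [hk, Subgroup.orderOf_coe]
      exact ((Nat.Prime.coprime_iff_not_dvd hl).mpr hs).pow_left k
    refine h2 (y * s) (fun g hg => ?_) r hr (hd.trans (ind_sub_dvd_mul s hco))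
    have hc : Commute y (s : G) := (mem_cent_iff.mp s.2).symm
    obtain ⟨m, hm⟩ : y ∈ Subgroup.zpowers (y * s) := by
      have h4 : (y * s) ^ orderOf (s : G) = y ^ orderOf (s : G) := by
        rw [hc.mul_pow, pow_orderOf_eq_one, mul_one]
      have h5 : y ∈ Subgroup.zpowers (y ^ orderOf (s : G)) :=
        mem_zpowers_pow_iff.mpr (by rw [Nat.gcd_comm]; exact hco)
      rw [← h4] at h5
      exact Subgroup.zpowers_le.mpr (Subgroup.pow_mem _ (Subgroup.mem_zpowers _) _) h5
    refine hyd g ?_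
    have h6 : g * y * g⁻¹ = (g * (y * s) * g⁻¹) ^ m := by
      rw [conj_zpow]
      simp only at hm
      rw [hm]
    rw [h6]
    exact C.zpow_mem hg m)
  refine ⟨H.map (Subgroup.subtype _), ?_, fun r hr hd => ?_⟩
  · exact nilpotent_of_mulEquiv (H.equivMapOfInjective _ (Subgroup.subtype_injective _))
  · rw [Subgroup.index_map_subtype] at hd
    exact (hr.dvd_mul.mp hd).elim (hHi r hr) (h2 y hyd r hr)

end H98.CsH
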