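import Cfsg.Agent.H68.EaSpec

/-! Tower EA, slot GN: non-abelian groups of order sixteen. -/

set_option autoImplicit false

namespace H98.EaGN

open Subgroup H68.EA

universe u

theorem jobGN : JobGN.{u} := by
  intro P _ hc ⟨x, y, xy⟩
  have : Finite P := Nat.finite_of_card_ne_zero (by omega)
  have := Fact.mk Nat.prime_two
  have : Nontrivial P := ⟨⟨_, _, xy⟩⟩
  have hP : IsPGroup 2 P := IsPGroup.of_card (n := 4) hc
  have nz := Finite.one_lt_card_iff_nontrivial.2 hP.center_nontrivial
  have hm := (center P).card_mul_index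
  have ci : ∀ a b : P, a * b ≠ b * a → (centralizer {a}).index ∣ (center P).index ∧
      (centralizer {a}).index < (center P).index ∧ 1 < (centralizer ({a} : Set P)).index := fun a b h =>
    ⟨index_dvd_of_le (center_le_centralizer _), index_strictAnti ((center_le_centralizer _).lt_of_ne
      fun e => h (mem_center_iff.1 (e.ge (mem_centralizer_singleton_iff.2 rfl)) b).symm),
      one_lt_index_of_ne_top fun e => h (mem_centralizer_singleton_iff.1 (e.ge (mem_top b))).symm⟩
  obtain ⟨-, c2, c3⟩ := ci x y xy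
  rw [hc] at hm
  have h8 : (center P).index = 8 ∨ (center P).index = 4 := by
    have : (center P).index ≤ 8 := by nlinarith
    have d : (center P).index ∣ 16 := Dvd.intro_left _ hm
    have : 3 ≤ (center P).index := by omega
    interval_cases (center P).index <;> simp_all
  rcases h8 with h8 | h4
  · obtain ⟨z, z1⟩ := @exists_ne _ hP.center_nontrivial 1
    have e : Nat.card (center P) = 2 := by rw [h8] at hm; omega
    exact ⟨z, z.2, fun e => z1 (Subtype.ext e), congrArg Subtype.val (e ▸ pow_card_eq_one' (x := z)),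
      .inl h8⟩
  have L : ∀ a b b' : P, a * b ≠ b * a → a * b' ≠ b' * a →
      a * b * a⁻¹ * b⁻¹ = a * b' * a⁻¹ * b'⁻¹ := fun a b b' h h' => by
    obtain ⟨d1, d2, d3⟩ := ci a b h
    rw [h4] at d1 d2
    have i2 : (centralizer ({a} : Set P)).index = 2 := by
      interval_cases (centralizer ({a} : Set P)).index <;> simp_all
    have := mem_centralizer_singleton_iff.1 ((mul_mem_iff_of_index_two i2 (a := b⁻¹) (b := b')).2 (by
      simp only [inv_mem_iff, mem_centralizer_singleton_iff]
      exact iff_of_false h.symm h'.symm))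
    calc _ = a * b * a⁻¹ * (b⁻¹ * b' * a) * a⁻¹ * b'⁻¹ := by group
      _ = _ := by rw [this]; group
  have U : ∀ a b : P, a * b ≠ b * a → a * b * a⁻¹ * b⁻¹ = x * y * x⁻¹ * y⁻¹ := fun a b h => by
    obtain ⟨t, t1, t2⟩ : ∃ t, a * t ≠ t * a ∧ x * t ≠ t * x := by
      by_cases h1 : x * b = b * x
      · by_cases h2 : a * y = y * a
        · refine ⟨b * y, fun e => h (mul_right_cancel (b := y) ?_), fun e => xy (mul_left_cancel (a := b) ?_)⟩
          · rw [mul_assoc, e, mul_assoc, mul_assoc, h2]
          · rw [← mul_assoc, ← h1, mul_assoc, e, mul_assoc]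
        exact ⟨y, h2, xy⟩
      exact ⟨b, h, h1⟩
    rw [L a b t h t1, L x y t xy t2, ← inv_inj]
    simpa [mul_assoc] using L t a x t1.symm t2.symm
  have A : ∀ α : MulAut P, α (x * y * x⁻¹ * y⁻¹) = x * y * x⁻¹ * y⁻¹ := fun α => by
    simpa using U (α x) (α y) fun e => xy (α.injective (by simpa using e))
  have e : Nat.card (center P) = 4 := by rw [h4] at hm; omega
  obtain ⟨w, w1, w2⟩ := Set.exists_mem_notMem_of_ncard_lt_ncard (s := {1, x * y * x⁻¹ * y⁻¹})
    (t := (center P : Set P)) (by
      rw [← Nat.card_coe_set_eq (center P : Set P), SetLike.coe_sort_coe, e]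
      exact ((Set.ncard_insert_le _ _).trans_lt (by simp)))
  simp only [Set.mem_insert_iff, Set.mem_singleton_iff, not_or] at w2
  refine ⟨x * y * x⁻¹ * y⁻¹, mem_center_iff.2 fun g => mul_inv_eq_iff_eq_mul.1 (A (MulAut.conj g)),
    fun e => xy (mul_inv_eq_iff_eq_mul.1 (mul_inv_eq_one.1 e)), ?_,
    .inr ⟨h4, w, w1, w2.1, fun α e => w2.2 (e.symm.trans (A α))⟩⟩
  rw [pow_two]
  nth_rw 1 [← U y x xy.symm]
  group

end H98.EaGN
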