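/- Thompson's theorem applied to `O P / ⟨y⟩`. -/
import Cfsg.Agent.H11.FBSpec
import Cfsg.Agent.H5.ThompsonFpf
import Cfsg.Agent.H26.NilpComm

set_option autoImplicit false

namespace H98.FbTQ

open Subgroup H11.FB

universe u

variable {G : Type u} [Group G]

theorem step {a b c : G} {m : ℕ} (h1 : a * b * a⁻¹ = b * c) (h2 : a * c = c * a) (hm : a ^ m = 1) :
    c ^ m = 1 := by
  have key : ∀ k : ℕ, a ^ k * b * (a ^ k)⁻¹ = b * c ^ k := fun k => by
    induction k with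
    | zero => simp
    | succ k ih =>
      have h3 : a * c ^ k * a⁻¹ = c ^ k := by
        rw [((show Commute a c from h2).pow_right k).eq, mul_inv_cancel_right]
      calc a ^ (k + 1) * b * (a ^ (k + 1))⁻¹ = a * (a ^ k * b * (a ^ k)⁻¹) * a⁻¹ := by
            rw [pow_succ']; group
        _ = (a * b * a⁻¹) * (a * c ^ k * a⁻¹) := by rw [ih]; group
        _ = b * c ^ (k + 1) := by rw [h1, h3, pow_succ', mul_assoc]
  have := key m
  rw [hm, one_mul, inv_one, mul_one] at this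
  exact left_eq_mul.1 this |>.symm ▸ rfl

theorem eq_one_of {O : Subgroup G} {p m : ℕ} (hO : IsPGroup p O) {c : G} (hc : c ∈ O)
    (hm : p.Coprime m) (h : c ^ m = 1) : c = 1 := by
  obtain ⟨k, hk⟩ := hO ⟨c, hc⟩
  have h1 : c ^ p ^ k = 1 := congrArg Subtype.val hk
  exact orderOf_eq_one_iff.1 (Nat.eq_one_of_dvd_coprimes (hm.pow_left k)
    (orderOf_dvd_of_pow_eq_one h1) (orderOf_dvd_of_pow_eq_one h))

theorem core [Finite G] {W : Subgroup G} {h y : G} {r : ℕ} (hr : r.Prime) (h1 : h ^ r = 1)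
    (hW : ∀ w ∈ W, h * w * h⁻¹ ∈ W) (yW : ∀ w ∈ W, w * y = y * w) (hy : h * y = y * h)
    (hf : ∀ w ∈ W, w⁻¹ * (h * w * h⁻¹) ∈ zpowers y → w ∈ zpowers y) {a b : G} (ha : a ∈ W)
    (hb : b ∈ W) (hab : (orderOf a).Coprime (orderOf b)) : b⁻¹ * (a * b * a⁻¹) ∈ zpowers y := by
  let C := centralizer ({y} : Set G)
  let Z := (zpowers y).subgroupOf C
  have mC : ∀ {g : G}, g * y = y * g → g ∈ C := fun e => mem_centralizer_singleton_iff.2 e
  have : Z.Normal := ⟨fun z hz g => by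
    obtain ⟨k, hk⟩ := mem_zpowers_iff.1 (mem_subgroupOf.1 hz)
    have e : Commute (g : G) y := mem_centralizer_singleton_iff.1 g.2
    refine mem_subgroupOf.2 ?_
    rw [coe_mul, coe_mul, coe_inv, ← hk, (e.zpow_right k).eq, mul_inv_cancel_right]
    exact zpow_mem_zpowers _ _⟩
  let π := QuotientGroup.mk' Z
  let K := (W.subgroupOf C).map π
  have hx : π ⟨h, mC hy⟩ ∈ normalizer (K : Set (C ⧸ Z)) := mem_normalizer_fintype (by
    rintro _ ⟨w, hw, rfl⟩
    exact ⟨_, show ⟨h, mC hy⟩ * w * ⟨h, mC hy⟩⁻¹ ∈ W.subgroupOf C from hW _ hw, by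
      rw [map_mul, map_mul, map_inv]⟩)
  have nil : Group.IsNilpotent K := by
    refine H5.isNilpotent_of_fpf_aut (K.normalizerMonoidHom ⟨_, hx⟩) hr ?_ ?_
    · rw [← map_pow, show (⟨_, hx⟩ : normalizer (K : Set (C ⧸ Z))) ^ r = 1 from Subtype.ext (by
        rw [coe_pow, ← map_pow, show (⟨h, mC hy⟩ : C) ^ r = 1 from Subtype.ext h1, map_one]; rfl),
        map_one]
    · rintro ⟨_, w, hw, rfl⟩ e
      have e' : π w = π (⟨h, mC hy⟩ * w * ⟨h, mC hy⟩⁻¹) := by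
        rw [map_mul, map_mul, map_inv]; exact (congrArg Subtype.val e).symm
      exact Subtype.ext ((QuotientGroup.eq_one_iff w).2 (hf w hw
        (mem_subgroupOf.1 ((QuotientGroup.eq (s := Z)).1 e'))))
  have hc := H26.commute_of_coprime_orderOf_of_mem nil
    (x := π ⟨a, mC (yW a ha)⟩) (y := π ⟨b, mC (yW b hb)⟩) ⟨_, ha, rfl⟩ ⟨_, hb, rfl⟩
    ((hab.coprime_dvd_left ((orderOf_map_dvd π _).trans (by rw [orderOf_mk]))).coprime_dvd_right
      ((orderOf_map_dvd π _).trans (by rw [orderOf_mk])))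
  have e : π ⟨b, mC (yW b hb)⟩ = π (⟨a, mC (yW a ha)⟩ * ⟨b, mC (yW b hb)⟩ * ⟨a, mC (yW a ha)⟩⁻¹) := by
    rw [map_mul, map_mul, map_inv, hc.eq, mul_inv_cancel_right]
  exact mem_subgroupOf.1 ((QuotientGroup.eq (s := Z)).1 e)

/-- the product `O P`. -/
def prod {O P : Subgroup G} (hn : Nm P O) : Subgroup G where
  carrier := {g | ∃ o ∈ O, ∃ x ∈ P, g = o * x}
  one_mem' := ⟨1, one_mem _, 1, one_mem _, (mul_one _).symm⟩
  mul_mem' := by
    rintro _ _ ⟨o, ho, x, hx, rfl⟩ ⟨o', ho', x', hx', rfl⟩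
    exact ⟨_, O.mul_mem ho (hn x hx o' ho'), _, P.mul_mem hx hx', by group⟩
  inv_mem' := by
    rintro _ ⟨o, ho, x, hx, rfl⟩
    exact ⟨_, hn _ (P.inv_mem hx) _ (O.inv_mem ho), _, P.inv_mem hx, by group⟩

theorem jobTQ : JobTQ.{u} := by
  intro G _ _ O P h y p hp hp2 hO hP hn hr _ hhO hhP fP yO cO cP hy fO hor x hx z hz
  have cop : p.Coprime 2 := (Nat.coprime_primes hp Nat.prime_two).2 hp2
  have zO : zpowers y ≤ O := zpowers_le.2 yO
  have cz : ∀ {g c : G}, g * y = y * g → c ∈ zpowers y → g * c = c * g := fun e hc => by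
    obtain ⟨k, rfl⟩ := mem_zpowers_iff.1 hc
    exact ((show Commute _ y from e).zpow_right k).eq
  obtain ⟨j, hj⟩ := hP ⟨x, hx⟩
  have hj' : x ^ 2 ^ j = 1 := congrArg Subtype.val hj
  obtain ⟨i, hi⟩ := hO ⟨z, hz⟩
  have hi' : z ^ p ^ i = 1 := congrArg Subtype.val hi
  have key := core (W := prod hn) hr (pow_orderOf_eq_one h) ?_ ?_ hy ?_
    (a := x) (b := z) ⟨1, one_mem _, x, hx, (one_mul _).symm⟩ ⟨z, hz, 1, one_mem _, (mul_one _).symm⟩
    (((cop.symm.pow j i).coprime_dvd_left (orderOf_dvd_of_pow_eq_one hj')).coprime_dvd_right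
      (orderOf_dvd_of_pow_eq_one hi'))
  · have := eq_one_of hO (zO key) (cop.pow_right j)
      (step (b := z) (by group) (cz (cP x hx) key) hj')
    rw [inv_mul_eq_one] at this
    exact mul_inv_eq_iff_eq_mul.1 this.symm
  · rintro _ ⟨o, ho, t, ht, rfl⟩
    exact ⟨_, hhO o ho, _, hhP t ht, by group⟩
  · rintro _ ⟨o, ho, t, ht, rfl⟩
    rw [mul_assoc, cP t ht, ← mul_assoc, cO o ho, mul_assoc]
  · rintro _ ⟨o, ho, t, ht, rfl⟩ e
    have h1 : h * t * h⁻¹ * t⁻¹ ∈ O := by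
      have := O.mul_mem (O.mul_mem (O.inv_mem (hhO o ho)) ho) (hn t ht _ (zO e))
      convert this using 1
      group
    have h2 : h * t * h⁻¹ * t⁻¹ ∈ P := P.mul_mem (hhP t ht) (P.inv_mem ht)
    obtain ⟨k, hk⟩ := hP ⟨_, h2⟩
    have h3 := eq_one_of hO h1 (cop.pow_right k) (congrArg Subtype.val hk)
    obtain rfl := fP t ht (mul_inv_eq_iff_eq_mul.1 (mul_inv_eq_one.1 h3))
    rw [mul_one] at e ⊢
    refine fO o ho (mul_inv_eq_iff_eq_mul.1 (inv_mul_eq_one.1 ?_).symm)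
    rcases hor with rfl | hne
    · simpa using e
    · exact eq_one_of hO (zO e) ((Nat.coprime_primes hp hr).2 hne.symm)
        (step (b := o) (by group) (cz hy e) (pow_orderOf_eq_one h))

end H98.FbTQ
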