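import Cfsg.Agent.H98.FlSpec
import Cfsg.Agent.H51.Api
import Cfsg.Agent.H46.Coprime
import Cfsg.Agent.H46.Nil

/-! Group theoretic reductions for the hypothesis `Hyp`: images, invariant subgroups, commuting conjugates. -/

namespace H98.Fl

open Cfsg H46 Subgroup

variable {Γ : Type*} [Group Γ] [Finite Γ] {p : ℕ} {G R P X H A : Subgroup Γ}

theorem Hyp.mim (h : Hyp p G R P) {Γ' : Type*} [Group Γ'] {D : Subgroup Γ} (f : D →* Γ') (hG : G ≤ D) (hR : R ≤ D) :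
    Hyp p (mim f G) (mim f R) (mim f P) := by
  refine ⟨(h.cop.coprime_dvd_left (card_mim_dvd f R)).coprime_dvd_right (card_mim_dvd f G), sol_mim h.solv f,
    mim_nrm f h.nrm, mim_mono f h.le, isPGroup_mim h.pg f, mim_nrm f h.invR, ?_⟩
  have := coprime_mim_cent_aux (N := mker f ⊓ G) (K := G) f hR inf_le_left inf_le_right
    (nrm_inf (hR.trans (mker_normalIn f).2) h.nrm) (coprime_of_le h.cop le_rfl inf_le_right) (Or.inl h.solv)
    fun k hk a ha hm => ⟨hm, G.mul_mem (G.inv_mem hk) (conj_mem_of_mem_nrm (h.nrm ha) hk)⟩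
  exact this.ge.trans (mim_nrm f h.invC)

theorem Hyp.inf (h : Hyp p G R P) (hH : H ≤ G) (hR : R ≤ Nrm H) : Hyp p H R (P ⊓ H) :=
  ⟨coprime_of_le h.cop le_rfl hH, h.solv, hR, inf_le_right, h.pg.to_le inf_le_left, nrm_inf h.invR hR,
    nrm_inf ((inf_le_inf_right _ hH).trans h.invC) (inf_le_left.trans le_nrm_self)⟩

/-- the product over an orbit of commuting conjugates -/
theorem orbit_prod (hA : A ≤ Nrm G) (hX : X ≤ G) (h : ∀ a ∈ A, a ∈ Nrm X ∨ cj a X ≤ Cent X) {c : Γ} (hc : c ∈ X)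
    (hc' : c ∈ Cent (A ⊓ Nrm X)) : ∃ d ∈ G ⊓ Cent A, d⁻¹ * c ∈ Cent X := by
  classical
  have := Fintype.ofFinite Γ
  let O : Finset Γ := Finset.univ.filter fun x => ∃ a ∈ A, x = a * c * a⁻¹
  have hO : ∀ x, x ∈ O ↔ ∃ a ∈ A, x = a * c * a⁻¹ := fun x => by simp [O]
  have k1 : ∀ x ∈ O, x ≠ c → x ∈ Cent X := fun x hx hne => by
    obtain ⟨a, ha, rfl⟩ := (hO x).1 hx
    rcases h a ha with h1 | h1
    · exact (hne (by rw [mem_cent.1 hc' a ⟨ha, h1⟩, mul_inv_cancel_right])).elim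
    · exact h1 (conj_mem_cj.2 hc)
  have k2 : ∀ a ∈ A, ∀ x ∈ O, a * x * a⁻¹ ∈ O := fun a ha x hx => by
    obtain ⟨b, hb, rfl⟩ := (hO x).1 hx
    exact (hO _).2 ⟨a * b, A.mul_mem ha hb, by group⟩
  have comm : {x | x ∈ O.1}.Pairwise Commute := fun x hx y hy hne => by
    obtain ⟨a, ha, rfl⟩ := (hO x).1 hx
    have h1 := k1 _ (k2 _ (A.inv_mem ha) y hy) fun e => hne (by rw [← e]; group)
    have h2 := mem_cent.1 h1 c hc
    calc a * c * a⁻¹ * y = a * (c * (a⁻¹ * y * a⁻¹⁻¹)) * a⁻¹ := by group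
      _ = y * (a * c * a⁻¹) := by rw [h2]; group
  have hcO : c ∈ O.1 := (hO c).2 ⟨1, A.one_mem, by simp⟩
  refine ⟨O.1.noncommProd comm, ⟨G.multiset_noncommProd_mem _ _ fun x hx => ?_, mem_cent.2 fun a ha => ?_⟩, ?_⟩
  · obtain ⟨a, ha, rfl⟩ := (hO x).1 hx
    exact conj_mem_of_mem_nrm (hA ha) (hX hc)
  · have e : O.1.map (MulAut.conj a) = O.1 := by
      have : O.map (MulAut.conj a).toEquiv.toEmbedding = O := Finset.eq_of_subset_of_card_le (fun x hx => by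
        obtain ⟨y, hy, rfl⟩ := Finset.mem_map.1 hx
        exact k2 a ha y hy) (by simp)
      exact congrArg Finset.val this
    have h1 := Multiset.map_noncommProd O.1 comm (MulAut.conj a)
    simp only [e, MulAut.conj_apply] at h1
    exact mul_inv_eq_iff_eq_mul.1 h1
  · rw [← Multiset.mul_noncommProd_erase _ hcO comm, mul_inv_rev, inv_mul_cancel_right]
    refine inv_mem ((Cent X).multiset_noncommProd_mem _ _ fun x hx => ?_)
    obtain ⟨h1, h2⟩ := (O.nodup.mem_erase_iff).1 hx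
    exact k1 x h2 h1

/-- projection of `P` into a factor of a commuting family -/
theorem Hyp.proj [Fact p.Prime] (h : Hyp p G R P) (hX : X ≤ G) (hR : ∀ a ∈ R, a ∈ Nrm X ∨ cj a X ≤ Cent X) :
    ∃ P', Hyp p X (R ⊓ Nrm X) P' ∧ ∀ x ∈ X, ∀ y ∈ P, y⁻¹ * x ∈ Cent X → x ^ p = 1 → x ∈ P' := by
  have hp : p.Prime := Fact.out
  have nX : ∀ {x y : Γ}, x ∈ X → y⁻¹ * x ∈ Cent X → y ∈ Nrm X := fun {x y} hx hy => by
    simpa using (Nrm X).mul_mem (le_nrm_self hx) (inv_mem (cent_le_nrm X hy))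
  have nY : ∀ {B : Subgroup Γ}, B ≤ Nrm X → B ≤ Nrm P → B ≤ Nrm (X ⊓ (P ⊓ Nrm X ⊔ Cent X)) := fun h1 h2 =>
    nrm_inf h1 (nrm_sup (nrm_inf h2 (nrm_nrm h1)) (nrm_cent h1))
  refine ⟨Op p (X ⊓ (P ⊓ Nrm X ⊔ Cent X)), ⟨coprime_of_le h.cop inf_le_left hX,
    (have := h.solv; solvable_of_solvable_injective (f := inclusion inf_le_left) (inclusion_injective _)), inf_le_right,
    (H51.core_le _ _).trans inf_le_left, H51.core_pgroup hp _,
    H51.nrm_core _ (nY inf_le_right (inf_le_left.trans h.invR)), fun c hc => ?_⟩, fun x hx y hy hxy hxp => ?_⟩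
  · obtain ⟨d, hd, hd'⟩ := orbit_prod h.nrm hX hR hc.1 hc.2
    have h1 := nY (zpowers_le.2 (nX hc.1 hd')) (zpowers_le.2 (h.invC hd)) (mem_zpowers d)
    have h2 := cent_le_nrm _ (cent_anti (inf_le_left (b := P ⊓ Nrm X ⊔ Cent X)) hd')
    exact H51.nrm_core _ (zpowers_le.2 (by simpa using mul_mem h1 h2)) (mem_zpowers c)
  · have hD : Nrm X ≤ Nrm (Cent X) := nrm_le_nrm_cent X
    have hn : Group.IsNilpotent ↥(X ⊓ (P ⊓ Nrm X ⊔ Cent X)) := by
      refine nil_of_mim_of_central (f := qmap (Cent X)) (inf_le_left.trans (le_nrm_self.trans hD))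
        (inf_le_left.trans ((mker_qmap _).le.trans (cent_anti inf_le_left))) (nil_of_le (K := H46.mim (qmap (Cent X)) (P ⊓ Nrm X)) ?_ ?_)
      · exact (isPGroup_mim (h.pg.to_le inf_le_left) _).isNilpotent
      · rw [← mim_mker_sup _ (inf_le_right.trans hD), mker_qmap, sup_comm]
        exact mim_mono _ inf_le_right
    refine nil_le_piCoreOf hn (A := zpowers x) (zpowers_le.2 ⟨hx, ?_⟩) ((H51.pi_single hp).2 ?_) (mem_zpowers x)
    · simpa using mul_mem (mem_sup_left (T := Cent X) (show y ∈ P ⊓ Nrm X from ⟨hy, nX hx hxy⟩)) (mem_sup_right hxy)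
    · rintro ⟨_, n, rfl⟩
      refine ⟨1, Subtype.ext ?_⟩
      change (x ^ n) ^ p ^ 1 = 1
      rw [pow_one, ← zpow_natCast, ← zpow_mul, mul_comm, zpow_mul, zpow_natCast, hxp, one_zpow]

/-- an invariant `p`-subgroup lies with `P` in a `p`-subgroup -/
theorem Hyp.sup [Fact p.Prime] (h : Hyp p G R P) {U : Subgroup Γ} (hU : U ≤ G) (hp : IsPGroup p U) (hR : R ≤ Nrm U) :
    ∃ S : Subgroup Γ, IsPGroup p S ∧ S ≤ G ∧ U ≤ S ∧ P ≤ S := by
  obtain ⟨S, h1, h2, h3⟩ := H51.exists_inv_syl_ge Fact.out h.nrm h.cop (Or.inl h.solv) hU hp hR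
  obtain ⟨S', k1, k2, k3⟩ := H51.exists_inv_syl_ge Fact.out h.nrm h.cop (Or.inl h.solv) h.le h.pg h.invR
  obtain ⟨c, hc, e⟩ := H51.inv_syl_conj Fact.out h.nrm h.cop (Or.inl h.solv) k1 h1 k3 h3
  exact ⟨S, H51.syl_pgroup Fact.out h1, h1.1, h2, by
    rw [← e, ← cj_of_mem_nrm (h.invC hc)]; exact cj_mono _ k2⟩

end H98.Fl
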