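import Cfsg.Agent.H98.FlQ5
import Cfsg.Agent.H94.Involves
import Cfsg.Agent.H42.OddOrder

/-! Theorem M1: fixed points of a coprime group on a group with a quadratic element. -/

namespace H98.Fl

open Cfsg H70 LinearMap Polynomial

universe u

/-- no anticommuting elements in a finite Jordan division algebra of odd characteristic -/
theorem jordan_anti {B : Type*} [Ring B] [Finite B] [Nontrivial B] (h2 : ∀ x : B, x + x = 0 → x = 0) (K : AddSubgroup B)
    (h1 : 1 ∈ K) (hU : ∀ x ∈ K, ∀ z ∈ K, x * z * x ∈ K) (hu : ∀ x ∈ K, x ≠ 0 → IsUnit x) {X Y : B} (hX : X ∈ K)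
    (hY : Y ∈ K) (h : X * Y + Y * X = 0) : X = 0 ∨ Y = 0 := by
  by_contra hcon
  push Not at hcon
  have uX := hu X hX hcon.1
  have uY := hu Y hY hcon.2
  have e : Y * X = -(X * Y) := eq_neg_of_add_eq_zero_right h
  let S := Subring.closure ({X * X, Y * Y} : Set B)
  have cX : Commute (Y * Y) X := by
    change Y * Y * X = X * (Y * Y)
    rw [mul_assoc, e, mul_neg, ← mul_assoc, e]; noncomm_ring
  have cY : Commute (X * X) Y := by
    change X * X * Y = Y * (X * X)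
    rw [← mul_assoc Y, e, neg_mul, mul_assoc X Y, e]; noncomm_ring
  have key : ∀ s ∈ S, (Commute s X ∧ Commute s Y) ∧ ∀ z ∈ K, (z * X = X * z ∨ z * X = -(X * z)) →
      (z * Y = Y * z ∨ z * Y = -(Y * z)) → s * z ∈ K := by
    have aux : ∀ {W z : B}, W ∈ K → z ∈ K → (z * W = W * z ∨ z * W = -(W * z)) → W * W * z ∈ K := by
      rintro W z hW hz (k | k)
      · simpa only [mul_assoc, k] using hU W hW z hz
      · simpa only [mul_assoc, k, mul_neg, neg_mem_iff] using hU W hW z hz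
    have aux2 : ∀ {W s z : B}, Commute s W → (z * W = W * z ∨ z * W = -(W * z)) →
        (s * z * W = W * (s * z) ∨ s * z * W = -(W * (s * z))) := fun hs k =>
      k.imp (fun k => by rw [mul_assoc, k, ← mul_assoc, hs.eq, mul_assoc])
        fun k => by rw [mul_assoc, k, mul_neg, ← mul_assoc, hs.eq, mul_assoc]
    intro s hs
    induction hs using Subring.closure_induction with
    | mem x hx =>
      rcases hx with rfl | rfl
      · exact ⟨⟨(Commute.refl X).mul_left (Commute.refl X), cY⟩, fun z hz k _ => aux hX hz k⟩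
      · exact ⟨⟨cX, (Commute.refl Y).mul_left (Commute.refl Y)⟩, fun z hz _ k => aux hY hz k⟩
    | zero => simp
    | one => simpa using fun z hz _ _ => hz
    | add x y _ _ k1 k2 => exact ⟨⟨k1.1.1.add_left k2.1.1, k1.1.2.add_left k2.1.2⟩, fun z hz m1 m2 => by
        rw [add_mul]; exact add_mem (k1.2 z hz m1 m2) (k2.2 z hz m1 m2)⟩
    | neg x _ k1 => exact ⟨⟨k1.1.1.neg_left, k1.1.2.neg_left⟩, fun z hz m1 m2 => by
        rw [neg_mul]; exact neg_mem (k1.2 z hz m1 m2)⟩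
    | mul x y _ _ k1 k2 => exact ⟨⟨k1.1.1.mul_left k2.1.1, k1.1.2.mul_left k2.1.2⟩, fun z hz m1 m2 => by
        rw [mul_assoc]; exact k1.2 _ (k2.2 z hz m1 m2) (aux2 k2.1.1 m1) (aux2 k2.1.2 m2)⟩
  have hc : ∀ s ∈ S, ∀ t ∈ S, s * t = t * s := fun s hs t ht => by
    have : S ≤ Subring.centralizer {s} := Subring.closure_le.2 (by
      rintro x (rfl | rfl) <;> rintro _ rfl
      exacts [((key _ hs).1.1.mul_right (key _ hs).1.1).eq, ((key _ hs).1.2.mul_right (key _ hs).1.2).eq])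
    exact this ht s rfl
  let _ : CommRing S := { (inferInstance : Ring S) with mul_comm := fun s t => Subtype.ext (hc _ s.2 _ t.2) }
  have : NoZeroDivisors S := ⟨fun {s t} k => or_iff_not_imp_left.2 fun hs => Subtype.ext
    ((hu s (by simpa using (key s s.2).2 1 h1 (by simp) (by simp)) fun e => hs (Subtype.ext e)).mul_right_eq_zero.1
      (congrArg Subtype.val k))⟩
  have : IsDomain S := NoZeroDivisors.to_isDomain S
  have := Fintype.ofFinite S
  have hodd : Fintype.card S % 2 = 1 := by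
    by_contra hn
    obtain ⟨x, hx⟩ := exists_prime_addOrderOf_dvd_card (G := S) 2 (by omega)
    have k := addOrderOf_nsmul_eq_zero x
    rw [hx, two_nsmul] at k
    rw [show x = 0 from Subtype.ext (h2 _ (congrArg Subtype.val k))] at hx
    simp at hx
  let x : S := ⟨X * X, Subring.subset_closure (by simp)⟩
  let y : S := ⟨Y * Y, Subring.subset_closure (by simp)⟩
  have hx : x ≠ 0 := fun e => (uX.mul uX).ne_zero (congrArg Subtype.val e)
  have hy : y ≠ 0 := fun e => (uY.mul uY).ne_zero (congrArg Subtype.val e)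
  obtain ⟨s, t, k⟩ := FiniteField.exists_root_sum_quadratic (f := C x * Polynomial.X ^ 2)
    (g := C y * Polynomial.X ^ 2 - C 1) (degree_C_mul_X_pow 2 hx)
    (by rw [degree_sub_C (by rw [degree_C_mul_X_pow 2 hy]; norm_num), degree_C_mul_X_pow 2 hy]; rfl) hodd
  have k' : X * X * (s * s) + (Y * Y * (t * t) - 1) = 0 := by
    simpa [pow_two, x, y] using congrArg Subtype.val k
  obtain ⟨⟨s1, s2⟩, s3⟩ := key s s.2
  obtain ⟨⟨t1, t2⟩, t3⟩ := key t t.2
  have st := hc s s.2 t t.2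
  generalize (s : B) = s at *
  generalize (t : B) = t at *
  have m1 : s * X + t * Y ∈ K := add_mem (s3 X hX (Or.inl rfl) (Or.inr (by rw [e, neg_neg])))
    (t3 Y hY (Or.inr e) (Or.inl rfl))
  have m2 : (s * X + t * Y) * (s * X + t * Y) = 1 := by
    have q1 : s * X * (s * X) = X * X * (s * s) := by
      rw [mul_assoc, ← mul_assoc X, ← s1.eq, ← mul_assoc, ← mul_assoc, mul_assoc (s * s),
        ((s1.mul_left s1).mul_right (s1.mul_left s1)).eq]
    have q2 : t * Y * (t * Y) = Y * Y * (t * t) := by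
      rw [mul_assoc, ← mul_assoc Y, ← t2.eq, ← mul_assoc, ← mul_assoc, mul_assoc (t * t),
        ((t2.mul_left t2).mul_right (t2.mul_left t2)).eq]
    have q3 : s * X * (t * Y) + t * Y * (s * X) = 0 := by
      rw [mul_assoc, mul_assoc, ← mul_assoc X, ← mul_assoc Y, ← t1.eq, ← s2.eq, mul_assoc, mul_assoc, ← mul_assoc s,
        ← mul_assoc t s, st, ← mul_add, h, mul_zero]
    rw [add_mul, mul_add, mul_add, q1, q2]
    linear_combination (norm := abel) k' + q3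
  have m3 : Commute (s * X + t * Y) X ∧ Commute (s * X + t * Y) Y := by
    by_cases q : 1 + (s * X + t * Y) = 0
    · rw [eq_neg_of_add_eq_zero_right q]; simp
    · have := (hu _ (add_mem h1 m1) q).mul_right_eq_zero.1
        (show _ * (1 - (s * X + t * Y)) = 0 by rw [add_mul, one_mul, mul_sub, m2]; simp)
      rw [← sub_eq_zero.1 this]; simp
  have m4 : t = 0 := (uX.mul uY).mul_left_eq_zero.1 (h2 _ (by
    have := m3.1.eq
    rw [add_mul, mul_add, mul_assoc t, e, ← mul_assoc X s, ← s1.eq, ← mul_assoc X t, ← t1.eq, add_right_inj] at this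
    linear_combination (norm := noncomm_ring) -this))
  have m5 : s = 0 := (uX.mul uY).mul_left_eq_zero.1 (h2 _ (by
    have := m3.2.eq
    rw [m4, zero_mul, add_zero, ← mul_assoc, ← s2.eq, mul_assoc s Y, e] at this
    linear_combination (norm := noncomm_ring) this))
  simp [m4, m5] at m2

theorem involves_range {S Q H : Type*} [Group S] [Group Q] [Group H] (ψ : S →* Q) (π : S →* H)
    (hπ : Function.Surjective π) (h : ψ.ker ≤ π.ker) : Involves H ψ.range :=
  H94.involves_of_surjective (ψ.rangeRestrict.liftOfSurjective ψ.rangeRestrict_surjective ⟨π, by simpa using h⟩)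
    fun y => by
      obtain ⟨s, rfl⟩ := hπ y
      exact ⟨ψ.rangeRestrict s, MonoidHom.liftOfRightInverse_comp_apply _ _ _ _ _⟩

variable {p : ℕ} [Fact p.Prime] {M : Type*} [AddCommGroup M] [Module (ZMod p) M] [Finite M]
variable {G A : Subgroup (GLp p M)} {a b e o f κ κ' : Ep p M} {g : GLp p M}

theorem Pe.sq_inj (h : Pe a b e o f) (hp : 5 ≤ p) (ha : QD G a) (hb : QD G b) (hκ : κ ∈ rootSp G a)
    (hκ' : κ' ∈ rootSp G a) (e1 : κ * b * κ = κ' * b * κ') : κ = κ' ∨ κ = -κ' := by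
  have he : IsIdempotentElem e := h.r1.1.1
  have hm : ∀ κ ∈ rootSp G a, κ * b ∈ Subsemigroup.corner e := fun κ hκ => by
    obtain ⟨Z, rfl⟩ := h.d2_root hκ
    exact (Subsemigroup.mem_corner_iff he).2 (by simp [mul_assoc, h.r])
  have h0 : ∀ κ ∈ rootSp G a, κ * b = 0 → κ = 0 := fun κ hκ k => by
    rw [← (h.d2_iff.1 (h.d2_root hκ)).2, ← h.ba, ← mul_assoc, k, zero_mul]
  have : Finite he.Corner := inferInstanceAs (Finite (Subsemigroup.corner e))
  have : Nontrivial he.Corner := ⟨1, 0, fun k => ha.ne (h0 a ha.qe.self_mem (h.ab.trans (congrArg Subtype.val k)))⟩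
  let K : AddSubgroup he.Corner :=
    { carrier := {z | ∃ κ ∈ rootSp G a, z.1 = κ * b}
      zero_mem' := ⟨0, zero_mem _, (zero_mul _).symm⟩
      add_mem' := by
        rintro x y ⟨κ, h1, h2⟩ ⟨κ', h3, h4⟩
        exact ⟨κ + κ', add_mem h1 h3, by rw [add_mul, ← h2, ← h4]; rfl⟩
      neg_mem' := by
        rintro x ⟨κ, h1, h2⟩
        exact ⟨-κ, neg_mem h1, by rw [neg_mul, ← h2]; rfl⟩ }
  have := jordan_anti (B := he.Corner) (fun x hx => Subtype.ext (half_zero hp (congrArg Subtype.val hx))) K ⟨a, ha.qe.self_mem, h.ab.symm⟩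
    (by
      rintro x ⟨κ, h1, h2⟩ z ⟨κ', h3, h4⟩
      refine ⟨κ * (b * κ' * b) * κ, ?_, by
        change x.1 * z.1 * x.1 = _
        rw [h2, h4]; simp only [mul_assoc]⟩
      rcases eq_or_ne κ 0 with rfl | h5
      · simp
      · rw [← ha.rootSp_eq h1 h5]; exact r2' hp (ha.of_mem h1 h5).1 hb (r2' hp hb ha h3))
    (by
      rintro x ⟨κ, h1, h2⟩ h3
      obtain ⟨c, hc, h4⟩ := h.partner' hp ha hb h1 fun k => h3 (Subtype.ext (by rw [h2, k, zero_mul]; rfl))
      refine ⟨⟨x, ⟨a * c, (Subsemigroup.mem_corner_iff he).2 ?_⟩, Subtype.ext ?_, Subtype.ext ?_⟩, rfl⟩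
      · simp [mul_assoc, h.r, h4.r]
      · change x.1 * (a * c) = e
        simp [h2, mul_assoc, h.r, h4.r]
      · change a * c * x.1 = e
        simp [h2, mul_assoc, h.r, h4.r])
    (X := ⟨_, hm _ (sub_mem hκ hκ')⟩) (Y := ⟨_, hm _ (add_mem hκ hκ')⟩) ⟨_, sub_mem hκ hκ', rfl⟩
    ⟨_, add_mem hκ hκ', rfl⟩ (Subtype.ext (by
      change (κ - κ') * b * ((κ + κ') * b) + (κ + κ') * b * ((κ - κ') * b) = 0
      linear_combination (norm := noncomm_ring) e1 * b + e1 * b))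
  exact this.imp (fun k => sub_eq_zero.1 (h0 _ (sub_mem hκ hκ') (congrArg Subtype.val k)))
    fun k => eq_neg_of_add_eq_zero_left (h0 _ (add_mem hκ hκ') (congrArg Subtype.val k))

theorem Pe.sq_orbit (h : Pe a b e o f) (hp : 5 ≤ p) (ha : QD G a) (hb : QD G b) (hκ : κ ∈ rootSp G a) (h0 : κ ≠ 0) :
    ∃ n ∈ Ng G e f, κ * b * κ = H70.cj n a := by
  obtain ⟨c, hc, h'⟩ := h.partner' hp ha hb hκ h0
  obtain ⟨n, h1, h2, h3⟩ := h.exists_n ha.qe hb.qe
  obtain ⟨m, k1, k2, k3⟩ := h'.exists_n (rootSp_qe hκ) (rootSp_qe hc)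
  have z1 := r_aux0 (rootSp_mul hκ ha.qe.self_mem)
  have z2 := r_aux0 (rootSp_mul hc hb.qe.self_mem)
  have z3 := r_aux0 (rootSp_mul hb.qe.self_mem hc)
  refine ⟨m * n⁻¹, mem_Ng.2 ⟨G.mul_mem k1 (G.inv_mem h1), cj_eq_self_iff.2 ?_, cj_eq_self_iff.2 ?_⟩, ?_⟩
  · rw [Units.val_mul, k2, h3]; simp [mul_add, add_mul, mul_sub, sub_mul, mul_assoc, h.r, h'.r, z1, z2, z3]
  · rw [Units.val_mul, k2, h3]; simp [mul_add, add_mul, mul_sub, sub_mul, mul_assoc, h.r, h'.r, z1, z2, z3]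
  · rw [← cj_cj, cj_apply, cj_apply, inv_inv, k2, k3, h2, h3]
    simp [mul_add, add_mul, mul_sub, sub_mul, mul_assoc, h.r, h'.r, z1, z2, z3]

theorem Pe.nrm_Ng (hg : g ∈ H46.Nrm G) (h1 : H70.cj g e = e) (h2 : H70.cj g f = f) : g ∈ H46.Nrm (Ng G e f) :=
  H46.mem_nrm_of_cj_le (by
    rintro _ ⟨x, hx, rfl⟩
    obtain ⟨k1, k2, k3⟩ := mem_Ng.1 hx
    have k6 : H70.cj g⁻¹ e = e := by simpa using (congrArg (H70.cj g⁻¹) h1).symm
    have k7 : H70.cj g⁻¹ f = f := by simpa using (congrArg (H70.cj g⁻¹) h2).symm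
    refine mem_Ng.2 ⟨H46.conj_mem_of_mem_nrm hg k1, ?_, ?_⟩ <;>
      simp only [MulEquiv.coe_toMonoidHom, MulAut.conj_apply, ← cj_cj, k2, k3, h1, h2, k6, k7])

theorem Pe.sq_mem_orbit (h : Pe a b e o f) (hp : 5 ≤ p) (ha : QD G a) (hb : QD G b) (hg : g ∈ H46.Nrm G)
    (h1 : g ∈ H46.Nrm (rootGrp G a)) (h2 : g ∈ H46.Nrm (rootGrp G b)) :
    ∃ n ∈ Ng G e f, H70.cj (g * g) a = H70.cj n a := by
  classical
  obtain ⟨h3, h4⟩ := h.nrm_idem ha hb hg h1 h2
  have hN := Pe.nrm_Ng hg h3 h4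
  by_cases hc : ∃ n ∈ Ng G e f, H70.cj g a = H70.cj n a
  · obtain ⟨n, k1, k2⟩ := hc
    exact ⟨g * n * g⁻¹ * n, mul_mem (H46.conj_mem_of_mem_nrm hN k1) k1, by
      rw [← cj_cj _ n, ← k2, cj_cj, inv_mul_cancel_right, ← cj_cj, ← cj_cj, k2]⟩
  have := Fintype.ofFinite (Ep p M)
  let T : Finset (Ep p M) := Finset.univ.filter fun κ => κ ∈ rootSp G a ∧ κ ≠ 0
  let O : Finset (Ep p M) := Finset.univ.filter fun κ => ∃ n ∈ Ng G e f, κ = H70.cj n a
  have hT : ∀ κ, κ ∈ T ↔ κ ∈ rootSp G a ∧ κ ≠ 0 := fun κ => by simp [T]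
  have hO : ∀ κ, κ ∈ O ↔ ∃ n ∈ Ng G e f, κ = H70.cj n a := fun κ => by simp [O]
  have k1 : T.card ≤ 2 * O.card := Finset.card_le_mul_card_image_of_maps_to (f := fun κ => κ * b * κ)
    (fun κ hκ => (hO _).2 (h.sq_orbit hp ha hb ((hT κ).1 hκ).1 ((hT κ).1 hκ).2)) 2 fun y _ => by
      by_contra hn
      obtain ⟨x1, x2, x3, m1, m2, m3, m4, m5, m6⟩ := Finset.two_lt_card_iff.1 (not_le.1 hn)
      simp only [Finset.mem_filter, hT] at m1 m2 m3
      rw [(h.sq_inj hp ha hb m2.1.1 m1.1.1 (m2.2.trans m1.2.symm)).resolve_left m4.symm,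
        (h.sq_inj hp ha hb m3.1.1 m1.1.1 (m3.2.trans m1.2.symm)).resolve_left m5.symm] at m6
      exact m6 rfl
  have k2 : O ⊆ T := fun κ hκ => by
    obtain ⟨n, m1, rfl⟩ := (hO κ).1 hκ
    obtain ⟨m2, m3, m4⟩ := mem_Ng.1 m1
    refine (hT _).2 ⟨h.mem_root (h.d2_iff.2 ?_) (by simpa using (ha.qe.cj m2).mem 1), by simpa using ha.ne⟩
    have := (h.cj n).r1
    rw [m3, m4] at this
    exact ⟨this.1.2.2.2.2.1, this.2.1.2.2.2.2.2.2.2.1⟩
  have k3 : ∀ κ ∈ T, H70.cj g κ ∈ T := fun κ hκ =>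
    (hT _).2 ⟨nrm_root hg h1 ((hT κ).1 hκ).1, by simpa using ((hT κ).1 hκ).2⟩
  have k4 : Disjoint O (O.image (H70.cj g)) := Finset.disjoint_left.2 fun κ m1 m2 => by
    obtain ⟨κ', m3, rfl⟩ := Finset.mem_image.1 m2
    obtain ⟨n, m4, rfl⟩ := (hO _).1 m3
    obtain ⟨n', m5, m6⟩ := (hO _).1 m1
    exact hc ⟨g * n⁻¹ * g⁻¹ * n', mul_mem (H46.conj_mem_of_mem_nrm hN (inv_mem m4)) m5, by
      rw [← cj_cj _ n', ← m6, cj_cj, cj_cj]; simp⟩
  have k5 : O ∪ O.image (H70.cj g) = T := Finset.eq_of_subset_of_card_le (Finset.union_subset k2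
    (Finset.image_subset_iff.2 fun κ hκ => k3 κ (k2 hκ))) (by
      rw [Finset.card_union_of_disjoint k4, Finset.card_image_of_injective _ (H70.cj g).injective]; omega)
  have k6 := k3 _ (k3 a ((hT a).2 ⟨ha.qe.self_mem, ha.ne⟩))
  rw [← k5, Finset.mem_union] at k6
  rcases k6 with k6 | k6
  · exact cj_cj g g a ▸ (hO _).1 k6
  · obtain ⟨κ, m1, m2⟩ := Finset.mem_image.1 k6
    exact (hc ((hO _).1 ((H70.cj g).injective m2 ▸ m1))).elim

theorem Pe.fixed_pair (h : Pe a b e o f) (hp : 5 ≤ p) (ha : QD G a) (hb : QD G b) (hA : A ≤ H46.Nrm G)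
    (h1 : A ≤ H46.Nrm (rootGrp G a)) (h2 : A ≤ H46.Nrm (rootGrp G b)) (cop : (Nat.card A).Coprime (Nat.card G))
    (hodd : Odd (Nat.card A)) : ∃ κ ∈ rootSp G a, ∃ c ∈ rootSp G b, κ ≠ 0 ∧ Pe κ c e o f ∧
      ∀ r ∈ A, H70.cj r κ = κ ∧ H70.cj r c = c := by
  let _ : MulAction (GLp p M) (Ep p M) :=
    { smul := fun g x => H70.cj g x
      one_smul := cj_one
      mul_smul := fun g h x => (cj_cj g h x).symm }
  have hi := fun r hr => h.nrm_idem ha hb (hA hr) (h1 hr) (h2 (x := r) hr)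
  obtain ⟨n, hn, k⟩ := H1.glauberman_subgroup A (Ng G e f) (fun r hr => Pe.nrm_Ng (hA hr) (hi r hr).1 (hi r hr).2)
    (H46.coprime_of_le cop le_rfl inf_le_left) (Or.inl (H42.odd_order hodd)) a fun r hr => by
      obtain ⟨m, hm⟩ := hodd
      have e1 : r = r ^ (m + 1) * r ^ (m + 1) := by
        have := congrArg Subtype.val (pow_card_eq_one' (x := (⟨r, hr⟩ : A)))
        rw [← pow_add, show m + 1 + (m + 1) = Nat.card A + 1 by omega, pow_succ, show r ^ Nat.card A = 1 from this,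
          one_mul]
      have := pow_mem hr (m + 1)
      rw [e1]
      exact h.sq_mem_orbit hp ha hb (hA this) (h1 this) (h2 this)
  obtain ⟨m2, m3, m4⟩ := mem_Ng.1 hn
  have hκ : H70.cj n a ∈ rootSp G a := by
    refine h.mem_root (h.d2_iff.2 ?_) (by simpa using (ha.qe.cj m2).mem 1)
    have := (h.cj n).r1
    rw [m3, m4] at this
    exact ⟨this.1.2.2.2.2.1, this.2.1.2.2.2.2.2.2.2.1⟩
  have h0 : H70.cj n a ≠ 0 := by simpa using ha.ne
  obtain ⟨c, hc, h'⟩ := h.partner' hp ha hb hκ h0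
  refine ⟨_, hκ, c, hc, h0, h', fun r hr => ⟨k r hr, ?_⟩⟩
  have h3 := h'.cj r
  rw [show H70.cj r (H70.cj n a) = H70.cj n a from k r hr, (hi r hr).1, (hi r hr).2] at h3
  rw [← h3.r1.1.2.2.2.2.2.2.2.1, ← h'.ab, ← mul_assoc, h3.ba, h'.r1.2.1.2.2.2.2.1]

theorem nu_of (h : ∀ Q : Subgroup (GLp p M), Q ≤ G → G ≤ H46.Nrm Q → IsPGroup p Q → Q = ⊥) : NU G := by
  intro U h1 h2 hu
  obtain ⟨n, hn⟩ := isUnipotentOn_iff_list.1 hu
  refine h U h1 (fun g hg => conjBy_eq_self_iff.1 (h2 g hg)) fun g => ⟨n, Subtype.ext (Units.ext ?_)⟩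
  have h3 := hn (List.replicate n g) (fun x hx => List.eq_of_mem_replicate hx ▸ g.2) List.length_replicate
  rw [List.map_replicate, List.prod_replicate] at h3
  rcases subsingleton_or_nontrivial (Ep p M) with _ | _
  · exact Subsingleton.elim _ _
  have : CharP (Ep p M) p := charP_of_injective_algebraMap (algebraMap (ZMod p) (Ep p M)).injective p
  have h4 := pow_eq_zero_of_le (Nat.lt_pow_self (Fact.out : p.Prime).one_lt).le h3
  rw [sub_pow_char_pow_of_commute _ _ (Commute.one_right _), one_pow, sub_eq_zero] at h4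
  simpa using h4

theorem m1 (p : ℕ) [Fact p.Prime] (hp : 5 ≤ p) : M1.{u} p := by
  intro V _ _ _ G A cop hA hQ g hg hne hq
  have hG := nu_of hQ
  have hk := bigField hp
  obtain ⟨a, ha⟩ := exists_qd (qe_of' hg hq) (ne_one_iff_sub.1 hne)
  have hE := mem_quadraticRootSubgroups.2 ⟨a, ha, rfl⟩
  set X := qcomp G (rootGrp G a) with hX
  have hXG : X ≤ G := (qcomp_le hE).trans rootTop_le
  have hodd : Odd (Nat.card A) := by
    obtain ⟨β, hβ, ho⟩ := ha.exists_opp hk hG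
    obtain ⟨b, h2, h3, h4, h5⟩ := ho.exists_partner hk ha hβ
    have h6 := pe_of ha.qe.sq (rootSp_mul h2 h2) h4 h5
    obtain ⟨i, hi, ei, ii⟩ := h6.exists_i ha.qe (rootSp_qe h2)
    have h7 : orderOf i = 2 := orderOf_eq_prime (by rw [pow_two]; nth_rw 1 [← ii]; simp) fun e => ha.ne (by
      have := congrArg (· * a) ei
      simp only [e, Units.val_one, one_mul, sub_mul, h6.r1.1.2.2.2.2.1, h6.r1.2.1.2.2.2.2.2.2.1] at this
      exact half_zero hp (by linear_combination (norm := abel) this))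
    exact (Nat.coprime_two_right.1 (cop.coprime_dvd_right (h7 ▸ G.orderOf_dvd_natCard hi)))
  have hA1 : A ⊓ H46.Nrm X ≤ H46.Nrm G := inf_le_left.trans hA
  have cop1 := H46.coprime_of_le cop (inf_le_left (b := H46.Nrm X)) le_rfl
  have hodd1 : Odd (Nat.card ↥(A ⊓ H46.Nrm X)) := hodd.of_dvd_nat (Subgroup.card_dvd_of_le inf_le_left)
  obtain ⟨n, hn, b, e, o, f, hb, h1, h2, h3⟩ := inv_pair hp hG ha hA1 hXG inf_le_right cop1 (H42.odd_order hodd1)
    fun r hr => by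
      rcases qcomp_alt hp hG ha (hA hr.1) with k | k
      · obtain ⟨n, hn, e⟩ := qcls_conj_in_qcomp hk hG hE (self_mem_qcls _) k.1
        exact ⟨n, hn, e⟩
      · exact (k.1 hr.2).elim
  have ha' := ha.cj (hXG hn)
  have m1 : rootGrp G (cj n a) ∈ qcls G (rootGrp G a) := ⟨n, qcomp_le hE hn, (conjBy_rootGrp (hXG hn)).symm⟩
  have m2 : rootGrp G b ∈ qcls G (rootGrp G a) :=
    qcls_eq m1 ▸ (opp_of_normalized h1.aba h1.bab).mem_qcls hk ha' hb
  obtain ⟨κ, hκ, c, hc, h0, h4, h5⟩ := h1.fixed_pair hp ha' hb hA1 h2 h3 cop1 hodd1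
  let φ := (muOf (k := ZMod p) h4.aa h4.bb h4.aba h4.bab).hom
  have k1 : ∀ s, φ s ∈ X := fun s =>
    sup_le (le_qcomp m1) (le_qcomp m2) (muOf_mem_sup h4.aa h4.bb h4.aba h4.bab hκ hc s)
  have k2 : ∀ s, φ s ∈ H46.Cent (A ⊓ H46.Nrm X) := fun s => by
    have : (⊤ : Subgroup _) ≤ (H46.Cent (A ⊓ H46.Nrm X)).comap φ := by
      rw [← upper_sup_lower]
      refine sup_le (fun s hs => ?_) fun s hs => ?_
      · obtain ⟨t, rfl⟩ := (upperUnipotentSL2_eq _).1 hs
        refine H46.mem_cent.2 fun r hr => Units.ext ?_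
        simp [φ, muOf_hom_xu, mul_add, add_mul, cj_eq_self_iff.1 (h5 r hr).1]
      · obtain ⟨t, rfl⟩ := (lowerUnipotentSL2_eq _).1 hs
        refine H46.mem_cent.2 fun r hr => Units.ext ?_
        simp [φ, muOf_hom_xl, mul_add, add_mul, cj_eq_self_iff.1 (h5 r hr).2]
    exact this trivial
  have hD : H46.Nrm X ≤ H46.Nrm (H46.Cent X) := H46.nrm_le_nrm_cent X
  let ψ := (H46.qmap (H46.Cent X)).comp (φ.codRestrict _ fun s => hD (H46.le_nrm_self (k1 s)))
  have k3 : Involves (Matrix.ProjectiveSpecialLinearGroup (Fin 2) (ZMod p)) ψ.range :=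
    involves_range ψ (QuotientGroup.mk' _) (QuotientGroup.mk'_surjective _) fun s hs => by
      rw [QuotientGroup.ker_mk', Subgroup.mem_center_iff]
      intro t
      have : φ s ∈ H46.Cent X := (QuotientGroup.eq_one_iff (φ.codRestrict _ (fun s => hD (H46.le_nrm_self (k1 s))) s)).1 hs
      exact muOf_hom_injective h4.aa h4.bb h4.aba h4.bab h0 (by
        rw [map_mul, map_mul]; exact H46.mem_cent.1 this _ (k1 t))
  refine H94.involves_trans k3 (H94.involves_trans (H94.involves_of_le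
    (B := H46.mim (H46.qmap (H46.Cent X)) (G ⊓ H46.Cent A)) ?_) ?_)
  · rintro _ ⟨s, rfl⟩
    obtain ⟨d, hd, hd'⟩ := orbit_prod hA hXG (fun r hr => (qcomp_alt hp hG ha (hA hr)).imp (·.2) (·.2)) (k1 s) (k2 s)
    have hs := hD (H46.le_nrm_self (k1 s))
    have hdn : d ∈ H46.Nrm (H46.Cent X) := by simpa using mul_mem hs (inv_mem (H46.le_nrm_self hd'))
    exact H46.mem_mim.2 ⟨d, hd, hdn, ((H46.mel_eq_iff hdn hs).2 (by rwa [H46.mker_qmap])).trans
      (H46.mel_of_mem _ hs)⟩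
  · rw [← H46.mim_inf_dom]
    exact H94.involves_trans (H94.involves_of_surjective _ (H46.mres_surjective _ inf_le_right))
      (H94.involves_of_le inf_le_left)

end H98.Fl
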