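import Cfsg.Agent.Base

/-! Peirce calculus for a normalized pair of square zero elements of a ring. -/

namespace H98.Fl

variable {A : Type*} [Ring A] {a b c e o f w w' x y z : A}

/-- a normalized pair with its three idempotents -/
structure Pe (a b e o f : A) : Prop where
  aa : a * a = 0
  bb : b * b = 0
  aba : a * b * a = a
  bab : b * a * b = b
  ab : a * b = e
  ba : b * a = f
  oo : o = 1 - e - f

theorem pe_of (aa : a * a = 0) (bb : b * b = 0) (aba : a * b * a = a) (bab : b * a * b = b) :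
    Pe a b (a * b) (1 - a * b - b * a) (b * a) := ⟨aa, bb, aba, bab, rfl, rfl, rfl⟩

theorem Pe.symm (h : Pe a b e o f) : Pe b a f o e :=
  ⟨h.bb, h.aa, h.bab, h.aba, h.ba, h.ab, by rw [h.oo]; abel⟩

theorem Pe.sum (h : Pe a b e o f) : e + o + f = 1 := by rw [h.oo]; abel

theorem Pe.r0 (h : Pe a b e o f) : e * e = e ∧ e * f = 0 ∧ e * o = 0 ∧ o * e = 0 ∧ e * a = a ∧ a * e = 0 ∧
    e * b = 0 ∧ b * e = b ∧ o * a = 0 ∧ a * o = 0 := by
  obtain ⟨aa, bb, aba, bab, rfl, rfl, rfl⟩ := h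
  have h1 : a * b * (a * b) = a * b := by rw [← mul_assoc, aba]
  have h2 : a * b * (b * a) = 0 := by rw [mul_assoc, ← mul_assoc b, bb]; simp
  have h3 : b * a * (a * b) = 0 := by rw [mul_assoc, ← mul_assoc a, aa]; simp
  have h4 : a * (a * b) = 0 := by rw [← mul_assoc, aa]; simp
  have h5 : b * a * a = 0 := by rw [mul_assoc, aa]; simp
  have h6 : a * (b * a) = a := by rw [← mul_assoc, aba]
  refine ⟨h1, h2, by simp [mul_sub, h1, h2], by simp [sub_mul, h1, h3], aba, h4, by rw [mul_assoc, bb]; simp,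
    by rw [← mul_assoc, bab], by simp [sub_mul, aba, h5], by simp [mul_sub, h4, h6]⟩

theorem Pe.r1 (h : Pe a b e o f) : (e * e = e ∧ e * f = 0 ∧ e * o = 0 ∧ o * e = 0 ∧ e * a = a ∧ a * e = 0 ∧
    e * b = 0 ∧ b * e = b ∧ o * a = 0 ∧ a * o = 0) ∧ (f * f = f ∧ f * e = 0 ∧ f * o = 0 ∧ o * f = 0 ∧ f * b = b ∧
    b * f = 0 ∧ f * a = 0 ∧ a * f = a ∧ o * b = 0 ∧ b * o = 0) ∧ o * o = o ∧ a * a = 0 ∧ b * b = 0 ∧
    a * b = e ∧ b * a = f := by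
  refine ⟨h.r0, h.symm.r0, ?_, h.aa, h.bb, h.ab, h.ba⟩
  nth_rw 2 [h.oo]
  simp [mul_sub, h.r0, h.symm.r0]

theorem r_aux {x y z : A} (h : x * y = z) : x * y = z ∧ ∀ w, x * (y * w) = z * w :=
  ⟨h, fun w => by rw [← mul_assoc, h]⟩

theorem r_aux0 {x y : A} (h : x * y = 0) : x * y = 0 ∧ ∀ w, x * (y * w) = 0 :=
  ⟨h, fun w => by rw [← mul_assoc, h, zero_mul]⟩

/-- the rewriting rules -/
theorem Pe.r (h : Pe a b e o f) :
    (e * e = e ∧ ∀ w, e * (e * w) = e * w) ∧ (e * f = 0 ∧ ∀ w, e * (f * w) = 0) ∧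
    (e * o = 0 ∧ ∀ w, e * (o * w) = 0) ∧ (o * e = 0 ∧ ∀ w, o * (e * w) = 0) ∧
    (e * a = a ∧ ∀ w, e * (a * w) = a * w) ∧ (a * e = 0 ∧ ∀ w, a * (e * w) = 0) ∧
    (e * b = 0 ∧ ∀ w, e * (b * w) = 0) ∧ (b * e = b ∧ ∀ w, b * (e * w) = b * w) ∧
    (o * a = 0 ∧ ∀ w, o * (a * w) = 0) ∧ (a * o = 0 ∧ ∀ w, a * (o * w) = 0) ∧
    (f * f = f ∧ ∀ w, f * (f * w) = f * w) ∧ (f * e = 0 ∧ ∀ w, f * (e * w) = 0) ∧
    (f * o = 0 ∧ ∀ w, f * (o * w) = 0) ∧ (o * f = 0 ∧ ∀ w, o * (f * w) = 0) ∧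
    (f * b = b ∧ ∀ w, f * (b * w) = b * w) ∧ (b * f = 0 ∧ ∀ w, b * (f * w) = 0) ∧
    (f * a = 0 ∧ ∀ w, f * (a * w) = 0) ∧ (a * f = a ∧ ∀ w, a * (f * w) = a * w) ∧
    (o * b = 0 ∧ ∀ w, o * (b * w) = 0) ∧ (b * o = 0 ∧ ∀ w, b * (o * w) = 0) ∧
    (o * o = o ∧ ∀ w, o * (o * w) = o * w) ∧ (a * a = 0 ∧ ∀ w, a * (a * w) = 0) ∧
    (b * b = 0 ∧ ∀ w, b * (b * w) = 0) ∧ (a * b = e ∧ ∀ w, a * (b * w) = e * w) ∧
    (b * a = f ∧ ∀ w, b * (a * w) = f * w) := by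
  obtain ⟨⟨h1, h2, h3, h4, h5, h6, h7, h8, h9, h10⟩, ⟨k1, k2, k3, k4, k5, k6, k7, k8, k9, k10⟩, l1, l2, l3, l4, l5⟩ :=
    h.r1
  exact ⟨r_aux h1, r_aux0 h2, r_aux0 h3, r_aux0 h4, r_aux h5, r_aux0 h6, r_aux0 h7, r_aux h8, r_aux0 h9, r_aux0 h10,
    r_aux k1, r_aux0 k2, r_aux0 k3, r_aux0 k4, r_aux k5, r_aux0 k6, r_aux0 k7, r_aux k8, r_aux0 k9, r_aux0 k10,
    r_aux l1, r_aux0 l2, r_aux0 l3, r_aux l4, r_aux l5⟩

/-- degree one -/
def D1 (e o f x : A) : Prop := ∃ X Y, x = e * X * o + o * Y * f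

/-- degree two -/
def D2 (e f y : A) : Prop := ∃ Z, y = e * Z * f

/-- positive degree -/
def Cp (e o f w : A) : Prop := ∃ x y, D1 e o f x ∧ D2 e f y ∧ w = x + y

theorem D1.add (hx : D1 e o f x) (hz : D1 e o f z) : D1 e o f (x + z) := by
  obtain ⟨X, Y, rfl⟩ := hx
  obtain ⟨X', Y', rfl⟩ := hz
  exact ⟨X + X', Y + Y', by noncomm_ring⟩

theorem D1.neg (hx : D1 e o f x) : D1 e o f (-x) := by
  obtain ⟨X, Y, rfl⟩ := hx
  exact ⟨-X, -Y, by noncomm_ring⟩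

theorem d1_zero : D1 e o f 0 := ⟨0, 0, by simp⟩

theorem D2.add (hx : D2 e f x) (hz : D2 e f z) : D2 e f (x + z) := by
  obtain ⟨X, rfl⟩ := hx
  obtain ⟨X', rfl⟩ := hz
  exact ⟨X + X', by noncomm_ring⟩

theorem D2.neg (hx : D2 e f x) : D2 e f (-x) := by
  obtain ⟨X, rfl⟩ := hx
  exact ⟨-X, by noncomm_ring⟩

theorem D2.sub (hx : D2 e f x) (hz : D2 e f z) : D2 e f (x - z) := by
  rw [sub_eq_add_neg]; exact hx.add hz.neg

theorem d2_zero : D2 e f 0 := ⟨0, by simp⟩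

theorem D2.cp (hy : D2 e f y) : Cp e o f y := ⟨0, y, d1_zero, hy, by simp⟩

theorem D1.cp (hx : D1 e o f x) : Cp e o f x := ⟨x, 0, hx, d2_zero, by simp⟩

theorem Pe.d2_a (h : Pe a b e o f) : D2 e f a := ⟨a, by simp [h.r]⟩

theorem Pe.d2_iff (h : Pe a b e o f) : D2 e f y ↔ e * y = y ∧ y * f = y := by
  constructor
  · rintro ⟨Z, rfl⟩
    simp [mul_assoc, h.r]
  · rintro ⟨h1, h2⟩
    exact ⟨y, by rw [h1, h2]⟩

theorem Pe.cp_iff (h : Pe a b e o f) : Cp e o f w ↔ a * w = 0 ∧ w * a = 0 ∧ o * w * o = 0 := by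
  constructor
  · rintro ⟨_, _, ⟨X, Y, rfl⟩, ⟨Z, rfl⟩, rfl⟩
    simp [mul_add, add_mul, mul_assoc, h.r]
  · rintro ⟨h1, h2, h3⟩
    have h4 : f * w = 0 := by rw [← h.ba, mul_assoc, h1, mul_zero]
    have h5 : w * e = 0 := by rw [← h.ab, ← mul_assoc, h2, zero_mul]
    refine ⟨_, _, ⟨w, w, rfl⟩, ⟨w, rfl⟩, ?_⟩
    calc w = (e + o + f) * w * (e + o + f) := by rw [h.sum]; simp
      _ = _ := by
        simp only [mul_add, add_mul, h3, h4, mul_assoc _ w e, h5]; simp only [mul_zero, zero_mul]; abel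

theorem Pe.d1_mul (h : Pe a b e o f) (hx : D1 e o f x) (hz : D1 e o f z) : D2 e f (x * z) := by
  obtain ⟨X, Y, rfl⟩ := hx
  obtain ⟨X', Y', rfl⟩ := hz
  exact ⟨X * o * Y', by simp [mul_add, add_mul, mul_assoc, h.r]⟩

theorem Pe.cp_mul (h : Pe a b e o f) (hx : Cp e o f w) (hz : Cp e o f w') : D2 e f (w * w') := by
  obtain ⟨_, _, ⟨X, Y, rfl⟩, ⟨Z, rfl⟩, rfl⟩ := hx
  obtain ⟨_, _, ⟨X', Y', rfl⟩, ⟨Z', rfl⟩, rfl⟩ := hz
  exact ⟨X * o * Y', by simp [mul_add, add_mul, mul_assoc, h.r]⟩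

theorem Pe.cp_d2 (h : Pe a b e o f) (hx : Cp e o f w) (hy : D2 e f y) : w * y = 0 ∧ y * w = 0 := by
  obtain ⟨_, _, ⟨X, Y, rfl⟩, ⟨Z, rfl⟩, rfl⟩ := hx
  obtain ⟨Z', rfl⟩ := hy
  simp [mul_add, add_mul, mul_assoc, h.r]

theorem Cp.add (hx : Cp e o f w) (hz : Cp e o f w') : Cp e o f (w + w') := by
  obtain ⟨x, y, h1, h2, rfl⟩ := hx
  obtain ⟨x', y', h1', h2', rfl⟩ := hz
  exact ⟨x + x', y + y', h1.add h1', h2.add h2', by abel⟩

theorem Pe.d12 (h : Pe a b e o f) (hx : D1 e o f x) (hy : D2 e f x) : x = 0 := by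
  obtain ⟨X, Y, rfl⟩ := hx
  obtain ⟨h1, h2⟩ := h.d2_iff.1 hy
  rw [← h1, ← h2]
  simp [mul_add, add_mul, mul_assoc, h.r]

/-- an element of positive degree commuting with `b` vanishes -/
theorem Pe.cp_zero (h : Pe a b e o f) (hw : Cp e o f w) (hb : w * b = b * w) : w = 0 := by
  obtain ⟨h1, h2, -⟩ := h.cp_iff.1 hw
  have h3 : w * f = 0 := by rw [← h.ba, ← mul_assoc, hb, mul_assoc, h2, mul_zero]
  have h4 : e * w = 0 := by rw [← h.ab, mul_assoc, ← hb, ← mul_assoc, h1, zero_mul]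
  obtain ⟨_, _, ⟨X, Y, rfl⟩, ⟨Z, rfl⟩, rfl⟩ := hw
  have h5 := congrArg (o * ·) h3
  have h6 := congrArg (· * o) h4
  have h7 := congrArg (e * ·) h3
  simp only [mul_add, add_mul, mul_assoc, h.r, mul_zero, zero_mul, add_zero, zero_add] at h5 h6 h7 ⊢
  rw [h5, h6, h7]; simp

/-- a second partner with the same middle idempotent is a conjugate -/
theorem Pe.partner (h : Pe a b e o f) (hc : c * a * c = c) (hs : c * a + a * c = e + f) :
    D2 e f (c * a - f) ∧ (1 + (c * a - f)) * b * (1 - (c * a - f)) = c := by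
  have h1 : c * a - f = e - a * c := by rw [sub_eq_sub_iff_add_eq_add, hs]
  refine ⟨h.d2_iff.2 ⟨by rw [h1]; simp [mul_sub, h.r], by simp [sub_mul, mul_assoc, h.r]⟩, ?_⟩
  have h2 : (1 + (c * a - f)) * b = c * e := by simp [add_mul, sub_mul, mul_assoc, h.r]
  rw [h2, h1]
  simp only [mul_sub, mul_one, mul_assoc, h.r]
  rw [← mul_assoc, hc]; abel

theorem Pe.nn (h : Pe a b e o f) : (1 + a) * (1 - b) * (1 + a) = o + a - b := by
  simp only [mul_add, add_mul, mul_sub, sub_mul, mul_one, one_mul, mul_assoc, h.r]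
  rw [h.oo]; abel

theorem Pe.nn' (h : Pe a b e o f) : (1 - a) * (1 + b) * (1 - a) = o - a + b := by
  simp only [mul_add, add_mul, mul_sub, sub_mul, mul_one, one_mul, mul_assoc, h.r]
  rw [h.oo]; abel

theorem Pe.n_sq (h : Pe a b e o f) : (o + a - b) * (o + a - b) = o - e - f := by
  simp only [mul_add, add_mul, mul_sub, sub_mul, h.r]; abel

theorem Pe.i_sq (h : Pe a b e o f) : (o - e - f) * (o - e - f) = 1 := by
  simp only [mul_sub, sub_mul, h.r]; rw [← h.sum]; abel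

theorem Pe.i_conj (h : Pe a b e o f) (hx : D1 e o f x) (hy : D2 e f y) :
    (o - e - f) * (1 + x + y) * (o - e - f) = 1 - x + y := by
  obtain ⟨X, Y, rfl⟩ := hx
  obtain ⟨Z, rfl⟩ := hy
  simp only [mul_add, add_mul, mul_sub, sub_mul, mul_one, mul_assoc, h.r, mul_zero, zero_mul]
  rw [← h.sum]; abel

/-- conjugation by the element interchanging the two root groups -/
theorem Pe.n_conj (h : Pe a b e o f) (hx : D1 f o e x) (hy : D2 f e y) :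
    (o + a - b) * (1 + x + y) * (o - a + b) = 1 + (a * x - x * a) + -(a * y * a) ∧ D1 e o f (a * x - x * a) ∧
      D2 e f (-(a * y * a)) := by
  obtain ⟨X, Y, rfl⟩ := hx
  obtain ⟨Z, rfl⟩ := hy
  refine ⟨?_, ⟨a * X, -(Y * a), ?_⟩, ⟨-(a * Z * a), ?_⟩⟩
  · simp only [mul_add, add_mul, mul_sub, sub_mul, mul_one, mul_assoc, h.r, mul_zero]
    rw [← h.sum]; abel
  · simp [mul_add, add_mul, mul_assoc, h.r, sub_eq_add_neg]
  · simp [mul_assoc, h.r]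

theorem Pe.inv_mul (h : Pe a b e o f) (hx : D1 e o f x) (hy : D2 e f y) :
    (1 + x + y) * (1 - x + (x * x - y)) = 1 := by
  obtain ⟨X, Y, rfl⟩ := hx
  obtain ⟨Z, rfl⟩ := hy
  simp only [mul_add, add_mul, mul_sub, sub_mul, mul_one, one_mul, mul_assoc, h.r, mul_zero]
  abel

end H98.Fl
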