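import Cfsg.Agent.H70.Quad7
import Cfsg.Agent.H98.FlR

/-! Root elements over a prime field: the group `Ug`, its transitivity on partners. -/

namespace H98.Fl

open Cfsg H70 LinearMap

/-- the general linear group over the prime field -/
abbrev GLp (p : ℕ) (M : Type*) [AddCommGroup M] [Module (ZMod p) M] := LinearMap.GeneralLinearGroup (ZMod p) M

/-- the endomorphism ring over the prime field -/
abbrev Ep (p : ℕ) (M : Type*) [AddCommGroup M] [Module (ZMod p) M] := Module.End (ZMod p) M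

variable {p : ℕ} [Fact p.Prime] {M : Type*} [AddCommGroup M] [Module (ZMod p) M]


variable {G : Subgroup (GLp p M)} {a b c e o f w x y z κ ξ : Ep p M} {g u v : GLp p M}

theorem nat_ne_zero {n : ℕ} (h0 : 0 < n) (hn : n < p) : (n : ZMod p) ≠ 0 := fun h =>
  absurd (Nat.le_of_dvd h0 ((ZMod.natCast_eq_zero_iff n p).1 h)) (by omega)

theorem two_ne (hp : 5 ≤ p) : (2 : ZMod p) ≠ 0 := by exact_mod_cast nat_ne_zero (p := p) (n := 2) (by omega) (by omega)

theorem bigField (hp : 5 ≤ p) : BigField (ZMod p) := by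
  refine ⟨two_ne hp, 2, two_ne hp, fun h => ?_⟩
  have : ((3 : ℕ) : ZMod p) ≠ 0 := nat_ne_zero (by omega) (by omega)
  exact this (by push_cast; linear_combination h)

theorem half_zero (hp : 5 ≤ p) {V : Type*} [AddCommGroup V] [Module (ZMod p) V] {x : V} (h : x + x = 0) : x = 0 :=
  (smul_eq_zero.1 (by rw [two_smul]; exact h)).resolve_left (two_ne hp)

theorem half_mem (hp : 5 ≤ p) {V : Type*} [AddCommGroup V] [Module (ZMod p) V] {S : Submodule (ZMod p) V} {x : V}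
    (h : x + x ∈ S) : x ∈ S := by
  have := S.smul_mem (2 : ZMod p)⁻¹ h
  rwa [← two_smul (ZMod p), smul_smul, inv_mul_cancel₀ (two_ne hp), one_smul] at this

theorem qe_of (h : x * x = 0) (hx : 1 + x ∈ gS G) : QE G x := by
  have key : ∀ n : ℕ, 1 + n • x ∈ gS G := by
    intro n
    induction n with
    | zero => simp
    | succ n ih =>
      have := mul_mem ih hx
      convert this using 1
      simp [mul_add, add_mul, h, succ_nsmul, mul_assoc]; abel
  refine ⟨h, fun c => ?_⟩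
  rw [← ZMod.natCast_zmod_val c, Nat.cast_smul_eq_nsmul]
  exact key _

theorem qe_of' (hg : g ∈ G) (h : ((g : Ep p M) - 1) * ((g : Ep p M) - 1) = 0) : QE G ((g : Ep p M) - 1) :=
  qe_of h (by simpa using coe_mem_gS.2 hg)

theorem Pe.mem_root (h : Pe a b e o f) (hy : D2 e f y) (hG : 1 + y ∈ gS G) : y ∈ rootSp G a := by
  obtain ⟨h1, h2⟩ := h.d2_iff.1 hy
  refine (qe_of (h.cp_d2 (hy.cp (o := o)) hy).1 hG).mem_rootSp h.aa (fun m hm => ?_) ?_
  · rw [mem_ker, ← h2, ← h.ba, Module.End.mul_apply, Module.End.mul_apply, mem_ker.1 hm]; simp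
  · rintro _ ⟨m, rfl⟩
    exact ⟨b (y m), by rw [← Module.End.mul_apply, ← Module.End.mul_apply, h.ab, h1]⟩

theorem Pe.d2_root (h : Pe a b e o f) (hκ : κ ∈ rootSp G a) : D2 e f κ := by
  refine h.d2_iff.2 ⟨LinearMap.ext fun m => ?_, LinearMap.ext fun m => ?_⟩
  · obtain ⟨m', hm'⟩ := hκ.2.2.2 ⟨m, rfl⟩
    rw [Module.End.mul_apply, ← hm', ← Module.End.mul_apply, h.r1.1.2.2.2.2.1]
  · have : m - f m ∈ ker a := by
      rw [mem_ker, map_sub, ← Module.End.mul_apply, h.r1.2.1.2.2.2.2.2.2.2.1, sub_self]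
    have := mem_ker.1 (hκ.2.1 this)
    rw [map_sub, sub_eq_zero] at this
    exact this.symm

theorem Pe.core_iff (h : Pe a b e o f) : w ∈ coreSp a ↔ Cp e o f w := by
  rw [h.cp_iff]
  constructor
  · rintro ⟨h1, h2, h3⟩
    refine ⟨LinearMap.ext fun m => h1 m, LinearMap.ext fun m => h3 _ ⟨m, rfl⟩, LinearMap.ext fun m => ?_⟩
    obtain ⟨m', hm'⟩ := h2 (o m) (by rw [mem_ker, ← Module.End.mul_apply]; simp [h.r])
    rw [Module.End.mul_apply, Module.End.mul_apply, ← hm', ← Module.End.mul_apply]; simp [h.r]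
  · rintro ⟨h1, h2, h3⟩
    refine ⟨fun m => LinearMap.congr_fun h1 m, fun m hm => ⟨b (w m), ?_⟩, ?_⟩
    · obtain ⟨_, _, ⟨X, Y, rfl⟩, ⟨Z, rfl⟩, rfl⟩ := h.cp_iff.2 ⟨h1, h2, h3⟩
      have hf : f m = 0 := by rw [← h.ba, Module.End.mul_apply, mem_ker.1 hm, map_zero]
      have : ∀ m, a (b (e m)) = e m := fun m => by
        rw [← Module.End.mul_apply, ← Module.End.mul_apply]; simp [h.r]
      simp [hf, this]
    · rintro _ ⟨m, rfl⟩
      exact LinearMap.congr_fun h2 m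

theorem core_mul {w w' : Ep p M} (hw : w ∈ coreSp a) (hw' : w' ∈ coreSp a) : w * w' ∈ coreSp a :=
  coreSp_mul a (Submodule.mul_mem_mul hw hw')

theorem core_cube {w w' w'' : Ep p M} (hw : w ∈ coreSp a) (hw' : w' ∈ coreSp a) (hw'' : w'' ∈ coreSp a) :
    w * w' * w'' = 0 := LinearMap.ext fun m => hw.2.2 _ (hw'.2.1 _ (hw''.1 m))

/-- the elements of `G` acting trivially on the three factors of the flag of `a` -/
def Ug (G : Subgroup (GLp p M)) (a : Ep p M) : Subgroup (GLp p M) where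
  carrier := {g | g ∈ G ∧ (g : Ep p M) - 1 ∈ coreSp a}
  one_mem' := ⟨G.one_mem, by simp⟩
  mul_mem' := by
    rintro g h ⟨h1, h2⟩ ⟨h3, h4⟩
    refine ⟨G.mul_mem h1 h3, ?_⟩
    have := add_mem (add_mem h2 h4) (core_mul h2 h4)
    convert this using 1
    simp only [Units.val_mul]; noncomm_ring
  inv_mem' := by
    rintro g ⟨h1, h2⟩
    refine ⟨G.inv_mem h1, ?_⟩
    have h3 := core_cube h2 h2 h2
    have := sub_mem (core_mul h2 h2) h2
    convert this using 1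
    have e : (g : Ep p M) * (1 + (((g : Ep p M) - 1) * ((g : Ep p M) - 1) - ((g : Ep p M) - 1))) = 1 := by
      conv_rhs => rw [← add_zero (1 : Ep p M), ← h3]
      noncomm_ring
    rw [Units.inv_eq_of_mul_eq_one_right e]; abel

theorem Ug_le : Ug G a ≤ G := fun _ h => h.1

theorem Pe.mem_Ug (h : Pe a b e o f) : g ∈ Ug G a ↔ g ∈ G ∧ Cp e o f ((g : Ep p M) - 1) :=
  and_congr_right fun _ => h.core_iff

theorem Pe.Ug_eq {a' b' : Ep p M} (h : Pe a b e o f) (h' : Pe a' b' e o f) : Ug G a = Ug G a' :=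
  Subgroup.ext fun _ => h.mem_Ug.trans h'.mem_Ug.symm

theorem pow_p_eq_one (h : ((g : Ep p M) - 1) ^ p = 0) : g ^ p = 1 := by
  rcases subsingleton_or_nontrivial (Ep p M) with _ | _
  · exact Units.ext (Subsingleton.elim _ _)
  have : CharP (Ep p M) p := charP_of_injective_algebraMap (algebraMap (ZMod p) (Ep p M)).injective p
  rw [sub_pow_char_of_commute _ (Commute.one_right _), one_pow, sub_eq_zero] at h
  exact Units.ext (by simpa using h)

theorem Ug_pow (hp : 5 ≤ p) (hu : u ∈ Ug G a) : u ^ p = 1 := by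
  refine pow_p_eq_one (pow_eq_zero_of_le (m := 3) (by omega) ?_)
  rw [pow_succ, pow_two]; exact core_cube hu.2 hu.2 hu.2

theorem Ug_pgroup (hp : 5 ≤ p) : IsPGroup p (Ug G a) := fun u => ⟨1, Subtype.ext (by simpa using Ug_pow hp u.2)⟩

/-- square roots in a group of exponent `p` inverted by an involution -/
theorem exists_sqrt {Γ : Type*} [Group Γ] (hp : 5 ≤ p) {v : Γ} (hv : v ^ p = 1) :
    ∃ n : ℕ, v ^ n * v ^ n = v := by
  obtain ⟨n, hn⟩ := (Fact.out : p.Prime).odd_of_ne_two (by omega)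
  exact ⟨n + 1, by rw [← pow_add, show n + 1 + (n + 1) = p + 1 by omega, pow_succ, hv, one_mul]⟩

theorem Pe.exists_n (h : Pe a b e o f) (ha : QE G a) (hb : QE G b) :
    ∃ n : GLp p M, n ∈ G ∧ (n : Ep p M) = o + a - b ∧ ((n⁻¹ : GLp p M) : Ep p M) = o - a + b := by
  refine ⟨qu a ha.sq * (qu b hb.sq)⁻¹ * qu a ha.sq, G.mul_mem (G.mul_mem ha.qu_mem' (G.inv_mem hb.qu_mem')) ha.qu_mem',
    by simpa using h.nn, ?_⟩
  simpa [mul_assoc] using h.nn'

theorem Pe.exists_i (h : Pe a b e o f) (ha : QE G a) (hb : QE G b) :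
    ∃ i : GLp p M, i ∈ G ∧ (i : Ep p M) = o - e - f ∧ i⁻¹ = i := by
  obtain ⟨n, h1, h2, -⟩ := h.exists_n ha hb
  have h3 : ((n * n : GLp p M) : Ep p M) = o - e - f := by rw [Units.val_mul, h2, h.n_sq]
  exact ⟨n * n, G.mul_mem h1 h1, h3, inv_eq_of_mul_eq_one_right (Units.ext (by rw [Units.val_mul, h3, h.i_sq]; rfl))⟩

theorem Pe.cj (h : Pe a b e o f) (g : GLp p M) : Pe (cj g a) (cj g b) (cj g e) (cj g o) (cj g f) :=
  ⟨by rw [← map_mul, h.aa, map_zero], by rw [← map_mul, h.bb, map_zero], by rw [← map_mul, ← map_mul, h.aba],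
    by rw [← map_mul, ← map_mul, h.bab], by rw [← map_mul, h.ab], by rw [← map_mul, h.ba], by rw [h.oo]; simp⟩

theorem Pe.Ug_fix (h : Pe a b e o f) (hu : u ∈ Ug G a) (hy : D2 e f y) :
    (u : Ep p M) * y = y ∧ y * (u : Ep p M) = y := by
  obtain ⟨h1, h2⟩ := h.cp_d2 (h.mem_Ug.1 hu).2 hy
  rw [sub_mul, one_mul, sub_eq_zero] at h1
  rw [mul_sub, mul_one, sub_eq_zero] at h2
  exact ⟨h1, h2⟩

theorem Pe.cj_Ug (h : Pe a b e o f) (hu : u ∈ Ug G a) (hy : D2 e f y) : H70.cj u y = y :=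
  cj_eq_self_iff.2 (by rw [(h.Ug_fix hu hy).1, (h.Ug_fix hu hy).2])

theorem Pe.Ug_reg (h : Pe a b e o f) (hu : u ∈ Ug G a) (hb : H70.cj u b = b) : u = 1 := by
  have := h.cp_zero (h.mem_Ug.1 hu).2 (by rw [sub_mul, mul_sub, cj_eq_self_iff.1 hb]; simp)
  exact Units.ext (sub_eq_zero.1 this)

variable [Finite M]

theorem opp_iff_ne (hp : 5 ≤ p) (ha : QD G a) (hξ : QD G ξ) : Opp a ξ ↔ a * ξ * a ≠ 0 := by
  refine ⟨fun h e => h.not_nilpotent ha.qe.sq ha.ne ⟨2, ?_⟩, fun h => by_contra fun hn => h (nopp_two (bigField hp) ha hξ hn).1⟩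
  rw [gam_sq ha.qe.sq hξ.qe.sq, e, mul_assoc ξ, mul_assoc ξ, e]; simp

theorem r2 (hp : 5 ≤ p) (ha : QD G a) (hξ : QD G ξ) : a * ξ * a ∈ rootSp G a := by
  by_cases h : Opp a ξ
  · obtain ⟨ε, δ, F⟩ := exists_fit ha.qe.sq hξ.qe.sq
    have hε : ε ≠ 0 := fun e => h.not_nilpotent ha.qe.sq ha.ne (by subst e; exact F.nilpotent_of_eq_zero)
    have := F.mem_rootSp (bigField hp) ha.qe hξ.qe (Algebra.self_mem_adjoin_singleton _ _)
    rwa [mul_assoc, F.eps_mul (bigField hp) ha hξ.qe hε, gam_left ha.qe.sq] at this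
  · rw [(nopp_two (bigField hp) ha hξ h).1]; exact zero_mem _

theorem r2' (hp : 5 ≤ p) (ha : QD G a) (hb : QD G b) (hκ : κ ∈ rootSp G b) : a * κ * a ∈ rootSp G a := by
  rcases eq_or_ne κ 0 with rfl | h0
  · simp
  · exact r2 hp ha (hb.of_mem hκ h0).1

theorem Pe.congr (h : Pe a b e o f) (ha : QD G a) (hb : QD G b) (hκ : κ ∈ rootSp G a) (hc : c ∈ rootSp G b)
    (h0 : κ ≠ 0) (h1 : κ * c * κ = κ) (h2 : c * κ * c = c) : Pe κ c e o f := by
  have key : ∀ {a b e o f κ c : Ep p M}, Pe a b e o f → QD G a → κ ∈ rootSp G a → c ∈ rootSp G b → κ ≠ 0 →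
      κ * c * κ = κ → c * κ * c = c → κ * c = e := by
    intro a b e o f κ c h ha hκ hc h0 h1 h2
    have h3 := pe_of (rootSp_mul hκ hκ) (rootSp_mul hc hc) h1 h2
    have h4 := (h3.d2_iff.1 (h3.d2_root (G := G) (by rw [ha.rootSp_eq hκ h0]; exact ha.qe.self_mem))).1
    have h5 := (h.symm.d2_iff.1 (h.symm.d2_root hc)).2
    rw [← h5, ← h.ab, ← mul_assoc, ← mul_assoc, h4]
  have hc0 : c ≠ 0 := fun e => h0 (by rw [← h1, e]; simp)
  exact ⟨rootSp_mul hκ hκ, rootSp_mul hc hc, h1, h2, key h ha hκ hc h0 h1 h2, key h.symm hb hc hκ hc0 h2 h1, h.oo⟩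

theorem Pe.partner' (h : Pe a b e o f) (hp : 5 ≤ p) (ha : QD G a) (hb : QD G b) (hκ : κ ∈ rootSp G a) (h0 : κ ≠ 0) :
    ∃ c ∈ rootSp G b, Pe κ c e o f := by
  obtain ⟨c, h1, -, h2, h3⟩ := ((opp_congr ha hb hκ h0 hb.qe.self_mem hb.ne).2
    (opp_of_normalized h.aba h.bab)).exists_partner (bigField hp) (ha.of_mem hκ h0).1 hb
  exact ⟨c, h1, h.congr ha hb hκ h1 h0 h2 h3⟩

/-- `Ug` is transitive on the partners of `a` -/
theorem Pe.c1 (h : Pe a b e o f) (hp : 5 ≤ p) (ha : QD G a) (hb : QD G b) (hc : QD G c) (h1 : a * c * a = a)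
    (h2 : c * a * c = c) : ∃ u ∈ Ug G a, H70.cj u b = c := by
  have h' := pe_of ha.qe.sq hc.qe.sq h1 h2
  obtain ⟨i, hi, ei, ii⟩ := h.exists_i ha.qe hb.qe
  obtain ⟨j, hj, ej, jj⟩ := h'.exists_i ha.qe hc.qe
  have hv : i * j ∈ Ug G a := by
    refine h.mem_Ug.2 ⟨G.mul_mem hi hj, h.cp_iff.2 ?_⟩
    have h3 : ∀ w, a * (c * (a * w)) = a * w := fun w => by rw [← mul_assoc, ← mul_assoc, h1]
    have h4 : a * (c * a) = a := by rw [← mul_assoc, h1]
    rw [Units.val_mul, ei, ej]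
    refine ⟨?_, ?_, ?_⟩ <;>
      simp only [mul_sub, sub_mul, mul_assoc, h.r, h4, mul_one, one_mul, mul_zero, zero_mul] <;> abel
  obtain ⟨n, hn⟩ := exists_sqrt hp (Ug_pow hp hv)
  set u := (i * j) ^ n with hu
  have huU : u ∈ Ug G a := pow_mem hv n
  have e1 : u * j * u⁻¹ = i := by
    have e2 : i * u * i⁻¹ = u⁻¹ := by
      rw [hu, ← conj_pow, ← inv_pow]; congr 1; rw [mul_inv_rev, ii, jj, ← mul_assoc]; nth_rw 1 [← ii]; group
    have e3 : j = i⁻¹ * (u * u) := by rw [hn]; group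
    calc u * j * u⁻¹ = u * (i * u * i⁻¹) * i := by rw [e3, ii]; nth_rw 3 [← ii]; group
      _ = i := by rw [e2]; group
  have hc' := hc.cj huU.1
  have h3 := h'.cj u
  rw [h.cj_Ug huU h.d2_a] at h3
  set c' := H70.cj u c with hc''
  have e4 : c' * a + a * c' = e + f := by
    have := congrArg (fun g : GLp p M => (g : Ep p M)) e1
    simp only [← cj_coe, ej, ei, map_sub, ← h3.ab, ← h3.ba, map_one, h.oo] at this
    apply (sub_eq_zero.1 (half_zero hp ?_))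
    rw [← sub_eq_zero] at this
    rw [← neg_eq_zero, ← this]; abel
  obtain ⟨hσ, eσ⟩ := h.partner h3.bab e4
  set σ := c' * a - f
  have key : ∀ t : ZMod p, b * σ * b * σ * b + t • (b * σ * b + b * σ * b) + (t * t) • b ∈ rootSp G b := fun t => by
    have := neg_mem (r2 hp hb (hc'.cj (ha.qe.qu_mem t)))
    convert this using 1
    rw [cj_qu, ← eσ]
    obtain ⟨Z, hZ⟩ := hσ
    rw [hZ]
    simp only [mul_add, add_mul, mul_sub, sub_mul, mul_one, one_mul, mul_assoc, h.r, mul_zero, smul_mul_assoc,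
      mul_smul_comm, smul_zero, zero_mul]
    module
  have h5 : b * σ * b ∈ rootSp G b := by
    refine half_mem hp (half_mem hp ?_)
    convert sub_mem (key 1) (key (-1)) using 1
    module
  have h6 : σ ∈ rootSp G a := by
    convert r2' hp ha hb h5 using 1
    obtain ⟨Z, hZ⟩ := hσ
    rw [hZ]; simp [mul_assoc, h.r]
  refine ⟨u⁻¹ * qu σ (rootSp_mul h6 h6), mul_mem (inv_mem huU) (h.mem_Ug.2 ⟨(rootSp_qe h6).qu_mem', ?_⟩), ?_⟩
  · simpa using hσ.cp
  · rw [← cj_cj, cj_qu, eσ, hc'', cj_inv_cj]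

/-- every root element opposite to `a` is conjugate under `Ug` into the root space of `b` -/
theorem Pe.c1' (h : Pe a b e o f) (hp : 5 ≤ p) (ha : QD G a) (hb : QD G b) (hξ : QD G ξ) (h0 : a * ξ * a ≠ 0) :
    ∃ u ∈ Ug G a, ∃ b' ∈ rootSp G b, ξ = H70.cj u b' := by
  obtain ⟨c, h1, hc0, h2, h3⟩ := ((opp_iff_ne hp ha hξ).2 h0).exists_partner (bigField hp) ha hξ
  obtain ⟨u, hu, e1⟩ := h.c1 hp ha hb (hξ.of_mem h1 hc0).1 h2 h3
  refine ⟨u, hu, H70.cj u⁻¹ ξ, (mem_rootSp_cj hu.1).1 ?_, by simp⟩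
  rw [e1, hξ.rootSp_eq h1 hc0]; exact hξ.qe.self_mem

end H98.Fl
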