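import Cfsg.Agent.H98.FlQ1

/-! Degree one parts of `Ug`, the cubic map, interpolation from the big cell. -/

namespace H98.Fl

open Cfsg H70 LinearMap

variable {p : ℕ} [Fact p.Prime] {M : Type*} [AddCommGroup M] [Module (ZMod p) M]
variable {G : Subgroup (GLp p M)} {a b c e o f w x y z κ ξ η δ : Ep p M} {g u v : GLp p M}

/-- degree one parts -/
def Ub (G : Subgroup (GLp p M)) (e o f x : Ep p M) : Prop := D1 e o f x ∧ ∃ y, D2 e f y ∧ 1 + x + y ∈ gS G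

theorem Pe.decomp (h : Pe a b e o f) (hu : u ∈ Ug G a) : ∃ x y, Ub G e o f x ∧ D2 e f y ∧ (u : Ep p M) = 1 + x + y ∧
    ((u⁻¹ : GLp p M) : Ep p M) = 1 - x + (x * x - y) := by
  obtain ⟨h1, x, y, hx, hy, e1⟩ := h.mem_Ug.1 hu
  have e2 : (u : Ep p M) = 1 + x + y := by rw [add_assoc, ← e1]; abel
  exact ⟨x, y, ⟨hx, y, hy, e2 ▸ coe_mem_gS.2 h1⟩, hy, e2,
    Units.inv_eq_of_mul_eq_one_right (by rw [e2]; exact h.inv_mul hx hy)⟩

theorem Pe.unit (h : Pe a b e o f) (hx : D1 e o f x) (hy : D2 e f y) (hG : 1 + x + y ∈ gS G) :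
    ∃ u ∈ Ug G a, (u : Ep p M) = 1 + x + y ∧ ((u⁻¹ : GLp p M) : Ep p M) = 1 - x + (x * x - y) := by
  obtain ⟨u, h1, e2⟩ := mem_gS.1 hG
  exact ⟨u, h.mem_Ug.2 ⟨h1, x, y, hx, hy, by rw [e2]; abel⟩, e2,
    Units.inv_eq_of_mul_eq_one_right (by rw [e2]; exact h.inv_mul hx hy)⟩

theorem Pe.ub_add (h : Pe a b e o f) (hx : Ub G e o f x) (hz : Ub G e o f z) : Ub G e o f (x + z) := by
  obtain ⟨h1, y, h2, h3⟩ := hx
  obtain ⟨k1, y', k2, k3⟩ := hz
  refine ⟨h1.add k1, y + y' + x * z, (h2.add k2).add (h.d1_mul h1 k1), ?_⟩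
  convert mul_mem h3 k3 using 1
  simp only [mul_add, add_mul, mul_one, one_mul, h.cp_d2 h1.cp k2, h.cp_d2 k1.cp h2, h.cp_d2 (h2.cp (o := o)) k2]
  abel

theorem Pe.ub_neg (h : Pe a b e o f) (hx : Ub G e o f x) : Ub G e o f (-x) := by
  obtain ⟨h1, y, h2, h3⟩ := hx
  obtain ⟨u, hu, -, e2⟩ := h.unit h1 h2 h3
  exact ⟨h1.neg, _, (h.d1_mul h1 h1).sub h2, by
    rw [← sub_eq_add_neg, ← e2]; exact coe_mem_gS.2 (G.inv_mem hu.1)⟩

theorem Pe.ub_diff (h : Pe a b e o f) (hp : 5 ≤ p) (ha : QE G a) (hb : QE G b) (h1 : D1 e o f x) (h2 : D2 e f y)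
    (h3 : 1 + x + y ∈ gS G) (hc : D2 e f c) (hcc : c + c = x * x) : y - c ∈ rootSp G a := by
  obtain ⟨i, hi, ei, -⟩ := h.exists_i ha hb
  have h4 : 1 - x + y ∈ gS G := by
    rw [← h.i_conj h1 h2, ← ei]
    exact mul_mem (mul_mem (coe_mem_gS.2 hi) h3) (coe_mem_gS.2 hi)
  refine half_mem hp (h.mem_root ((h2.sub hc).add (h2.sub hc)) ?_)
  convert mul_mem h3 h4 using 1
  simp only [mul_add, add_mul, mul_sub, mul_one, one_mul, h.cp_d2 h1.cp h2, h.cp_d2 (h2.cp (o := o)) h2, ← hcc]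
  abel

theorem Pe.ub_half (h : Pe a b e o f) (hp : 5 ≤ p) (ha : QE G a) (hb : QE G b) (hx : Ub G e o f x) (hc : D2 e f c)
    (hcc : c + c = x * x) (hκ : κ ∈ rootSp G a) :
    ∃ u ∈ Ug G a, (u : Ep p M) = 1 + x + (c + κ) ∧ ((u⁻¹ : GLp p M) : Ep p M) = 1 - x + (c - κ) := by
  obtain ⟨h1, y, h2, h3⟩ := hx
  have h5 := h.ub_diff hp ha hb h1 h2 h3 hc hcc
  have h6 := sub_mem hκ h5
  have h7 := h.d2_root h6
  obtain ⟨u, hu, e1, e2⟩ := h.unit (G := G) h1 (hc.add (h.d2_root hκ)) (by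
    convert mul_mem h3 ((rootSp_qe h6).mem 1) using 1
    simp only [one_smul, mul_add, add_mul, mul_one, one_mul, h.cp_d2 h1.cp h7, h.cp_d2 (h2.cp (o := o)) h7]
    abel)
  exact ⟨u, hu, e1, by rw [e2, ← hcc]; abel⟩

theorem Pe.exists_half (h : Pe a b e o f) (hp : 5 ≤ p) (hx : D1 e o f x) : ∃ c, D2 e f c ∧ c + c = x * x := by
  obtain ⟨Z, hZ⟩ := h.d1_mul hx hx
  refine ⟨(2 : ZMod p)⁻¹ • (x * x), ⟨(2 : ZMod p)⁻¹ • Z, by simp [hZ]⟩, ?_⟩
  rw [← two_smul (ZMod p), smul_smul, mul_inv_cancel₀ (two_ne hp), one_smul]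

theorem Pe.ub_n (h : Pe a b e o f) (ha : QE G a) (hb : QE G b) (hx : Ub G f o e x) :
    Ub G e o f (a * x - x * a) := by
  obtain ⟨h1, y, h2, h3⟩ := hx
  obtain ⟨n, hn, e1, e2⟩ := h.exists_n ha hb
  obtain ⟨k1, k2, k3⟩ := h.n_conj h1 h2
  refine ⟨k2, _, k3, ?_⟩
  rw [← k1, ← e1, ← e2]
  exact mul_mem (mul_mem (coe_mem_gS.2 hn) h3) (coe_mem_gS.2 (G.inv_mem hn))

variable [Finite M]

theorem Pe.gauss0 (h : Pe a b e o f) (hp : 5 ≤ p) (ha : QD G a) (hb : QD G b) {y' : Ep p M} (hx : D1 e o f x)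
    (hy : D2 e f y) (hy' : D2 e f y') (hu : u ∈ G) (e1 : (u : Ep p M) = 1 + x + y)
    (e2 : ((u⁻¹ : GLp p M) : Ep p M) = 1 - x + y') (hne : y * b * y' ≠ 0) : Ub G e o f (y * b * x - x * b * y') := by
  obtain ⟨X, Y, rfl⟩ := hx
  obtain ⟨Z, rfl⟩ := hy
  obtain ⟨Z', rfl⟩ := hy'
  obtain ⟨v, hv, κ, hκ, e3⟩ := h.symm.c1' hp hb ha (hb.cj hu) (fun e3 => hne (by
    have := congrArg (fun t => a * t * a) e3
    simp only [cj_apply, e1, e2, mul_add, add_mul, mul_sub, sub_mul, mul_one, one_mul, mul_assoc, h.r, mul_zero,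
      zero_mul, add_zero, zero_add, sub_zero] at this ⊢
    exact this))
  have hκ0 : κ ≠ 0 := fun e4 => (hb.cj hu).ne (by rw [e3, e4, map_zero])
  obtain ⟨c, hc, h'⟩ := h.partner' hp ha hb hκ hκ0
  obtain ⟨x', y', hx', ⟨W, rfl⟩, e4, e5⟩ := h.symm.decomp hv
  have := h'.ub_n (rootSp_qe hκ) (rootSp_qe hc) hx'
  convert this using 1
  obtain ⟨⟨X', Y', rfl⟩, -⟩ := hx'
  obtain ⟨K, rfl⟩ := h.d2_root hκ
  have k1 := congrArg (fun t => e * t * o) e3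
  have k2 := congrArg (fun t => o * t * f) e3
  simp only [cj_apply, e1, e2, e4, e5, mul_add, add_mul, mul_sub, sub_mul, mul_one, one_mul, mul_assoc, h.r, mul_zero,
    zero_mul, add_zero, zero_add, sub_zero, zero_sub, neg_inj] at k1 k2 ⊢
  rw [k1, k2]

/-- the cubic map preserves the degree one parts -/
theorem Pe.gauss (h : Pe a b e o f) (hp : 5 ≤ p) (ha : QD G a) (hb : QD G b) (hx : Ub G e o f x) (hc : D2 e f c)
    (hcc : c + c = x * x) : Ub G e o f (c * b * x - x * b * c) := by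
  by_cases h0 : c * b * c = 0
  · obtain ⟨u, hu, e1, e2⟩ := h.ub_half hp ha.qe hb.qe hx hc hcc ha.qe.self_mem
    obtain ⟨k1, k2⟩ := h.d2_iff.1 hc
    have := h.gauss0 hp ha hb hx.1 (hc.add h.d2_a) (hc.sub h.d2_a) hu.1 e1 e2 (fun e3 => ha.ne (by
      rw [add_mul, add_mul, mul_sub, mul_sub, h0, h.aba, mul_assoc c, h.ba, h.ab, k1, k2] at e3
      rw [← neg_eq_zero, ← e3]; abel))
    convert h.ub_add this (h.ub_neg hx) using 1
    obtain ⟨⟨X, Y, rfl⟩, -⟩ := hx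
    simp only [mul_add, add_mul, mul_sub, mul_assoc, h.r, mul_zero, zero_mul]
    abel
  · obtain ⟨u, hu, e1, e2⟩ := h.ub_half hp ha.qe hb.qe hx hc hcc (zero_mem _)
    rw [add_zero] at e1
    rw [sub_zero] at e2
    exact h.gauss0 hp ha hb hx.1 hc hc hu.1 e1 e2 h0

omit [Finite M] in
theorem three_good (hp : 5 ≤ p) {V : Type*} [AddCommGroup V] [Module (ZMod p) V] {x : V} (y z : V) (hx : x ≠ 0) :
    ∃ r s t : ZMod p, r ≠ s ∧ r ≠ t ∧ s ≠ t ∧ x + r • y + (r * r) • z ≠ 0 ∧ x + s • y + (s * s) • z ≠ 0 ∧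
      x + t • y + (t * t) • z ≠ 0 := by
  classical
  have h1 := Finset.card_filter_add_card_filter_not (s := (Finset.univ : Finset (ZMod p)))
    (fun t => x + t • y + (t * t) • z = 0)
  rw [Finset.card_univ, ZMod.card] at h1
  have h2 : ¬ 2 < (Finset.univ.filter fun t : ZMod p => x + t • y + (t * t) • z = 0).card := fun h2 => by
    obtain ⟨r, s, t, k1, k2, k3, k4, k5, k6⟩ := Finset.two_lt_card_iff.1 h2
    simp only [Finset.mem_filter, Finset.mem_univ, true_and] at k1 k2 k3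
    exact hx (eq_zero_of_three k4 k5 k6 k1 k2 k3)
  obtain ⟨r, s, t, k1, k2, k3, k4, k5, k6⟩ := Finset.two_lt_card_iff.1
    (show 2 < (Finset.univ.filter fun t : ZMod p => ¬ x + t • y + (t * t) • z = 0).card by omega)
  simp only [Finset.mem_filter, Finset.mem_univ, true_and] at k1 k2 k3
  exact ⟨r, s, t, k4, k5, k6, k1, k2, k3⟩

omit [Finite M] in
theorem cj_qu_smul (hη : η * η = 0) (t : ZMod p) (x : Ep p M) :
    cj (qu (t • η) (smul_sq_zero hη t)) x = x + t • (η * x - x * η) + (t * t) • (-(η * x * η)) := by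
  simp only [cj_qu, mul_add, add_mul, mul_sub, mul_one, one_mul, smul_mul_assoc, mul_smul_comm]
  module

omit [Finite M] in
theorem cj_qu_smul_inv (hη : η * η = 0) (t : ZMod p) (x : Ep p M) :
    cj (qu (t • η) (smul_sq_zero hη t))⁻¹ x = x + t • (x * η - η * x) + (t * t) • (-(η * x * η)) := by
  simp only [cj_apply, qu_inv_val, inv_inv, qu_val, mul_add, sub_mul, mul_one, one_mul, smul_mul_assoc,
    mul_smul_comm]
  module

/-- interpolation from the big cell -/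
theorem interp (hp : 5 ≤ p) (hgen : G ≤ rootTop G) (h0 : a * b * a ≠ 0) {Z : Type*} [AddCommGroup Z]
    [Module (ZMod p) Z] (F : GLp p M → Z)
    (hF : ∀ (k h : GLp p M) (η : Ep p M) (hη : η * η = 0), ∃ z0 z1 z2 : Z, ∀ t : ZMod p,
      F (k * qu (t • η) (smul_sq_zero hη t) * h) = z0 + t • z1 + (t * t) • z2)
    (hc : ∀ h ∈ G, a * cj h b * a ≠ 0 → F h = 0) : ∀ h ∈ G, F h = 0 := by
  have key : ∀ g ∈ rootTop G, ∀ k, (∀ h ∈ G, a * cj h b * a ≠ 0 → F (k * h) = 0) →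
      ∀ h ∈ G, a * cj h b * a ≠ 0 → F (k * g * h) = 0 := by
    intro g hg
    rw [rootTop, iSup_subtype'] at hg
    refine Subgroup.iSup_induction _ (C := fun g => ∀ k, (∀ h ∈ G, a * cj h b * a ≠ 0 → F (k * h) = 0) →
      ∀ h ∈ G, a * cj h b * a ≠ 0 → F (k * g * h) = 0) hg ?_ (by simp) ?_
    · rintro ⟨B, hB⟩ g hg k hk h hh hcell
      obtain ⟨α, -, rfl⟩ := mem_quadraticRootSubgroups.1 hB
      obtain ⟨η, hη, rfl⟩ := eq_qu_of_mem hg
      have hq := rootSp_qe hη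
      obtain ⟨z0, z1, z2, hz⟩ := hF k h η hq.sq
      have good : ∀ t : ZMod p, a * cj h b * a + t • (a * (η * cj h b - cj h b * η) * a) +
          (t * t) • (a * (-(η * cj h b * η)) * a) ≠ 0 →
          (z0 + z1 + z2) + (t - 1) • (z1 + z2 + z2) + ((t - 1) * (t - 1)) • z2 = 0 := fun t ht => by
        have := hk _ (G.mul_mem (hq.qu_mem t) hh) (by
          rw [← cj_cj, cj_qu_smul hq.sq]
          simpa only [mul_add, add_mul, smul_mul_assoc, mul_smul_comm] using ht)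
        rw [← mul_assoc, hz] at this
        rw [← this]; module
      obtain ⟨r, s, t, k1, k2, k3, k4, k5, k6⟩ := three_good hp _ _ hcell
      have := eq_zero_of_three (by simpa) (by simpa) (by simpa) (good r k4) (good s k5) (good t k6)
      have h1 := hz 1
      simp only [one_smul, mul_one] at h1
      rw [h1, this]
    · intro g g' h1 h2 k hk
      simpa only [mul_assoc] using h2 _ (h1 k hk)
  intro h hh
  simpa using key h (hgen hh) 1 (by simpa using hc) 1 G.one_mem (by simpa using h0)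

/-- one class of root groups generating `G` -/
structure SC (G : Subgroup (GLp p M)) (a : Ep p M) : Prop where
  qd : QD G a
  nu : NU G
  eq : qcomp G (rootGrp G a) = G

theorem SC.qrs (h : SC G a) : rootGrp G a ∈ quadraticRootSubgroups G := mem_quadraticRootSubgroups.2 ⟨a, h.qd, rfl⟩

theorem SC.gen (h : SC G a) : G ≤ rootTop G := h.eq.ge.trans (qcomp_le h.qrs)

theorem SC.mem (h : SC G a) (hp : 5 ≤ p) (hξ : QD G ξ) : rootGrp G ξ ∈ qcls G (rootGrp G a) := by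
  by_contra hn
  have h1 := qcomp_comm_of_not_mem (bigField hp) h.nu h.qrs (mem_quadraticRootSubgroups.2 ⟨ξ, hξ, rfl⟩) hn
  rw [h.eq] at h1
  obtain ⟨η, hη, ho⟩ := hξ.exists_opp (bigField hp) h.nu
  have h2 : ⁅rootGrp G η, rootGrp G ξ⁆ = ⊥ :=
    eq_bot_iff.2 (h1 ▸ Subgroup.commutator_mono rootGrp_le (le_qcomp (self_mem_qcls _)))
  exact ho.not_comm hξ.qe.sq hξ.ne (rootGrp_commutator_eq_bot_iff.1 h2 _ hη.qe.self_mem _ hξ.qe.self_mem).symm

theorem SC.of (h : SC G a) (hp : 5 ≤ p) (hξ : QD G ξ) : SC G ξ :=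
  ⟨hξ, h.nu, by rw [qcomp, qcls_eq (h.mem hp hξ)]; exact h.eq⟩

theorem SC.conj (h : SC G a) (hp : 5 ≤ p) (hξ : QD G ξ) : ∃ g ∈ G, ∃ κ ∈ rootSp G a, κ ≠ 0 ∧ ξ = cj g κ := by
  obtain ⟨g, hg, e1⟩ := h.mem hp hξ
  have hg' := rootTop_le hg
  rw [conjBy_rootGrp hg'] at e1
  refine ⟨g, hg', cj g⁻¹ ξ, (mem_rootSp_cj hg').1 (rootSp_eq_of_rootGrp_eq e1 ▸ hξ.qe.self_mem), fun e2 => hξ.ne ?_,
    by simp⟩
  simpa using congrArg (cj g) e2

theorem Pe.aba_ne (h : Pe a b e o f) (hp : 5 ≤ p) (ha : QD G a) (hb : QD G b) (hc : c ∈ rootSp G b) (h0 : c ≠ 0) :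
    a * c * a ≠ 0 :=
  (opp_iff_ne hp ha (hb.of_mem hc h0).1).1 ((opp_congr ha hb ha.qe.self_mem ha.ne hc h0).2
    (opp_of_normalized h.aba h.bab))

theorem Pe.intA (h : Pe a b e o f) (hp : 5 ≤ p) (ha : SC G a) (hb : QD G b)
    (hy : ∀ u ∈ Ug G a, ∀ c ∈ rootSp G b, c * H70.cj u⁻¹ y * c = 0) (hξ : QD G ξ) : ξ * y * ξ = 0 := by
  obtain ⟨g, hg, c, hc, hc0, rfl⟩ := (ha.of hp hb).conj hp hξ
  have := interp hp ha.gen (h.aba_ne hp ha.qd hb hc hc0) (fun g => c * H70.cj g⁻¹ y * c) (fun k h η hη => ?_)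
    (fun k hk hne => ?_) g hg
  · simpa using congrArg (H70.cj g) this
  · refine ⟨c * H70.cj h⁻¹ (H70.cj k⁻¹ y) * c, c * H70.cj h⁻¹ (H70.cj k⁻¹ y * η - η * H70.cj k⁻¹ y) * c,
      c * H70.cj h⁻¹ (-(η * H70.cj k⁻¹ y * η)) * c, fun t => ?_⟩
    simp only [mul_inv_rev, ← cj_cj, cj_qu_smul_inv hη, map_add, map_smul, mul_add, add_mul, smul_mul_assoc,
      mul_smul_comm]
  · obtain ⟨u, hu, c', hc', e1⟩ := h.c1' hp ha.qd hb ((hb.of_mem hc hc0).1.cj hk) hne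
    have h1 := congrArg (H70.cj u) (hy u hu c' hc')
    simp only [map_mul, cj_cj_inv, map_zero, ← e1] at h1
    simpa using congrArg (H70.cj k⁻¹) h1

theorem Pe.intB (h : Pe a b e o f) (hp : 5 ≤ p) (ha : SC G a) (hb : QD G b) {s t : Ep p M}
    (hy : ∀ u ∈ Ug G a, ∀ c ∈ rootSp G b, s * H70.cj u c * t = 0) (hξ : QD G ξ) : s * ξ * t = 0 := by
  obtain ⟨g, hg, c, hc, hc0, rfl⟩ := (ha.of hp hb).conj hp hξ
  refine interp hp ha.gen (h.aba_ne hp ha.qd hb hc hc0) (fun g => s * H70.cj g c * t) (fun k h η hη => ?_)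
    (fun k hk hne => ?_) g hg
  · refine ⟨s * H70.cj k (H70.cj h c) * t, s * H70.cj k (η * H70.cj h c - H70.cj h c * η) * t,
      s * H70.cj k (-(η * H70.cj h c * η)) * t, fun t => ?_⟩
    simp only [← cj_cj, cj_qu_smul hη, map_add, map_smul, mul_add, add_mul, smul_mul_assoc, mul_smul_comm]
  · obtain ⟨u, hu, c', hc', e1⟩ := h.c1' hp ha.qd hb ((hb.of_mem hc hc0).1.cj hk) hne
    simp only [e1, hy u hu c' hc']

theorem r2d (hp : 5 ≤ p) (hξ : QD G ξ) (hη : QD G η) (hδ : QE G δ) : ξ * (δ * η * δ) * ξ ∈ rootSp G ξ := by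
  have h1 := r2 hp hξ hη
  have h2 := r2 hp hξ (hη.cj (hδ.qu_mem 1))
  have h3 := r2 hp hξ (hη.cj (hδ.qu_mem (-1)))
  rw [cj_qu_smul hδ.sq] at h2 h3
  refine half_mem hp ?_
  convert sub_mem (sub_mem (add_mem h1 h1) h2) h3 using 1
  simp only [mul_add, add_mul, smul_mul_assoc, mul_smul_comm, mul_neg, neg_mul]
  module

theorem SC.central (h : SC G a) (hδ : QE G δ) (hc : ∀ g ∈ G, (g : Ep p M) * δ = δ * g) : δ = 0 := by
  have h1 := h.nu (famGrp δ) ((famGrp_le_iff hδ.sq).2 hδ) (fun g hg => by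
    rw [conjBy_famGrp hδ.sq, cj_eq_self_iff.2 (hc g hg)]) (famGrp_uni hδ.sq)
  have h2 : qu ((1 : ZMod p) • δ) (smul_sq_zero hδ.sq 1) ∈ famGrp δ := (mem_famGrp hδ.sq).2 (qu_mem_fam hδ.sq 1)
  rw [h1, Subgroup.mem_bot, qu_eq_one_iff, one_smul] at h2
  exact h2

/-- a quadratic element invisible to the root elements is trivial -/
theorem Pe.hh (h : Pe a b e o f) (hp : 5 ≤ p) (ha : SC G a) (hb : QD G b) (hδ : QE G δ)
    (h1 : ∀ u ∈ Ug G a, ∀ c ∈ rootSp G b, c * H70.cj u⁻¹ δ * c = 0)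
    (h2 : ∀ u ∈ Ug G a, ∀ v ∈ Ug G a, ∀ c ∈ rootSp G b, ∀ c' ∈ rootSp G b,
      c * H70.cj u⁻¹ (δ * H70.cj v c' * δ) * c ∈ rootSp G b → c * H70.cj u⁻¹ (δ * H70.cj v c' * δ) * c = 0) :
    δ = 0 := by
  have k1 : ∀ ξ, QD G ξ → ξ * δ * ξ = 0 := fun ξ hξ => h.intA hp ha hb h1 hξ
  have k2 : ∀ ξ, QD G ξ → ∀ η, QD G η → ξ * δ * η * (δ * ξ) = 0 := fun ξ hξ η hη => by
    refine h.intB hp ha hb (fun v hv c' hc' => ?_) hη
    have := h.intA hp ha hb (y := δ * H70.cj v c' * δ) (fun u hu c hc => h2 u hu v hv c hc c' hc' ?_) hξ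
    · simpa only [mul_assoc] using this
    rcases eq_or_ne c 0 with rfl | hc0
    · simp
    rcases eq_or_ne c' 0 with rfl | hc0'
    · simp
    rw [map_mul, map_mul, ← hb.rootSp_eq hc hc0]
    exact r2d hp (hb.of_mem hc hc0).1 (((hb.of_mem hc' hc0').1.cj hv.1).cj (G.inv_mem hu.1)) (hδ.cj (G.inv_mem hu.1))
  let H : Subgroup (GLp p M) :=
    { carrier := {g | g ∈ G ∧ ∀ ξ, QD G ξ → ∀ η, QD G η → ξ * H70.cj g η * ξ = ξ * η * ξ}
      one_mem' := ⟨G.one_mem, by simp⟩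
      mul_mem' := by
        rintro g g' ⟨m1, m2⟩ ⟨m3, m4⟩
        exact ⟨G.mul_mem m1 m3, fun ξ hξ η hη => by rw [← cj_cj, m2 ξ hξ _ (hη.cj m3), m4 ξ hξ η hη]⟩
      inv_mem' := by
        rintro g ⟨m1, m2⟩
        exact ⟨G.inv_mem m1, fun ξ hξ η hη => by rw [← m2 ξ hξ _ (hη.cj (G.inv_mem m1)), cj_cj_inv]⟩ }
  have hc : ∀ k ∈ G, ∀ g ∈ H, k * g * k⁻¹ ∈ H := by
    rintro k hk g ⟨m1, m2⟩
    refine ⟨G.mul_mem (G.mul_mem hk m1) (G.inv_mem hk), fun ξ hξ η hη => ?_⟩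
    have := congrArg (H70.cj k) (m2 _ (hξ.cj (G.inv_mem hk)) _ (hη.cj (G.inv_mem hk)))
    simpa only [map_mul, cj_cj, mul_assoc, mul_inv_cancel, cj_one] using this
  rcases qcomp_normal_dichotomy (bigField hp) ha.nu ha.qrs (N := H) (fun g hg => ha.eq.symm ▸ hg.1) (fun g hg => by
    rw [ha.eq] at hg
    ext x
    rw [mem_conjBy]
    exact ⟨fun hx => by simpa [mul_assoc] using hc g hg _ hx, fun hx => by simpa using hc _ (G.inv_mem hg) _ hx⟩)
    with e1 | e1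
  · have : qu a ha.qd.qe.sq ∈ H := by rw [e1, ha.eq]; exact ha.qd.qe.qu_mem'
    have := this.2 b hb b hb
    simp only [cj_qu, mul_add, add_mul, mul_sub, sub_mul, mul_one, one_mul, mul_assoc, h.r, mul_zero, zero_mul] at this
    exact (hb.ne (by simpa using this)).elim
  · rw [ha.eq, Subgroup.commutator_eq_bot_iff_le_centralizer] at e1
    have hg : qu δ hδ.sq ∈ H := by
      refine ⟨hδ.qu_mem', fun ξ hξ η hη => ?_⟩
      have m1 := congrArg (H70.cj (qu η hη.qe.sq)) (k1 _ (hξ.cj (G.inv_mem hη.qe.qu_mem')))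
      simp only [map_mul, cj_cj_inv, map_zero, cj_qu] at m1
      have m2 := k1 ξ hξ
      have m3 := k1 η hη
      have m4 := k2 ξ hξ η hη
      simp only [cj_qu, mul_add, add_mul, mul_sub, sub_mul, mul_one, one_mul, mul_assoc] at m1 m2 m3 m4 ⊢
      have m5 : η * (δ * (η * ξ)) = 0 := by
        rw [← mul_assoc δ, ← mul_assoc, m3, zero_mul]
      rw [m2, m5] at m1
      rw [m4]
      linear_combination (norm := abel_nf) -m1
      simp
    refine ha.central hδ fun g hg' => ?_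
    have := congrArg (fun t : GLp p M => (t : Ep p M)) (e1 hg g hg')
    simpa [mul_add, add_mul] using this

end H98.Fl
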