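import Cfsg.Agent.H98.FlQ2
import Cfsg.Agent.H51.Api

/-! Quadratic elements centralizing `Ug`; `p`-overgroups of `Ug` normalize the root group. -/

namespace H98.Fl

open Cfsg H70 LinearMap

variable {p : ℕ} [Fact p.Prime] {M : Type*} [AddCommGroup M] [Module (ZMod p) M]
variable {G : Subgroup (GLp p M)} {a b c e o f w x y z κ ξ η δ : Ep p M} {g u v : GLp p M}

theorem exists_fix {Γ : Type*} [Group Γ] {H : Subgroup Γ} (hH : IsPGroup p H) {Z : Type*} [AddCommGroup Z]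
    [Module (ZMod p) Z] [Finite Z] (φ : Γ → Z → Z) (h1 : ∀ z, φ 1 z = z) (h2 : ∀ g h z, φ (g * h) z = φ g (φ h z))
    (h0 : ∀ g, φ g 0 = 0) {W : Submodule (ZMod p) Z} (hW : ∀ g ∈ H, ∀ w ∈ W, φ g w ∈ W) (hne : W ≠ ⊥) :
    ∃ w ∈ W, w ≠ 0 ∧ ∀ g ∈ H, φ g w = w := by
  let _ : MulAction H W :=
    { smul := fun g w => ⟨φ g w, hW _ g.2 _ w.2⟩
      one_smul := fun w => Subtype.ext (h1 _)
      mul_smul := fun g h w => Subtype.ext (h2 _ _ _) }
  have hd : p ∣ Nat.card W := by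
    rw [Module.natCard_eq_pow_finrank (K := ZMod p), Nat.card_zmod]
    exact dvd_pow_self _ (by rwa [Ne, Submodule.finrank_eq_zero])
  obtain ⟨w, hw, hw0⟩ := hH.exists_fixed_point_of_prime_dvd_card_of_fixed_point W hd (a := 0)
    (fun g => Subtype.ext (h0 _))
  exact ⟨w, w.2, fun e => hw0 (Subtype.ext e.symm), fun g hg => congrArg Subtype.val (hw ⟨g, hg⟩)⟩

theorem exists_fix_vec {H : Subgroup (GLp p M)} [Finite M] (hH : IsPGroup p H) {W : Submodule (ZMod p) M}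
    (hW : ∀ g ∈ H, ∀ w ∈ W, (g : Ep p M) w ∈ W) (hne : W ≠ ⊥) : ∃ w ∈ W, w ≠ 0 ∧ ∀ g ∈ H, (g : Ep p M) w = w :=
  exists_fix hH (fun g m => (g : Ep p M) m) (fun _ => rfl) (fun _ _ _ => rfl) (fun _ => map_zero _) hW hne

theorem Pe.cp_comm {t : Ep p M} (h : Pe a b e o f) (hw : Cp e o f w) (ht : t * a = a * t) :
    Cp e o f (w * t) ∧ Cp e o f (t * w) := by
  obtain ⟨h1, h2, -⟩ := h.cp_iff.1 hw
  have h3 : f * (t * o) = 0 := by rw [← h.ba, mul_assoc, ← mul_assoc a, ← ht]; simp [mul_assoc, h.r]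
  have h4 : ∀ s, o * (t * (e * s)) = 0 := fun s => by
    rw [← h.ab, ← mul_assoc t, ← mul_assoc t, ht]; simp [mul_assoc, h.r]
  refine ⟨h.cp_iff.2 ⟨by rw [← mul_assoc, h1, zero_mul], by rw [mul_assoc, ht, ← mul_assoc, h2, zero_mul], ?_⟩,
    h.cp_iff.2 ⟨by rw [← mul_assoc, ← ht, mul_assoc, h1, mul_zero], by rw [mul_assoc, h2, mul_zero], ?_⟩⟩ <;>
  obtain ⟨_, _, ⟨X, Y, rfl⟩, ⟨Z, rfl⟩, rfl⟩ := hw <;> simp [mul_add, add_mul, mul_assoc, h.r, h3, h4]

variable [Finite M]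

instance finiteEp : Finite (Ep p M) := Finite.of_injective _ DFunLike.coe_injective

theorem Pe.ni {Y t s : Ep p M} (h : Pe a b e o f) (hp : 5 ≤ p) (ha : QD G a) (hb : QD G b) (hc : c ∈ rootSp G b)
    (hQ : Y * t * c ∈ rootSp G b) (hne : Y * t * c ≠ 0) (h1 : f * s = s) (h2 : t * s = 0) : s = 0 := by
  obtain ⟨a1, -, k1⟩ := h.symm.partner' hp hb ha hQ hne
  obtain ⟨a2, -, k2⟩ := h.symm.partner' hp hb ha hc (fun e => hne (by simp [e]))
  have k3 : a2 = a1 * Y * t * f := by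
    rw [← k2.r1.2.1.2.2.2.2.1, ← k1.ba, ← k2.ab]; simp only [mul_assoc]
  rw [← h1, ← k2.ab, mul_assoc, k3, mul_assoc, h1, mul_assoc, h2]; simp

theorem Pe.rad (h : Pe a b e o f) (hp : 5 ≤ p) (ha : SC G a) (hb : QD G b) (hw : Ub G e o f w) (ww : w * w = 0)
    (hx : ∀ x, Ub G e o f x → x * w = w * x) : w = 0 := by
  obtain ⟨u0, hu0, e0, -⟩ := h.ub_half hp ha.qd.qe hb.qe hw d2_zero (by simp [ww]) (zero_mem _)
  have hq : QE G w := qe_of ww (by simpa [e0] using coe_mem_gS.2 hu0.1)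
  have E : ∀ x c, Ub G e o f x → D2 e f c → c + c = x * x → c * b * (x * w) + x * w * b * c = 0 := fun x c k1 k2 k3 => by
    have := hx _ (h.gauss hp ha.qd hb k1 k2 k3)
    obtain ⟨k4, k5⟩ := h.cp_d2 hw.1.cp k2
    rw [sub_mul, mul_sub, mul_assoc _ c w, k5, ← mul_assoc w, ← mul_assoc w, k4, ← mul_assoc w, ← mul_assoc w,
      ← hx x k1] at this
    simp only [mul_zero, zero_mul, sub_zero, zero_sub, mul_assoc] at this ⊢
    rw [this]; abel
  have L : ∀ x, Ub G e o f x → x * w * (b * (x * w)) = 0 := fun x k1 => by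
    obtain ⟨c, k2, k3⟩ := h.exists_half hp k1.1
    have k4 := E x c k1 k2 k3
    have k5 := E _ (c + x * w) (h.ub_add k1 hw) (k2.add (h.d1_mul k1.1 hw.1)) (by
      rw [add_mul, mul_add, mul_add, ww, ← hx x k1, ← k3]; abel)
    simp only [add_mul x w w, ww, add_zero] at k5
    refine half_zero hp ?_
    rw [← sub_zero (0 : Ep p M)]
    nth_rw 1 [← k5]
    rw [← k4]; noncomm_ring
  have C : ∀ u ∈ Ug G a, H70.cj u w = w := fun u hu => by
    obtain ⟨x, y, k1, k2, e1, -⟩ := h.decomp hu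
    rw [cj_eq_self_iff, e1]
    simp [mul_add, add_mul, hx x k1, h.cp_d2 hw.1.cp k2]
  refine h.hh hp ha hb hq (fun u hu c hc => ?_) (fun u hu v hv c hc c' hc' hQ => ?_)
  · rw [C _ (inv_mem hu)]
    obtain ⟨⟨X, Y, rfl⟩, -⟩ := hw
    obtain ⟨K, rfl⟩ := h.symm.d2_root hc
    simp [mul_add, mul_assoc, h.r]
  · obtain ⟨z, y, k1, k2, e1, e2⟩ := h.decomp (mul_mem (inv_mem hu) hv)
    have e3 : c * H70.cj u⁻¹ (w * H70.cj v c' * w) * c = -(c * (w * z) * c') * (z * w) * c := by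
      rw [map_mul, map_mul, C _ (inv_mem hu), cj_cj, cj_apply, e1, e2]
      obtain ⟨⟨X, Y, rfl⟩, -⟩ := hw
      obtain ⟨⟨X', Y', rfl⟩, -⟩ := k1
      obtain ⟨Z, rfl⟩ := k2
      obtain ⟨K, rfl⟩ := h.symm.d2_root hc
      obtain ⟨K', rfl⟩ := h.symm.d2_root hc'
      simp [mul_add, add_mul, mul_sub, sub_mul, mul_assoc, h.r]
    rw [e3] at hQ ⊢
    by_contra hne
    have k3 := h.ni hp ha.qd hb hc hQ hne (s := b * (z * w)) (by simp [h.r]) (L z k1)
    have k4 := (h.d2_iff.1 (h.d1_mul k1.1 hw.1)).1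
    rw [← h.ab, mul_assoc, k3, mul_zero] at k4
    exact hne (by rw [← k4]; simp)

theorem Pe.deg0 (h : Pe a b e o f) (hp : 5 ≤ p) (ha : SC G a) (hb : QD G b) (hδ : QE G δ) (he : δ * e = e * δ)
    (hf : δ * f = f * δ) (hu : ∀ u ∈ Ug G a, H70.cj u δ = δ) : δ = 0 := by
  refine h.hh hp ha hb hδ (fun u hu' c hc => ?_) (fun u hu' v hv c hc c' hc' hQ => ?_)
  · obtain ⟨K, rfl⟩ := h.symm.d2_root hc
    rw [hu _ (inv_mem hu'), mul_assoc _ e, ← he]
    simp [mul_assoc, h.r]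
  · rw [map_mul, map_mul, hu _ (inv_mem hu'), ← mul_assoc] at hQ ⊢
    by_contra hne
    have k3 := h.ni hp ha.qd hb hc hQ hne (s := δ * f) (by rw [hf]; simp [h.r]) (by rw [← mul_assoc, hδ.sq, zero_mul])
    refine hne ?_
    rw [← (h.symm.d2_iff.1 (h.symm.d2_root hc)).1, mul_assoc _ δ, ← mul_assoc δ f, k3]; simp

/-- a quadratic element centralizing `Ug` lies in the root group -/
theorem Pe.cent (h : Pe a b e o f) (hp : 5 ≤ p) (ha : SC G a) (hb : QD G b) (hδ : QE G δ)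
    (hU : ∀ u ∈ Ug G a, H70.cj u δ = δ) : δ ∈ rootSp G a := by
  have hU' : ∀ u ∈ Ug G a, (u : Ep p M) * δ = δ * u := fun u hu => cj_eq_self_iff.1 (hU u hu)
  have hK : ∀ κ ∈ rootSp G a, κ * δ = δ * κ := fun κ hκ => by
    have := hU' (qu κ (rootSp_mul hκ hκ)) (h.mem_Ug.2 ⟨(rootSp_qe hκ).qu_mem', by simpa using (h.d2_root hκ).cp⟩)
    simpa [mul_add, add_mul] using this
  have hda := hK a ha.qd.qe.self_mem
  have e0 : H70.cj (qu δ hδ.sq) a = a := cj_eq_self_iff.2 (by simp [mul_add, add_mul, hda])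
  have h' := h.cj (qu δ hδ.sq)
  rw [e0] at h'
  obtain ⟨u, hu, e1⟩ := h.c1 hp ha.qd hb (hb.cj hδ.qu_mem') h'.aba h'.bab
  set m := u⁻¹ * qu δ hδ.sq with hm
  have ma : (m : Ep p M) * a = a * m := cj_eq_self_iff.1 (by rw [hm, ← cj_cj, e0, h.cj_Ug (inv_mem hu) h.d2_a])
  have mb : (m : Ep p M) * b = b * m := cj_eq_self_iff.1 (by rw [hm, ← cj_cj, ← e1, cj_inv_cj])
  obtain ⟨d, hd⟩ : ∃ d, (m : Ep p M) = 1 + d := ⟨m - 1, by abel⟩
  have da : d * a = a * d := by simpa [hd, mul_add, add_mul] using ma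
  have db : d * b = b * d := by simpa [hd, mul_add, add_mul] using mb
  have de : d * e = e * d := by rw [← h.ab, ← mul_assoc, da, mul_assoc, db, mul_assoc]
  have df : d * f = f * d := by rw [← h.ba, ← mul_assoc, db, mul_assoc, da, mul_assoc]
  have d_o : d * o = o * d := by rw [h.oo]; simp [mul_sub, sub_mul, de, df]
  have dd : d * d = 0 := by
    have k1 := (h.cp_comm (h.mem_Ug.1 (inv_mem hu)).2 (t := 1 + δ) (by simp [mul_add, add_mul, hda])).1
    have k2 : d = δ + (((u⁻¹ : GLp p M) : Ep p M) - 1) * (1 + δ) := by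
      rw [← add_right_inj 1, ← hd, hm, Units.val_mul, qu_val]; noncomm_ring
    generalize (((u⁻¹ : GLp p M) : Ep p M) - 1) * (1 + δ) = w at k1 k2
    refine h.cp_zero ?_ (by rw [mul_assoc, db, ← mul_assoc, db, mul_assoc])
    have := ((h.cp_comm k1 hda.symm).1.add (h.cp_comm k1 hda.symm).2).add (h.cp_mul k1 k1).cp
    convert this using 1
    rw [k2, add_mul, mul_add, mul_add, hδ.sq]; abel
  have hmG : m ∈ G := G.mul_mem (G.inv_mem hu.1) hδ.qu_mem'
  obtain ⟨x1, y1, hx1, hy1, e2, -⟩ := h.decomp hu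
  have e3 : 1 + δ = (1 + x1 + y1) * (1 + d) := by
    rw [← e2, ← hd, ← Units.val_mul, hm, mul_inv_cancel_left, qu_val]
  have dx : ∀ x, Ub G e o f x → d * x = x * d := fun x hx => by
    obtain ⟨u', hu', e4, -⟩ := h.unit hx.1 hx.2.choose_spec.1 hx.2.choose_spec.2
    have k1 : (u' : Ep p M) * (1 + δ) = (1 + δ) * u' := by simp [mul_add, add_mul, hU' u' hu']
    obtain ⟨Z, hZ⟩ := hx.2.choose_spec.1
    rw [e3, e4, hZ] at k1
    obtain ⟨⟨X, Y, rfl⟩, -⟩ := hx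
    obtain ⟨⟨X', Y', rfl⟩, -⟩ := hx1
    obtain ⟨Z', rfl⟩ := hy1
    have k2 := congrArg (fun t => e * t * o) k1
    have k3 := congrArg (fun t => o * t * f) k1
    have r1 := (r_aux de).2
    have r2 := (r_aux df).2
    have r3 := (r_aux d_o).2
    simp only [mul_add, add_mul, mul_one, one_mul, mul_assoc, h.r, mul_zero, zero_mul, add_zero, zero_add, de, df,
      d_o, r1, r2, r3] at k2 k3 ⊢
    linear_combination (norm := abel) -k2 - k3
  have d0 : d = 0 := by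
    refine h.deg0 hp ha hb (qe_of dd (hd ▸ coe_mem_gS.2 hmG)) de df fun u' hu' => ?_
    obtain ⟨x, y, k1, k2, e4, -⟩ := h.decomp hu'
    obtain ⟨c, k3, k4⟩ := h.exists_half hp k1.1
    have k5 := h.ub_diff hp ha.qd.qe hb.qe k1.1 k2 (e4 ▸ coe_mem_gS.2 hu'.1) k3 k4
    have k6 : d * c = c * d := sub_eq_zero.1 (half_zero hp (by
      have : d * (c + c) = (c + c) * d := by rw [k4, ← mul_assoc, dx x k1, mul_assoc, dx x k1, mul_assoc]
      rw [← sub_eq_zero] at this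
      rw [← this]; noncomm_ring))
    have k7 : (m : Ep p M) * (y - c) = (y - c) * m := cj_eq_self_iff.1 (by
      have : H70.cj (qu δ hδ.sq) (y - c) = y - c :=
        cj_eq_self_iff.2 (by simp only [qu_val, add_mul, mul_add, one_mul, mul_one, hK _ k5])
      rw [hm, ← cj_cj, this, h.cj_Ug (inv_mem hu) (k2.sub k3)])
    rw [hd, add_mul, mul_add, one_mul, mul_one, add_right_inj, mul_sub, sub_mul, k6, sub_left_inj] at k7
    rw [cj_eq_self_iff, e4]
    simp only [add_mul, mul_add, one_mul, mul_one, dx x k1, k7]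
  rw [d0, add_zero, mul_one, add_assoc, add_right_inj] at e3
  have xx : x1 * x1 = 0 := by
    have := hδ.sq
    rw [e3] at this
    simpa [mul_add, add_mul, h.cp_d2 hx1.1.cp hy1, h.cp_d2 (hy1.cp (o := o)) hy1] using this
  have x0 : x1 = 0 := h.rad hp ha hb hx1 xx fun x hx => by
    obtain ⟨y, k1, k2⟩ := hx.2
    obtain ⟨u', hu', e4, -⟩ := h.unit hx.1 k1 k2
    have := hU' u' hu'
    rw [e3, e4] at this
    simp only [mul_add, add_mul, h.cp_d2 hx1.1.cp k1, h.cp_d2 hx.1.cp hy1, h.cp_d2 (hy1.cp (o := o)) k1, one_mul,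
      mul_one] at this
    linear_combination (norm := abel) this
  rw [x0, zero_add] at e3
  exact h.mem_root (e3 ▸ hy1) (by simpa using hδ.mem 1)

/-- a quadratic element supported on the middle piece -/
theorem Pe.mid (h : Pe a b e o f) (hp : 5 ≤ p) (ha : SC G a) (hb : QD G b) (hδ : QE G δ) (ho : δ = o * δ * o)
    (hx : ∀ x, Ub G e o f x → x * δ * x = 0) : δ = 0 := by
  obtain ⟨D, rfl⟩ : ∃ D, δ = o * D * o := ⟨δ, ho⟩
  have dd := hδ.sq
  simp only [mul_assoc, h.r] at dd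
  have dd' : ∀ s, o * (D * (o * (D * (o * s)))) = 0 := fun s => by
    simpa only [mul_assoc, zero_mul] using congrArg (· * s) dd
  refine h.deg0 hp ha hb hδ (by simp [mul_assoc, h.r]) (by simp [mul_assoc, h.r]) fun u hu => ?_
  obtain ⟨v, y, k1, k2, e1, e2⟩ := h.decomp hu
  have k3 : Ub G e o f (o * D * o * v - v * (o * D * o)) := by
    have k4 : Ub G e o f (v + (o * D * o * v - v * (o * D * o))) := by
      have k5 := cj_mem_gS hδ.qu_mem' (coe_mem_gS.2 hu.1)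
      rw [cj_qu, e1] at k5
      obtain ⟨⟨X, Y, rfl⟩, -⟩ := k1
      refine ⟨⟨X - X * o * D, Y + D * o * Y, ?_⟩, y, k2, ?_⟩
      · simp only [mul_add, add_mul, mul_sub, sub_mul, mul_assoc, h.r, mul_zero]; abel
      · obtain ⟨Z, rfl⟩ := k2
        convert k5 using 1
        simp only [mul_add, add_mul, mul_sub, mul_one, one_mul, mul_assoc, h.r, mul_zero, zero_mul, dd]
        abel
    simpa using h.ub_add (h.ub_neg k1) k4
  have k4 := h.rad hp ha hb k3 (by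
    obtain ⟨⟨X, Y, rfl⟩, -⟩ := k1
    simp [mul_add, add_mul, mul_sub, sub_mul, mul_assoc, h.r, dd']) fun x k5 => by
    have m1 := hx _ (h.ub_add k1 k5)
    rw [add_mul, add_mul, mul_add, mul_add, hx _ k1, hx _ k5] at m1
    obtain ⟨⟨X, Y, rfl⟩, -⟩ := k1
    obtain ⟨⟨X', Y', rfl⟩, -⟩ := k5
    simp only [mul_add, add_mul, mul_sub, sub_mul, mul_assoc, h.r, mul_zero, zero_mul, add_zero, zero_add,
      sub_zero, zero_sub] at m1 ⊢
    rw [eq_neg_iff_add_eq_zero, add_comm, m1]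
  rw [cj_eq_self_iff, e1]
  obtain ⟨Z, rfl⟩ := k2
  rw [sub_eq_zero] at k4
  simp only [add_mul, mul_add, k4]
  simp [mul_assoc, h.r]

theorem Pe.nrm_only (h : Pe a b e o f) (hp : 5 ≤ p) (ha : SC G a) (hb : QD G b) (hξ : QD G ξ)
    (hU : Ug G a ≤ Subgroup.normalizer (rootGrp G ξ : Set (GLp p M))) : rootGrp G ξ = rootGrp G a := by
  obtain ⟨δ, h1, h2, h3⟩ := exists_fix (Ug_pgroup (G := G) (a := a) hp) (fun g x => H70.cj g x) cj_one
    (fun g h z => (cj_cj g h z).symm) (fun _ => map_zero _) (W := rootSp G ξ) (fun g hg w hw => by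
      have := conjBy_eq_self_iff.2 (hU hg)
      rw [conjBy_rootGrp hg.1] at this
      exact rootSp_eq_of_rootGrp_eq this ▸ cj_mem_rootSp hg.1 hw)
    (fun e => hξ.ne (by simpa [e] using hξ.qe.self_mem))
  rw [← hξ.rootGrp_eq h1 h2, ha.qd.rootGrp_eq (h.cent hp ha hb (rootSp_qe h1) h3) h2]

theorem Pe.c2 (h : Pe a b e o f) (hp : 5 ≤ p) (ha : SC G a) (hb : QD G b) {S : Subgroup (GLp p M)}
    (hS : IsPGroup p S) (hSG : S ≤ G) (hU : Ug G a ≤ S) :
    S ≤ Subgroup.normalizer (rootGrp G a : Set (GLp p M)) := by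
  by_contra hn
  have h1 : S ⊓ Subgroup.normalizer (rootGrp G a : Set (GLp p M)) < S :=
    lt_of_le_of_ne inf_le_left fun e => hn (inf_eq_left.1 e)
  obtain ⟨g, ⟨hg1, hg2⟩, hg3⟩ := SetLike.exists_of_lt (H51.lt_inf_nrm Fact.out hS h1)
  refine hg3 ⟨hg1, conjBy_eq_self_iff.1 ?_⟩
  rw [conjBy_rootGrp (hSG hg1)]
  refine h.nrm_only hp ha hb (ha.qd.cj (hSG hg1)) fun u hu => ?_
  rw [← conjBy_rootGrp (hSG hg1), ← conjBy_normalizer, mem_conjBy]
  have h2 : u ∈ S ⊓ Subgroup.normalizer (rootGrp G a : Set (GLp p M)) := ⟨hU hu, conjBy_eq_self_iff.1 (by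
    rw [conjBy_rootGrp hu.1, h.cj_Ug hu h.d2_a])⟩
  have := (Subgroup.mem_normalizer_iff.1 (inv_mem hg2) u).1 h2
  simpa using this.2

end H98.Fl
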