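import Cfsg.Agent.H70.Quad7
import Cfsg.Prelude.Def_LocalEven

/-! Interface of the tower for coprime action on quadratic modules (blueprints/FLAV.md). -/

namespace H98.Fl

open Cfsg

universe u

/-- `R` acts coprimely on `G`, and `P` is a `p`-subgroup of `G` normalized by `R` and by the centralizer of `R` in `G` -/
structure Hyp {Γ : Type*} [Group Γ] (p : ℕ) (G R P : Subgroup Γ) : Prop where
  cop : (Nat.card R).Coprime (Nat.card G)
  solv : Group.IsSolvable R
  nrm : R ≤ Subgroup.normalizer (G : Set Γ)
  le : P ≤ G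
  pg : IsPGroup p P
  invR : R ≤ Subgroup.normalizer (P : Set Γ)
  invC : G ⊓ Subgroup.centralizer (R : Set Γ) ≤ Subgroup.normalizer (P : Set Γ)

/-- Theorem B, linear form: a quadratic element of `P` lies in a normal `p`-subgroup of `G` -/
def LB (p : ℕ) [Fact p.Prime] : Prop :=
  ∀ (V : Type u) [AddCommGroup V] [Module (ZMod p) V] [Finite V]
    (G R P : Subgroup (LinearMap.GeneralLinearGroup (ZMod p) V)), Hyp p G R P →
    ∀ g ∈ P, ((g : Module.End (ZMod p) V) - 1) * ((g : Module.End (ZMod p) V) - 1) = 0 →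
      ∃ Q : Subgroup (LinearMap.GeneralLinearGroup (ZMod p) V), Q ≤ G ∧
        G ≤ Subgroup.normalizer (Q : Set _) ∧ IsPGroup p Q ∧ g ∈ Q

/-- Theorem M1: if `G` has no normal `p`-subgroup and contains a quadratic element, the fixed points of a coprime
group `A` involve the projective special linear group of degree two over the prime field -/
def M1 (p : ℕ) [Fact p.Prime] : Prop :=
  ∀ (V : Type u) [AddCommGroup V] [Module (ZMod p) V] [Finite V]
    (G A : Subgroup (LinearMap.GeneralLinearGroup (ZMod p) V)), (Nat.card A).Coprime (Nat.card G) →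
    A ≤ Subgroup.normalizer (G : Set _) →
    (∀ Q : Subgroup (LinearMap.GeneralLinearGroup (ZMod p) V), Q ≤ G → G ≤ Subgroup.normalizer (Q : Set _) →
      IsPGroup p Q → Q = ⊥) →
    ∀ g ∈ G, g ≠ 1 → ((g : Module.End (ZMod p) V) - 1) * ((g : Module.End (ZMod p) V) - 1) = 0 →
      Involves (Matrix.ProjectiveSpecialLinearGroup (Fin 2) (ZMod p))
        ↥(G ⊓ Subgroup.centralizer (A : Set (LinearMap.GeneralLinearGroup (ZMod p) V)))

end H98.Fl
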