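import Cfsg.Agent.H98.FlQ3
import Cfsg.Agent.H98.FlSpec

/-! The Levi factor has no quadratic element in its largest normal `p`-subgroup; the core of Theorem B. -/

namespace H98.Fl

open Cfsg H70 LinearMap

variable {p : ℕ} [Fact p.Prime] {M : Type*} [AddCommGroup M] [Module (ZMod p) M]
variable {G : Subgroup (GLp p M)} {a b c e o f w x y z κ ξ η δ : Ep p M} {g u v : GLp p M}

theorem gSN (hg : g ∈ H46.Nrm G) (hx : x ∈ gS G) : cj g x ∈ gS G := by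
  obtain ⟨h, h1, rfl⟩ := mem_gS.1 hx
  rw [cj_coe]; exact coe_mem_gS.2 ((Subgroup.mem_normalizer_iff.1 hg h).1 h1)

theorem qeN (h : QE G a) (hg : g ∈ H46.Nrm G) : QE G (cj g a) :=
  ⟨by rw [← map_mul, h.sq, map_zero], fun c => by simpa using gSN hg (h.mem c)⟩

theorem qdN (h : QD G a) (hg : g ∈ H46.Nrm G) : QD G (cj g a) :=
  h.of_rk_le (qeN h.qe hg) (by simpa using h.ne) (rk_cj g a).le

theorem rootSpN (hg : g ∈ H46.Nrm G) (ha : κ ∈ rootSp G a) : cj g κ ∈ rootSp G (cj g a) := by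
  refine ⟨(qeN (rootSp_qe ha) hg).mem, ?_, ?_, ?_⟩
  · rw [ker_cj, ker_cj]; exact Submodule.map_mono ha.2.1
  · rw [range_cj, ker_cj]; exact Submodule.map_mono ha.2.2.1
  · rw [range_cj, range_cj]; exact Submodule.map_mono ha.2.2.2

theorem rootGrpN (hg : g ∈ H46.Nrm G) : conjBy (rootGrp G a) g = rootGrp G (cj g a) := by
  ext x
  have : ∀ κ, κ ∈ rootSp G (cj g a) ↔ cj g⁻¹ κ ∈ rootSp G a := fun κ =>
    ⟨fun h => by simpa using rootSpN (inv_mem hg) h, fun h => by simpa using rootSpN hg h⟩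
  rw [mem_conjBy, mem_rootGrp, mem_rootGrp, this, map_sub, map_one, cj_coe, inv_inv]

theorem nrm_root (hg : g ∈ H46.Nrm G) (h : g ∈ H46.Nrm (rootGrp G a)) (ha : κ ∈ rootSp G a) :
    cj g κ ∈ rootSp G a := by
  have := conjBy_eq_self_iff.2 h
  rw [rootGrpN hg] at this
  exact rootSp_eq_of_rootGrp_eq this ▸ rootSpN hg ha

theorem Pe.UgN (h : Pe a b e o f) (hg : g ∈ H46.Nrm G) (hu : u ∈ Ug G a) : g * u * g⁻¹ ∈ Ug G (H70.cj g a) := by
  obtain ⟨h1, h2⟩ := h.mem_Ug.1 hu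
  obtain ⟨h3, h4, h5⟩ := h.cp_iff.1 h2
  refine (h.cj g).mem_Ug.2 ⟨(Subgroup.mem_normalizer_iff.1 hg u).1 h1, (h.cj g).cp_iff.2 ?_⟩
  rw [← cj_coe, ← map_one (H70.cj g), ← map_sub]
  simp only [← map_mul, h3, h4, h5, map_zero, and_self]

/-- the elements of degree zero -/
def Ng (G : Subgroup (GLp p M)) (e f : Ep p M) : Subgroup (GLp p M) := G ⊓ (centE e ⊓ centE f)

theorem mem_Ng : g ∈ Ng G e f ↔ g ∈ G ∧ cj g e = e ∧ cj g f = f := by
  rw [cj_eq_self_iff, cj_eq_self_iff]; rfl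

theorem no_pgroup {H : Subgroup (GLp p M)} [Finite M] (hH : IsPGroup p H) (hδ : δ * δ = 0) (hξ : ξ * ξ = 0)
    (h1 : qu δ hδ ∈ H) (h2 : qu ξ hξ ∈ H) (h : ξ * δ * ξ = ξ) : ξ = 0 := by
  let W := range ξ ⊔ range (δ * ξ)
  let Y : Subgroup (GLp p M) :=
    { carrier := {g | g ∈ H ∧ ∀ w ∈ W, (g : Ep p M) w ∈ W ∧ ((g⁻¹ : GLp p M) : Ep p M) w ∈ W}
      one_mem' := ⟨H.one_mem, fun w hw => ⟨hw, hw⟩⟩
      mul_mem' := by
        rintro g g' ⟨m1, m2⟩ ⟨m3, m4⟩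
        exact ⟨H.mul_mem m1 m3, fun w hw => ⟨(m2 _ (m4 w hw).1).1, by
          rw [mul_inv_rev]; exact (m4 _ (m2 w hw).2).2⟩⟩
      inv_mem' := by
        rintro g ⟨m1, m2⟩
        exact ⟨H.inv_mem m1, fun w hw => ⟨(m2 w hw).2, (m2 w hw).1⟩⟩ }
  have k1 : ∀ m, δ (δ m) = 0 := fun m => LinearMap.congr_fun hδ m
  have k2 : ∀ m, ξ (ξ m) = 0 := fun m => LinearMap.congr_fun hξ m
  have k3 : ∀ m, ξ (δ (ξ m)) = ξ m := fun m => LinearMap.congr_fun h m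
  have k4 : ∀ w ∈ W, δ w ∈ W := fun w hw => by
    obtain ⟨_, ⟨m, rfl⟩, _, ⟨m', rfl⟩, rfl⟩ := Submodule.mem_sup.1 hw
    exact Submodule.mem_sup_right ⟨m, by simp [k1]⟩
  have k5 : ∀ w, ξ w ∈ W := fun w => Submodule.mem_sup_left ⟨w, rfl⟩
  by_contra hne
  obtain ⟨w, hw, hw0, hw1⟩ := exists_fix_vec (H := Y) (W := W) (hH.to_le fun g hg => hg.1)
    (fun g hg w hw => (hg.2 w hw).1) (fun e => hne (range_eq_bot.1 (eq_bot_iff.2 (e ▸ le_sup_left))))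
  have m1 := hw1 (qu δ hδ) ⟨h1, fun w hw => ⟨add_mem hw (k4 w hw), sub_mem hw (k4 w hw)⟩⟩
  have m2 := hw1 (qu ξ hξ) ⟨h2, fun w hw => ⟨add_mem hw (k5 w), sub_mem hw (k5 w)⟩⟩
  obtain ⟨_, ⟨m, rfl⟩, _, ⟨m', rfl⟩, rfl⟩ := Submodule.mem_sup.1 hw
  rw [qu_val, LinearMap.add_apply, Module.End.one_apply, add_eq_left] at m1 m2
  simp only [Module.End.mul_apply, map_add, k1, k2, k3, zero_add, add_zero] at m1 m2 hw0
  rw [m2, map_zero, add_zero, ← k3, m1, map_zero] at hw0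
  exact hw0 rfl

variable [Finite M]

instance finiteGLp : Finite (GLp p M) := Finite.of_injective _ Units.val_injective

theorem Pe.nrm_pe (h : Pe a b e o f) (ha : QD G a) (hb : QD G b) (hg : g ∈ H46.Nrm G)
    (h1 : g ∈ H46.Nrm (rootGrp G a)) (h2 : g ∈ H46.Nrm (rootGrp G b)) : Pe (H70.cj g a) (H70.cj g b) e o f :=
  h.congr ha hb (nrm_root hg h1 ha.qe.self_mem) (nrm_root hg h2 hb.qe.self_mem) (by simpa using ha.ne)
    (h.cj g).aba (h.cj g).bab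

theorem Pe.nrm_idem (h : Pe a b e o f) (ha : QD G a) (hb : QD G b) (hg : g ∈ H46.Nrm G)
    (h1 : g ∈ H46.Nrm (rootGrp G a)) (h2 : g ∈ H46.Nrm (rootGrp G b)) : H70.cj g e = e ∧ H70.cj g f = f :=
  ⟨(h.cj g).ab.symm.trans (h.nrm_pe ha hb hg h1 h2).ab, (h.cj g).ba.symm.trans (h.nrm_pe ha hb hg h1 h2).ba⟩

theorem Pe.nrm_Ug (h : Pe a b e o f) (hp : 5 ≤ p) (ha : QD G a) (hb : QD G b) (hg : g ∈ H46.Nrm G)
    (h1 : g ∈ H46.Nrm (rootGrp G a)) : g ∈ H46.Nrm (Ug G a) := by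
  obtain ⟨c, -, h'⟩ := h.partner' hp ha hb (nrm_root hg h1 ha.qe.self_mem) (by simpa using ha.ne)
  refine H46.mem_nrm_of_cj_le ?_
  rintro _ ⟨u, hu, rfl⟩
  exact h'.Ug_eq h ▸ h.UgN hg hu

/-- the top piece of the submodule generated by a submodule of the top piece -/
theorem Pe.sm (h : Pe a b e o f) (hp : 5 ≤ p) (ha : SC G a) (hb : QD G b) {W : Submodule (ZMod p) M}
    (hW : W ≤ range a) (hN : ∀ m ∈ Ng G e f, ∀ w ∈ W, (m : Ep p M) w ∈ W) {w : M} (hw : w ∈ W) :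
    ∀ g ∈ G, e ((g : Ep p M) w) ∈ W := by
  intro g hg
  rw [← Submodule.Quotient.mk_eq_zero, ← Submodule.mkQ_apply]
  refine interp hp ha.gen (a := b) (b := a) (by rw [h.bab]; exact hb.ne) (fun g => W.mkQ (e ((g : Ep p M) w)))
    (fun k h η hη => ⟨W.mkQ (e ((k : Ep p M) ((h : Ep p M) w))), W.mkQ (e ((k : Ep p M) (η ((h : Ep p M) w)))), 0,
      fun t => by simp⟩) (fun g hg hne => ?_) g hg
  obtain ⟨u', hu', κ, hκ, e1⟩ := h.symm.c1' hp hb ha.qd (ha.qd.cj hg) hne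
  have e2 : H70.cj (u'⁻¹ * g) a = κ := by rw [← cj_cj, e1, cj_inv_cj]
  have hg' := G.mul_mem (G.inv_mem hu'.1) hg
  have hκ' := ha.qd.cj hg'
  have h1 := h.cj (u'⁻¹ * g)
  rw [e2] at hκ' h1
  obtain ⟨c, hc, h2⟩ := h.partner' hp ha.qd hb hκ hκ'.ne
  have hc0 : c ≠ 0 := fun e => hκ'.ne (by rw [← h2.aba, e]; simp)
  obtain ⟨u, hu, e3⟩ := h2.c1 hp hκ' (hb.of_mem hc hc0).1 (hb.cj hg') h1.aba h1.bab
  have h3 := h.cj (u⁻¹ * (u'⁻¹ * g))
  rw [← cj_cj u⁻¹, ← cj_cj u⁻¹, e2, ← e3, cj_inv_cj, h2.cj_Ug (inv_mem hu) h2.d2_a] at h3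
  have hm := hN _ (mem_Ng.2 ⟨G.mul_mem (G.inv_mem hu.1) hg', h3.ab.symm.trans h2.ab, h3.ba.symm.trans h2.ba⟩) w hw
  obtain ⟨m, hm'⟩ := hW hm
  have e4 : (g : Ep p M) w = (u' : Ep p M) ((u : Ep p M) (a m)) := by
    rw [hm', ← Module.End.mul_apply, ← Module.End.mul_apply, ← Units.val_mul, ← Units.val_mul]
    congr 2; group
  have e5 : e * (u' : Ep p M) * ((u : Ep p M) * a) = a := by
    rw [(h2.Ug_fix hu h.d2_a).1, ← h.ab, mul_assoc a, (h.symm.Ug_fix hu' h.symm.d2_a).2, h.aba]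
  rw [Submodule.mkQ_apply, Submodule.Quotient.mk_eq_zero, e4]
  have e6 : e ((u' : Ep p M) ((u : Ep p M) (a m))) = a m := LinearMap.congr_fun e5 m
  rwa [e6, hm']

/-- a nontrivial quadratic element on the middle piece has an opposite root element on the middle piece -/
theorem Pe.final (h : Pe a b e o f) (hp : 5 ≤ p) (ha : SC G a) (hb : QD G b) (hδ : QE G δ) (ho : δ = o * δ * o)
    (h0 : δ ≠ 0) : ∃ ξ, QD G ξ ∧ ξ = o * ξ * o ∧ ξ * δ * ξ = ξ := by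
  obtain ⟨x, hx, hne⟩ : ∃ x, Ub G e o f x ∧ x * δ * x ≠ 0 := by
    by_contra hcon
    push Not at hcon
    exact h0 (h.mid hp ha hb hδ ho hcon)
  obtain ⟨y, hy, hG⟩ := hx.2
  obtain ⟨u, hu, e1, e2⟩ := h.unit hx.1 hy hG
  obtain ⟨D, hD⟩ : ∃ D, δ = o * D * o := ⟨δ, ho⟩
  have dd := hδ.sq
  have dd' : ∀ s, o * (D * (o * (D * (o * s)))) = 0 := fun s => by
    simpa only [hD, mul_assoc, zero_mul, h.r] using congrArg (· * s) dd
  have dd'' : o * (D * (o * (D * o))) = 0 := by simpa using dd' 1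
  have hκ : x * δ * x ∈ rootSp G a := by
    have k1 := mul_mem (cj_mem_gS hδ.qu_mem' (coe_mem_gS.2 hu.1)) (coe_mem_gS.2 (G.inv_mem hu.1))
    rw [cj_qu, e1, e2] at k1
    obtain ⟨⟨X, Y, rfl⟩, -⟩ := hx
    obtain ⟨Z, rfl⟩ := hy
    have := h.ub_diff hp ha.qd.qe hb.qe (x := e * (-(X * o * D)) * o + o * (D * o * Y) * f)
      (y := e * (X * o * D * o * Y) * f) ⟨_, _, rfl⟩ ⟨_, rfl⟩ (by
        convert k1 using 1
        simp only [hD, mul_add, add_mul, mul_sub, sub_mul, mul_one, one_mul, mul_assoc, h.r, mul_zero, zero_mul, dd'',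
          mul_neg, neg_mul]
        abel) d2_zero (by simp [mul_add, add_mul, mul_assoc, h.r, dd'])
    convert this using 1
    simp [hD, mul_add, add_mul, mul_assoc, h.r]
  obtain ⟨c, hc, h1⟩ := h.partner' hp ha.qd hb hκ hne
  have hc0 : c ≠ 0 := fun e => hne (by rw [← h1.aba, e]; simp)
  have hβ := ((hb.of_mem hc hc0).1.cj hu.1).neg
  have k1 : c * H70.cj u⁻¹ δ * c = -c := by
    conv_rhs => rw [← h1.bab]
    rw [cj_apply, inv_inv, e1, e2]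
    obtain ⟨⟨X, Y, rfl⟩, -⟩ := hx
    obtain ⟨Z, rfl⟩ := hy
    obtain ⟨K, rfl⟩ := h.symm.d2_root hc
    simp [hD, mul_add, add_mul, mul_sub, sub_mul, mul_assoc, h.r]
  have k2 : -H70.cj u c * δ * -H70.cj u c = -H70.cj u c := by
    simpa using congrArg (H70.cj u) k1
  generalize -H70.cj u c = β at hβ k2
  have bb := hβ.qe.sq
  have k2' := (r_aux bb).2
  have k3 : ∀ s, β * (δ * (β * s)) = β * s := fun s => by rw [← mul_assoc, ← mul_assoc, k2]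
  have k3' : β * (δ * β) = β := by simpa using k3 1
  have k4 := (r_aux0 dd).2
  have hα : QD G (δ * β * δ) := by
    have := ((hβ.cj (G.inv_mem hδ.qu_mem')).cj hβ.qe.qu_mem').neg
    convert this using 1
    simp only [cj_apply, qu_val, qu_inv_val, inv_inv, mul_add, add_mul, mul_sub, sub_mul, mul_one, one_mul, mul_assoc,
      bb, k2', k3, k3', zero_mul, mul_zero]
    abel
  set α := δ * β * δ with hαd
  have h2 := pe_of hα.qe.sq bb (by simp [hαd, mul_assoc, k3]) (by simp [hαd, mul_assoc, k3, k3'])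
  have oα : o * α = α := by rw [hαd, hD]; simp [mul_assoc, h.r]
  have αo : α * o = α := by rw [hαd, hD]; simp [mul_assoc, h.r]
  obtain ⟨i, hi, ei, ii⟩ := h.exists_i ha.qd.qe hb.qe
  have ei' : (i : Ep p M) = o + o - 1 := by rw [ei, ← h.sum]; abel
  have iα : H70.cj i α = α := cj_eq_self_iff.2 (by rw [ei']; simp [mul_sub, sub_mul, mul_add, add_mul, oα, αo])
  have h3 := h2.cj i
  rw [iα] at h3
  obtain ⟨u0, hu0, e3⟩ := h2.c1 hp hα hβ (hβ.cj hi) h3.aba h3.bab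
  have hiU : ∀ v ∈ Ug G α, i * v * i⁻¹ ∈ Ug G α := fun v hv => iα ▸ h2.UgN (Subgroup.le_normalizer hi) hv
  have e4 : i * u0 * i⁻¹ * u0 = 1 := h2.Ug_reg (mul_mem (hiU _ hu0) hu0) (by
    rw [← cj_cj, e3, cj_cj, inv_mul_cancel_right, ← cj_cj, e3]; nth_rw 1 [← ii]; rw [cj_inv_cj])
  obtain ⟨n, hn⟩ := exists_sqrt hp (Ug_pow hp hu0)
  have e5 : i * u0 ^ n * i⁻¹ = (u0 ^ n)⁻¹ := by rw [← conj_pow, eq_inv_of_mul_eq_one_left e4, inv_pow]
  have hv := pow_mem hu0 n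
  generalize u0 ^ n = v at hn e5 hv
  have e6 : H70.cj i (H70.cj v β) = H70.cj v β := by
    rw [cj_cj, show i * v = v⁻¹ * i by rw [← e5]; group, ← cj_cj, ← e3, cj_cj, ← hn, inv_mul_cancel_left]
  have h4 := h2.cj v
  rw [h2.cj_Ug hv h2.d2_a] at h4
  have k5 := congrArg (H70.cj v) k2
  rw [map_mul, map_mul] at k5
  have hξ := hβ.cj hv.1
  generalize H70.cj v β = ξ at e6 h4 k5 hξ
  have ξo : ξ * o = o * ξ := by
    have := cj_eq_self_iff.1 e6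
    rw [ei'] at this
    refine sub_eq_zero.1 (half_zero hp ?_)
    rw [← sub_eq_zero] at this
    rw [← neg_eq_zero, ← this]; noncomm_ring
  have ξo' : ξ * o = ξ := by rw [← h4.bab, mul_assoc _ ξ, ξo, ← mul_assoc, mul_assoc ξ α, αo]
  refine ⟨ξ, hξ, by rw [← ξo, ξo', ξo'], ?_⟩
  obtain ⟨x1, y1, hx1, hy1, e7, e8⟩ := h4.decomp hv
  have oδ : o * δ = δ := by rw [hD]; simp [mul_assoc, h.r]
  have δo : δ * o = δ := by rw [hD]; simp [mul_assoc, h.r]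
  have e9 : o * (v : Ep p M) * o = o * ((v⁻¹ : GLp p M) : Ep p M) * o := by
    rw [← e5, ii, Units.val_mul, Units.val_mul, ei]
    simp [mul_sub, sub_mul, mul_assoc, h.r]
  have yδ : ∀ y, D2 (H70.cj v (α * β)) (H70.cj v (β * α)) y → y * δ = 0 ∧ δ * y = 0 := by
    rintro _ ⟨Z, rfl⟩
    rw [← h4.ab, ← h4.ba]
    simp [hαd, mul_assoc, dd, k4]
  obtain ⟨m1, m2⟩ := yδ _ hy1
  obtain ⟨m3, m4⟩ := yδ _ ((h4.d1_mul hx1.1 hx1.1).sub hy1)
  generalize x1 * x1 - y1 = y2 at e8 m3 m4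
  have m5 : ξ * x1 * δ = 0 := by
    have k6 := congrArg (fun t => ξ * t * δ) e9
    simp only [← mul_assoc, ξo'] at k6
    simp only [mul_assoc, oδ] at k6
    rw [e7, e8, add_mul _ y1, add_mul _ y2, m1, m3] at k6
    refine half_zero hp ?_
    linear_combination (norm := noncomm_ring) k6
  have m6 : δ * x1 * ξ = 0 := by
    have k6 := congrArg (fun t => δ * t * ξ) e9
    simp only [mul_assoc, ← ξo, ξo'] at k6
    simp only [← mul_assoc, δo] at k6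
    rw [e7, e8, mul_add _ _ y1, mul_add _ _ y2, m2, m4] at k6
    refine half_zero hp ?_
    linear_combination (norm := noncomm_ring) k6
  rw [cj_apply, e7, e8, add_mul _ y1, m1, add_zero, mul_assoc (1 + x1), mul_add δ, m4, add_zero, ← mul_assoc,
    ← mul_assoc, mul_add, add_mul, m5, add_zero, mul_one, mul_assoc, mul_assoc, ← mul_assoc δ, mul_sub, sub_mul,
    m6, sub_zero, mul_one, ← mul_assoc] at k5
  exact k5

end H98.Fl
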