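import Cfsg.Agent.H98.FlQ4
import Cfsg.Agent.H98.FlG

/-! Theorem B: the case of one class, and the induction. -/

namespace H98.Fl

open Cfsg H70 LinearMap

universe u

variable {p : ℕ} [Fact p.Prime]

section lin

variable {M : Type*} [AddCommGroup M] [Module (ZMod p) M] [Finite M]
variable {G R P A N : Subgroup (GLp p M)} {a b c e o f δ : Ep p M} {g : GLp p M}

/-- an invariant pair of opposite root groups -/
theorem inv_pair (hp : 5 ≤ p) (hG : NU G) (ha : QD G a) (hA : A ≤ H46.Nrm G) (hN : N ≤ G) (hAN : A ≤ H46.Nrm N)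
    (cop : (Nat.card A).Coprime (Nat.card G)) (solv : Group.IsSolvable A)
    (h : ∀ r ∈ A, ∃ n ∈ N, conjBy (rootGrp G a) r = conjBy (rootGrp G a) n) :
    ∃ n ∈ N, ∃ b e o f, QD G b ∧ Pe (cj n a) b e o f ∧ A ≤ H46.Nrm (rootGrp G (cj n a)) ∧ A ≤ H46.Nrm (rootGrp G b) := by
  obtain ⟨n, hn, h1⟩ := H51.glauberman_cj hAN (H46.coprime_of_le cop le_rfl hN) (Or.inl solv) _ h
  rw [show H46.cj n (rootGrp G a) = _ from conjBy_rootGrp (hN hn)] at h1
  have ha' := ha.cj (hN hn)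
  refine ⟨n, hn, ?_⟩
  generalize cj n a = a at h1 ha'
  obtain ⟨β, hβ, ho⟩ := ha'.exists_opp (bigField hp) hG
  obtain ⟨b, h2, h3, h4, h5⟩ := ho.exists_partner (bigField hp) ha' hβ
  have hb := (hβ.of_mem h2 h3).1
  have h6 := pe_of ha'.qe.sq hb.qe.sq h4 h5
  obtain ⟨u, hu, h7⟩ := H51.glauberman_cj (N := Ug G a) (fun r hr => h6.nrm_Ug hp ha' hb (hA hr) (h1 hr))
    (H46.coprime_of_le cop le_rfl Ug_le) (Or.inl solv) (rootGrp G b) fun r hr => by
      have k1 := qdN hb (hA hr)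
      obtain ⟨u, hu, b', hb', e1⟩ := h6.c1' hp ha' hb k1 ((opp_iff_ne hp ha' k1).1 ((opp_congr ha' k1
        (nrm_root (hA hr) (h1 hr) ha'.qe.self_mem) (by simpa using ha'.ne) k1.qe.self_mem k1.ne).1
        ((opp_of_normalized h4 h5).cj r)))
      refine ⟨u, hu, (rootGrpN (hA hr)).trans ?_⟩
      rw [e1, ← conjBy_rootGrp hu.1, hb.rootGrp_eq hb' fun e2 => k1.ne (by rw [e1, e2, map_zero])]
  rw [show H46.cj u (rootGrp G b) = _ from conjBy_rootGrp hu.1] at h7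
  have h8 := h6.cj u
  rw [h6.cj_Ug hu h6.d2_a] at h8
  exact ⟨_, _, _, _, hb.cj hu.1, h8, h1, h7⟩

theorem Pe.top_fix (h : Pe a b e o f) (hp : 5 ≤ p) (ha : SC G a) (hb : QD G b) (hR : R ≤ H46.Nrm G)
    (irr : IsIrreducibleFor (G ⊔ R)) (hRe : ∀ r ∈ R, H70.cj r e = e) {T : Subgroup (GLp p M)} (hT : IsPGroup p T)
    (hTe : ∀ t ∈ T, H70.cj t e = e) (hN : Ng G e f ≤ H46.Nrm T) (hRT : R ≤ H46.Nrm T) :
    ∀ t ∈ T, (t : Ep p M) * a = a := by
  have k0 : ∀ t : GLp p M, H70.cj t e = e → ∀ w ∈ range a, (t : Ep p M) w ∈ range a := by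
    rintro t ht _ ⟨m, rfl⟩
    refine ⟨b ((t : Ep p M) (a m)), ?_⟩
    rw [← Module.End.mul_apply, ← Module.End.mul_apply, ← Module.End.mul_apply, h.ab, ← cj_eq_self_iff.1 ht,
      mul_assoc, h.r1.1.2.2.2.2.1]; rfl
  have k1 : ∀ t : GLp p M, H70.cj t e = e → t ∈ H46.Nrm T → ∀ w ∈ range a ⊓ fixedSubmodule T,
      (t : Ep p M) w ∈ range a ⊓ fixedSubmodule T := fun t h1 h2 w hw =>
    ⟨k0 t h1 w hw.1, mem_fixedSubmodule.2 fun s hs => by
      have := congrArg (t : Ep p M) (mem_fixedSubmodule.1 hw.2 _ (H46.conj_mem_of_mem_nrm' h2 hs))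
      rwa [Units.val_mul, Units.val_mul, Module.End.mul_apply, Module.End.mul_apply, unit_apply_inv] at this⟩
  obtain ⟨w, hw, hw0, hw1⟩ := exists_fix_vec hT (W := range a) (fun t ht => k0 t (hTe t ht))
    fun e => ha.qd.ne (range_eq_bot.1 e)
  let W : Submodule (ZMod p) M := ⨅ g ∈ G, (range a ⊓ fixedSubmodule T).comap (e * (g : Ep p M))
  have hW : ∀ m, m ∈ W ↔ ∀ g ∈ G, e ((g : Ep p M) m) ∈ range a ⊓ fixedSubmodule T := fun m => by
    simp only [W, Submodule.mem_iInf, Submodule.mem_comap, Module.End.mul_apply]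
  have k2 : W = ⊤ := by
    refine (irr.2 W fun g hg => ?_).resolve_left fun e1 => hw0 ?_
    · rw [Subgroup.sup_eq_closure] at hg
      refine Subgroup.closure_induction_left (p := fun (g : GLp p M) _ => ∀ w ∈ W, (g : Ep p M) w ∈ W) (fun w hw => hw) ?_ ?_ hg
      all_goals
        have k3 : ∀ x ∈ (G : Set (GLp p M)) ∪ R, ∀ w ∈ W, (x : Ep p M) w ∈ W := by
          rintro x (hx | hx) w hw
          · exact (hW _).2 fun g hg => (hW w).1 hw _ (G.mul_mem hg hx)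
          · refine (hW _).2 fun g hg => ?_
            have := k1 x (hRe x hx) (hRT hx) _ ((hW w).1 hw _ (H46.conj_mem_of_mem_nrm' (hR hx) hg))
            rwa [← Module.End.mul_apply, cj_eq_self_iff.1 (hRe x hx), Units.val_mul, Units.val_mul,
              Module.End.mul_apply, Module.End.mul_apply, Module.End.mul_apply, unit_apply_inv] at this
      · exact fun x hx y _ ih w hw => k3 x hx _ (ih w hw)
      · exact fun x hx y _ ih w hw => k3 x⁻¹ (hx.imp G.inv_mem R.inv_mem) _ (ih w hw)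
    · rw [← Submodule.mem_bot (ZMod p), ← e1]
      exact (hW w).2 (h.sm hp ha hb inf_le_left (fun m hm => k1 m (mem_Ng.1 hm).2.1 (hN hm))
        ⟨hw, mem_fixedSubmodule.2 hw1⟩)
  intro t ht
  ext m
  have := ((hW (a m)).1 (k2 ▸ Submodule.mem_top) 1 G.one_mem).2
  rw [Units.val_one, Module.End.one_apply, ← Module.End.mul_apply, h.r1.1.2.2.2.2.1] at this
  exact mem_fixedSubmodule.1 this t ht

/-- the case of one class -/
theorem core (hp : 5 ≤ p) (ha : SC G a) (h : Hyp p G R P) (irr : IsIrreducibleFor (G ⊔ R)) :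
    ∃ N < G, R ≤ H46.Nrm N ∧ P ≤ N ∧ ∀ g ∈ H46.Op p N, ((g : Ep p M) - 1) * ((g : Ep p M) - 1) = 0 → g = 1 := by
  obtain ⟨n, hn, b, e, o, f, hb, h1, h2, h3⟩ := inv_pair hp ha.nu ha.qd h.nrm le_rfl h.nrm h.cop h.solv fun r hr => by
    obtain ⟨g, hg, e1⟩ := ha.mem hp (qdN ha.qd (h.nrm hr))
    exact ⟨g, rootTop_le hg, (rootGrpN (h.nrm hr)).trans e1⟩
  have ha' := ha.of hp (ha.qd.cj hn)
  generalize cj n a = a at h1 h2 ha'
  have hb' := ha'.of hp hb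
  have hR := fun r hr => h1.nrm_idem ha'.qd hb (h.nrm hr) (h2 hr) (h3 (x := r) hr)
  have hRN : R ≤ H46.Nrm (Ng G e f) := fun r hr => H46.mem_nrm_of_cj_le (by
    rintro _ ⟨x, hx, rfl⟩
    obtain ⟨k1, k2, k3⟩ := mem_Ng.1 hx
    obtain ⟨k4, k5⟩ := hR r hr
    obtain ⟨k6, k7⟩ := hR _ (R.inv_mem hr)
    refine mem_Ng.2 ⟨H46.conj_mem_of_mem_nrm (h.nrm hr) k1, ?_, ?_⟩ <;>
      simp only [MulEquiv.coe_toMonoidHom, MulAut.conj_apply, ← cj_cj, k2, k3, k4, k5, k6, k7])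
  refine ⟨Ng G e f, lt_of_le_of_ne inf_le_left fun e1 => ha'.qd.ne ?_, hRN, fun x hx => ?_, fun g hg hq => ?_⟩
  · have := cj_eq_self_iff.1 (mem_Ng.1 (e1.ge ha'.qd.qe.qu_mem')).2.1
    simpa [mul_add, add_mul, h1.r, eq_comm] using this
  · obtain ⟨S, k1, k2, k3, k4⟩ := h.sup Ug_le (Ug_pgroup hp) fun r hr => h1.nrm_Ug hp ha'.qd hb (h.nrm hr) (h2 hr)
    obtain ⟨S', l1, l2, l3, l4⟩ := h.sup Ug_le (Ug_pgroup hp) fun r hr =>
      h1.symm.nrm_Ug hp hb ha'.qd (h.nrm hr) (h3 hr)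
    exact mem_Ng.2 ⟨h.le hx, h1.nrm_idem ha'.qd hb (H46.le_nrm_self (h.le hx)) (h1.c2 hp ha' hb k1 k2 k3 (k4 hx))
      (h1.symm.c2 hp hb' ha'.qd l1 l2 l3 (l4 hx))⟩
  · have hT := H51.core_pgroup (Fact.out : p.Prime) (Ng G e f)
    have hTN := H51.core_le {p} (Ng G e f)
    have hNT := (H51.core_normal {p} (Ng G e f)).2
    have k1 := h1.top_fix hp ha' hb h.nrm irr (fun r hr => (hR r hr).1) hT (fun t ht => (mem_Ng.1 (hTN ht)).2.1) hNT
      (H51.nrm_core _ hRN) g hg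
    have k2 := h1.symm.top_fix hp hb' ha'.qd h.nrm irr (fun r hr => (hR r hr).2) hT
      (fun t ht => (mem_Ng.1 (hTN ht)).2.2) (fun x hx => hNT ⟨hx.1, hx.2.symm⟩) (H51.nrm_core _ hRN) g hg
    obtain ⟨k3, k4, k5⟩ := mem_Ng.1 (hTN hg)
    rw [cj_eq_self_iff] at k4 k5
    have k6 : (g : Ep p M) * e = e := by rw [← h1.ab, ← mul_assoc, k1]
    have k7 : (g : Ep p M) * f = f := by rw [← h1.ba, ← mul_assoc, k2]
    by_contra hne
    obtain ⟨ξ, m1, m2, m3⟩ := h1.final hp ha' hb (qe_of' k3 hq) (by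
      rw [h1.oo]; simp [mul_sub, sub_mul, k6, k7, ← k4, ← k5]) (ne_one_iff_sub.1 hne)
    have m4 : qu ξ m1.qe.sq ∈ Ng G e f := by
      refine mem_Ng.2 ⟨m1.qe.qu_mem', cj_eq_self_iff.2 ?_, cj_eq_self_iff.2 ?_⟩ <;>
        (rw [qu_val, m2]; simp [mul_add, add_mul, mul_assoc, h1.r])
    have m5 : IsPGroup p (Subgroup.zpowers (qu ξ m1.qe.sq)) := by
      rintro ⟨_, n, rfl⟩
      refine ⟨1, Subtype.ext ?_⟩
      change (qu ξ m1.qe.sq ^ n) ^ p ^ 1 = 1
      rw [pow_one, ← zpow_natCast, ← zpow_mul, mul_comm, zpow_mul, zpow_natCast, pow_p_eq_one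
        (pow_eq_zero_of_le (m := 2) (by omega) (by simp [pow_two, m1.qe.sq])), one_zpow]
    refine m1.ne (no_pgroup (m5.to_sup_of_normal_right' hT ((Subgroup.zpowers_le.2 m4).trans hNT)) hq m1.qe.sq
      (Subgroup.mem_sup_right ?_) (Subgroup.mem_sup_left (Subgroup.mem_zpowers _)) m3)
    rwa [show qu _ hq = g from Units.ext (by simp)]

theorem qcompN (hg : g ∈ H46.Nrm G) : g ∈ H46.Nrm (rootTop G) ∧
    conjBy (qcomp G (rootGrp G a)) g = qcomp G (rootGrp G (cj g a)) := by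
  have k1 : ∀ g ∈ H46.Nrm G, g ∈ H46.Nrm (rootTop G) := fun g hg => by
    have : ∀ g ∈ H46.Nrm G, ∀ B ∈ quadraticRootSubgroups G, conjBy B g ∈ quadraticRootSubgroups G := fun g hg B hB => by
      obtain ⟨α, hα, rfl⟩ := mem_quadraticRootSubgroups.1 hB
      exact mem_quadraticRootSubgroups.2 ⟨_, qdN hα hg, rootGrpN hg⟩
    exact conjBy_eq_self_iff.1 (conjBy_biSup (this g hg) (this _ (inv_mem hg)))
  have k2 : ∀ g ∈ H46.Nrm G, ∀ a, conjBy (qcomp G (rootGrp G a)) g ≤ qcomp G (rootGrp G (cj g a)) := fun g hg a => by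
    rw [conjBy, Subgroup.map_le_iff_le_comap]
    refine iSup₂_le ?_
    rintro _ ⟨t, ht, rfl⟩
    rw [← Subgroup.map_le_iff_le_comap]
    refine le_qcomp ⟨g * t * g⁻¹, H46.conj_mem_of_mem_nrm (k1 g hg) ht, ?_⟩
    rw [← rootGrpN hg, conjBy_conjBy, inv_mul_cancel_right]
    exact conjBy_conjBy _ _ _
  refine ⟨k1 g hg, le_antisymm (k2 g hg a) ?_⟩
  have := conjBy_mono (k2 _ (inv_mem hg) (cj g a)) g
  rwa [conjBy_cancel_inv, cj_inv_cj] at this

theorem qcomp_alt (hp : 5 ≤ p) (hG : NU G) (ha : QD G a) (hg : g ∈ H46.Nrm G) :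
    conjBy (rootGrp G a) g ∈ qcls G (rootGrp G a) ∧ g ∈ H46.Nrm (qcomp G (rootGrp G a)) ∨
      g ∉ H46.Nrm (qcomp G (rootGrp G a)) ∧ H46.cj g (qcomp G (rootGrp G a)) ≤ H46.Cent (qcomp G (rootGrp G a)) := by
  have hA := mem_quadraticRootSubgroups.2 ⟨a, ha, rfl⟩
  by_cases h : rootGrp G (cj g a) ∈ qcls G (rootGrp G a)
  · exact Or.inl ⟨by rwa [rootGrpN hg], conjBy_eq_self_iff.1 (by rw [(qcompN hg).2, qcomp, qcls_eq h]; rfl)⟩
  · have h1 := qcomp_comm_of_not_mem (bigField hp) hG hA (mem_quadraticRootSubgroups.2 ⟨_, qdN ha hg, rfl⟩) h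
    rw [← (qcompN hg).2] at h1
    refine Or.inr ⟨fun h2 => ?_, H46.commutator_eq_bot_iff'.1 h1⟩
    rw [conjBy_eq_self_iff.2 h2] at h1
    obtain ⟨η, hη, ho⟩ := ha.exists_opp (bigField hp) hG
    have h3 : ⁅rootGrp G a, rootGrp G η⁆ = ⊥ := eq_bot_iff.2 (h1 ▸ Subgroup.commutator_mono
      (le_qcomp (self_mem_qcls _)) (le_qcomp (ho.mem_qcls (bigField hp) ha hη)))
    exact ho.not_comm ha.qe.sq ha.ne (rootGrp_commutator_eq_bot_iff.1 h3 _ ha.qe.self_mem _ hη.qe.self_mem)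

/-- splitting of a quadratic element along a component -/
theorem qe_split (hp : 5 ≤ p) (hG : NU G) (hA : A ∈ quadraticRootSubgroups G) (n : ℕ) : ∀ ρ, QE G ρ → rk ρ = n →
    ∃ σ τ, ρ = σ + τ ∧ QE (qcomp G A) σ ∧ τ * τ = 0 ∧ σ * τ = 0 ∧ τ * σ = 0 ∧
      ∀ g ∈ qcomp G A, (g : Ep p M) * τ = τ * g := by
  have hk := bigField hp
  induction n using Nat.strong_induction_on with
  | _ n ih =>
  intro ρ hρ hn
  have hXG : qcomp G A ≤ G := (qcomp_le hA).trans rootTop_le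
  have hXu := hG.qcomp hA
  have hst : famGrp ρ ≤ qstab G A := (Subgroup.closure_le _).2 (by
    rintro g ⟨c, hc⟩
    rw [show g = qu _ (smul_sq_zero hρ.sq c) from Units.ext hc]
    exact hρ.mem_qstab hk hG hA c)
  have hnorm : famGrp ρ ≤ Subgroup.normalizer (qcomp G A : Set _) := fun g hg =>
    conjBy_eq_self_iff.1 (conjBy_biSup (fun _ hB => conj_mem_qcls_of_qstab (hst hg) hB)
      fun _ hB => conj_mem_qcls_of_qstab (hst (inv_mem hg)) hB)
  by_cases hu : ∀ g ∈ qcomp G A, IsUnipotentOn (famGrp ρ ⊔ conjBy (famGrp ρ) g)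
  · exact ⟨0, ρ, by simp, qe_zero, hρ.sq, by simp, by simp, (famGrp_comm_iff hρ.sq).1 (hXu.commutator_eq_bot hnorm hu)⟩
  push Not at hu
  obtain ⟨g, hg, hu⟩ := hu
  have hle : famGrp ρ ⊔ conjBy (famGrp ρ) g ≤ famGrp ρ ⊔ qcomp G A :=
    sup_le le_sup_left (conjBy_le_of_le le_sup_left (Subgroup.mem_sup_right hg))
  rw [conjBy_famGrp hρ.sq, famGrp, famGrp, ← Subgroup.closure_union] at hu hle
  have hρ' := hρ.cj (hXG hg)
  generalize cj g ρ = ρ' at hu hle hρ'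
  obtain ⟨ε, δ, F⟩ := exists_fit hρ.sq hρ'.sq
  have hε : ε ≠ 0 := by
    rintro rfl
    obtain ⟨n, hn⟩ := F.nilpotent_of_eq_zero
    exact hu (uni_pair F.aa F.bb (n := n) (by rw [hn, zero_mul]) (by rw [hn, zero_mul]))
  have c1 := F.ca F.ε_mem
  have z1 : ρ * (ε * ρ) = 0 := by rw [← mul_assoc, c1, mul_assoc, hρ.sq, mul_zero]
  have z2 : ε * ρ * (ε * ρ) = 0 := by rw [mul_assoc, z1, mul_zero]
  have z3 : ε * ρ * ρ = 0 := by rw [mul_assoc, hρ.sq, mul_zero]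
  have h1 : QE (qcomp G A) (ε * ρ) := by
    refine ⟨z2, fun c => ?_⟩
    have := gS_mono ((Subgroup.commutator_mono hle hle).trans
      (commutator_sup_le_of_abelian (famGrp_comm hρ.sq) hnorm))
      (F.mem_gS_lcs hk 1 (Subalgebra.smul_mem _ (one_mem _) c)).1
    simpa using this
  have h0 : QE G (ρ - ε * ρ) := by
    refine ⟨by simp [mul_sub, sub_mul, hρ.sq, z1, z2, z3], fun c => ?_⟩
    have := mul_mem (hρ.mem c) ((h1.mono hXG).mem (-c))
    convert this using 1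
    simp [mul_add, add_mul, z1, smul_sub]; abel
  have hlt : rk (ρ - ε * ρ) < n := by
    rw [← hn]
    refine Submodule.finrank_lt_finrank_of_lt (lt_of_le_of_ne ?_ fun e => F.eps_mul_ne hε ?_)
    · rw [← c1, ← mul_one_sub]; exact range_comp_le_range _ _
    · refine mul_eq_zero_of_range_le_ker (e ▸ range_le_ker_of_mul_eq_zero ?_)
      rw [mul_sub, ← mul_assoc, F.idem, sub_self]
  obtain ⟨σ, τ, e1, h2, h3, h4, h5, h⟩ := ih _ hlt _ h0 rfl
  have z4 : ε * ρ * (σ + τ) = 0 := by rw [← e1, mul_sub, z2, z3, sub_zero]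
  have z5 : (σ + τ) * (ε * ρ) = 0 := by rw [← e1, sub_mul, z1, z2, sub_zero]
  have z6 : ε * ρ * τ = τ * (ε * ρ) := by simpa [mul_add, add_mul] using h _ h1.qu_mem'
  have z7 : ε * ρ * τ = 0 := by
    rcases eq_or_ne σ 0 with rfl | hσ
    · simpa using z4
    let T : Subgroup (GLp p M) := qcomp G A ⊓ ⨅ m, fixGrp (τ m)
    have hT : ∀ g, g ∈ T ↔ g ∈ qcomp G A ∧ (g : Ep p M) * τ = τ := fun g => by
      simp only [T, Subgroup.mem_inf, Subgroup.mem_iInf, LinearMap.ext_iff]; rfl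
    have hTn : ∀ g ∈ qcomp G A, ∀ x ∈ T, g * x * g⁻¹ ∈ T := by
      intro g hg x hx
      obtain ⟨x1, x2⟩ := (hT x).1 hx
      refine (hT _).2 ⟨mul_mem (mul_mem hg x1) (inv_mem hg), ?_⟩
      rw [Units.val_mul, Units.val_mul, mul_assoc, h _ (inv_mem hg), ← mul_assoc, mul_assoc _ _ τ, x2, h g hg,
        Units.mul_inv_cancel_right]
    rcases qcomp_normal_dichotomy hk hG hA (N := T) inf_le_left (fun g hg => conjBy_eq_self_iff.2
      (mem_normalizer_of_conj_mem (hTn g hg) fun v hv => by simpa using hTn _ (inv_mem hg) v hv)) with e | e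
    · simpa [add_mul] using ((hT _).1 (e.ge h1.qu_mem')).2
    · have hFT : famGrp σ ≤ T := by
        intro x hx
        refine (hT x).2 ⟨(famGrp_le_iff h2.sq).2 h2 hx, ?_⟩
        obtain ⟨c, hc⟩ := (mem_famGrp h2.sq).1 hx
        rw [hc, add_mul, smul_mul_assoc, h4]; simp
      have := hXu (famGrp σ) (hFT.trans inf_le_left) (fun g hg => conjBy_eq_self_iff.2
        (Subgroup.centralizer_le_normalizer _ (Subgroup.mem_centralizer_iff.2 fun x hx =>
          commutator_eq_bot_iff.1 e x (hFT hx) g hg))) (famGrp_uni h2.sq)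
      have h6 : qu _ (smul_sq_zero h2.sq 1) ∈ famGrp σ := Subgroup.subset_closure (qu_mem_fam h2.sq 1)
      rw [this, Subgroup.mem_bot, qu_eq_one_iff, one_smul] at h6
      exact (hσ h6).elim
  rw [mul_add, z7, add_zero] at z4
  rw [add_mul, ← z6, z7, add_zero] at z5
  refine ⟨ε * ρ + σ, τ, by rw [add_assoc, ← e1]; abel, ⟨by rw [add_mul, mul_add, mul_add, z2, z4, z5, h2.sq]; simp,
    fun c => ?_⟩, h3, by rw [add_mul, z7, h4, add_zero], by rw [mul_add, ← z6, z7, h5, add_zero], h⟩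
  convert mul_mem (h1.mem c) (h2.mem c) using 1
  simp only [mul_add, add_mul, smul_add, one_mul, mul_one, smul_mul_assoc, mul_smul_comm, z4, smul_zero]; abel

omit [Finite M] in
theorem exists_qd (h : QE G δ) (h0 : δ ≠ 0) : ∃ a, QD G a := by
  obtain ⟨a, ⟨h1, h2⟩, h3⟩ := (measure rk).wf.has_min {a | QE G a ∧ a ≠ 0} ⟨δ, h, h0⟩
  exact ⟨a, h1, h2, fun β k1 k2 => not_lt.1 (h3 β ⟨k1, k2⟩)⟩

theorem irr_case (hp : 5 ≤ p) (h : Hyp p G R P) (irr : IsIrreducibleFor (G ⊔ R))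
    (ih : ∀ H R' P' : Subgroup (GLp p M), H < G → Hyp p H R' P' → ∀ g ∈ P',
      ((g : Ep p M) - 1) * ((g : Ep p M) - 1) = 0 → g ∈ H46.Op p H)
    (hg : g ∈ P) (hq : ((g : Ep p M) - 1) * ((g : Ep p M) - 1) = 0) : g = 1 := by
  have hk := bigField hp
  have hn : G ⊔ R ≤ H46.Nrm G := sup_le H46.le_nrm_self h.nrm
  have hO : H46.Op p G = ⊥ := by
    by_contra hne
    have h1 := ff_of_irreducible irr _ ((H51.core_le _ _).trans le_sup_left)
      (fun g hg => conjBy_eq_self_iff.2 (H51.nrm_core _ hn hg)) hne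
    obtain ⟨m, hm⟩ := irr.1
    obtain ⟨w, -, h2, h3⟩ := exists_fix_vec (H51.core_pgroup (Fact.out : p.Prime) G) (W := ⊤) (fun _ _ _ _ => trivial)
      fun e => hm (by rw [← Submodule.mem_bot (ZMod p), ← e]; trivial)
    exact h2 (by rw [← Submodule.mem_bot (ZMod p), ← h1]; exact mem_fixedSubmodule.2 h3)
  have hG : NU G := (ff_of_irreducible irr).nu.of_normal le_sup_left fun g hg => conjBy_eq_self_iff.2 (hn hg)
  have hδ := qe_of' (h.le hg) hq
  have hT : H46.NormalIn (rootTop G) G := ⟨rootTop_le, fun g hg => conjBy_eq_self_iff.1 (conjBy_rootTop hg)⟩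
  by_contra hne
  by_cases hc : g ∈ H46.Cent (rootTop G)
  · obtain ⟨a, ha⟩ := exists_qd hδ (ne_one_iff_sub.1 hne)
    have hR : R ≤ H46.Nrm (G ⊓ H46.Cent (rootTop G)) :=
      H46.nrm_inf h.nrm (H46.nrm_cent fun r hr => (qcompN (a := a) (h.nrm hr)).1)
    have := ih _ R _ (lt_of_le_of_ne inf_le_left fun e => ?_) (h.inf inf_le_left hR) g ⟨hg, h.le hg, hc⟩ hq
    · have := H51.core_le_core_of_normal _ ⟨inf_le_left, H46.nrm_inf H46.le_nrm_self (H46.nrm_cent hT.2)⟩ this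
      exact hne (hO.le this)
    · obtain ⟨η, hη, ho⟩ := ha.exists_opp hk hG
      have := H46.mem_cent.1 (e.ge hη.qe.qu_mem').2 _ (ha.le_rootTop (qu_mem_rootGrp ha.qe.self_mem))
      exact ho.not_comm ha.qe.sq ha.ne (qu_comm_iff.1 this)
  obtain ⟨a, ha, hc⟩ : ∃ a, QD G a ∧ g ∉ H46.Cent (qcomp G (rootGrp G a)) := by
    by_contra hcon
    push Not at hcon
    refine hc (H46.le_cent_symm (iSup₂_le fun B hB => ?_) (Subgroup.mem_zpowers g))
    obtain ⟨a, ha, rfl⟩ := mem_quadraticRootSubgroups.1 hB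
    exact (le_qcomp (self_mem_qcls _)).trans (H46.le_cent_symm (Subgroup.zpowers_le.2 (hcon a ha)))
  have hA := mem_quadraticRootSubgroups.2 ⟨a, ha, rfl⟩
  rcases ((qcomp_le hA).trans rootTop_le).lt_or_eq with hlt | heq
  · obtain ⟨σ, τ, e1, h1, h2, h3, h4, h5⟩ := qe_split hp hG hA _ _ hδ rfl
    obtain ⟨P', k1, k2⟩ := h.proj hlt.le fun r hr => (qcomp_alt hp hG ha (h.nrm hr)).imp (·.2) (·.2)
    have e2 : g = qu σ h1.sq * qu τ h2 := Units.ext (by
      rw [Units.val_mul, qu_val, qu_val, mul_add, add_mul _ _ τ, h3, mul_one, one_mul, add_zero, add_assoc, ← e1]; abel)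
    have k3 : qu τ h2 ∈ H46.Cent (qcomp G (rootGrp G a)) := H46.mem_cent.2 fun x hx =>
      Units.ext (by simp [mul_add, add_mul, h5 x hx])
    have k4 := ih _ _ _ hlt k1 _ (k2 _ h1.qu_mem' g hg (by simpa [e2] using k3) (pow_p_eq_one
      (pow_eq_zero_of_le (m := 2) (by omega) (by simp [pow_two, h1.sq])))) (by simpa using h1.sq)
    have k5 := H51.core_le_core_of_normal _ hT (H51.core_le_core_of_normal _
      ⟨qcomp_le hA, fun g hg => conjBy_eq_self_iff.1 (conjBy_qcomp hg)⟩ k4)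
    exact hc (by rwa [e2, show qu σ h1.sq = 1 from hO.le k5, one_mul])
  · obtain ⟨N, h1, h2, h3, h4⟩ := core hp ⟨ha, hG, heq⟩ h irr
    exact hne (h4 g (ih N R _ h1 (h.inf h1.le h2) g ⟨hg, h3 hg⟩ hq) hq)

end lin

theorem lb_aux (hp : 5 ≤ p) (n : ℕ) : ∀ (V : Type u) [AddCommGroup V] [Module (ZMod p) V] [Finite V]
    (G R P : Subgroup (GLp p V)), Nat.card G + Module.finrank (ZMod p) V = n → Hyp p G R P →
    ∀ g ∈ P, ((g : Ep p V) - 1) * ((g : Ep p V) - 1) = 0 → g ∈ H46.Op p G := by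
  induction n using Nat.strong_induction_on with
  | _ n ih =>
  intro V _ _ _ G R P hn h g hg hq
  by_cases irr : IsIrreducibleFor (G ⊔ R)
  · rw [irr_case hp h irr (fun H R' P' h1 h2 => ih _ (hn ▸ Nat.add_lt_add_right (H46.card_lt_of_lt h1) _)
      V H R' P' rfl h2) hg hq]
    exact one_mem _
  by_cases h0 : ∃ m : V, m ≠ 0
  swap
  · push Not at h0
    rw [show g = 1 from Units.ext (LinearMap.ext fun m => by rw [h0 m]; simp)]
    exact one_mem _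
  obtain ⟨W, hW, h1, h2⟩ : ∃ W : Submodule (ZMod p) V, (∀ g ∈ G ⊔ R, ∀ w ∈ W, (g : Ep p V) w ∈ W) ∧ W ≠ ⊥ ∧ W ≠ ⊤ := by
    by_contra hcon
    push Not at hcon
    exact irr ⟨h0, fun W hW => or_iff_not_imp_left.2 (hcon W hW)⟩
  let ρ : Representation (ZMod p) ↥(G ⊔ R) V := (Units.coeHom _).comp (G ⊔ R).subtype
  have hρ : ∀ g, W ≤ W.comap (ρ g) := fun g w hw => hW _ g.2 w hw
  let f1 := (ρ.subrepresentation W hρ).asGroupHom
  let f2 := (ρ.quotient W hρ).asGroupHom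
  have hgD : g ∈ G ⊔ R := Subgroup.mem_sup_left (h.le hg)
  have hfr := W.finrank_quotient_add_finrank
  have hW1 : 0 < Module.finrank (ZMod p) W := Nat.pos_of_ne_zero (by rwa [Ne, Submodule.finrank_eq_zero])
  have hW2 := Submodule.finrank_lt h2
  have : Finite (V ⧸ W) := Finite.of_surjective _ W.mkQ_surjective
  have k1 := ih _ (hn ▸ add_lt_add_of_le_of_lt (Nat.le_of_dvd Nat.card_pos (H46.card_mim_dvd f1 G)) hW2) W _ _ _ rfl
    (h.mim f1 le_sup_left le_sup_right) _ (H46.mel_mem_mim f1 hg) (by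
      rw [H46.mel_of_mem f1 hgD]
      ext w
      exact LinearMap.congr_fun hq w)
  have k2 := ih _ (hn ▸ add_lt_add_of_le_of_lt (Nat.le_of_dvd Nat.card_pos (H46.card_mim_dvd f2 G))
    (show Module.finrank (ZMod p) (V ⧸ W) < _ by omega)) (V ⧸ W) _ _ _ rfl
    (h.mim f2 le_sup_left le_sup_right) _ (H46.mel_mem_mim f2 hg) (by
      rw [H46.mel_of_mem f2 hgD]
      refine LinearMap.ext fun v => ?_
      obtain ⟨v, rfl⟩ := W.mkQ_surjective v
      exact congrArg W.mkQ (LinearMap.congr_fun hq v))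
  refine H51.le_core (N := G ⊓ (H46.mpre f1 (H46.Op p (H46.mim f1 G)) ⊓ H46.mpre f2 (H46.Op p (H46.mim f2 G))))
    ⟨inf_le_left, H46.nrm_inf H46.le_nrm_self (H46.nrm_inf
      (H46.le_nrm_mpre le_sup_left (H51.core_normal _ _).2) (H46.le_nrm_mpre le_sup_left (H51.core_normal _ _).2))⟩
    ((H51.pi_single Fact.out).2 ?_) ⟨h.le hg, H46.mem_mpre.2 ⟨hgD, k1⟩, H46.mem_mpre.2 ⟨hgD, k2⟩⟩
  rintro ⟨x, -, hx1, hx2⟩
  obtain ⟨hx, hx1⟩ := H46.mem_mpre.1 hx1
  obtain ⟨i, hi⟩ := H51.core_pgroup (Fact.out : p.Prime) _ ⟨_, hx1⟩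
  obtain ⟨j, hj⟩ := H51.core_pgroup (Fact.out : p.Prime) _ ⟨_, (H46.mem_mpre.1 hx2).2⟩
  have hi' : f1 (⟨x, hx⟩ ^ p ^ (i + j)) = 1 := by
    rw [map_pow, pow_add, pow_mul, ← H46.mel_of_mem f1 hx, show H46.mel f1 x ^ p ^ i = 1 from congrArg Subtype.val hi,
      one_pow]
  have hj' : f2 (⟨x, hx⟩ ^ p ^ (i + j)) = 1 := by
    rw [map_pow, pow_add, mul_comm, pow_mul, ← H46.mel_of_mem f2 hx,
      show H46.mel f2 x ^ p ^ j = 1 from congrArg Subtype.val hj, one_pow]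
  refine ⟨i + j + 1, Subtype.ext ?_⟩
  change x ^ p ^ (i + j + 1) = 1
  rw [pow_succ, pow_mul]
  refine pow_p_eq_one (pow_eq_zero_of_le (m := 2) (by omega) (LinearMap.ext fun v => ?_))
  have m1 : ∀ w ∈ W, ((x ^ p ^ (i + j) : GLp p V) : Ep p V) w = w := fun w hw =>
    congrArg Subtype.val (LinearMap.congr_fun (congrArg Units.val hi') ⟨w, hw⟩)
  have m2 : ((x ^ p ^ (i + j) : GLp p V) : Ep p V) v - v ∈ W :=
    (Submodule.Quotient.eq W).1 (LinearMap.congr_fun (congrArg Units.val hj') (W.mkQ v))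
  rw [pow_two]
  exact sub_eq_zero.2 (m1 _ m2)

theorem lb (p : ℕ) [Fact p.Prime] (hp : 5 ≤ p) : LB.{u} p := fun V _ _ _ G R P h g hg hq =>
  ⟨H46.Op p G, H51.core_le _ _, (H51.core_normal _ _).2, H51.core_pgroup Fact.out _, lb_aux hp _ V G R P rfl h g hg hq⟩

end H98.Fl
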