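import Cfsg.Agent.H98.WeakClosed
import Cfsg.Agent.H98.JoinSylow
import Cfsg.Agent.H3.FrattiniP
import Cfsg.Agent.H2.MinNormal

/-! The families `𝓛_H`, `𝔐_H`, `ℌ_G`; asymmetric `Y_M`. -/

set_option autoImplicit false

namespace H98

open Subgroup Cfsg H12
open scoped commutatorElement Pointwise

variable {G : Type*} [Group G] {p : ℕ}

theorem mem_charPSubgroups {L : Subgroup G} :
    L ∈ charPSubgroups p G ↔ pCoreOf p L ≠ ⊥ ∧ centralizer (pCoreOf p L : Set G) ≤ pCoreOf p L := by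
  rw [Ne, pCoreOf_eq_bot_iff]; rfl

theorem charP_of_mem_charPSubgroups {L : Subgroup G} (h : L ∈ charPSubgroups p G) : CharP p L :=
  inf_le_right.trans (mem_charPSubgroups.mp h).2

theorem pCoreOf_ne_bot_of_normal {L U : Subgroup G} (hU : IsPGroup p U) (h : U ≤ L)
    (hn : L ≤ normalizer (U : Set G)) (hne : U ≠ ⊥) : pCoreOf p L ≠ ⊥ :=
  fun e => hne (le_bot_iff.mp (e ▸ le_pCoreOf hU h hn))

variable [hp : Fact p.Prime]

/-- A group acting on a `p`-group trivially modulo the derived subgroup acts as a `p`-group. -/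
theorem res_le_centralizer_of_commutator_le [Finite G] {A W : Subgroup G} (hA : IsPGroup p A)
    (hn : W ≤ normalizer (A : Set G)) (h : ⁅A, W⁆ ≤ ⁅A, A⁆) : res p W ≤ centralizer (A : Set G) := by
  refine res_le_of_forall_prime fun q hq hne x hx ⟨k, hk⟩ => ?_
  haveI : Fact q.Prime := ⟨hq⟩
  have h1 := commutator_sup_centralizer_eq (isPGroup_zpowers hk) (not_dvd_card_of_isPGroup_ne hq hne hA)
    ((zpowers_le.mpr hx).trans hn)
  haveI := hA.isNilpotent
  have h2 := H3.eq_top_of_sup_commutator_of_nilpotent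
    (K := (A ⊓ centralizer (zpowers x : Set G)).subgroupOf A) (by
      apply map_injective A.subtype_injective
      rw [Subgroup.map_sup, map_subgroupOf_eq_of_le inf_le_left, map_subtype_commutator, map_subtype_top]
      refine le_antisymm (sup_le inf_le_left (commutator_le_of_le le_rfl le_rfl)) ?_
      conv_lhs => rw [← h1, sup_comm]
      exact sup_le_sup_left ((commutator_mono le_rfl (zpowers_le.mpr hx)).trans h) _)
  exact le_centralizer_iff.mp ((subgroupOf_eq_top.mp h2).trans inf_le_right) (mem_zpowers x)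

theorem ParCharP.mem_charPSubgroups [Finite G] {T L : Subgroup G} (h : ParCharP p (⊤ : Subgroup G))
    (hT : IsSyl p T ⊤) (hL : T ≤ L) (hne : pCoreOf p L ≠ ⊥) : L ∈ charPSubgroups p G := by
  have := h.inf_centralizer_pCoreOf_le hT hL le_top hne
  rw [top_inf_eq] at this
  exact H98.mem_charPSubgroups.mpr ⟨hne, this⟩

theorem CharP.Y_ne_bot {L : Subgroup G} [Finite L] (h : CharP p L) (hne : pCoreOf p L ≠ ⊥) :
    largestPReducedOf p L ≠ ⊥ := by
  obtain ⟨T, hT⟩ := exists_isSyl p L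
  haveI := finite_of_le hT.le
  exact fun e => oz_ne_bot hT.isPGroup (fun e' => hne (le_bot_iff.mp (e' ▸ hT.pCoreOf_le)))
    (le_bot_iff.mp (e ▸ h.oz_le_Y hT))

/-- `X† = X C(Y_X)`. -/
abbrev dag (p : ℕ) (X : Subgroup G) : Subgroup G := X ⊔ centralizer (largestPReducedOf p X : Set G)

theorem dag_le_normalizer (X : Subgroup G) [Finite X] :
    dag p X ≤ normalizer (largestPReducedOf p X : Set G) :=
  sup_le (pred_Y X).norm (centralizer_le_normalizer _)

theorem pred_Y_dag [Finite G] (X : Subgroup G) : PRed p (largestPReducedOf p X) (dag p X) :=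
  (pred_Y X).of_sup_eq ((pred_Y X).le.trans le_sup_left) (by rw [sup_assoc, sup_idem])

theorem mem_dag {X : Subgroup G} [Finite X] {x : G} :
    x ∈ dag p X ↔ ∃ a ∈ X, ∃ c ∈ centralizer (largestPReducedOf p X : Set G), x = a * c :=
  mem_sup_left_norm (le_normalizer_centralizer (pred_Y X).norm)

theorem sup_centralizer_trans {V W L F M : Subgroup G} (hVW : V ≤ W) (hL : L ≤ normalizer (V : Set G))
    (hM : M ≤ normalizer (W : Set G))
    (h1 : L ≤ ((L ⊔ centralizer (V : Set G)) ⊓ F) ⊔ centralizer (V : Set G))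
    (h2 : F ≤ M ⊔ centralizer (W : Set G)) :
    L ≤ ((L ⊔ centralizer (V : Set G)) ⊓ M) ⊔ centralizer (V : Set G) := by
  refine h1.trans (sup_le (fun x hx => ?_) le_sup_right)
  obtain ⟨m, hm, c, hc, rfl⟩ := (mem_sup_left_norm (le_normalizer_centralizer hM)).mp (h2 hx.2)
  have hc' := centralizer_anti hVW hc
  refine mul_mem (mem_sup_left ⟨?_, hm⟩) (mem_sup_right hc')
  have := mul_mem hx.1 (mem_sup_right (inv_mem hc') : c⁻¹ ∈ L ⊔ centralizer (V : Set G))
  simpa using this

/-- The Frattini condition of the basic property from minimality. -/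
theorem map_le_frattini_of_minimal [Finite G] {T M C : Subgroup G} (hT : IsSyl p T M) (hC : C ≤ M)
    (hn : M ≤ normalizer (C : Set G)) (hTC : T ⊓ C ≤ pCoreOf p M)
    (hmin : ∀ K, T ≤ K → K ≤ M → K ⊔ C = M → K = M) :
    (C.subgroupOf M).map (QuotientGroup.mk' (pCore p M)) ≤ frattini (M ⧸ pCore p M) := by
  refine H3.le_frattini_of_nongenerating fun K hK => ?_
  set f := QuotientGroup.mk' (pCore p M)
  set K' := (K.comap f).map M.subtype with hK'
  have k1 : K' ≤ M := map_subtype_le _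
  have k2 : pCoreOf p M ≤ K' := map_mono (by
    have := ker_le_comap f K; rwa [QuotientGroup.ker_mk'] at this)
  have k3 : K' ⊔ C = M := by
    have := congrArg (comap f) hK
    rw [comap_top, ← comap_sup_eq f _ _ (QuotientGroup.mk'_surjective _), comap_map_eq,
      QuotientGroup.ker_mk'] at this
    have := congrArg (map M.subtype) this
    rw [map_subtype_top, Subgroup.map_sup, Subgroup.map_sup, map_subgroupOf_eq_of_le hC] at this
    refine le_antisymm (sup_le k1 hC) (this.ge.trans (sup_le le_sup_left (sup_le le_sup_right ?_)))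
    exact k2.trans le_sup_left
  obtain ⟨R, hR, hOR⟩ := exists_isSyl_le (isPGroup_pCoreOf (p := p) M) k2
  obtain ⟨g, hg, hRT⟩ := hT.exists_le_cj hR.isPGroup (hR.le.trans k1)
  have h1 := hR.le_sup_of_normal (k1.trans hn) (isPGroup_cj g hT.isPGroup) hRT
    (k3.symm ▸ cj_le_of_le_of_mem hT.le hg)
  have h2 : cj g T ≤ K' := by
    refine (le_inf h1 le_rfl).trans ?_
    rw [sup_inf_of_le_left ((hR.le.trans k1).trans hn) hRT]
    refine sup_le hR.le (le_trans ?_ k2)
    rw [← cj_eq_self (hn hg), ← cj_inf, inf_comm]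
    exact cj_le_of_le hTC (self_le_normalizer_pCoreOf M hg)
  have h3 := hmin (cj g⁻¹ K') (cj_le_iff.mp h2) (cj_le_of_le_of_mem k1 (inv_mem hg)) (by
    rw [← cj_eq_self (hn (inv_mem hg)), ← cj_sup, k3, cj_eq_self_of_mem (inv_mem hg)])
  have h4 : K' = M := by rw [← cj_cj_inv g K', h3, cj_eq_self_of_mem hg]
  have h5 : K.comap f = ⊤ := map_injective M.subtype_injective (by rw [map_subtype_top]; exact h4)
  rw [← map_comap_eq_self_of_surjective (QuotientGroup.mk'_surjective _) K, h5,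
    map_top_of_surjective _ (QuotientGroup.mk'_surjective _)]

/-- Existence of members of `𝔐_H(T)` above a member of `𝓛_H(T)`. -/
theorem exists_frakM [Finite G] {T L : Subgroup G} (h : ParCharP p (⊤ : Subgroup G))
    (hT : IsSyl p T ⊤) (hTL : T ≤ L) (hL : pCoreOf p L ≠ ⊥) :
    ∃ M Ls : Subgroup G, T ≤ M ∧ IsInFrakM p M ∧ T ≤ Ls ∧ Ls ≤ M ∧ Ls ∈ charPSubgroups p G ∧
      largestPReducedOf p L = largestPReducedOf p Ls ∧ largestPReducedOf p L ≤ largestPReducedOf p M ∧
      dag p L = Ls ⊔ centralizer (largestPReducedOf p L : Set G) := by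
  have hc : ∀ X, T ≤ X → pCoreOf p X ≠ ⊥ → CharP p X := fun X a b => h.charP hT a le_top b
  have hdag : ∀ X, T ≤ X → pCoreOf p X ≠ ⊥ → pCoreOf p (dag p X) ≠ ⊥ := fun X a b =>
    pCoreOf_ne_bot_of_normal (pred_Y X).isPGroup (pred_Y_dag X).le (dag_le_normalizer X) ((hc X a b).Y_ne_bot b)
  set V := largestPReducedOf p L with hV
  let 𝒮 : Subgroup G → Prop := fun F => T ≤ F ∧ pCoreOf p F ≠ ⊥ ∧
    L ≤ (dag p L ⊓ F) ⊔ centralizer (V : Set G)
  have hVF : ∀ F, 𝒮 F → V ≤ largestPReducedOf p F := fun F hF => by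
    have a : T ≤ dag p L ⊓ F := le_inf (hTL.trans le_sup_left) hF.1
    refine le_trans ?_ ((hc F hF.1 hF.2.1).Y_mono (hT.of_le hF.1 le_top) a inf_le_right)
    refine ((pred_Y L).of_sup_eq
      (((pred_Y L).le_pCoreOf.trans (hT.of_le hTL le_top).pCoreOf_le).trans a) ?_).le_Y
    exact le_antisymm (sup_le hF.2.2 le_sup_right) (sup_le inf_le_left le_sup_right)
  have hmono : ∀ F F', 𝒮 F → F ≤ F' → pCoreOf p F' ≠ ⊥ → 𝒮 F' := fun F F' hF a b =>
    ⟨hF.1.trans a, b, hF.2.2.trans (sup_le_sup_right (inf_le_inf_left _ a) _)⟩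
  obtain ⟨W, ⟨F0, hF0, hW0⟩, hW⟩ := H2.exists_maximal_subgroup
    (fun W => ∃ F, 𝒮 F ∧ largestPReducedOf p F = W)
    ⟨_, L, ⟨hTL, hL, le_sup_of_le_left (le_inf le_sup_left le_rfl)⟩, rfl⟩
  obtain ⟨F, ⟨hF, hFW⟩, hFmax⟩ := H2.exists_maximal_subgroup
    (fun F => 𝒮 F ∧ largestPReducedOf p F = W) ⟨F0, hF0, hW0⟩
  obtain ⟨M, ⟨m1, m2, m3⟩, hMmin⟩ := H2.exists_minimal_subgroup
    (fun M => T ≤ M ∧ M ≤ F ∧ F ≤ M ⊔ centralizer (W : Set G)) ⟨F, hF.1, le_rfl, le_sup_left⟩
  have hWF : PRed p W F := hFW ▸ pred_Y F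
  have hTF := hT.of_le hF.1 le_top
  have hWM : PRed p W M := hWF.of_sup_eq ((hWF.le_pCoreOf.trans hTF.pCoreOf_le).trans m1)
    (le_antisymm (sup_le m3 le_sup_right) (sup_le_sup_right m2 _))
  have hYM : largestPReducedOf p M = W :=
    le_antisymm (hFW ▸ (hc F hF.1 hF.2.1).Y_mono hTF m1 m2) hWM.le_Y
  have hWne : W ≠ ⊥ := hFW ▸ (hc F hF.1 hF.2.1).Y_ne_bot hF.2.1
  have hMne : pCoreOf p M ≠ ⊥ := pCoreOf_ne_bot_of_normal hWM.isPGroup hWM.le hWM.norm hWne
  have hSM : 𝒮 M := ⟨m1, hMne, sup_centralizer_trans (hFW ▸ hVF F hF) (pred_Y L).norm hWM.norm hF.2.2 m3⟩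
  have key : ∀ X, M ≤ X → pCoreOf p X ≠ ⊥ → dag p X = F := by
    intro X x1 x2
    have x3 := hdag X (m1.trans x1) x2
    have x4 : W ≤ largestPReducedOf p X :=
      hYM ▸ (hc X (m1.trans x1) x2).Y_mono (hT.of_le (m1.trans x1) le_top) m1 x1
    have x5 := hmono M _ hSM (x1.trans le_sup_left) x3
    have x6 := hW _ ⟨_, x5, rfl⟩ (x4.trans (pred_Y_dag X).le_Y)
    have x7 : largestPReducedOf p X = W := le_antisymm (x6 ▸ (pred_Y_dag X).le_Y) x4
    exact hFmax _ ⟨x5, x6⟩ (m3.trans (by rw [dag, x7]; exact sup_le_sup_right x1 _))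
  have hMF : dag p M = F := key M le_rfl hMne
  have hTM := hT.of_le m1 le_top
  have hnorm : M ≤ normalizer ((T ⊓ centralizer (W : Set G) : Subgroup G) : Set G) := by
    have := hMmin _ ⟨hTM.le_normalizer_inf_centralizer (m1.trans hWM.norm), inf_le_left.trans m2,
      m3.trans (hTM.frattini_centralizer' hWM.norm).le⟩ inf_le_left
    exact inf_eq_left.mp this
  have hFL : dag p M ∈ charPSubgroups p G := hMF ▸ h.mem_charPSubgroups hT hF.1 hF.2.1
  set L1 := dag p L ⊓ M with hL1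
  have hTL1 : T ≤ L1 := le_inf (hTL.trans le_sup_left) m1
  have hVL1 : PRed p V L1 := (pred_Y L).of_sup_eq
    (((pred_Y L).le_pCoreOf.trans (hT.of_le hTL le_top).pCoreOf_le).trans hTL1)
    (le_antisymm (sup_le hSM.2.2 le_sup_right) (sup_le inf_le_left le_sup_right))
  have hT1 := hT.of_le hTL1 le_top
  have hVne : V ≠ ⊥ := (hc L hTL hL).Y_ne_bot hL
  have hVs := hVL1.normalizer_inf_centralizer hT1
  have hTs := hT1.le_normalizer_inf_centralizer (hTL1.trans hVL1.norm)
  refine ⟨M, L1 ⊓ normalizer ((T ⊓ centralizer (V : Set G) : Subgroup G) : Set G), m1,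
    ⟨h.mem_charPSubgroups hT m1 hMne, ⟨hFL, fun X x1 x2 => ?_⟩, fun X x1 x2 => ?_, ?_, ?_, ?_⟩,
    hTs, inf_le_left.trans inf_le_right,
    h.mem_charPSubgroups hT hTs (pCoreOf_ne_bot_of_normal hVs.isPGroup hVs.le hVs.norm hVne),
    le_antisymm hVs.le_Y ?_, hVF M hSM, ?_⟩
  · refine le_antisymm ?_ x2
    have := key X (le_sup_left.trans x2) (H98.mem_charPSubgroups.mp x1).1
    exact le_sup_left.trans (this.trans hMF.symm).le
  · have := key X x2 (H98.mem_charPSubgroups.mp x1.1).1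
    exact (x1.2 _ hFL (le_sup_left.trans (this.trans hMF.symm).le)).symm
  · change _ = largestPReducedOf p (dag p M)
    rw [hMF, hFW, hYM]
  · rw [isPClosed_iff, hYM]
    exact (hTM.inf_centralizer (m1.trans hWM.norm)).pcl_of_normal (inf_le_left.trans hnorm)
  · rw [hYM]
    refine map_le_frattini_of_minimal hTM inf_le_left
      (le_normalizer_inf le_normalizer (le_normalizer_centralizer hWM.norm)) ?_ fun K k1 k2 k3 => ?_
    · exact (inf_le_inf_left T inf_le_right).trans
        (le_pCoreOf hT.isPGroup.to_inf_left (inf_le_left.trans m1) hnorm)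
    · exact hMmin K ⟨k1, k2.trans m2, m3.trans (sup_le (k3.ge.trans (sup_le_sup_left inf_le_right K))
        le_sup_right)⟩ k2
  · refine (Y_le_oz _).trans ?_
    rw [hVL1.pCoreOf_normalizer hT1]
    exact ((hc L hTL hL).Y_eq_oz (hT.of_le hTL le_top)).ge
  · rw [← hT1.frattini_centralizer' hVL1.norm]
    exact le_antisymm (sup_le hSM.2.2 le_sup_right) (sup_le inf_le_left le_sup_right)

/-! ### Members of `𝔐_G(S)` in parabolic characteristic `p` -/

/-- The standing hypothesis: parabolic characteristic `p` and `M ∈ 𝔐_G(S)`. -/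
structure FM (p : ℕ) (S M : Subgroup G) : Prop where
  par : ParCharP p (⊤ : Subgroup G)
  syl : IsSyl p S ⊤
  le : S ≤ M
  mem : IsInFrakM p M

theorem fm_of_large [Finite G] {Q M : Subgroup G} (S : Sylow p G) (hQp : IsPGroup p Q) (hQ1 : Q ≠ ⊥)
    (hQ : IsLarge Q) (hSM : (S : Subgroup G) ≤ M) (hM : IsInFrakM p M) : FM p (S : Subgroup G) M :=
  ⟨large_parCharP hQ hQp hQ1, isSyl_sylow S, hSM, hM⟩

namespace FM

variable [Finite G] {S M : Subgroup G} (h : FM p S M)
include h

omit hp [Finite G] in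
theorem O_ne_bot : pCoreOf p M ≠ ⊥ := (mem_charPSubgroups.mp h.mem.1).1

omit hp [Finite G] in
theorem centralizer_O_le : centralizer (pCoreOf p M : Set G) ≤ pCoreOf p M :=
  (mem_charPSubgroups.mp h.mem.1).2

omit hp [Finite G] in
theorem charP : CharP p M := charP_of_mem_charPSubgroups h.mem.1

omit hp [Finite G] in
theorem sylM : IsSyl p S M := h.syl.of_le h.le le_top

theorem Y_ne_bot : largestPReducedOf p M ≠ ⊥ := h.charP.Y_ne_bot h.O_ne_bot

theorem le_dag {X : Subgroup G} (hX : M ≤ X) (hne : pCoreOf p X ≠ ⊥) : X ≤ dag p M := by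
  obtain ⟨X', ⟨x1, x2⟩, x3⟩ := H2.exists_maximal_subgroup (fun X' => X' ∈ charPSubgroups p G ∧ X ≤ X')
    ⟨X, h.par.mem_charPSubgroups h.syl (h.le.trans hX) hne, le_rfl⟩
  exact x2.trans (h.mem.2.2.1 X' ⟨x1, fun L l1 l2 => x3 L ⟨l1, x2.trans l2⟩ l2⟩ (hX.trans x2)).le

theorem normalizer_le_dag {U : Subgroup G} (hU : IsPGroup p U) (hne : U ≠ ⊥)
    (hn : M ≤ normalizer (U : Set G)) : normalizer (U : Set G) ≤ dag p M :=
  h.le_dag hn (pCoreOf_ne_bot_of_normal hU le_normalizer le_rfl hne)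

theorem normalizer_Y : normalizer (largestPReducedOf p M : Set G) = dag p M :=
  le_antisymm (h.normalizer_le_dag (pred_Y M).isPGroup h.Y_ne_bot (pred_Y M).norm) (dag_le_normalizer M)

theorem normalizer_O_le : normalizer (pCoreOf p M : Set G) ≤ dag p M :=
  h.normalizer_le_dag (isPGroup_pCoreOf M) h.O_ne_bot (self_le_normalizer_pCoreOf M)

theorem O_eq : pCoreOf p M = S ⊓ centralizer (largestPReducedOf p M : Set G) := by
  refine le_antisymm (le_inf h.sylM.pCoreOf_le (pred_Y M).red.pCoreOf_le) ?_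
  exact (isPClosed_iff.mp h.mem.2.2.2.2.1 _ (inf_le_inf_right _ h.le) h.syl.isPGroup.to_inf_left).trans
    (pCoreOf_le_pCoreOf_of_normal inf_le_left
      (le_normalizer_inf le_normalizer (le_normalizer_centralizer (pred_Y M).norm)))

theorem isSyl_O : IsSyl p (pCoreOf p M) (centralizer (largestPReducedOf p M : Set G)) := by
  have := h.syl.inf_centralizer (h.le.trans (pred_Y (p := p) M).norm)
  rwa [top_inf_eq, ← h.O_eq] at this

theorem Y_eq_oz : largestPReducedOf p M = oz p (pCoreOf p M) := by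
  rw [h.O_eq]; exact h.charP.Y_eq_oz h.sylM

theorem inf_centralizer_eq {R : Subgroup G} (hR : IsPGroup p R) (hO : pCoreOf p M ≤ R) :
    R ⊓ centralizer (largestPReducedOf p M : Set G) = pCoreOf p M :=
  h.isSyl_O.eq_of_le hR.to_inf_left (le_inf hO h.isSyl_O.le) inf_le_right

theorem wc_dag : WC p (pCoreOf p M) (dag p M) := by
  refine ⟨(pCoreOf_le M).trans le_sup_left, isPGroup_pCoreOf M, fun g hg R hR h1 h2 => ?_⟩
  have a := h.isSyl_O.cj_of_mem_normalizer (le_normalizer_centralizer (dag_le_normalizer M) hg)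
  exact (a.eq_of_le (isPGroup_pCoreOf M) ((le_inf h2 a.le).trans (h.inf_centralizer_eq hR h1).le)
    h.isSyl_O.le).symm

omit h in
theorem commutator_eq_bot {Y : Subgroup G} (hasym : ¬ IsSymmetricIn Y) {g : G}
    (h1 : cj g Y ≤ normalizer (Y : Set G)) (h2 : Y ≤ normalizer (cj g Y : Set G)) :
    cj g Y ≤ centralizer (Y : Set G) := by
  rw [le_centralizer_iff, ← commutator_eq_bot_iff_le_centralizer]
  by_contra hne
  exact hasym ⟨g, hne, le_inf (commutator_le_left' h1) (commutator_le_right' h2)⟩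

/-- The amalgam argument for asymmetric `Y_M`. -/
theorem normalizer_le_dag_of_asym (hasym : ¬ IsSymmetricIn (largestPReducedOf p M)) {L : Subgroup G}
    (hL : IsPGroup p L) (h1 : pCoreOf p M ≤ L) (h2 : L ≤ dag p M) : normalizer (L : Set G) ≤ dag p M := by
  set Y := largestPReducedOf p M
  set N := normalizer (L : Set G)
  have hLY : L ≤ normalizer (Y : Set G) := h2.trans (dag_le_normalizer M)
  have hinv : ∀ n : ℕ, (((M : Set G) * (N : Set G)) ^ n)⁻¹ = ((N : Set G) * (M : Set G)) ^ n := by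
    intro n
    rw [← inv_pow, mul_inv_rev, inv_coe_set, inv_coe_set]
  have key : ∀ n : ℕ, ∀ x ∈ ((M : Set G) * (N : Set G)) ^ n, cj x Y ≤ pCoreOf p M := by
    intro n
    induction n with
    | zero =>
      intro x hx
      rw [pow_zero, Set.mem_one] at hx
      rw [hx, cj_one]
      exact (pred_Y M).le_pCoreOf
    | succ n ih =>
      intro x hx
      rw [pow_succ'] at hx
      obtain ⟨_, ⟨m, hm, g, hg, rfl⟩, y, hy, rfl⟩ := hx
      have a : ∀ g ∈ N, ∀ y ∈ ((M : Set G) * (N : Set G)) ^ n, cj (g * y) Y ≤ L := fun g hg y hy => by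
        rw [← cj_cj]; exact cj_le_of_le ((ih y hy).trans h1) hg
      have b : (g * y)⁻¹ ∈ (N : Set G) * ((M : Set G) * (N : Set G)) ^ n := by
        rw [← mul_pow_mul, mul_inv_rev, ← hinv]
        exact Set.mul_mem_mul (Set.inv_mem_inv.mpr hy) (inv_mem hg)
      obtain ⟨g', hg', y', hy', e⟩ := b
      have c := (a g' hg' y' hy').trans hLY
      rw [show g' * y' = (g * y)⁻¹ from e, ← le_cj_iff, cj_normalizer] at c
      have d := (le_inf (a g hg y hy) (commutator_eq_bot hasym ((a g hg y hy).trans hLY) c)).trans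
        (h.inf_centralizer_eq hL h1).le
      change cj (m * g * y) Y ≤ _
      rw [mul_assoc, ← cj_cj]
      exact cj_le_of_le d (self_le_normalizer_pCoreOf M hm)
  have hall : ∀ x ∈ M ⊔ N, ∃ n : ℕ, x ∈ ((M : Set G) * (N : Set G)) ^ n := by
    intro x hx
    rw [sup_eq_closure] at hx
    induction hx using closure_induction with
    | mem x hx =>
      refine ⟨1, ?_⟩
      rw [pow_one]
      rcases hx with hx | hx
      · exact ⟨x, hx, 1, one_mem N, mul_one x⟩
      · exact ⟨1, one_mem M, x, hx, one_mul x⟩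
    | one => exact ⟨0, by rw [pow_zero]; exact Set.mem_one.mpr rfl⟩
    | mul x y _ _ hx hy =>
      obtain ⟨a, ha⟩ := hx
      obtain ⟨b, hb⟩ := hy
      exact ⟨a + b, by rw [pow_add]; exact Set.mul_mem_mul ha hb⟩
    | inv x _ hx =>
      obtain ⟨a, ha⟩ := hx
      refine ⟨a + 1, ?_⟩
      rw [pow_succ, ← mul_assoc, mul_pow_mul, ← hinv]
      have := Set.mul_mem_mul (Set.mul_mem_mul (one_mem M) (Set.inv_mem_inv.mpr ha)) (one_mem N)
      rwa [one_mul, mul_one] at this
  have hU : ncl (M ⊔ N) Y ≤ pCoreOf p M := ncl_le_iff.mpr fun x hx =>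
    let ⟨n, hn⟩ := hall x hx
    key n x hn
  exact (le_sup_right.trans (le_normalizer_ncl (M ⊔ N) Y)).trans
    (h.normalizer_le_dag ((isPGroup_pCoreOf M).to_le hU) (by rw [Ne, ncl_eq_bot_iff]; exact h.Y_ne_bot)
      (le_sup_left.trans (le_normalizer_ncl (M ⊔ N) Y)))

theorem wc_of_asym (hasym : ¬ IsSymmetricIn (largestPReducedOf p M)) : WC p (pCoreOf p M) ⊤ := by
  refine wc_of_forall_normalizer (isPGroup_pCoreOf M) le_top fun R hR h1 _ => ?_
  have h2 : R ≤ dag p M := by
    by_contra hne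
    have hlt : R ⊓ dag p M < R := lt_of_le_of_ne inf_le_left fun e => hne (inf_eq_left.mp e)
    exact (lt_inf_normalizer hR hlt).not_ge (le_inf inf_le_left (inf_le_right.trans
      (h.normalizer_le_dag_of_asym hasym hR.to_inf_left (le_inf h1 h.wc_dag.le) inf_le_right)))
  exact h.wc_dag.le_normalizer_of hR h1 (inf_le_right.trans (h.normalizer_le_dag_of_asym hasym hR h1 h2))
    inf_le_right

theorem exists_isSyl_le_dag (hasym : ¬ IsSymmetricIn (largestPReducedOf p M)) {L : Subgroup G}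
    (h1 : pCoreOf p M ≤ L) : ∃ T, IsSyl p T L ∧ pCoreOf p M ≤ T ∧ T ≤ dag p M := by
  obtain ⟨T, hT, hOT⟩ := exists_isSyl_le (isPGroup_pCoreOf M) h1
  exact ⟨T, hT, hOT, ((h.wc_of_asym hasym).le_normalizer hT.isPGroup hOT le_top).trans h.normalizer_O_le⟩

end FM

/-! ### Members of `ℌ_G(O_p(M))` -/

section FrakH

variable [Finite G] {M H : Subgroup G} (h : IsInFrakH p M H)
include h

theorem frakH_eq {X : Subgroup G} (h1 : pCoreOf p M ≤ X) (h2 : X ≤ H)
    (h3 : ncl H (largestPReducedOf p M) ≤ X) : X = H := by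
  by_contra hne
  have hY := (pred_Y (p := p) M).le_pCoreOf.trans h.2.1
  refine h.2.2.1 (((le_inf (h.2.2.2 X h1 (lt_of_le_of_ne h2 hne)) (le_ncl H _)).trans
    (pCoreOf_inf_le_of_le h3)).trans ?_)
  exact pCoreOf_le_pCoreOf_of_normal (ncl_le_of_le hY) (le_normalizer_ncl H _)

theorem frakH_ncl_O : ncl H (pCoreOf p M) = H :=
  frakH_eq h (le_ncl H _) (ncl_le_of_le h.2.1) (ncl_mono le_rfl (pred_Y M).le_pCoreOf)

theorem frakH_sup_res : pCoreOf p M ⊔ res p H = H := sup_res_eq_of_ncl_eq h.2.1 (frakH_ncl_O h)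

theorem frakH_ncl_Y : ncl H (largestPReducedOf p M) =
    ⁅res p H, largestPReducedOf p M⁆ ⊔ largestPReducedOf p M := by
  conv_lhs => rw [← frakH_sup_res h, sup_comm, ncl_sup_centralizer ((pCoreOf_le M).trans (pred_Y M).norm)
    (Or.inr (le_normalizer_res_of_le h.2.1)), ncl_eq_commutator_sup, commutator_comm]

theorem frakH_commutator : ⁅res p H, largestPReducedOf p M⁆ = res p H := by
  have hY := (pred_Y (p := p) M).le_pCoreOf
  have a := commutator_le_left' (le_normalizer_res_of_le (p := p) (hY.trans h.2.1))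
  refine le_antisymm a ?_
  have := frakH_eq h (X := pCoreOf p M ⊔ ⁅res p H, largestPReducedOf p M⁆) le_sup_left
    (sup_le h.2.1 (a.trans (res_le H))) (by rw [frakH_ncl_Y h, sup_comm]; exact sup_le_sup_right hY _)
  conv_lhs => rw [← this]
  exact res_sup_le_right (isPGroup_pCoreOf M)
    (le_normalizer_commutator (le_normalizer_res_of_le h.2.1) ((pCoreOf_le M).trans (pred_Y M).norm))

theorem frakH_pirr : PIrr p H := by
  have hY := (pred_Y (p := p) M).le_pCoreOf
  refine ⟨fun e => h.2.2.1 (e _ (hY.trans h.2.1) (pred_Y M).isPGroup), fun N n1 n2 n3 => ?_⟩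
  by_contra hne
  have a : pCoreOf p M ⊔ N < H := lt_of_le_of_ne (sup_le h.2.1 n1) fun e => hne (by
    conv_lhs => rw [← e]
    exact res_sup_le_right (isPGroup_pCoreOf M) (h.2.1.trans n2))
  have b := h.2.2.2 _ le_sup_left a
  have c : ⁅N, largestPReducedOf p M⁆ ≤ pCoreOf p H := by
    refine le_trans ?_ (pCoreOf_le_pCoreOf_of_normal n1 n2)
    refine (le_inf ((commutator_mono le_rfl b).trans (commutator_le_right'
      (le_normalizer_pCoreOf_of_le le_sup_right))) (commutator_le_left' ((hY.trans h.2.1).trans n2))).trans ?_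
    exact pCoreOf_inf_le_of_le le_sup_right
  have d : res p H ≤ stab N (pCoreOf p H) := by
    refine le_trans ?_ (ncl_le (le_stab_iff.mpr ⟨le_normalizer_pCoreOf_of_le (hY.trans h.2.1), c⟩)
      (le_normalizer_stab n2 (self_le_normalizer_pCoreOf H)))
    rw [frakH_ncl_Y h, frakH_commutator h]
    exact le_sup_left
  obtain ⟨T, hT⟩ := exists_isSyl p H
  have hTN := hT.inf_of_le_normalizer n1 (hT.le.trans n2)
  refine n3 (hTN.pcl_of_le ((le_inf ?_ inf_le_right).trans (pCoreOf_inf_le_of_le n1)))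
  have hle : T ⊓ N ⊔ pCoreOf p H ≤ T := sup_le inf_le_left hT.pCoreOf_le
  refine le_sup_left.trans (le_pCoreOf (hT.isPGroup.to_le hle) (hle.trans hT.le) ?_)
  conv_lhs => rw [← hT.sup_res]
  refine sup_le (le_normalizer_sup (le_normalizer_inf le_normalizer (hT.le.trans n2))
    (le_normalizer_pCoreOf_of_le hT.le)) (le_normalizer_of_commutator_le (le_sup_of_le_right ?_) le_rfl)
  exact commutator_sup_left_le (le_normalizer_pCoreOf_of_le (inf_le_right.trans n1)) le_normalizer
    ((commutator_mono inf_le_right le_rfl).trans (le_stab_iff.mp d).2)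
    (commutator_le_left' (le_normalizer_pCoreOf_of_le (res_le H)))

end FrakH

theorem PIrr.sup_of_isPGroup [Finite G] {H D : Subgroup G} (h : PIrr p H) (hD : IsPGroup p D)
    (hn : H ≤ normalizer (D : Set G)) : PIrr p (H ⊔ D) := by
  haveI := normal_subgroupOf' (sup_le hn le_normalizer : H ⊔ D ≤ normalizer (D : Set G))
  let f := QuotientGroup.mk' (D.subgroupOf (H ⊔ D))
  have hf : IsPGroup p f.ker := by rw [QuotientGroup.ker_mk']; exact isPGroup_subgroupOf hD _
  have hs : IsPGroup p (H ⊔ D).subtype.ker := by rw [ker_subtype]; exact IsPGroup.of_bot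
  have h1 : PIrr p (H.subgroupOf (H ⊔ D)) := by
    rw [← pirr_map_iff hs, map_subgroupOf_eq_of_le le_sup_left]; exact h
  have e : (H.subgroupOf (H ⊔ D)).map f = (⊤ : Subgroup ↥(H ⊔ D)).map f := by
    rw [← subgroupOf_self, subgroupOf_sup le_sup_left le_sup_right, Subgroup.map_sup,
      (Subgroup.map_eq_bot_iff (D.subgroupOf (H ⊔ D))).mpr (QuotientGroup.ker_mk' _).ge, sup_bot_eq]
  rwa [← pirr_map_iff hf, e, pirr_map_iff hf, ← pirr_map_iff hs, map_subtype_top] at h1

end H98
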