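import Cfsg.Agent.H98.CDc
import Cfsg.Agent.H96.R1
import Cfsg.Agent.H16.Transfer
import Cfsg.Agent.H16.S4Ctl

/-! Control of transfer by the centre and one further characteristic subgroup, for odd primes. -/

set_option autoImplicit false
set_option linter.unusedSectionVars false

namespace H98

open Subgroup Cfsg H96 H52 H13 Matrix MatrixGroups
open scoped commutatorElement

universe u

variable {G : Type u} [Group G] {p : ℕ}

open Classical in
/-- the second characteristic subgroup -/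
noncomputable def kb (p : ℕ) (T : Subgroup G) : Subgroup G :=
  if sF p (jb (bm p T)) = ⊥ then jb (bm p T) else sF p (jb (bm p T))

/-- the functor given by `kb` -/
noncomputable def kf (p : ℕ) : H16.CF.{u} := fun Q _ => kb p (⊤ : Subgroup Q)

variable [hp : Fact p.Prime] [Finite G] {L T S M : Subgroup G}

theorem map_jb {G' : Type u} [Group G'] [Finite G'] {f : G →* G'} (hf : Function.Injective f)
    (T : Subgroup G) : (jb T).map f = jb (T.map f) := by
  rw [jb, map_inf_centralizer hf, jb, zj_map hf.injOn]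

theorem map_kb {G' : Type u} [Group G'] [Finite G'] {f : G →* G'} (hf : Function.Injective f)
    (T : Subgroup G) : (kb p T).map f = kb p (T.map f) := by
  have e : (sF p (jb (bm p T))).map f = sF p (jb (bm p (T.map f))) := by
    rw [sF_map hf, map_jb hf, map_bm hf]
  unfold kb
  rw [← e, map_eq_bot_iff_of_injective _ hf]
  split_ifs
  · rw [map_jb hf, map_bm hf]
  · rfl

theorem zc_le_bm (T : Subgroup G) : zc T ≤ bm p T :=
  (le_inf inf_le_left (inf_le_right.trans (centralizer_anti ((oz_le _).trans (jt_le T))))).trans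
    (bm_eq T).ge

theorem zc_le_zc (h : T ≤ S) (h' : zc S ≤ T) : zc S ≤ zc T :=
  le_inf h' (inf_le_right.trans (centralizer_anti h))

theorem zc_le_jb (T : Subgroup G) : zc T ≤ jb T :=
  le_inf inf_le_left (inf_le_right.trans (centralizer_anti (zj_le 0 T)))

theorem kb_ne_bot (hT : IsPGroup p T) (h : T ≠ ⊥) : kb p T ≠ ⊥ := by
  unfold kb
  split_ifs with e
  · exact fun e' => inf_centralizer_ne_bot hT hT le_normalizer h (eq_bot_iff.2
      (((zc_le_zc (bm_le T) (zc_le_bm T)).trans (zc_le_jb _)).trans e'.le))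
  · exact e

theorem isCharPFunctor_kf : IsCharPFunctor.{u} p (kf p) := by
  refine ⟨fun Q _ _ hQ _ => kb_ne_bot (isPGroup_top_iff.2 hQ) top_ne_bot, fun Q R _ _ _ _ φ => ?_⟩
  have := Finite.of_equiv Q φ.toEquiv
  rw [kf, map_kb φ.injective, map_top_of_surjective _ φ.surjective]
  rfl

theorem induced_kf (T : Subgroup G) : inducedFunctor (kf p) T = kb p T := by
  rw [inducedFunctor, kf, map_kb T.subtype_injective, map_subtype_top]

theorem n_kb {A : Subgroup G} (h : A ≤ normalizer (jb (bm p T) : Set G)) :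
    A ≤ normalizer (kb p T : Set G) := fun g hg => by
  have e := cj_eq_self (h hg)
  rw [← cj_eq_self_iff]
  unfold kb
  split_ifs
  · exact e
  · rw [cj, sF_map (MulAut.conj g).injective]
    exact congrArg _ e

theorem n_jb' {A : Subgroup G} (h : A ≤ normalizer (T : Set G)) : A ≤ normalizer (jb T : Set G) :=
  fun g hg => by rw [← cj_eq_self_iff, cj_jb, cj_eq_self (h hg)]

theorem CharP.zc_le_of_oz (hc : CharP p L) (hT : IsSyl p T L)
    (h : oz p T ≤ centralizer (L : Set G)) : zc T ≤ centralizer (L : Set G) := by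
  obtain ⟨N, h1, h2, h3, h4, -⟩ := exists_normMap (S := T) (zc_ab (pCoreOf p L)) (n_Vv L)
  have hV := zc_le_Vv hc hT
  have h5 : ∀ u ∈ zc T, ∀ n : ℕ, N (u ^ (n + 1)) = N u ^ (n + 1) := fun u hu n => by
    induction n with
    | zero => simp
    | succ n ih => rw [pow_succ, h2 _ (pow_mem (hV hu) _) _ (hV hu), ih, ← pow_succ]
  have h6 : ∀ u ∈ zc T, u ^ p ∈ centralizer (L : Set G) → u ∈ centralizer (L : Set G) := fun u hu e => by
    have k1 := h3 u (hV hu) hu.2
    have k2 : N u * (u ^ T.relIndex L)⁻¹ ∈ oz p T := by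
      have k3 : N u ∈ zc T := (Vv_inf_cent hc hT).le ⟨h1 u (hV hu), centralizer_anti hT.le k1⟩
      have k4 := mul_mem k3 (inv_mem (pow_mem hu (T.relIndex L)))
      refine mem_oz.2 ⟨k4.1, k4.2, ?_⟩
      have k5 := h4 _ (pow_mem (hV hu) p) ⊥ fun l hl => comm_eq_one_of_mem hl e
      obtain ⟨n, hn⟩ := Nat.exists_eq_succ_of_ne_zero hp.out.ne_zero
      have k6 : Commute (N u) (u ^ T.relIndex L)⁻¹ :=
        ((inv_mem (pow_mem hu (T.relIndex L))).2 _ k3.1)
      rw [k6.mul_pow, inv_pow, ← pow_mul, mul_comm, pow_mul]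
      rwa [mem_bot, hn, h5 u hu, ← Nat.succ_eq_add_one, ← hn] at k5
    exact mem_of_pow_mem_of_isPGroup hT.isPGroup hu.1 hT.not_dvd_relIndex
      (inv_mem_iff.1 ((mul_mem_cancel_left k1).1 (h k2)))
  intro u hu
  obtain ⟨k, hk⟩ := isPGroup_iff_forall.1 hT.isPGroup u hu.1
  induction k generalizing u with
  | zero => rw [pow_zero, pow_one] at hk; rw [hk]; exact one_mem _
  | succ k ih => exact h6 u hu (ih (pow_mem hu p) (by rw [← pow_mul, ← pow_succ', hk]))

theorem exists_r1 {H X : Subgroup G} (hH : CharP p H) (hT : IsSyl p T H)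
    (h1 : H ⊓ centralizer (oz p T : Set G) ≤ X) (hB : H ⊓ normalizer (bm p T : Set G) ≤ X)
    (hX : ¬ H ≤ X) : ∃ L ≤ H, ¬ L ≤ X ∧ CharP p L ∧ IsSyl p (bm p T) L ∧ ∃ q, R1 p q L := by
  have hTX : T ≤ X := (le_inf hT.le (le_centralizer_oz T)).trans h1
  obtain ⟨P, hP, hM⟩ := exists_umax hTX hT.le hX
  have hS := hT.of_le hM.le_top' hP
  have hc := hH.of_isSyl_le hT hM.le_top' hP
  obtain ⟨V, eV⟩ : ∃ V, V = sylowCenterClosure p P := ⟨_, rfl⟩
  have r : PRed p V P := eV ▸ hc.pred_Z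
  have hZ : oz p T ≤ V := eV ▸ hS.oz_le_Z
  have hVT := r.le_pCoreOf.trans hS.pCoreOf_le
  have hC : P ⊓ centralizer ((V ⊓ centralizer (T : Set G) : Subgroup G) : Set G) ≤ P ⊓ X :=
    le_inf inf_le_left ((inf_le_inf hP (centralizer_anti (le_inf hZ (oz_le_centralizer T)))).trans h1)
  have hC' := (inf_le_inf_left P (centralizer_anti (inf_le_left : V ⊓ _ ≤ V))).trans hC
  have := r.ea.1
  obtain ⟨Γ, _, _, _, _, ⟨b⟩⟩ := exists_br r.norm
  have h := b.mp r.ea hS hM r.red.pCoreOf_le hC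
  have hJ : ¬ jt p T ≤ centralizer (V : Set G) := fun e => hM.not_le (by
    have e1 := bm_eq_of_le (le_inf (bm_le T) (bm_le_centralizer_of r.ea hVT (le_centralizer_iff.1 e)))
      (inf_le_left : T ⊓ centralizer (V : Set G) ≤ T)
    refine (hS.frattini_centralizer r.norm).ge.trans (sup_le (le_inf inf_le_left
      ((inf_le_inf hP ?_).trans hB)) hC')
    rw [← e1]; exact le_normalizer_bm le_rfl)
  have eJ := b.bar_jt_eq h r.ea hVT hS.le hJ
  obtain ⟨A, L₀, B₂, hL, tA, hn, e, k1, k2, k3⟩ := h.exists_split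
    (eJ ▸ mt (b.bar_eq_bot ((jt_le T).trans hS.le)).1 hJ)
  obtain ⟨F, _, _, ⟨m⟩⟩ := id hL
  obtain ⟨L, hLP, hB', hLL, ⟨M, hU⟩, f, hf⟩ := b.exists_sl2 r.ea hS hVT m tA
    ((b.bar_bm_eq h r.ea hVT hS.le hJ).trans e) (fun e' => hL.not_comm
      ((le_sup_left.trans (e.ge.trans (eJ.ge.trans e'))).trans k1)) k1 k2 k3
  have hLX : ¬ L ≤ X := fun e => hn (hLL.trans (b.bar_mono (le_inf hLP e)))
  have hN : ¬ L ≤ normalizer (bm p T : Set G) := fun e => hLX ((le_inf (hLP.trans hP) e).trans hB)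
  have := m.charP h.h0
  exact ⟨L, hLP.trans hP, hLX, hc.of_le_normalizer_res hLP (hS.wc_bm.le_normalizer_of_commutator_eq
    (res_res L) (commutator_res_eq_of_ncl_eq hB'.le hB'.isPGroup (hU.ncl_eq hB' hN))
    (isPGroup_pCoreOf P) (pCoreOf_le P) (le_normalizer_pCoreOf_of_le (hB'.le.trans hLP))
    (le_normalizer_pCoreOf_of_le ((res_le L).trans hLP))), hB',
    _, R1.of_psl ((pj F).comp f) ((pj_surj (F := F)).comp hf) hB' hU⟩

theorem exists_r1_jb {H X : Subgroup G} (hH : CharP p H) (hT : IsSyl p T H)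
    (h1 : H ⊓ centralizer (oz p T : Set G) ≤ X) (h2 : H ⊓ normalizer (jb (bm p T) : Set G) ≤ X)
    (hX : ¬ H ≤ X) : ∃ L ≤ H, ¬ L ≤ X ∧ CharP p L ∧ IsSyl p (jb (bm p T)) L ∧
      (∃ g ∈ H, L = jb (bm p T) ⊔ cj g (jb (bm p T))) ∧ ∃ q, R1 p q L := by
  have hTX : T ≤ X := (le_inf hT.le (le_centralizer_oz T)).trans h1
  obtain ⟨L, hL, hLX, hc, hS, q, r⟩ := exists_r1 hH hT h1 ((inf_le_inf_left _ (n_jb' le_rfl)).trans h2) hX
  rcases r.tri hc hS with h | h | ⟨h, A, hA, hAQ⟩
  · exact (hLX ((le_inf hL (le_centralizer_iff.1 (((le_inf (oz_le T) (oz_le_centralizer T)).trans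
      (zc_le_zc (bm_le T) (zc_le_bm T))).trans h))).trans h1)).elim
  · exact (hLX ((le_inf hL h).trans h2)).elim
  obtain ⟨g, hg, e⟩ := r.exists_opp hS
  obtain ⟨k1, k2⟩ := h.jb_syl hS hA hAQ hg e
  have k3 : jb (bm p T) ⊔ cj g (jb (bm p T)) ≤ L := sup_le (inf_le_left.trans hS.le)
    (cj_le_of_le_of_mem (inf_le_left.trans hS.le) hg)
  have k4 : jb (bm p T) ⊔ cj g (jb (bm p T)) ⊔ pCoreOf p L = L := by
    rw [cj_jb, sup_sup_distrib_right, h.jb_sup hS hA hAQ, h.jb_sup' hS hA hAQ hg, e]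
  exact ⟨_, k3.trans hL, fun e' => hLX (k4.ge.trans (sup_le e' ((hS.pCoreOf_le.trans (bm_le T)).trans
    hTX))), hc.normal k3 k1, k2, ⟨g, hL hg, rfl⟩, q, r1_of_normal r k3 k1 k4⟩

/-- the centre as a functor -/
def zf : H16.CF.{u} := fun Q _ => center Q

/-- the pair consisting of the centre and `kf` -/
def zk (p : ℕ) : Set H16.CF.{u} := {zf, kf p}

theorem isCharPFunctor_zk : ∀ W ∈ zk.{u} p, IsCharPFunctor p W := by
  rintro W (rfl | rfl)
  exacts [H16.isCharPFunctor_center (p := p), isCharPFunctor_kf]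

theorem induced_zf (T : Subgroup G) : inducedFunctor zf T = zc T :=
  congrFun H16.induced_center T

theorem ft_zk_step (hp2 : p ≠ 2) (hsub : ∀ H : Subgroup G, H ≠ ⊤ → H16.FT p (zk p) H)
    (hquo : ∀ (N : Subgroup G) [N.Normal], N ≠ ⊥ → H16.FT p (zk p) (G ⧸ N)) : H16.FT p (zk p) G := by
  by_contra hG
  let P : Sylow p G := default
  have hS' := H7.isSylowIn_top P
  have hS := isSyl_sylow P
  generalize (P : Subgroup G) = S at hS hS'
  obtain ⟨hc, ⟨hM, hU⟩, -, -⟩ := H16.min_transfer isCharPFunctor_zk ⟨_, Or.inl rfl⟩ hsub hquo hG hS' rfl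
  have hZ0 : ¬ ⊤ ≤ normalizer (zc S : Set G) := fun e => hG (H16.ft_of_normal isCharPFunctor_zk
    (Or.inl rfl) hS' (induced_zf S ▸ normal_of_top_le_normalizer e))
  have hZ := hU _ (n_zc le_normalizer) fun e => hZ0 e.ge
  have hK := hU _ (n_kb (n_jb' (le_normalizer_bm le_normalizer))) fun e => hG (H16.ft_of_normal
    isCharPFunctor_zk (Or.inr rfl) hS' (induced_kf (p := p) S ▸ normal_of_top_le_normalizer e.ge))
  have hSM := (n_zc le_normalizer).trans hZ
  have hD := H16.inf_comm_le_trSub isCharPFunctor_zk hsub hS' hSM hM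
  generalize H16.trSub (zk p) S = D at *
  have hc' := charP_top_iff.2 hc
  have h2 := (n_kb le_rfl).trans hK
  obtain ⟨L, -, hL, cL, hB, ⟨g, -, eL⟩, q, r⟩ := exists_r1_jb hc' hS (inf_le_right.trans (hU _
    (le_centralizer_oz S) fun e => hZ0 (le_normalizer_of_le_centralizer (le_centralizer_iff.1
    (hc'.zc_le_of_oz hS (le_centralizer_iff.1 e.ge)))))) (inf_le_right.trans h2) fun e => hM (top_le_iff.1 e)
  have hBS : jb (bm p S) ≤ S := inf_le_left.trans (bm_le S)
  have hJ : jb (bm p S) ≤ centralizer (zj 0 (jb (bm p S)) : Set G) := by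
    rw [zj, maxAb_eq_of_forall_le inf_le_left fun A hA => le_jb hA]
    exact inf_le_right
  have hC := ((centralizer_anti (zc_le_zc hBS ((zc_le_zc (bm_le S) (zc_le_bm S)).trans
    (zc_le_jb _)))).trans (le_normalizer_of_le_centralizer le_rfl)).trans hZ
  have hnc : ¬ zc (jb (bm p S)) ≤ centralizer (L : Set G) := fun e =>
    hL ((le_centralizer_iff.1 e).trans hC)
  have hF : sF p (jb (bm p S)) = ⊥ := by_contra fun e => hL (((r.fm_push cL hB hJ).resolve_left
    hnc).trans (by rwa [kb, if_neg e] at hK))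
  have nS : S ≤ normalizer (jb (bm p S) : Set G) := n_jb' (le_normalizer_bm le_normalizer)
  generalize jb (bm p S) = B at *
  have h := r.nv_of_J cL hB hJ hnc
  obtain ⟨A, hA, hAQ⟩ : ∃ A ∈ maxAb 0 B, ¬ A ≤ pCoreOf p L := by
    by_contra hn
    push Not at hn
    have := r.n_jb hB hnc hn
    rw [jb, inf_eq_left.2 hJ] at this
    exact r.not_norm hB this
  obtain ⟨M, hM₂⟩ := r.umax B hB
  have k1 : M ≤ normalizer ((D ⊓ pCore p G : Subgroup G) : Set G) := fun m hm => by
    obtain ⟨a, ha, n, hn, rfl⟩ := (hB.of_le (le_inf hB.le (le_cent_zc B)) inf_le_left).frattini_mem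
      (le_normalizer_inf (le_normalizer_of_le hM₂.le') (le_normalizer_centralizer
      (nv_le_normalizer_zc h hB hM₂)) hm)
    exact mul_mem (h2 ha) (hC hn.2)
  have k2 := cd_case (D := D) (hp.out.odd_of_ne_two hp2) h hB hM₂ (cl_self hJ)
    (fun A hA => cd_of_sF hB.isPGroup hF hA) hA hAQ ((le_inf ((commutator_le_left'
    (le_normalizer_pCoreOf_of_le hM₂.le')).trans (hB.pCoreOf_le.trans hBS))
    (commutator_mono ((hB.pCoreOf_le.trans hBS).trans hSM) k1)).trans hD)
  have nQ : ∀ H : Subgroup G, H ≤ normalizer (pCore p G : Set G) := fun H => le_normalizer_of_normal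
  have hQS : pCore p G ≤ S := pCoreOf_top (p := p) (G := G) ▸ hS.pCoreOf_le
  have k3 : ∀ Y ≤ L, pCore p G ≤ normalizer (Y : Set G) → ⁅pCore p G, Y⁆ ≤ pCore p G ⊓ L :=
    fun Y h1 h2 => le_inf (commutator_le_left' (nQ _)) ((commutator_le_right' h2).trans h1)
  have k4 : ⁅pCore p G, L⁆ ≤ pCoreOf p L := by
    refine le_trans ?_ ((inf_le_inf_right L pCoreOf_top.ge).trans (pCoreOf_inf_le_of_le le_top))
    have k5 := le_normalizer_inf (nQ L) le_normalizer
    have k6 : cj g B ≤ L := eL ▸ le_sup_right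
    conv_lhs => rw [eL]
    refine commutator_sup_right_le (hB.le.trans k5) (k6.trans k5) (k3 _ hB.le (hQS.trans nS))
      (k3 _ k6 ?_)
    rw [← cj_normalizer, ← cj_eq_self_of_normal g (pCore p G)]
    exact cj_mono g (hQS.trans nS)
  have k5 := commutator_res_le_of_commutator_commutator_le (isPGroup_pCore p G) (nQ L)
    ((commutator_mono k4 le_rfl).trans k2)
  exact hL (hB.sup_res.ge.trans (sup_le (hBS.trans hSM) (le_normalizer_of_commutator_le
    (le_inf k5 (commutator_le_left' (nQ _))) inf_le_right)))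

theorem ft_zk (hp2 : p ≠ 2) (G : Type u) [Group G] [Finite G] : H16.FT p (zk p) G :=
  H16.section_induction (G₀ := G) (fun X _ => H16.FT p (zk p) X)
    (fun _ _ _ _ _ e h => h.of_equiv isCharPFunctor_zk e) (fun _ _ _ => ft_zk_step hp2) G
    (H94.involves_refl G)

theorem inf_comm_n_zc_le (hS : IsSyl p S ⊤) {K : Subgroup G}
    (hK : normalizer (S : Set G) ≤ normalizer (K : Set G)) :
    S ⊓ ⁅normalizer (zc S : Set G), normalizer (zc S : Set G)⁆ ≤
      S ⊓ ⁅centralizer (zc S : Set G), centralizer (zc S : Set G)⁆ ⊔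
        S ⊓ ⁅normalizer (K : Set G), normalizer (K : Set G)⁆ := by
  have h1 := hS.of_le (n_zc le_normalizer) le_top
  refine H16.inf_commutator_le_of_focal ⟨h1.le, h1.isPGroup, h1.not_dvd_relIndex⟩ fun x hx g hg e => ?_
  obtain ⟨a, ha, n, hn, rfl⟩ := (hS.of_le (le_cent_zc S) le_top).frattini_mem
    (normalizer_le_normalizer_centralizer _ hg)
  have h2 : n * x * n⁻¹ ∈ S := by
    simpa [mul_assoc] using conj_mem_of_mem_normalizer' ha e
  have h3 : x⁻¹ * (a * n * x * (a * n)⁻¹) = ⁅x⁻¹, n⁆ * ⁅(n * x * n⁻¹)⁻¹, a⁆ := by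
    simp only [commutatorElement_def]; group
  rw [h3]
  refine mul_mem (mem_sup_left ⟨?_, commutator_mem_commutator (inv_mem (le_cent_zc S hx)) hn⟩)
    (mem_sup_right ⟨?_, commutator_mem_commutator (inv_mem (hK (le_normalizer h2))) (hK ha)⟩)
  · simpa [commutatorElement_def, mul_assoc] using mul_mem (inv_mem hx) h2
  · simpa [commutatorElement_def, mul_assoc] using
      mul_mem (inv_mem h2) (conj_mem_of_mem_normalizer ha h2)

/-- control of transfer by the centralizer of the centre and the normalizer of `kb` -/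
theorem inf_commutator_le_zk (hp2 : p ≠ 2) (hS : IsSyl p S ⊤) : S ⊓ commutator G ≤
    S ⊓ ⁅centralizer (zc S : Set G), centralizer (zc S : Set G)⁆ ⊔
      S ⊓ ⁅normalizer (kb p S : Set G), normalizer (kb p S : Set G)⁆ := by
  refine ((H16.ft_iff isCharPFunctor_zk ⟨le_top, hS.isPGroup, hS.not_dvd_relIndex⟩).1
    (ft_zk hp2 G)).trans ?_
  rw [H16.trSub_eq]
  refine iSup₂_le ?_
  rintro W (rfl | rfl)
  · rw [induced_zf]
    exact inf_comm_n_zc_le hS (n_kb (n_jb' (le_normalizer_bm le_rfl)))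
  · rw [induced_kf]
    exact le_sup_right

theorem kb_char : (kb p (⊤ : Subgroup G)).Characteristic :=
  characteristic_iff_map_eq.2 fun φ => by
    rw [map_kb φ.injective, map_top_of_surjective _ φ.surjective]

end H98
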