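import Cfsg.Agent.H98.GT3a

/-! Tower NSFT, job GT3. -/

set_option autoImplicit false

open Cfsg hiding pRank
open Subgroup H46 H24.NS
open H14 (CP layerOf)

namespace H98.GT

universe u

variable {G : Type u} [Group G] {r m : ℕ} {A B C K S W : Subgroup G} {V : Set G} {E : G → Subgroup G}
  {a b c s x z : G}

/-- the hypotheses of `GT3` -/
structure Hy (r m : ℕ) (A : Subgroup G) (V : Set G) (E : G → Subgroup G) : Prop where
  tk : TK.{u}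
  gc : GTc.{u}
  g : PG r A
  pt : ∀ a ∈ V, a ∈ A ∧ a ≠ 1 ∧ ASimple r m A (E a) ∧ E a ≤ Cent1 a
  g1 : ∀ a ∈ V, ∀ B, Plane r A B → a ∈ B → (∀ K, CP K (E a) → Full B K) →
    ∀ b ∈ B, b ≠ 1 → b ∈ V ∧ E b ⊓ Cent B = E a ⊓ Cent B
  g2 : ∀ a ∈ V, ∀ b ∈ V, E a ⊓ Cent1 b ≤ Nrm (E b)

/-- the conclusion of `GT3` -/
def Concl (r m : ℕ) (A : Subgroup G) (V : Set G) (E : G → Subgroup G) : Prop :=
  ASimple r m A (⨆ a : V, E a) ∧ ∀ a ∈ V, (⨆ a : V, E a) ⊓ Cent1 a = E a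

/-- the plane `B` is full at `a` -/
abbrev Fu (A : Subgroup G) (E : G → Subgroup G) (a : G) (B : Subgroup G) : Prop :=
  B ⊓ NA A (E a) ≤ Cent (E a)

namespace Hy

variable [Finite G] (h : Hy r m A V E)
include h

omit [Finite G] in
theorem mem (ha : a ∈ V) : a ∈ A := (h.pt a ha).1

omit [Finite G] in
theorem ne (ha : a ∈ V) : a ≠ 1 := (h.pt a ha).2.1

omit [Finite G] in
theorem as (ha : a ∈ V) : ASimple r m A (E a) := (h.pt a ha).2.2.1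

omit [Finite G] in
theorem cent (ha : a ∈ V) : a ∈ Cent (E a) := le_cent1_iff.1 (h.pt a ha).2.2.2

omit [Finite G] in
theorem sq_le : r ^ 2 ≤ Nat.card A := H15.sq_le_of_cube_le h.g.prime h.g.card.ge

theorem memN (ha : a ∈ V) : a ∈ NA A (E a) := Z_le h.tk (h.as ha) ⟨h.mem ha, h.cent ha⟩

theorem pass (ha : a ∈ V) (hB : Plane r A B) (h1 : a ∈ B) (hF : Fu A E a B) (hb : b ∈ B) (h2 : b ≠ 1) :
    b ∈ V ∧ E b ⊓ Cent B = E a ⊓ Cent B ∧ Fu A E b B :=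
  have k := h.g1 a ha B hB h1 (fun _ hK => (full_iff h.tk (h.as ha) hK hB.1).2 hF) b hb h2
  ⟨k.1, k.2, full_of_eq h.tk (h.as ha) (h.as k.1) hB.1 k.2 hF⟩

theorem C0 (ha : a ∈ V) (hB : Plane r A B) (h1 : a ∈ B) (hF : Fu A E a B) (hb : b ∈ B) (h2 : b ≠ 1) :
    E b ⊓ Cent A = E a ⊓ Cent A := by
  rw [← inf_eq_right.2 (cent_anti hB.1), ← inf_assoc, ← inf_assoc, (h.pass ha hB h1 hF hb h2).2.1]

theorem zp_le (ha : a ∈ V) (hb : b ∈ zpowers a) (h2 : b ≠ 1) : E a ≤ E b :=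
  gen h.tk (h.as ha) h.sq_le (h.mem ha) (h.cent ha) fun _ hB h1 hF =>
    (h.pass ha hB h1 hF (zpowers_le.2 h1 hb) h2).2.1.ge.trans inf_le_left

theorem zp_eq (ha : a ∈ V) (hb : b ∈ V) (h1 : b ∈ zpowers a) : E b = E a :=
  le_antisymm (h.zp_le hb (h.g.zp_eq (h.mem ha) (h.ne ha) h1 (h.ne hb) ▸ mem_zpowers a) (h.ne ha))
    (h.zp_le ha h1 (h.ne hb))

theorem inf_le (ha : a ∈ V) (hb : b ∈ A) (h2 : b ≠ 1)
    (hF : b ∉ zpowers a → Fu A E a (zpowers a ⊔ zpowers b)) : E a ⊓ Cent1 b ≤ E b := by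
  by_cases e : b ∈ zpowers a
  · exact inf_le_left.trans (h.zp_le ha e h2)
  refine le_trans ?_ ((h.pass ha (h.g.pl_sup (h.mem ha) (h.ne ha) hb e) (mem_sup_left (mem_zpowers a)) (hF e)
    (mem_sup_right (mem_zpowers b)) h2).2.1.ge.trans inf_le_left)
  rw [cent_sup, cent_zpowers, cent_zpowers]
  exact le_inf inf_le_left (le_inf (inf_le_left.trans (h.pt a ha).2.2.2) inf_le_right)

omit [Finite G] in
theorem dom (hz : z ∈ V) (h1 : ∀ a ∈ V, E a ≤ E z ∧ E z ⊓ Cent1 a ≤ E a) : Concl r m A V E := by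
  have e : ⨆ a : V, E a = E z :=
    le_antisymm (iSup_le fun a => (h1 a a.2).1) (le_iSup (fun a : V => E a) ⟨z, hz⟩)
  rw [Concl, e]
  exact ⟨h.as hz, fun a ha => le_antisymm (h1 a ha).2 (le_inf (h1 a ha).1 (h.pt a ha).2.2.2)⟩

theorem gtc (hS : S ≤ A) (hS' : Nat.card S ∣ r) (hV : ∀ a, a ∈ V ↔ a ∈ A ∧ a ∉ S)
    (hZ : ∀ a ∈ V, A ⊓ Cent (E a) ≤ zpowers a ∧ NA A (E a) = zpowers a ⊔ S)
    (hF : ∀ a ∈ V, ∀ B, Plane r A B → a ∈ B → B ⊓ S = ⊥ → Fu A E a B) : Concl r m A V E := by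
  obtain rfl : V = {a | a ∈ A ∧ a ∉ S} := Set.ext hV
  have k := h.gc r m G A S E h.g.card.ge hS hS' (fun a ha e => ⟨h.as ⟨ha, e⟩, (h.pt a ⟨ha, e⟩).2.2.2,
      (hZ a ⟨ha, e⟩).1, fun K hK => (N_eq h.tk (h.as ⟨ha, e⟩) hK).symm.trans (hZ a ⟨ha, e⟩).2⟩)
    (fun a ha e b hb e' h1 => h.inf_le ⟨ha, e⟩ hb (h.ne ⟨hb, e'⟩) fun h2 => hF a ⟨ha, e⟩ _
      (h.g.pl_sup ha (h.ne ⟨ha, e⟩) hb h2) (mem_sup_left (mem_zpowers a)) h1)
    (fun a ha e b hb e' => h.g2 a ⟨ha, e⟩ b ⟨hb, e'⟩) _ rfl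
  exact ⟨k.1, fun a ha => k.2.1 a ha.1 ha.2⟩

/-- all stabilizers act trivially -/
theorem case_one (ha : a ∈ V) (h1 : NA A (E a) ≤ Cent (E a)) : Concl r m A V E := by
  have k : ∀ b ∈ A, b ≠ 1 → b ∈ V ∧ NA A (E b) ≤ Cent (E b) := fun b hb e => by
    obtain ⟨B, hB, h2, h3⟩ := h.g.exists_pl (h.mem ha) (h.ne ha) hb
    have h4 := (h.pass ha hB h2 (inf_le_right.trans h1) h3 e).1
    exact ⟨h4, (card_iff h.tk (h.as h4)).2 (h.C0 ha hB h2 (inf_le_right.trans h1) h3 e ▸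
      (card_iff h.tk (h.as ha)).1 h1)⟩
  have kF : ∀ {b B}, b ∈ V → Fu A E b B := fun hb => inf_le_right.trans (k _ (h.mem hb) (h.ne hb)).2
  rcases h.g.dual (h.mem ha) (h.ne ha) (fun a => A ⊓ Cent (E a))
    (fun a ha e => ⟨⟨ha, h.cent (k a ha e).1⟩, inf_le_left⟩) (fun B hB a ha e h2 b hb e' => by
      by_contra h3
      obtain ⟨x, hx, h3⟩ := SetLike.not_le_iff_exists.1 h3
      obtain ⟨h4, h5⟩ := k a (hB.1 ha) e
      refine big h.tk (h.as h4) hB.1 ((le_inf NA_le h5).trans h2) (h.g.not_le hB) ?_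
      rw [← (h.pass h4 hB ha (kF h4) hb e').2.1, ← h.g.sup_eq hB hx.1 h3, cent_sup, cent_zpowers]
      exact le_inf inf_le_right (inf_le_left.trans (le_cent1_iff.2 hx.2))) with h2 | ⟨z, hz, e, h2⟩
  · refine h.gtc bot_le (by simp) (fun a => ⟨fun ha => ⟨h.mem ha, h.ne ha⟩, fun ha => (k a ha.1 ha.2).1⟩)
      (fun a ha => ⟨h2 a (h.mem ha) (h.ne ha), ?_⟩) fun a ha B _ _ _ => kF ha
    rw [sup_bot_eq]
    exact le_antisymm ((le_inf NA_le (k a (h.mem ha) (h.ne ha)).2).trans (h2 a (h.mem ha) (h.ne ha)))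
      (zpowers_le.2 (h.memN ha))
  · exact h.dom (k z hz e).1 fun a ha => ⟨(le_inf le_rfl (le_cent1_iff.2 (h2 a (h.mem ha) (h.ne ha)).2)).trans
      (h.inf_le ha hz e fun _ => kF ha), h.inf_le (k z hz e).1 (h.mem ha) (h.ne ha) fun _ => kF (k z hz e).1⟩

variable (H : ∀ a ∈ V, ¬ NA A (E a) ≤ Cent (E a))
include H

theorem types (ha : a ∈ V) : (Plane r A (A ⊓ Cent (E a)) ∧ NA A (E a) = A) ∨
    (A ⊓ Cent (E a) ≤ zpowers a ∧ Plane r A (NA A (E a))) := by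
  have h1 := card_mul_relIndex (Z_le h.tk (h.as ha))
  rw [((Nat.dvd_prime h.g.prime).1 (idx h.tk (h.as ha))).resolve_left fun e =>
    H a ha ((relIndex_eq_one.1 e).trans inf_le_right)] at h1
  rcases h.g.cases inf_le_left (⟨h.mem ha, h.cent ha⟩ : a ∈ A ⊓ Cent (E a)) (h.ne ha) with e | e | e
  · refine Or.inr ⟨e, h.g.pl_iff.2 ⟨NA_le, ?_⟩⟩
    rw [← h1, le_antisymm e (zpowers_le.2 ⟨h.mem ha, h.cent ha⟩),
      H15.elem_card_zpowers h.g.prime h.g.elem (h.mem ha) (h.ne ha), sq]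
  · exact Or.inl ⟨e, eq_of_le_of_card_eq NA_le (by rw [← h1, (h.g.pl_iff.1 e).2, h.g.card, pow_succ r 2])⟩
  · exact (H a ha (NA_le.trans (e.ge.trans inf_le_right))).elim

omit H in
theorem full_one (hN : NA A (E a) = A) (hZ : Plane r A (A ⊓ Cent (E a))) (hB : Plane r A B)
    (hF : Fu A E a B) : B = A ⊓ Cent (E a) :=
  h.g.eq_of_le hB hZ (le_inf hB.1 ((le_inf le_rfl (hB.1.trans hN.ge)).trans hF))

omit H in
theorem full_r (ha : a ∈ V) (hN : Plane r A (NA A (E a))) (hB : Plane r A B) (h1 : a ∈ B)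
    (h2 : B ≠ NA A (E a)) : Fu A E a B := fun x hx =>
  zpowers_le.2 (h.cent ha) (by_contra fun e => h2 (h.g.pl_eq hB hN h1 (h.memN ha) (h.ne ha) hx.1 hx.2 e))

omit H in
theorem full_r' (ha : a ∈ V) (hN : Plane r A (NA A (E a))) (hb : b ∈ A) (h1 : b ∉ NA A (E a)) :
    Plane r A (zpowers a ⊔ zpowers b) ∧ Fu A E a (zpowers a ⊔ zpowers b) :=
  have k := h.g.pl_sup (h.mem ha) (h.ne ha) hb fun e => h1 (zpowers_le.2 (h.memN ha) e)
  ⟨k, h.full_r ha hN k (mem_sup_left (mem_zpowers a)) fun e => h1 (e ▸ mem_sup_right (mem_zpowers b))⟩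

theorem not_full (ha : a ∈ V) : ¬ Fu A E a (NA A (E a)) := fun e => H a ha ((le_inf le_rfl le_rfl).trans e)

/-- a point of type one does not lie on the exceptional plane of a point of type `r` -/
theorem link (hs : s ∈ V) (h1 : Plane r A (A ⊓ Cent (E s))) (hz : z ∈ V) (h2 : Plane r A (NA A (E z)))
    (h3 : A ⊓ Cent (E z) ≤ zpowers z) : s ∉ NA A (E z) := fun h4 => by
  have sZ : s ∈ A ⊓ Cent (E s) := ⟨h.mem hs, h.cent hs⟩
  have F1 : Fu A E s (A ⊓ Cent (E s)) := inf_le_left.trans inf_le_right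
  have h5 : z ∉ A ⊓ Cent (E s) := fun e => by
    have h5 := (h.pass hs h1 sZ F1 e (h.ne hz)).2.2
    by_cases e' : s ∈ zpowers z
    · rw [h.zp_eq hz hs e'] at h1
      have := card_le_of_le h3
      rw [(h.g.pl_iff.1 h1).2, H15.elem_card_zpowers h.g.prime h.g.elem (h.mem hz) (h.ne hz)] at this
      exact absurd (lt_self_pow₀ h.g.prime.one_lt (by norm_num)) this.not_gt
    · exact h.not_full H hz (h.g.pl_eq h1 h2 e (h.memN hz) (h.ne hz) sZ h4 e' ▸ h5)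
  obtain ⟨b, hb, h6⟩ := SetLike.not_le_iff_exists.1 fun e => h5 ((h.g.eq_of_le h1 h2 e).ge (h.memN hz))
  have b1 : b ≠ 1 := fun e => h6 (e ▸ one_mem _)
  obtain ⟨h7, h8⟩ := h.full_r' hz h2 hb.1 h6
  have e0 : E z ⊓ Cent A = E s ⊓ Cent1 z := by
    rw [← h.C0 hz h7 (mem_sup_left (mem_zpowers z)) h8 (mem_sup_right (mem_zpowers b)) b1,
      h.C0 hs h1 sZ F1 hb b1, ← congrArg Cent (h.g.sup_eq h1 (h.mem hz) h5), cent_sup, cent_zpowers,
      ← inf_assoc, inf_eq_left.2 (le_cent_symm inf_le_right)]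
  obtain ⟨K, hK⟩ := exists_cp (h.as hz)
  have c := h.tk.restrict (h.as hz).ctx (NA_le (E := E z))
  have h9 : fx (NA A (E z)) K ≤ E z ⊓ Cent1 s :=
    inf_le_inf (h.tk.orb_ctx c hK).2.1.le (cent_le_cent1 h4)
  rcases h.tk.mn_le_or c hK ((h.as hz).ctx.pi.inf_left (H := Cent A)) (inf_le_right.trans (cent_anti NA_le))
    (nrm_of_le inf_le_left) (e0 ▸ nrm_inf (h9.trans (h.g2 z hz s hs))
      (nrm_cent1 (h9.trans (inf_le_left.trans (h.pt z hz).2.2.2)))) with e | e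
  · refine fx_ne h.tk (h.as hz) hK le_rfl (eq_bot_iff.2 fun x hx => ?_)
    have x1 : x ∈ E z ⊓ Cent A := orb_eq h.tk (h.as hz) hK ▸ hx.1
    refine h.tk.p.ext (h.as hz).ctx.ss x1.1 fun L hL => ?_
    obtain ⟨a, ha, rfl⟩ := (h.as hz).trans K L hK hL
    have := conj_mem_cj (g := a) (cent_anti ((h.tk.orb_ctx c hK).2.2.1 K |>.2
      ⟨1, one_mem _, (H98.cj_one K).symm⟩).le (e x1))
    rwa [H98.cj_centralizer, mem_cent.1 x1.2 a ha, mul_inv_cancel_right] at this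
  · obtain ⟨t, ht, ht'⟩ := SetLike.not_le_iff_exists.1 (h.g.not_le h2)
    exact fx_ne h.tk (h.as hz) hK NA_le (mov h.tk (h.as hz) hK NA_le le_rfl ht ht'
      (inf_le_left.trans inf_le_left) (e.trans (inf_le_right.trans (cent_le_cent1 ht))))

omit H in
theorem le_of_one (ha : a ∈ V) (hN : NA A (E a) = A) (hZ : Plane r A (A ⊓ Cent (E a))) (hz : z ∈ V)
    (hB : Plane r A B) (h1 : z ∈ B) (h2 : a ∈ B) (hF : Fu A E z B) : E a ≤ E z := by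
  obtain ⟨-, h3, h4⟩ := h.pass hz hB h1 hF h2 (h.ne ha)
  refine (le_inf le_rfl ?_).trans (h3.le.trans inf_le_left)
  rw [h.full_one hN hZ hB h4]
  exact le_cent_symm inf_le_right

theorem case_two (hz : z ∈ V) : Concl r m A V E := by
  have mZ : ∀ {a}, a ∈ V → a ∈ A ⊓ Cent (E a) := fun ha => ⟨h.mem ha, h.cent ha⟩
  have F1 : ∀ {a}, Fu A E a (A ⊓ Cent (E a)) := fun {_} => inf_le_left.trans inf_le_right
  by_cases h0 : ∀ a ∈ V, Plane r A (A ⊓ Cent (E a)) ∧ NA A (E a) = A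
  · have k : ∀ a ∈ V, ∀ z ∈ V, E a ≤ E z := fun a ha z hz => by
      obtain ⟨b, hb, hb', e⟩ := h.g.meet (h0 a ha).1 (h0 z hz).1
      obtain ⟨h1, -, h2⟩ := h.pass ha (h0 a ha).1 (mZ ha) F1 hb e
      have h3 := (h.pass hz (h0 z hz).1 (mZ hz) F1 hb' e).2.2
      refine h.le_of_one ha (h0 a ha).2 (h0 a ha).1 hz (h0 z hz).1 (mZ hz) ?_ F1
      rw [h.full_one (h0 b h1).2 (h0 b h1).1 (h0 z hz).1 h3, ← h.full_one (h0 b h1).2 (h0 b h1).1 (h0 a ha).1 h2]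
      exact mZ ha
    exact h.dom hz fun a ha => ⟨k a ha z hz, inf_le_left.trans (k z hz a ha)⟩
  clear hz
  obtain ⟨z, hz, zZ, zN⟩ : ∃ z ∈ V, A ⊓ Cent (E z) ≤ zpowers z ∧ Plane r A (NA A (E z)) := by
    by_contra! h1
    exact h0 fun a ha => (h.types H ha).resolve_right fun e => h1 a ha e.1 e.2
  have m1 : ∀ {a b : G}, a ∈ zpowers a ⊔ zpowers b := mem_sup_left (mem_zpowers _)
  have m2 : ∀ {a b : G}, b ∈ zpowers a ⊔ zpowers b := mem_sup_right (mem_zpowers _)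
  have out : ∀ {z a}, z ∈ V → Plane r A (NA A (E z)) → a ∈ A → a ∉ NA A (E z) →
      a ∈ V ∧ Fu A E a (zpowers z ⊔ zpowers a) := fun hz hN ha e =>
    have k := h.pass hz (h.full_r' hz hN ha e).1 m1 (h.full_r' hz hN ha e).2 m2 fun e' => e (e' ▸ one_mem _)
    ⟨k.1, k.2.2⟩
  by_cases h1 : ∀ a ∈ V, a ∉ NA A (E z) → Plane r A (A ⊓ Cent (E a)) ∧ NA A (E a) = A
  · refine h.dom hz fun a ha => ?_
    by_cases e : a ∈ NA A (E z)
    · suffices e' : a ∈ zpowers z from h.zp_eq hz ha e' ▸ ⟨le_rfl, inf_le_left⟩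
      obtain ⟨-, aN⟩ := (h.types H ha).resolve_left fun k => h.link H ha k.1 hz zN zZ e
      obtain ⟨b, hb, h2, h3⟩ := h.g.exists_not zN aN
      obtain ⟨h4, h5⟩ := out hz zN hb h2
      obtain ⟨h6, h7⟩ := h1 b h4 h2
      have h8 := (h.full_r' hz zN hb h2).1
      have h9 := (h.full_one h7 h6 (h.full_r' ha aN hb h3).1 (out ha aN hb h3).2).trans
        (h.full_one h7 h6 h8 h5).symm
      exact by_contra fun e' => h2 (h.g.pl_eq h8 zN m1 (h.memN hz) (h.ne hz) (h9 ▸ m1) e e' ▸ m2)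
    · obtain ⟨h2, h3⟩ := h.full_r' hz zN (h.mem ha) e
      exact ⟨h.le_of_one ha (h1 a ha e).2 (h1 a ha e).1 hz h2 m1 m2 h3,
        h.inf_le hz (h.mem ha) (h.ne ha) fun _ => h3⟩
  obtain ⟨a, ha, az, aZ, aN⟩ : ∃ a ∈ V, a ∉ NA A (E z) ∧ A ⊓ Cent (E a) ≤ zpowers a ∧
      Plane r A (NA A (E a)) := by
    by_contra! h2
    exact h1 fun a ha e => (h.types H ha).resolve_right fun k => h2 a ha e k.1 k.2
  obtain ⟨s, sz, sa, s1⟩ := h.g.meet zN aN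
  have ne : NA A (E z) ≠ NA A (E a) := fun e => az (e ▸ h.memN ha)
  have hS : NA A (E z) ⊓ NA A (E a) = zpowers s := le_antisymm
    (fun x hx => by_contra fun e => ne (h.g.pl_eq zN aN sz sa s1 hx.1 hx.2 e)) (zpowers_le.2 ⟨sz, sa⟩)
  have hV : ∀ b, b ∈ V ↔ b ∈ A ∧ b ∉ zpowers s := fun b => by
    rw [← hS]
    refine ⟨fun hb => ⟨h.mem hb, fun e => ?_⟩, fun hb => by_contra fun e => hb.2
      ⟨by_contra fun k => e (out hz zN hb.1 k).1, by_contra fun k => e (out ha aN hb.1 k).1⟩⟩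
    obtain ⟨-, bN⟩ := (h.types H hb).resolve_left fun k => h.link H hb k.1 hz zN zZ e.1
    have k : ∀ {z}, z ∈ V → Plane r A (NA A (E z)) → b ∈ NA A (E z) → NA A (E z) = NA A (E b) :=
      fun hz zN e => by_contra fun k => h.not_full H hz
        (h.pass hb zN e (h.full_r hb bN zN e k) (h.memN hz) (h.ne hz)).2.2
    exact ne ((k hz zN e.1).trans (k ha aN e.2).symm)
  have sV : s ∉ V := fun e => ((hV s).1 e).2 (mem_zpowers s)
  have ty : ∀ b ∈ V, A ⊓ Cent (E b) ≤ zpowers b ∧ Plane r A (NA A (E b)) := fun b hb => by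
    have k : ∀ {b c}, b ∈ V → Plane r A (A ⊓ Cent (E b)) ∧ NA A (E b) = A → c ∈ V →
        A ⊓ Cent (E c) ≤ zpowers c ∧ Plane r A (NA A (E c)) → c ∈ A ⊓ Cent (E b) := fun hb k hc k' => by
      have e := h.link H hb k.1 hc k'.2 k'.1
      rw [← h.full_one k.2 k.1 (h.full_r' hc k'.2 (h.mem hb) e).1 (out hc k'.2 (h.mem hb) e).2]
      exact m1
    refine (h.types H hb).resolve_left fun k1 => ?_
    have h2 : z * s ∈ V := (hV _).2 ⟨mul_mem (h.mem hz) (NA_le sz), fun e => ((hV z).1 hz).2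
      (((zpowers s).mul_mem_cancel_right (mem_zpowers s)).1 e)⟩
    obtain ⟨c, hc, k2, h3⟩ : ∃ c ∈ V, (Plane r A (A ⊓ Cent (E c)) ∧ NA A (E c) = A) ∧ z * s ∈ A ⊓ Cent (E c) :=
      (h.types H h2).elim (fun k2 => ⟨_, h2, k2, mZ h2⟩) fun k2 => ⟨b, hb, k1, k hb k1 h2 k2⟩
    exact sV (h.pass hc k2.1 (mZ hc) F1 ((Subgroup.mul_mem_cancel_left _ (k hc k2 hz ⟨zZ, zN⟩)).1 h3) s1).1
  have hN : ∀ b ∈ V, NA A (E b) = zpowers b ⊔ zpowers s := fun b hb => by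
    have h2 := h.g.pl_sup (h.mem hb) (h.ne hb) (NA_le sz) fun e => ((hV b).1 hb).2
      (h.g.zp_eq (h.mem hb) (h.ne hb) e s1 ▸ mem_zpowers b)
    exact by_contra fun e => sV (h.pass hb h2 m1 (h.full_r hb (ty b hb).2 h2 m1 (Ne.symm e)) m2 s1).1
  exact h.gtc (zpowers_le.2 (NA_le sz)) (H15.elem_card_zpowers h.g.prime h.g.elem (NA_le sz) s1).dvd hV
    (fun b hb => ⟨(ty b hb).1, hN b hb⟩) fun b hb B hB h2 h3 => h.full_r hb (ty b hb).2 hB h2 fun e =>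
      s1 (mem_bot.1 (h3 ▸ mem_inf.2 ⟨e ▸ hN b hb ▸ m2, mem_zpowers s⟩))

end Hy

theorem jobGT3 : JobGT3.{u} := fun tk gc r m G _ _ A V E hA ⟨z, hz⟩ h1 h2 h3 W e => by
  have h : Hy r m A V E := ⟨tk, gc, ⟨(h1 z hz).2.2.1.ctx.prime, (h1 z hz).2.2.1.ctx.elem, hA⟩, h1, h2, h3⟩
  subst e
  by_cases H : ∀ a ∈ V, ¬ NA A (E a) ≤ Cent (E a)
  · exact h.case_two H hz
  · push Not at H
    obtain ⟨a, ha, H⟩ := H
    exact h.case_one ha H

end H98.GT
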