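import Cfsg.Agent.H82.HPKit
import Cfsg.Agent.H98.HrPR

/-! Job B2 of the HP tower: in case B both Sylow subgroups of a pair coincide. -/

set_option autoImplicit false

namespace H98.Hp

open MulAction Cfsg Subgroup H89.K H98 H82.HR H82.HP

universe u v

theorem ncard_le_mul {α β : Type*} [Finite α] [Finite β] {T : Set α} {S : Set β} (f : α → β) {k : ℕ}
    (h1 : ∀ c ∈ T, f c ∈ S) (h2 : ∀ s ∈ S, {c | c ∈ T ∧ f c = s}.ncard ≤ k) :
    T.ncard ≤ k * S.ncard := by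
  classical
  have := Fintype.ofFinite α
  have := Fintype.ofFinite β
  simp only [Set.ncard_eq_toFinset_card'] at h2 ⊢
  exact Finset.card_le_mul_card_image_of_maps_to (f := f) (by simpa using h1) k fun s hs =>
    le_trans (le_of_eq (by congr 1; ext; simp)) (h2 s (by simpa using hs))

theorem mul_le_ncard {α β : Type*} [Finite α] [Finite β] {T : Set α} {S : Set β} (f : α → β) {k : ℕ}
    (h2 : ∀ s ∈ S, k ≤ {c | c ∈ T ∧ f c = s}.ncard) : k * S.ncard ≤ T.ncard := by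
  classical
  have := Fintype.ofFinite α
  have := Fintype.ofFinite β
  refine le_trans ?_ (Set.ncard_le_ncard (s := {c | c ∈ T ∧ f c ∈ S}) fun _ h => h.1)
  simp only [Set.ncard_eq_toFinset_card'] at h2 ⊢
  exact Finset.mul_card_image_le_card_of_maps_to (f := f) (by simp) k fun s hs =>
    le_trans (h2 s (by simpa using hs)) (le_of_eq (by
      congr 1; ext c; simp only [Set.mem_toFinset] at hs; simp; aesop))

section Loc

variable {G : Type u} [Group G] [Finite G] {N R p l : Subgroup G} {P L : Set (Subgroup G)} {m : ℕ}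
  {x y : G}

theorem odd_fix_cj {Q : Subgroup G} (hQ : IsPGroup 2 Q) {F : Set (Subgroup G)}
    (h1 : ∀ g ∈ Q, ∀ s ∈ F, cj g s ∈ F) (ho : Odd F.ncard) : ∃ s ∈ F, ∀ g ∈ Q, cj g s = s :=
  letI := cjAct G
  H82.TP.odd_fix hQ h1 ho

omit [Finite G] in
theorem cen_nor (h : p ≤ N) (hx : x ∈ cen N) : x ∈ nor p :=
  Subgroup.centralizer_le_normalizer _ (centralizer_anti h hx)

/-- A `2`-group that fixes a flag and is normalised by the Borel subgroup acts as the Sylow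
subgroup. -/
theorem inner (h : PL N P L m) (hp : p ∈ P) (hl : l ∈ L) (i : Inc p l) (hR : IsPGroup 2 R)
    (h1 : R ≤ nor N) (h2 : R ≤ nor p) (h3 : R ≤ nor l) (h4 : p ⊔ l ≤ R)
    (h5 : N ⊓ nor p ⊓ nor l ≤ nor R) (hx : x ∈ R) : ∃ y ∈ p ⊔ l, y⁻¹ * x ∈ cen N := by
  by_cases h0 : m = 1
  · obtain ⟨y, hy, r⟩ := h.two h0 (h1 hx) hp (by rwa [cj_eq_self (h2 hx)])
    have k : ∀ {s : Subgroup G}, s ≤ N → x ∈ nor s → y ∈ nor s := fun a b => by
      simpa using mul_mem b (inv_mem (cen_nor a r))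
    exact ⟨y, h.two'' h0 hp hl i hy (k (h.a.le p hp) (h2 hx)) (k (h.a'.le l hl) (h3 hx)), r⟩
  obtain ⟨p', hp', i', ne, -⟩ := h.third hl p p
  obtain ⟨r, hr, n⟩ := h.exists_off hl
  obtain ⟨-, reg, -⟩ := h.b.tor l hl p hp p' hp' r hr ne.symm i i' n
  set D := DT P l p p' r
  let T : Set (Subgroup G) := {s | s ∈ P ∧ Inc s l} \ {p, p'}
  have hT : T.ncard = 2 ^ m - 1 := by
    rw [Set.ncard_diff (by rintro _ (rfl | rfl); exacts [⟨hp, i⟩, ⟨hp', i'⟩]), h.a.cI l hl,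
      Set.ncard_pair ne.symm]
    omega
  have oT : Odd T.ncard := hT ▸ Nat.Even.sub_odd Nat.one_le_two_pow
    (Nat.even_pow.2 ⟨even_two, by have := h.m1; omega⟩) odd_one
  have reg' : ∀ s ∈ T, ∀ s' ∈ T, ∃! d, d ∈ D ∧ cj d s = s' := fun s hs s' hs' =>
    reg s hs.1.1 s' hs'.1.1 hs.1.2 hs'.1.2 (fun e => hs.2 (Or.inl e)) (fun e => hs.2 (Or.inr e))
      (fun e => hs'.2 (Or.inl e)) fun e => hs'.2 (Or.inr e)
  have on : ∀ g ∈ nor N, g ∈ nor p → g ∈ nor l → ∀ s ∈ P, Inc s l → cj g s ∈ P ∧ Inc (cj g s) l :=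
    fun g a b c s hs j => ⟨(h.keep a hp (by rwa [cj_eq_self b])).1 s hs,
      cj_eq_self c ▸ (inc_cj g).2 j⟩
  have kT : ∀ g ∈ nor N, g ∈ nor p → g ∈ nor l → g ∈ nor p' → ∀ s ∈ T, cj g s ∈ T :=
    fun g a b c d s hs => ⟨on g a b c s hs.1.1 hs.1.2, fun e => hs.2 (e.imp
      (fun e => cj_inj.1 (e.trans (cj_eq_self b).symm)) fun e => cj_inj.1 (e.trans (cj_eq_self d).symm))⟩
  have DN : D ≤ N := fun d hd => h.symm.MM_le hd.1.1.1
  have Dl : D ≤ nor l := fun d hd => h.symm.MM_nor hl hd.1.1.1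
  have oD : ¬ 2 ∣ Nat.card D := fun e => by
    obtain ⟨d, hd⟩ := exists_prime_orderOf_dvd_card' 2 e
    have hd' : orderOf (d : G) = 2 := by rw [Subgroup.orderOf_coe, hd]
    have hz : zpowers (d : G) ≤ D := (zpowers_le_of_mem d.2)
    obtain ⟨s, hs, f⟩ := odd_fix_cj (isPGroup_zpowers (k := 1) (by rw [pow_one, ← hd', pow_orderOf_eq_one]))
      (fun g hg => kT g (le_normalizer (DN (hz hg))) (hz hg).1.1.2 (Dl (hz hg)) (hz hg).1.2) oT
    exact H82.TP.ne_of_ord hd' ((reg' s hs s hs).unique ⟨d.2, f _ (mem_zpowers _)⟩ ⟨one_mem _, cj_one s⟩)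
  have DR : D ≤ nor R := fun d hd => h5 ⟨⟨DN hd, hd.1.1.2⟩, Dl hd⟩
  obtain ⟨k, hk⟩ := hR.exists_card_eq
  have := hR.isNilpotent
  obtain ⟨c, hc, n', hn', rfl⟩ := H1.exists_centralizer_mul_commutator DR
    (hk ▸ ((Nat.coprime_two_right.2 (Nat.not_even_iff_odd.1 fun e => oD e.two_dvd)).pow_right k))
    (Or.inr inferInstance) hx
  have hn : n' ∈ p ⊔ l := ((h.a.syl p hp l hl i).eq_of_le (Q := R ⊓ N) (hR.to_le inf_le_left)
    (le_inf h4 (h.a.syl p hp l hl i).le) inf_le_right).le ⟨commutator_le_left' DR hn',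
      (commutator_mono le_rfl DN).trans (commutator_le_right' h1) hn'⟩
  have cc : ∀ d ∈ D, ∀ s, cj d (cj c s) = cj c (cj d s) := fun d hd s => by
    rw [cj_cj, cj_cj, hc.2 d hd]
  have cp : c ∈ nor p' := cj_eq_self_iff.1 (by_contra fun e => by
    have h6 : cj c p' ∈ T := ⟨on c (h1 hc.1) (h2 hc.1) (h3 hc.1) p' hp' i', fun e' =>
      e'.elim (fun e' => ne (cj_inj.1 (e'.trans (cj_eq_self (h2 hc.1)).symm))) e⟩
    obtain ⟨s, hs, r⟩ := Set.exists_ne_of_one_lt_ncard (s := T) (by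
      have := Nat.pow_le_pow_right two_pos (show 2 ≤ m by have := h.m1; omega); omega) (cj c p')
    obtain ⟨d, ⟨hd, r'⟩, -⟩ := reg' _ h6 s hs
    exact r (by rw [← r', cc d hd, cj_eq_self hd.1.2]))
  have hz : zpowers c ≤ R ⊓ nor p' := zpowers_le_of_mem ⟨hc.1, cp⟩
  obtain ⟨s, hs, f⟩ := odd_fix_cj (hR.to_le (hz.trans inf_le_left))
    (fun g hg => kT g (h1 (hz hg).1) (h2 (hz hg).1) (h3 (hz hg).1) (hz hg).2) oT
  obtain ⟨j, hj⟩ := isPGroup_iff_forall.1 hR c hc.1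
  obtain ⟨e, he, r⟩ := h.axisL (h1 hc.1) hj hl fun s' hs' j' => by
    by_cases e : s' ∈ ({p, p'} : Set (Subgroup G))
    · rcases e with rfl | rfl
      exacts [h2 hc.1, cp]
    obtain ⟨d, ⟨hd, rfl⟩, -⟩ := reg' s hs s' ⟨⟨hs', j'⟩, e⟩
    exact cj_eq_self_iff.1 (by rw [← cc d hd, f c (mem_zpowers c)])
  refine ⟨e * n', mul_mem (mem_sup_right he) hn, ?_⟩
  rwa [show (e * n')⁻¹ * (c * n') = n'⁻¹ * (e⁻¹ * c * n') by group,
    ← r n' ((h.a.syl p hp l hl i).le hn), inv_mul_cancel_left]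

/-- A polarity of the plane of order two has at most four absolute points. -/
theorem abs_le (h : PL N P L 1) (h2 : x * x = 1) (h3 : ∀ p ∈ P, cj x p ∈ L) (h4 : ∀ l ∈ L, cj x l ∈ P) :
    {s | s ∈ P ∧ Inc s (cj x s)}.ncard ≤ 4 := by
  have xx : ∀ s, cj x (cj x s) = s := fun s => by rw [cj_cj, h2, cj_one]
  have key : ∀ p ∈ P, Inc p (cj x p) → ∀ s ∈ P, Inc s (cj x p) → s ≠ p → ¬ Inc s (cj x s) :=
    fun p hp i s hs j ne k => ne (cj_inj.1 (h.line_eq hs hp ne (h3 s hs) (h3 p hp) k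
      (by have := ((inc_cj x).2 j).symm; rwa [xx] at this) j i))
  by_contra r
  obtain ⟨p, ⟨hp, i⟩, p', ⟨hp', i'⟩, ne⟩ :=
    (Set.one_lt_ncard (s := {s | s ∈ P ∧ Inc s (cj x s)})).1 (by omega)
  obtain ⟨s, hs, j, n1, -⟩ := h.third (h3 p hp) p p
  obtain ⟨s', hs', j', n2, n3⟩ := h.third (h3 p hp) p s
  obtain ⟨t, ht, k, n4, n5⟩ := h.off (h3 p hp) (h3 p' hp') (fun e => ne (cj_inj.1 e)) p'
  have := Set.ncard_le_ncard (s := {s | s ∈ P ∧ Inc s (cj x s)}) (t := P \ {t, s, s'}) (by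
    rintro w ⟨hw, a⟩
    refine ⟨hw, ?_⟩
    rintro (rfl | rfl | rfl)
    exacts [key p' hp' i' _ ht k n5 a, key p hp i _ hs j n1 a, key p hp i _ hs' j' n2 a])
  rw [Set.ncard_diff (by rintro _ (rfl | rfl | rfl) <;> assumption), h.a.cP,
    Set.ncard_insert_of_notMem (by rintro (rfl | rfl) <;> contradiction), Set.ncard_pair n3.symm] at this
  omega

theorem nor_le (h : PL N P L 1) (h2 : x * x = 1) (h3 : ∀ p ∈ P, cj x p ∈ L)
    (h4 : ∀ l ∈ L, cj x l ∈ P) : {U | IsSyl 2 U N ∧ x ∈ nor U}.ncard ≤ 4 := by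
  refine le_trans (Set.ncard_le_ncard ?_)
    ((Set.ncard_image_le (f := fun s => s ⊔ cj x s)).trans (abs_le h h2 h3 h4))
  rintro U ⟨hU, r⟩
  obtain ⟨p, hp, l, hl, i, rfl⟩ := h.flag hU
  have e := (h.flag_eq hp hl i (h4 l hl) (h3 p hp) (by rw [sup_comm, ← cj_sup, cj_eq_self r])).2
  exact ⟨p, ⟨hp, e.symm ▸ i⟩, by simp only [e]⟩

theorem five_le (h : PL N P L m) (hp : p ∈ P) (hl : l ∈ L) (i : Inc p l) (h1 : y ∈ p) (h2 : y ∈ l) :
    5 ≤ {U | IsSyl 2 U N ∧ y ∈ U}.ncard := by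
  obtain ⟨s, hs, j, n1, -⟩ := h.third hl p p
  obtain ⟨s', hs', j', n2, n3⟩ := h.third hl p s
  obtain ⟨t, ht, k, n4, -⟩ := h.symm.third hp l l
  obtain ⟨t', ht', k', n5, n6⟩ := h.symm.third hp l t
  refine le_trans (le_of_eq ?_) (Set.ncard_le_ncard (s := {p ⊔ t, p ⊔ t', p ⊔ l, s ⊔ l, s' ⊔ l}) ?_)
  · rw [Set.ncard_insert_of_notMem, Set.ncard_insert_of_notMem, Set.ncard_insert_of_notMem,
      Set.ncard_pair fun e => n3 (h.flag_eq hs hl j hs' hl e.symm).1]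
    · rintro (e | e)
      exacts [n1 (h.flag_eq hp hl i hs hl e.symm).1, n2 (h.flag_eq hp hl i hs' hl e.symm).1]
    · rintro (e | e | e)
      exacts [n5 (h.flag_eq hp hl i hp ht' e).2, n5 (h.flag_eq hs hl j hp ht' e).2,
        n5 (h.flag_eq hs' hl j' hp ht' e).2]
    · rintro (e | e | e | e)
      exacts [n6 (h.flag_eq hp ht k.symm hp ht' e.symm).2, n4 (h.flag_eq hp hl i hp ht e).2,
        n4 (h.flag_eq hs hl j hp ht e).2, n4 (h.flag_eq hs' hl j' hp ht e).2]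
  · rintro _ (rfl | rfl | rfl | rfl | rfl)
    exacts [⟨h.a.syl p hp _ ht k.symm, mem_sup_left h1⟩, ⟨h.a.syl p hp _ ht' k'.symm, mem_sup_left h1⟩,
      ⟨h.a.syl p hp l hl i, mem_sup_left h1⟩, ⟨h.a.syl s hs l hl j, mem_sup_right h2⟩,
      ⟨h.a.syl s' hs' l hl j', mem_sup_right h2⟩]

end Loc

section Act

variable {G : Type u} {Ω : Type v} [Group G] [Finite G] [MulAction G Ω] {N : Ω → Subgroup G}
  {m : ℕ} {a b c d : Ω} {U U' : Subgroup G} {x y g : G}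

omit [Finite G] in
theorem uniq (cb : CB N) (hcd : c ≠ d) (h1 : IsSyl 2 U (N c)) (h2 : U ≤ stabilizer G d)
    (h3 : IsSyl 2 U' (N c)) (h4 : U' ≤ stabilizer G d) : U = U' := by
  obtain ⟨V, k1, -, k3⟩ := cb c d hcd
  have k : ∀ {U}, IsSyl 2 U (N c) → U ≤ stabilizer G d → V = U := fun a b =>
    a.eq_of_le k1.isPGroup (k1.le_of_le_normalizer' a.isPGroup a.le ((le_inf a.le b).trans k3)) k1.le
  rw [← k h1 h2, k h3 h4]

omit [Finite G] in
theorem cj_fix (h : U ≤ stabilizer G d) (g : G) : cj g U ≤ stabilizer G (g • d) := fun x hx => by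
  have : (g⁻¹ * x * g) • d = d := h (mem_cj.1 hx)
  rwa [mul_smul, mul_smul, inv_smul_eq_iff] at this

omit [Finite G] in
theorem mem_nor (H : Hp N m) (cb : CB N) (hcd : c ≠ d) (h1 : IsSyl 2 U (N c))
    (h2 : U ≤ stabilizer G d) (e1 : g • c = c) (e2 : g • d = d) : g ∈ nor U :=
  cj_eq_self_iff.1 (uniq cb hcd (h1.cj_of_mem_normalizer (H.nor_N e1)) (e2 ▸ cj_fix h2 g) h1 h2)

/-- the pointwise stabiliser of the fixed points of `U` -/
def PS (Ω : Type v) [MulAction G Ω] (U : Subgroup G) : Subgroup G := ⨅ c ∈ Fx Ω U, stabilizer G c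

omit [Finite G] in
theorem mem_PS : g ∈ PS Ω U ↔ ∀ c : Ω, U ≤ stabilizer G c → g • c = c := by
  simp only [PS, mem_iInf]; rfl

theorem nor_PS (hg : g ∈ nor U) : g ∈ nor (PS Ω U) :=
  mem_normalizer_of_cj_le fun x hx => mem_PS.2 fun c hc => by
    have := mem_PS.1 (mem_cj.1 hx) (g⁻¹ • c) (cj_eq_self (inv_mem hg) ▸ cj_fix hc g⁻¹)
    simpa [mul_smul] using this

theorem cen_PS (H : Hp N m) (cb : CB N) (h1 : IsSyl 2 U (N a)) (h2 : g ∈ cen (N a))
    (h3 : g ∈ PS Ω U) : g = 1 := H.t2.faith g fun c => by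
  by_cases e : a = c
  · exact mem_PS.1 h3 c (e ▸ h1.le.trans (H.le a))
  obtain ⟨V, k1, k2, -⟩ := cb a c e
  obtain ⟨x, hx, rfl⟩ := k1.exists_cj_eq h1
  have := mem_PS.1 h3 _ (cj_fix k2 x)
  rwa [← mul_smul, ← h2 x hx, mul_smul, smul_left_cancel_iff] at this

/-- Counting fixed points through the Sylow subgroups of `N a`. -/
theorem count (H : Hp N m) (cb : CB N) (hab : a ≠ b) (hx : x • a = a) (hy : y • a = a)
    (e : g * x * g⁻¹ = y) :
    {U | IsSyl 2 U (N a) ∧ y ∈ U}.ncard ≤ {U | IsSyl 2 U (N a) ∧ x ∈ nor U}.ncard := by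
  classical
  have := H.t2.finite
  choose u u1 u2 u3 using cb a
  let f : Ω → Subgroup G := fun c => if h : a ≠ c then u c h else ⊥
  have hk : ∀ U, IsSyl 2 U (N a) → {c | a ≠ c ∧ U ≤ stabilizer G c}.ncard =
      {c | a ≠ c ∧ u b hab ≤ stabilizer G c}.ncard := fun U hU => by
    obtain ⟨z, hz, rfl⟩ := (u1 b hab).exists_cj_eq hU
    have za : z • a = a := H.le a hz
    refine (Set.ncard_congr (s := {c | a ≠ c ∧ u b hab ≤ stabilizer G c})
      (t := {c | a ≠ c ∧ cj z (u b hab) ≤ stabilizer G c}) (fun c _ => z • c)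
      (fun c hc => ⟨fun r => hc.1 (MulAction.injective z
      (za.trans r)), cj_fix hc.2 z⟩) (fun _ _ _ _ r => MulAction.injective z r) fun c hc =>
      ⟨z⁻¹ • c, ⟨fun r => hc.1 (by rw [← za, r, smul_inv_smul]), ?_⟩, smul_inv_smul z c⟩).symm
    exact cj_inv_cj z (u b hab) ▸ cj_fix hc.2 z⁻¹
  have h1 := ncard_le_mul (T := {c | x • c = c} \ {a}) (S := {U | IsSyl 2 U (N a) ∧ x ∈ nor U}) f
    (fun c hc => by
      have n : a ≠ c := fun r => hc.2 r.symm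
      simp only [f, dif_pos n]
      exact ⟨u1 c n, mem_nor H cb n (u1 c n) (u2 c n) hx hc.1⟩)
    fun U hU => (Set.ncard_le_ncard fun c hc => by
      have n : a ≠ c := fun r => hc.1.2 r.symm
      have := hc.2
      simp only [f, dif_pos n] at this
      exact ⟨n, this ▸ u2 c n⟩).trans (hk U hU.1).le
  have h2 := mul_le_ncard (T := {c | y • c = c} \ {a}) (S := {U | IsSyl 2 U (N a) ∧ y ∈ U}) f
    fun U hU => (hk U hU.1).ge.trans (Set.ncard_le_ncard fun c hc =>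
      ⟨⟨hc.2 hU.2, fun r => hc.1 r.symm⟩, by
        simp only [f, dif_pos hc.1]
        exact uniq cb hc.1 (u1 c hc.1) (u2 c hc.1) hU.1 hc.2⟩)
  have h3 : {c : Ω | x • c = c}.ncard = {c : Ω | y • c = c}.ncard :=
    Set.ncard_congr (fun c _ => g • c) (fun c hc => by
      rw [Set.mem_setOf, ← e, mul_smul, inv_smul_smul, mul_smul, hc])
      (fun _ _ _ _ r => MulAction.injective g r) fun c hc => ⟨g⁻¹ • c, by
        rw [Set.mem_setOf, ← e, mul_smul, mul_smul, smul_eq_iff_eq_inv_smul] at hc; exact hc,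
        smul_inv_smul g c⟩
  rw [Set.ncard_diff_singleton_of_mem (s := {c | x • c = c}) hx] at h1
  rw [Set.ncard_diff_singleton_of_mem (s := {c | y • c = c}) hy, ← h3] at h2
  exact Nat.le_of_mul_le_mul_left (h2.trans h1) ((Set.ncard_pos).2 ⟨b, hab, u2 b hab⟩)

end Act

theorem jobB2 : JobB2.{u, v} := fun G Ω _ _ _ N m H cb ff a b hab => by
  obtain ⟨U, hU, Ub, -⟩ := cb a b hab
  obtain ⟨U', hU', Ua, -⟩ := cb b a hab.symm
  have Ua0 : U ≤ stabilizer G a := hU.le.trans (H.le a)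
  have e := ff a b hab U U' hU Ub hU' Ua
  obtain ⟨P, L, h⟩ := H.pl a
  obtain ⟨p, hp, l, hl, i, rfl⟩ := h.flag hU
  have Ka : ∀ g ∈ PS Ω (p ⊔ l), g • a = a := fun g hg => mem_PS.1 hg a Ua0
  have Kb : ∀ g ∈ PS Ω (p ⊔ l), g • b = b := fun g hg => mem_PS.1 hg b Ub
  have KU : PS Ω (p ⊔ l) ≤ nor (p ⊔ l) := fun g hg => mem_nor H cb hab hU Ub (Ka g hg) (Kb g hg)
  let R := pCoreOf 2 (PS Ω (p ⊔ l))
  have RK : R ≤ PS Ω (p ⊔ l) := pCoreOf_le _
  have RN : R ≤ nor (N a) := fun g hg => H.nor_N (Ka g (RK hg))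
  have UR : p ⊔ l ≤ R := le_pCoreOf hU.isPGroup (fun g hg => mem_PS.2 fun c hc => hc hg) KU
  have UR' : U' ≤ R := le_pCoreOf hU'.isPGroup
    (fun g hg => mem_PS.2 fun c hc => (e.le (fun x hx => hc hx) : c ∈ Fx Ω U') g hg)
    fun g hg => mem_nor H cb hab.symm hU' Ua (Kb g hg) (Ka g hg)
  have ty : ∀ g ∈ R, (cj g p = p ∧ cj g l = l) ∨ ((cj g p = l ∧ cj g l = p) ∧
      (∀ p ∈ P, cj g p ∈ L) ∧ ∀ l ∈ L, cj g l ∈ P) := fun g hg => by
    have r := cj_eq_self (KU (RK hg))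
    rw [cj_sup] at r
    exact (h.types (RN hg)).imp (fun t => h.flag_eq hp hl i (t.1 p hp) (t.2 l hl) r) fun t =>
      ⟨(h.flag_eq hp hl i (t.2 l hl) (t.1 p hp) (by rw [sup_comm, r])).symm, t⟩
  have pl : p ≠ l := fun r => h.a.disj p hp (r ▸ hl)
  have R0 : ∀ g ∈ R, cj g p = p → g ∈ p ⊔ l := fun g hg r => by
    have R0l : R ⊓ nor p ≤ nor l := fun g hg => cj_eq_self_iff.1
      ((ty g hg.1).resolve_right fun t => pl ((cj_eq_self hg.2).symm.trans t.1.1)).2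
    obtain ⟨y, hy, r'⟩ := inner h hp hl i ((isPGroup_pCoreOf _).to_le inf_le_left)
      (inf_le_left.trans RN) inf_le_right R0l
      (le_inf UR (sup_le le_normalizer (h.a.fix l hl p hp i)))
      (le_normalizer_inf (le_normalizer_pCoreOf fun d hd => nor_PS
        (le_normalizer_sup (H := N a ⊓ nor p ⊓ nor l) (inf_le_left.trans inf_le_right) inf_le_right hd))
        (le_normalizer_of_le (inf_le_left.trans inf_le_right))) ⟨hg, cj_eq_self_iff.1 r⟩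
    exact inv_mul_eq_one.1 (cen_PS H cb hU r' (RK (mul_mem (inv_mem (UR hy)) hg))) ▸ hy
  obtain ⟨P', L', h'⟩ := H.pl b
  have key : ∀ {P' L' : Set (Subgroup G)}, PL (N b) P' L' m → ∀ E ∈ P', E ≤ U' → E ≤ p ⊔ l :=
    fun {P' L'} h' E hE EU x hx => by
    by_contra r
    have sw : ∀ x ∈ E, x ∉ p ⊔ l → (cj x p = l ∧ cj x l = p) ∧ (∀ p ∈ P, cj x p ∈ L) ∧
        ∀ l ∈ L, cj x l ∈ P := fun x hx r =>
      (ty x (UR' (EU hx))).resolve_left fun t => r (R0 x (UR' (EU hx)) t.1)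
    obtain ⟨⟨s1, s2⟩, s3, s4⟩ := sw x hx r
    have Z : E ⊓ (p ⊔ l) ≤ p ⊓ l := fun y hy => by
      have c : x * y * x⁻¹ = y := by rw [h'.comm hE hx hy.1, mul_inv_cancel_right]
      rcases h.a.inv2 p hp l hl i y hy.2 (h'.a.sq E hE y hy.1) with t | t
      exacts [⟨t, s1 ▸ c ▸ conj_mem_cj t⟩, ⟨s2 ▸ c ▸ conj_mem_cj t, t⟩]
    have c1 : Nat.card E ≤ 2 * Nat.card ↥(E ⊓ (p ⊔ l)) := Hr.card_le_two fun s hs t ht => by
      by_cases a1 : s ∈ p ⊔ l
      · exact Or.inl ⟨hs, a1⟩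
      by_cases a2 : t ∈ p ⊔ l
      · exact Or.inr (Or.inl ⟨ht, a2⟩)
      exact Or.inr (Or.inr ⟨mul_mem hs ht, R0 _ (UR' (EU (mul_mem hs ht)))
        (by rw [← cj_cj, (sw t ht a2).1.1, (sw s hs a1).1.2])⟩)
    have c2 := card_le_of_le Z
    rw [h'.a.card E hE] at c1
    rw [h.a.root p hp l hl i] at c2
    obtain rfl : m = 1 := by
      by_contra n
      have := Nat.pow_le_pow_right two_pos (show 2 ≤ m by have := h.m1; omega)
      nlinarith
    obtain ⟨y, hy⟩ := ne_bot_iff_exists_ne_one.1 (show E ⊓ (p ⊔ l) ≠ ⊥ from fun t => by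
      rw [t, card_bot] at c1; omega)
    obtain ⟨g, -, t⟩ := h'.b.irr E hE x hx y y.2.1 (fun t => r (t ▸ one_mem _))
      fun t => hy (Subtype.ext t)
    have := count H cb hab (Ua (EU hx)) (Ua0 y.2.2) t
    have := five_le h hp hl i (Z y.2).1 (Z y.2).2
    have := nor_le h (h'.a.sq E hE x hx) s3 s4
    omega
  obtain ⟨p', hp', l', hl', i', rfl⟩ := h'.flag hU'
  have le : p' ⊔ l' ≤ p ⊔ l := sup_le (key h' p' hp' le_sup_left) (key h'.symm l' hl' le_sup_right)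
  obtain ⟨g, g1, -⟩ := H.t2.two hab hab.symm
  have k := hU.cj g
  rw [← H.equi, g1] at k
  exact ⟨_, hU, eq_of_le_of_card_ge le (by rw [hU'.card_eq, ← k.card_eq, card_cj]) ▸ hU'⟩

end H98.Hp
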