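import Cfsg.Agent.H98.HsLay

/-! The trichotomy for a quasisimple subgroup commuting with its conjugates under `σ`, `C(σ)`. -/

set_option autoImplicit false

namespace H98.Hs

open Subgroup Cfsg
open scoped commutatorElement

universe u

variable {G : Type u} [Group G] [Finite G] {σ : MulAut G} {r : ℕ} {K L : Subgroup G}
  {S : Set (Subgroup G)}

omit [Finite G] in
theorem map_pow_succ (K : Subgroup G) (i : ℕ) :
    K.map ((σ ^ (i + 1) : MulAut G) : G →* G) =
      (K.map ((σ ^ i : MulAut G) : G →* G)).map (σ : G →* G) := by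
  rw [map_map, pow_succ']; rfl

omit [Finite G] in
theorem map_pow_zero (K : Subgroup G) : K.map ((σ ^ 0 : MulAut G) : G →* G) = K := by
  rw [pow_zero]; exact K.map_id

omit [Finite G] in
theorem Fam.pow (hS : Fam σ S) (hK : K ∈ S) (i : ℕ) :
    K.map ((σ ^ i : MulAut G) : G →* G) ∈ S := by
  induction i with
  | zero => rwa [map_pow_zero]
  | succ i ih => rw [map_pow_succ]; exact hS.map _ ih

omit [Finite G] in
theorem Aut.iv_of_pow (h : Aut σ r) {i : ℕ} (h0 : 0 < i) (hi : i < r)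
    (e : K.map ((σ ^ i : MulAut G) : G →* G) = K) : Iv σ K := by
  obtain ⟨m, hm⟩ := exists_pow_eq_self_of_coprime (x := σ) (n := i)
    (((Nat.coprime_of_lt_prime h0.ne' hi h.prime).symm).coprime_dvd_right
      (orderOf_dvd_of_pow_eq_one h.pow))
  intro x hx
  rw [← hm]
  exact (iv_iff_map_le.2 e.le).pow m hx

omit [Finite G] in
/-- The diagonal of a regular orbit of components. -/
theorem Aut.diag (h : Aut σ r) (hL : IsComponent L) (hi : ¬ Iv σ L) {l : G} (hl : l ∈ L) :
    ∃ c ∈ centralizer (L : Set G), σ (l * c) = l * c := by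
  let P : ℕ → G := fun n => Nat.rec 1 (fun _ x => l * σ x) n
  have h1 : ∀ n, l * σ (P n) = P n * (σ ^ n) l := fun n => by
    induction n with
    | zero => simp [P]
    | succ n ih =>
      change l * σ (l * σ (P n)) = l * σ (P n) * _
      rw [pow_succ', MulAut.mul_apply, mul_assoc, ← map_mul, ← ih]
  have h2 : ∀ n < r, σ (P n) ∈ centralizer (L : Set G) := fun n hn => by
    induction n with
    | zero => simp [P]
    | succ n ih =>
      change σ (l * σ (P n)) ∈ _
      rw [h1, map_mul, show σ ((σ ^ n) l) = (σ ^ (n + 1)) l by rw [pow_succ']; rfl]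
      exact mul_mem (ih (by omega)) (commutator_eq_bot_iff_le_centralizer.1 (H14.comp_commute_of_ne
        (H14.comp_map_mulEquiv hL (σ ^ (n + 1) : MulAut G)) hL
        fun e => hi (h.iv_of_pow n.succ_pos hn e)) (mem_map_of_mem _ hl))
  obtain ⟨n, rfl⟩ := Nat.exists_eq_succ_of_ne_zero h.prime.ne_zero
  have h3 := h2 n (lt_add_one n)
  refine ⟨_, h3, mul_left_cancel (a := l) ?_⟩
  have h4 := h1 (n + 1)
  rw [h.pow] at h4
  refine h4.trans ?_
  change l * σ (P n) * l = _
  rw [mul_assoc, mem_centralizer_iff.1 h3 l hl]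

theorem Fam.tri (h : Aut σ r) (hS : Fam σ S) (hK : K ∈ S) :
    H14.CP K (fx σ) ∨ IsComponent K ∨ ∃ L, IsComponent L ∧ Iv σ L ∧ K ≤ L := by
  have hq := hS.quasi K hK
  have hp := H14.quasi_sub_perfect hq
  by_cases hf : K ≤ fx σ
  · refine .inl ⟨(SubN.of_normal (H := sSup {L ∈ S | L ≤ fx σ}) (le_sSup ⟨hK, hf⟩)
      (hS.nor hK fun _ h => h.1)).trans (SubN.of_normal (sSup_le fun _ h => h.2) fun c hc =>
        mem_normalizer_sSup fun L hL => ⟨hS.cj L hL.1 c hc, cj_le_of_le_of_mem hL.2 hc⟩), hq⟩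
  right
  have hE := hS.le_layer h hK hf
  obtain ⟨L, hL, hLK⟩ : ∃ L, IsComponent L ∧ ⁅L, K⁆ ≠ ⊥ := by
    by_contra e
    push Not at e
    exact H14.quasi_sub_commutator_ne_bot hq
      (H14.commutator_eq_bot_mono (H14.layer_commutator_eq_bot e) hE le_rfl)
  have hc : ∀ i : ℕ, IsComponent (L.map ((σ ^ i : MulAut G) : G →* G)) := fun i =>
    H14.comp_map_mulEquiv hL _
  have hn : ∀ {M : Subgroup G}, IsComponent M → K ≤ normalizer (M : Set G) := fun hM =>
    hE.trans (H14.layer_le_normalizer_comp hM)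
  by_cases hi : Iv σ L
  · exact .inr ⟨L, hL, hi, (hS.le_or h hK hf hi (hn hL)).resolve_right hLK⟩
  left
  have h1 : K ≤ ⨆ i : ℕ, L.map ((σ ^ i : MulAut G) : G →* G) := by
    refine (hS.le_or h hK hf (iv_iff_map_le.2 ?_) (le_normalizer_iSup fun i => hn (hc i))
      ).resolve_right fun e => hLK (H14.commutator_eq_bot_mono e
        (le_iSup_of_le 0 (map_pow_zero L).ge) le_rfl)
    rw [Subgroup.map_iSup]
    exact iSup_le fun i => le_iSup_of_le (i + 1) (map_pow_succ L i).ge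
  set C := centralizer (L : Set G)
  have hC : normalizer (L : Set G) ≤ normalizer (C : Set G) := normalizer_le_normalizer_centralizer L
  have hCL : ∀ {M}, ⁅L, M⁆ = ⊥ ↔ M ≤ C := fun {M} => by
    rw [Subgroup.commutator_comm, commutator_eq_bot_iff_le_centralizer]
  have h2 : L ≤ (fx σ ⊓ normalizer (L : Set G)) ⊔ C := fun l hl => by
    obtain ⟨c, h3, h4⟩ := h.diag hL hi hl
    simpa using mul_mem (mem_sup_left (S := fx σ ⊓ normalizer (L : Set G)) (T := C) ⟨h4, mul_mem
      (le_normalizer hl) (centralizer_le_normalizer _ h3)⟩) (mem_sup_right (inv_mem h3))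
  have h3 : ∀ M X, K ≤ M → L ≤ X ⊔ C → X ≤ normalizer (M : Set G) → X ≤ normalizer (L : Set G) →
      L ≤ M ⊔ C := fun M X h3 h4 h5 h6 =>
    (H14.comp_le_or_of_normalizes hL (h4.trans (sup_le (le_normalizer_sup h5 (h6.trans hC))
      (le_normalizer_of_le le_sup_right)))).resolve_right fun e =>
        hLK (H14.commutator_eq_bot_mono e le_rfl (h3.trans le_sup_left))
  have h4 : L ≤ K ⊔ C := h3 K (sSup {M ∈ S | M ≤ normalizer (L : Set G)}) le_rfl
    (h3 _ _ (le_sSup ⟨hK, hn hL⟩) h2 (fun c hc => mem_normalizer_sSup fun M hM =>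
      ⟨hS.cj M hM.1 c hc.1, cj_le_of_le_of_mem hM.2 hc.2⟩) inf_le_right)
    (hS.nor hK fun _ h => h.1) (sSup_le fun _ h => h.2)
  have h5 : ∀ M ∈ S, M ≠ K → M ≤ normalizer (L : Set G) → M ≤ C := fun M h5 h6 h7 =>
    commutator_eq_bot_iff_le_centralizer.1 (H14.commutator_eq_bot_of_perfect (H14.comp_perfect hL)
      (commutator_eq_bot_iff_le_centralizer.2 ((commutator_mono le_rfl h4).trans
        (commutator_sup_right_le ((hn hL).trans hC) le_normalizer
          ((hS.comm M h5 K hK h6).le.trans bot_le) (commutator_le_right' (h7.trans hC))))))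
  have h6 : ∀ {M : Subgroup G}, (∀ i, 0 < i → i < r → L.map ((σ ^ i : MulAut G) : G →* G) ≤ M) →
      K ≤ L ⊔ M ⊓ C := fun {M} e => h1.trans (iSup_le fun i => by
    rw [pow_eq_pow_mod i h.pow]
    rcases (i % r).eq_zero_or_pos with e' | e'
    · rw [e', map_pow_zero]; exact le_sup_left
    · have h6 := Nat.mod_lt i h.prime.pos
      exact le_sup_of_le_right (le_inf (e _ e' h6) (commutator_eq_bot_iff_le_centralizer.1
        (H14.comp_commute_of_ne (hc _) hL fun e => hi (h.iv_of_pow e' h6 e)))))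
  by_cases hK' : Iv σ K
  · refine (hf (hS.le_fx hK (commutator_eq_bot_iff_le_centralizer.2 (cm_le_iff.2 fun k hk => ?_)))
      ).elim
    have h7 : fx σ ⊓ normalizer (L : Set G) ≤ normalizer (K : Set G) := fun d hd => by
      by_contra e
      exact hLK (hCL.2 (cj_le_cj_iff.1 ((h5 _ (hS.cj K hK d hd.1) (fun e' => e
        (cj_eq_self_iff.1 e')) (cj_le_of_le_of_mem (hn hL) hd.2)).trans
          (cj_eq_self (hC hd.2)).ge)))
    obtain ⟨d, hd, y, hy, rfl⟩ := (mem_sup_left_norm (inf_le_right.trans hC)).1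
      (((h6 (M := ⊤) fun _ _ _ => le_top).trans (sup_le h2 (inf_le_right.trans le_sup_right))) hk)
    have h8 : y ∈ centralizer (K : Set G) := commutator_eq_bot_iff_le_centralizer.1
      ((le_or_of_nor (M := normalizer (K : Set G) ⊓ C) hq (le_normalizer_inf
        (le_normalizer_normalizer le_normalizer) ((hn hL).trans hC)) inf_le_left).resolve_left
        fun e => hLK (hCL.2 (e.trans inf_le_right)))
      ⟨by simpa using mul_mem (inv_mem (h7 hd)) (le_normalizer hk), hy⟩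
    rw [map_mul, mem_fx.1 hd.1, mul_inv_rev, mul_assoc, inv_mul_cancel_left]
    exact mul_mem (inv_mem h8) (hK'.cen y h8)
  have h7 : K ≤ L := le_of_central hp (h6 fun i h0 hi => by
    have h7 := h5 _ (hS.pow hK (r - i)) (fun e => hK' (h.iv_of_pow (by omega) (by omega) e))
      ((map_mono hE).trans ((iv_iff_map_le.1 (iv_char _)).trans (H14.layer_le_normalizer_comp hL)))
    rintro _ ⟨l, hl, rfl⟩ k hk
    have h8 := congrArg (σ ^ i) (mem_centralizer_iff.1 (h7 (mem_map_of_mem _ hk)) l hl)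
    simp only [map_mul, MonoidHom.coe_coe, ← MulAut.mul_apply, ← pow_add,
      Nat.add_sub_cancel' hi.le, h.pow, MulAut.one_apply] at h8
    exact h8.symm)
  rwa [h7.antisymm (le_of_central (H14.comp_perfect hL) ?_)]
  obtain h8 := le_inf h4 le_rfl
  rw [sup_inf_of_le_left ((hn hL).trans hC) h7] at h8
  exact h8.trans (sup_le_sup_left (le_inf inf_le_left (inf_le_left.trans (centralizer_le h7))) _)

theorem s1929 {X : Type u} [Group X] [Finite X] {Γ R K : Subgroup X} (hr : r.Prime)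
    (hR : Nat.card R = r) (hcop : (Nat.card Γ).Coprime r) (hn : R ≤ normalizer (Γ : Set X))
    (hK : K ≤ Γ) (hq : IsQuasisimple K)
    (hc : ∀ g ∈ R ⊔ (Γ ⊓ centralizer (R : Set X)), cj g K ≠ K → ⁅K, cj g K⁆ = ⊥) :
    H14.CP K (Γ ⊓ centralizer (R : Set X)) ∨ IsComponent (K.subgroupOf Γ) ∨
      ∃ L, H14.CP L Γ ∧ (∀ a ∈ R, cj a L = L) ∧ K ≤ L := by
  obtain ⟨a, rfl, τ, h, hτ⟩ := exists_aut hr hR hcop hn
  have hinj := Γ.subtype_injective
  have h0 : ∀ M : Subgroup Γ, (M.map (τ : Γ →* Γ)).map Γ.subtype = cj a (M.map Γ.subtype) :=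
    fun M => by rw [cj, map_map, map_map]; congr 1; ext g; exact hτ g
  have hS : Fam τ {M | ∃ g ∈ zpowers a ⊔ (Γ ⊓ centralizer (zpowers a : Set X)),
      M.map Γ.subtype = cj g K} := by
    refine ⟨?_, ?_, ?_, ?_⟩
    · rintro M ⟨g, -, e⟩
      rw [← H14.quasi_map_iff_of_injective _ hinj, e]
      exact (H14.quasi_map_iff_of_injective _ (MulAut.conj g).injective).2 hq
    · rintro M ⟨g, hg, e⟩ M' ⟨g', hg', e'⟩ hne
      refine map_injective hinj ?_
      rw [map_commutator, e, e', Subgroup.map_bot, ← cj_eq_bot_iff (g := g⁻¹), cj_commutator, cj_inv_cj,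
        cj_cj]
      refine hc _ (mul_mem (inv_mem hg) hg') fun e'' => hne (map_injective hinj ?_)
      rw [e, e', ← cj_inj (g := g⁻¹), cj_inv_cj, cj_cj, e'']
    · rintro M ⟨g, hg, e⟩
      exact ⟨a * g, mul_mem (mem_sup_left (mem_zpowers a)) hg, by rw [h0, e, cj_cj]⟩
    · rintro M ⟨g, hg, e⟩ c hc
      exact ⟨c * g, mul_mem (mem_sup_right ⟨c.2, (amb_fx hτ).1 hc⟩) hg, by
        rw [map_cj, e, cj_cj]; rfl⟩
  have h1 := map_subgroupOf_eq_of_le hK
  rcases hS.tri h (K := K.subgroupOf Γ) ⟨1, one_mem _, by rw [h1, cj_one]⟩ with h2 | h2 | h2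
  · left
    have h3 := h2.map_of_injective hinj
    rwa [h1, show (fx τ).map Γ.subtype = Γ ⊓ centralizer (zpowers a : Set X) from le_antisymm
      (by rintro _ ⟨c, hc, rfl⟩; exact ⟨c.2, (amb_fx hτ).1 hc⟩)
      fun c hc => ⟨⟨c, hc.1⟩, (amb_fx hτ).2 hc.2, rfl⟩] at h3
  · exact .inr (.inl h2)
  · obtain ⟨L, h2, h3, h4⟩ := h2
    refine .inr (.inr ⟨_, H14.cp_map_subtype h2, fun b hb => cj_eq_self ((zpowers_le.2 ?_) hb),
      h1 ▸ map_mono h4⟩)
    rw [← cj_eq_self_iff, ← h0, h3.map_eq]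

end H98.Hs
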