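import Cfsg.Agent.H98.NcSpec
import Cfsg.Agent.H1.CoprimeGen

/-! Invariant subgroups under a coprime elementary abelian group of rank two. -/

set_option autoImplicit false

namespace H98.Nc

open Subgroup Cfsg
open scoped commutatorElement

universe u

variable {X : Type u} [Group X] {p q r : ℕ} {G R H K N U D S : Subgroup X} {b : X}

theorem St.isPGroup (h : St r G R) : IsPGroup r R := fun x => ⟨1, Subtype.ext (by
  rw [pow_one]; exact h.ea.2 x x.2)⟩

theorem St.comm (h : St r G R) : R ≤ centralizer (R : Set X) := fun a ha b hb =>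
  congrArg Subtype.val (h.ea.1.is_comm.comm (⟨b, hb⟩ : R) ⟨a, ha⟩)

theorem St.of_le (h : St r G R) (h1 : H ≤ G) (h2 : R ≤ normalizer (H : Set X)) : St r H R :=
  ⟨h.prime, h.ea, h.card, h2, fun e => h.cop (e.trans (card_dvd_of_le h1))⟩

theorem St.coprime (h : St r G R) (h1 : H ≤ G) : (Nat.card R).Coprime (Nat.card H) := by
  rw [h.card]
  exact ((Nat.Prime.coprime_iff_not_dvd h.prime).2 fun e =>
    h.cop (e.trans (card_dvd_of_le h1))).pow_left 2

theorem St.nrC (h : St r G R) : R ≤ normalizer ((G ⊓ centralizer (R : Set X) : Subgroup X) : Set X) :=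
  le_normalizer_inf h.nrm (le_normalizer_centralizer le_normalizer)

theorem inv_of_le (h1 : H ≤ G) (h2 : R ≤ normalizer (H : Set X))
    (h3 : G ⊓ centralizer (R : Set X) ≤ H) : Inv G R H := ⟨h1, h2, le_normalizer_of_le h3⟩

theorem St.inv (h : St r G R) : Inv G R G := inv_of_le le_rfl h.nrm inf_le_left

theorem St.inv_cen1 (h : St r G R) (hb : b ∈ R) : Inv G R (G ⊓ centralizer ({b} : Set X)) :=
  inv_of_le inf_le_left (le_normalizer_inf h.nrm (le_normalizer_of_le
    (h.comm.trans (centralizer_le (Set.singleton_subset_iff.2 hb)))))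
    (inf_le_inf_left _ (centralizer_le (Set.singleton_subset_iff.2 hb)))

theorem Inv.of_nor (h : Inv G R H) (h1 : K ≤ G)
    (h2 : normalizer (H : Set X) ≤ normalizer (K : Set X)) : Inv G R K :=
  ⟨h1, h.nr.trans h2, h.nc.trans h2⟩

theorem Inv.inf (h : Inv G R H) (h' : Inv G R K) : Inv G R (H ⊓ K) :=
  ⟨inf_le_left.trans h.le, le_normalizer_inf h.nr h'.nr, le_normalizer_inf h.nc h'.nc⟩

theorem Inv.inf_cen (h : Inv G R H) (h' : Inv G R K) : Inv G R (H ⊓ centralizer (K : Set X)) :=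
  ⟨inf_le_left.trans h.le, le_normalizer_inf h.nr (le_normalizer_centralizer h'.nr),
    le_normalizer_inf h.nc (le_normalizer_centralizer h'.nc)⟩

theorem Inv.inf_nor (h : Inv G R H) (h' : Inv G R K) : Inv G R (H ⊓ normalizer (K : Set X)) :=
  ⟨inf_le_left.trans h.le, le_normalizer_inf h.nr (le_normalizer_normalizer h'.nr),
    le_normalizer_inf h.nc (le_normalizer_normalizer h'.nc)⟩

theorem Inv.cm_le (h : Inv G R H) : ⁅H, R⁆ ≤ H := commutator_le_left' h.nr

theorem Inv.cm (h : Inv G R H) : Inv G R ⁅H, R⁆ :=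
  ⟨h.cm_le.trans h.le, normalizer_commutator_ge_right _ _, le_normalizer_commutator h.nc
    (le_normalizer_of_le_centralizer inf_le_right)⟩

theorem Inv.core (h : Inv G R H) : Inv G R (pCoreOf q H) :=
  h.of_nor ((pCoreOf_le H).trans h.le) (normalizer_le_normalizer_pCoreOf H)

theorem Inv.layer (h : Inv G R H) : Inv G R (H14.layerOf H) :=
  h.of_nor ((H14.layerOf_le_self H).trans h.le) (H14.normalizer_le_normalizer_layerOf H)

theorem Inv.kL (h : Inv G R H) : Inv G R (H16.kL H) :=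
  h.of_nor ((H16.kL_le H).trans h.le) (H16.Nm_le_Nm_kL H)

theorem inf_cen_eq (h1 : H ≤ G) (h2 : G ⊓ centralizer (R : Set X) ≤ H) :
    H ⊓ centralizer (R : Set X) = G ⊓ centralizer (R : Set X) :=
  (inf_le_inf_right _ h1).antisymm (le_inf h2 inf_le_right)

theorem Inv.up (h : Inv H R K) (h1 : H ≤ G) (h2 : G ⊓ centralizer (R : Set X) ≤ H) : Inv G R K :=
  ⟨h.le.trans h1, h.nr, inf_cen_eq h1 h2 ▸ h.nc⟩

theorem Inv.down (h : Inv G R K) (h1 : H ≤ G) (h2 : K ≤ H) : Inv H R K :=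
  ⟨h2, h.nr, (inf_le_inf_right _ h1).trans h.nc⟩

variable [Finite X]

theorem St.cm_cm (h : St r G R) (h1 : H ≤ G) (h2 : R ≤ normalizer (H : Set X)) :
    ⁅⁅H, R⁆, R⁆ = ⁅H, R⁆ :=
  have := Fact.mk h.prime
  commutator_commutator_eq h.isPGroup (h.of_le h1 h2).cop h2

theorem St.cm_sup (h : St r G R) (h1 : H ≤ G) (h2 : R ≤ normalizer (H : Set X)) :
    ⁅H, R⁆ ⊔ H ⊓ centralizer (R : Set X) = H :=
  have := Fact.mk h.prime
  commutator_sup_centralizer_eq h.isPGroup (h.of_le h1 h2).cop h2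

theorem St.solv (h : St r G R) : Group.IsSolvable R :=
  have := Fact.mk h.prime
  H1.isSolvable_of_isPGroup h.isPGroup

theorem St.gen (h : St r G R) (h1 : H ≤ G) (h2 : R ≤ normalizer (H : Set X))
    (h3 : ∀ b ∈ R, b ≠ 1 → H ⊓ centralizer ({b} : Set X) ≤ K) : H ≤ K :=
  have := h.ea.1
  H1.le_of_noncyclic_centralizer_le (H15.elem_not_cyclic h.prime h.ea h.card.ge) h2
    (h.coprime h1) K h3

theorem St.exists_syl (h : St r G R) (q : ℕ) [Fact q.Prime] :
    ∃ S, IsSyl q S G ∧ R ≤ normalizer (S : Set X) := by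
  obtain ⟨P, hP⟩ := H1.exists_invariant_sylow_subgroup R G h.nrm (h.coprime le_rfl) (.inl h.solv) q
  exact ⟨_, isSyl_map_subtype P, hP⟩

theorem St.le_syl [Fact q.Prime] (h : St r G R) (hS : IsSyl q S G) (hn : R ≤ normalizer (S : Set X))
    (hU : Inv G R U) (hq : IsPGroup q U) : U ≤ S := by
  obtain ⟨P, rfl⟩ := hS.exists_sylow_map
  obtain ⟨Q, h1, h2⟩ := H1.exists_invariant_sylow_ge_subgroup R G h.nrm (h.coprime le_rfl)
    (.inl h.solv) q U hU.le hq hU.nr
  obtain ⟨c, h3, rfl⟩ := H1.invariant_sylow_conj_subgroup R G h.nrm (h.coprime le_rfl)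
    (.inl h.solv) q Q P h2 hn
  intro x hx
  obtain ⟨y, hy, e⟩ := h1 (conj_mem_of_mem_normalizer' (hU.nc ⟨c.2, h3⟩) hx)
  refine ⟨c * y * c⁻¹, smul_mem_pointwise_smul y (MulAut.conj c) _ hy, ?_⟩
  simp only [map_mul, map_inv, e, coe_subtype]
  group

theorem St.exists_max (h : St r G R) (q : ℕ) [Fact q.Prime] :
    ∃ P, Inv G R P ∧ IsPGroup q P ∧ ∀ U, Inv G R U → IsPGroup q U → U ≤ P := by
  obtain ⟨S, h1, h2⟩ := h.exists_syl q
  have h3 : sSup {U | Inv G R U ∧ IsPGroup q U} ≤ S := sSup_le fun U hU => h.le_syl h1 h2 hU.1 hU.2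
  refine ⟨_, ⟨h3.trans h1.le, fun g hg => Hs.mem_normalizer_sSup fun U hU => ?_,
    fun g hg => Hs.mem_normalizer_sSup fun U hU => ?_⟩, h1.isPGroup.to_le h3,
    fun U a b => le_sSup ⟨a, b⟩⟩
  · rwa [cj_eq_self (hU.1.nr hg)]
  · rwa [cj_eq_self (hU.1.nc hg)]

variable [hp : Fact p.Prime]

theorem Wk.cen_of_prime (hW : Wk p G R) (h : St r G R) (hq : q.Prime) (h2 : q ≠ 2) (h3 : q ≠ p)
    (hU : Inv G R U) (hU' : IsPGroup q U) : U ≤ centralizer (R : Set X) := by
  have := Fact.mk hq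
  have := Fact.mk Nat.prime_two
  refine h.gen hU.le hU.nr fun b hb h1 => commutator_eq_bot_iff_le_centralizer.1 ?_
  have h4 := (h.inv_cen1 hb).inf hU
  rw [inf_assoc, inf_comm _ U, ← inf_assoc, inf_eq_right.2 hU.le] at h4
  have h5 := hU'.to_le (h4.cm_le.trans inf_le_left)
  have h6 : pCoreOf p ⁅U ⊓ centralizer ({b} : Set X), R⁆ = ⊥ := disjoint_self.1
    ((IsPGroup.disjoint_of_ne p q h3.symm _ _ (isPGroup_pCoreOf _) h5).mono_right (pCoreOf_le _))
  have h7 := hW.odd b hb h1 _ h4.cm (h4.cm_le.trans inf_le_right) (h.cm_cm h4.le h4.nr)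
    (by rw [h6, commutator_bot_left])
  rwa [res_eq_self_of_isPGroup_prime hq h2 h5, h6, le_bot_iff] at h7

theorem Wk.cen_of_comm (hW : Wk p G R) (h : St r G R) (hD : Inv G R D) (h2 : IsPGroup 2 D)
    (hc : D ≤ centralizer (D : Set X)) : D ≤ centralizer (R : Set X) := by
  have : IsMulCommutative D := ⟨⟨fun a b => Subtype.ext (hc b.2 a a.2)⟩⟩
  refine commutator_eq_bot_iff_le_centralizer.1 (hW.two _ hD.cm (h2.to_le hD.cm_le)
    (h.cm_cm hD.le hD.nr) fun U _ _ => ?_)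
  rw [le_bot_iff.1 ((le_inf (inf_le_inf_right _ hD.cm_le) inf_le_left).trans
    (H1.centralizer_inf_commutator_eq_bot hD.nr (h.coprime hD.le)).le), commutator_bot_right]

theorem Wk.two_of (hW : Wk p G R) (h2 : p ≠ 2) (h : St r G R) (hN : Inv G R N) (hK : Inv G R K)
    (hK' : IsPGroup p K) (hc : ⁅K, N⁆ = ⊥)
    (hn : ∀ U, Inv G R U → IsPGroup p U → U ⊓ centralizer (K : Set X) ≤ normalizer (N : Set X))
    (hD : Inv G R D) (hD' : IsPGroup 2 D) (hDN : D ≤ N) (he : ⁅D, R⁆ = D)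
    (hU : ∀ U, Inv G R U → IsPGroup p U → U ≤ N → ⁅U, D ⊓ centralizer (R : Set X)⁆ = ⊥) :
    D = ⊥ := by
  obtain ⟨P, h1, h3, h4⟩ := h.exists_max p
  have h5 : D ⊓ centralizer (R : Set X) ≤ G ⊓ centralizer (R : Set X) := inf_le_inf_right _ hD.le
  have h6 := res_eq_self_of_isPGroup_prime (p := p) Nat.prime_two h2.symm
    (hD'.to_le (inf_le_left (b := centralizer (R : Set X))))
  have h7 := h1.inf_cen hK
  refine hW.two D hD hD' he fun U a b => commutator_eq_bot_iff_le_centralizer.2 ((h4 U a b).trans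
    (thompson_AB h3 hK' h6 (le_normalizer_of_le (h4 K hK hK')) (h5.trans h1.nc)
      (H14.commutator_eq_bot_mono hc le_rfl (inf_le_left.trans hDN)) (le_centralizer_iff.1 ?_)))
  rw [← h6]
  exact res_le_centralizer_of_quadratic (h3.to_le inf_le_left) (h5.trans h7.nc)
    (H14.commutator_eq_bot_mono (hU _ (h1.inf hN) (h3.to_le inf_le_left) inf_le_right)
      (le_inf ((commutator_le_left' (h5.trans h7.nc)).trans inf_le_left)
        ((commutator_mono le_rfl (inf_le_left.trans hDN)).trans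
          (commutator_le_right' (hn P h1 h3)))) le_rfl)

theorem Wk.sub (hW : Wk p G R) (h2 : p ≠ 2) (h : St r G R) (hN : Inv G R N) (hK : Inv G R K)
    (hK' : IsPGroup p K) (hc : ⁅K, N⁆ = ⊥)
    (hn : ∀ U, Inv G R U → IsPGroup p U → U ⊓ centralizer (K : Set X) ≤ normalizer (N : Set X)) :
    Wk p (N ⊔ G ⊓ centralizer (R : Set X)) R := by
  have h1 : N ⊔ G ⊓ centralizer (R : Set X) ≤ G := sup_le hN.le inf_le_left
  refine ⟨fun b hb h3 Y hY => hW.odd b hb h3 Y (hY.up h1 le_sup_right), fun D hD h3 h4 h5 =>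
    hW.two_of h2 h hN hK hK' hc hn (hD.up h1 le_sup_right) h3 ?_ h4 fun U a b c =>
      h5 U (a.down h1 (c.trans le_sup_left)) b⟩
  exact h4.ge.trans ((commutator_mono hD.le le_rfl).trans (commutator_sup_left_le le_normalizer
    hN.nc hN.cm_le ((commutator_eq_bot_iff_le_centralizer.2 inf_le_right).le.trans bot_le)))

theorem mem_pCoreOf_of_fitOf {x : X} {k : ℕ} (hx : x ∈ H14.fitOf H) (hk : x ^ p ^ k = 1) :
    x ∈ pCoreOf p H :=
  H14.mem_of_mem_sup_coprime (H14.coprime_card_opp H)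
    (.inl ((pCoreOf_le H).trans (H14.self_le_normalizer_opp H))) hk
    (self_le_normalizer_pCoreOf H (H14.fitOf_le_self H hx)) (H14.fitOf_le_pCoreOf_sup_opp p H hx)

theorem good_of (h1 : H14.layerOf H ≤ centralizer (R : Set X))
    (h2 : ∀ q, q.Prime → q ≠ p → pCoreOf q H ≤ centralizer (R : Set X)) : Good p R H := by
  have h3 : H ≤ normalizer (H14.fitOf H : Set X) := H14.self_le_normalizer_fitOf H
  rw [Good, H14.fstarOf_eq, res_sup_eq ((H14.layerOf_le_self H).trans h3)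
    ((H14.fitOf_le_self H).trans (le_normalizer_res (H14.self_le_normalizer_layerOf H)))]
  refine sup_le ((res_le _).trans h1) (res_le_of_forall_prime fun q hq h4 x hx ⟨k, hk⟩ => ?_)
  have := Fact.mk hq
  exact h2 q hq h4 (mem_pCoreOf_of_fitOf hx hk)

end H98.Nc
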