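import Cfsg.Agent.H98.NcBase
import Cfsg.Agent.H4.Product
import Cfsg.Agent.H3.NormalRankOne

/-! The weak hypothesis forces `R` to centralize the layer (blueprint `NC.md`, Main). -/

set_option autoImplicit false

namespace H98.Nc

open Subgroup Cfsg
open scoped commutatorElement

universe u

variable {X : Type u} [Group X] [Finite X] {p r : ℕ} [hp : Fact p.Prime] {G R M P : Subgroup X}

/-- Pushing up: all local subgroups at invariant `p`-subgroups lie in `N_G(kL P)`. -/
theorem push (hZ : JobZJ.{u}) (h5 : 5 ≤ p) (h : St r G R) (h1 : Inv G R P) (h2 : IsPGroup p P)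
    (h3 : ∀ U, Inv G R U → IsPGroup p U → U ≤ P)
    (hg : ∀ K, Inv G R K → IsPGroup p K → K ≠ ⊥ → Good p R (G ⊓ normalizer (K : Set X))) (n : ℕ) :
    ∀ K, Inv G R K → IsPGroup p K → K ≠ ⊥ →
      Nat.card P - Nat.card (P ⊓ normalizer (K : Set X) : Subgroup X) = n →
      G ⊓ normalizer (K : Set X) ≤ normalizer (H16.kL P : Set X) := by
  induction n using Nat.strong_induction_on with
  | _ n ih =>
  intro K hK hK' h0 hn
  have hH := h.inv.inf_nor hK
  have hT := h1.inf_nor hK
  have hT' := h2.to_le (inf_le_left (b := normalizer (K : Set X)))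
  have h4 := hZ X p r _ R _ h5 (h.of_le hH.le hH.nr) (hg K hK hK' h0)
    (hT.down hH.le (inf_le_inf_right _ h1.le)) hT' (le_inf (h3 _ hH.core (isPGroup_pCoreOf _))
      ((pCoreOf_le _).trans inf_le_right))
  rcases (inf_le_left (a := P) (b := normalizer (K : Set X))).eq_or_lt with e | e
  · rwa [e] at h4
  have h6 := card_lt_of_lt' ((lt_inf_normalizer h2 e).trans_le (inf_le_inf_left P
    (show _ ≤ normalizer (H16.kL (P ⊓ normalizer (K : Set X)) : Set X) from H16.Nm_le_Nm_kL _)))
  have h7 := card_le_of_le (inf_le_left (a := P)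
    (b := normalizer (H16.kL (P ⊓ normalizer (K : Set X)) : Set X)))
  refine (le_inf inf_le_left h4).trans (ih _ (by omega) _ hT.kL (hT'.to_le (H16.kL_le _))
    (fun e' => ?_) rfl)
  refine inf_centralizer_ne_bot hT' hT' le_normalizer (fun e'' => h0 (le_bot_iff.1 ((le_inf
    (h3 K hK hK') le_normalizer).trans e''.le))) (le_bot_iff.1 ((H16.Zc_le_kL _).trans e'.le))

/-- The final contradiction. -/
theorem le_of_local (hW : Wk p G R) (h : St r G R)
    (hE : G ≤ H14.layerOf G ⊔ G ⊓ centralizer (R : Set X))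
    (hF : G ⊓ centralizer (H14.layerOf G : Set X) = ⊥) (hC : G ⊓ centralizer (R : Set X) ≤ M)
    (hR : R ≤ normalizer (M : Set X))
    (hM : ∀ K, Inv G R K → IsPGroup p K → K ≠ ⊥ → G ⊓ normalizer (K : Set X) ≤ M) :
    H14.layerOf G ≤ M := by
  have := Fact.mk Nat.prime_two
  have h1 : ∀ b ∈ R, b ≠ 1 → G ⊓ centralizer ({b} : Set X) ≤ M ∨
      IsPGroup 2 (⁅G ⊓ centralizer ({b} : Set X), R⁆ : Subgroup X) := fun b hb h1 => by
    have h2 := h.inv_cen1 hb
    by_cases e : pCoreOf p ⁅G ⊓ centralizer ({b} : Set X), R⁆ = ⊥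
    · exact .inr (res_eq_bot_iff.1 (le_bot_iff.1 ((hW.odd b hb h1 _ h2.cm
        (h2.cm_le.trans inf_le_right) (h.cm_cm h2.le h2.nr)
        (by rw [e, commutator_bot_left])).trans e.le)))
    · exact .inl ((le_inf inf_le_left (le_normalizer_pCoreOf
        (normalizer_commutator_ge_left _ _))).trans (hM _ h2.cm.core (isPGroup_pCoreOf _) e))
  have h2 : ∀ Z ≤ G, R ≤ normalizer (Z : Set X) → (∀ b ∈ R, b ≠ 1 →
      IsPGroup 2 (⁅G ⊓ centralizer ({b} : Set X), R⁆ : Subgroup X) →
      Z ⊓ ⁅G ⊓ centralizer ({b} : Set X), R⁆ ≤ centralizer (R : Set X)) → Z ≤ M :=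
    fun Z a1 a2 a3 => h.gen a1 a2 fun b hb h2 => by
      rcases h1 b hb h2 with e | e
      · exact (inf_le_inf_right _ a1).trans e
      have a4 : R ≤ normalizer ((Z ⊓ centralizer ({b} : Set X) : Subgroup X) : Set X) :=
        le_normalizer_inf a2 (le_normalizer_of_le
          (h.comm.trans (centralizer_le (Set.singleton_subset_iff.2 hb))))
      refine (le_inf (inf_le_left.trans a1) (commutator_eq_bot_iff_le_centralizer.1 ?_)).trans hC
      rw [← h.cm_cm (inf_le_left.trans a1) a4]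
      exact commutator_eq_bot_iff_le_centralizer.2 ((le_inf ((commutator_le_left' a4).trans
        inf_le_left) (commutator_mono (inf_le_inf_right _ a1) le_rfl)).trans (a3 b hb h2 e))
  obtain ⟨S, h3, h4⟩ := h.exists_syl 2
  have h5 : (M.relIndex G).Coprime (S.relIndex G) := Nat.coprime_of_dvd fun q hq a1 a2 => by
    have := Fact.mk hq
    obtain ⟨T, a3, a4⟩ := h.exists_syl q
    refine a3.not_dvd_relIndex (a1.trans (relIndex_dvd_of_le_left _ (h2 T a3.le a4
      fun b _ _ e => (IsPGroup.disjoint_of_ne q 2 ?_ _ _ a3.isPGroup e).le_bot.trans bot_le)))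
    rintro rfl
    exact h3.not_dvd_relIndex a2
  set T := {L | H14.CP L G ∧ ¬ L ≤ M}
  have h6 : ∀ g ∈ normalizer (G : Set X), g ∈ normalizer (M : Set X) →
      g ∈ normalizer ((sSup T : Subgroup X) : Set X) := fun g a1 a2 =>
    Hs.mem_normalizer_sSup fun L hL => ⟨hL.1.cj_of_mem_normalizer a1, fun e =>
      hL.2 (cj_le_cj_iff.1 (e.trans (cj_eq_self a2).ge))⟩
  have h7 : G ≤ normalizer ((sSup T : Subgroup X) : Set X) := hE.trans (sup_le
    (fun g hg => Hs.mem_normalizer_sSup fun L hL => by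
      rwa [cj_eq_self (hL.1.layerOf_le_normalizer hg)])
    fun g hg => h6 g (le_normalizer hg.1) (le_normalizer (hC hg)))
  have h8 : sSup T ≤ G := sSup_le fun L hL => hL.1.le
  have h9 : S ⊓ sSup T ⊓ centralizer (S : Set X) ≤ M := h2 _ (inf_le_left.trans
    (inf_le_left.trans h3.le)) (le_normalizer_inf (le_normalizer_inf h4 fun g hg =>
      h6 g (h.nrm hg) (hR hg)) (le_normalizer_centralizer h4)) fun b hb _ e => by
    have a1 := (h.inv_cen1 hb).cm
    exact (le_inf inf_le_right (inf_le_left.trans (inf_le_right.trans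
      (centralizer_le (h.le_syl h3 h4 a1 e))))).trans (hW.cen_of_comm h (a1.inf_cen a1)
        (e.to_le inf_le_left) (inf_le_right.trans (centralizer_le inf_le_left)))
  set N := ⨆ g : G, cj (g : X) (S ⊓ sSup T ⊓ centralizer (S : Set X))
  have h10 : N ≤ M ⊓ sSup T := iSup_le fun g => le_inf (by
    obtain ⟨m, a1, s, a2, e⟩ := H4.exists_mul_of_coprime_relIndex h5 g.2
    rw [e, ← cj_cj, cj_eq_self (le_normalizer_of_le_centralizer
      (le_centralizer_iff.1 inf_le_right) a2.1)]
    exact cj_le_of_le_of_mem h9 a1.1) (cj_le_of_le (inf_le_left.trans inf_le_right) (h7 g.2))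
  have h11 : G ≤ normalizer (N : Set X) := fun g hg => mem_normalizer_of_cj_le (by
    rw [cj, Subgroup.map_iSup]
    exact iSup_le fun a => le_iSup_of_le (⟨g, hg⟩ * a) (cj_cj _ _ _).le)
  have h12 : N = ⊥ := le_bot_iff.1 ((le_inf (h10.trans (inf_le_right.trans h8))
    (le_centralizer_iff.1 (H14.layerOf_le fun L hL => commutator_eq_bot_iff_le_centralizer.1
      ((hL.le_or_of_normalizes (h10.trans (inf_le_right.trans h8)) (hL.le.trans h11)).resolve_left
        fun e => (hL.mem_of_le_sSup (fun _ a => a.1) (e.trans (h10.trans inf_le_right))).2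
          (e.trans (h10.trans inf_le_left)))))).trans hF.le)
  have h13 : S ⊓ sSup T = ⊥ := by
    by_contra e
    refine inf_centralizer_ne_bot (h3.isPGroup.to_le inf_le_left) h3.isPGroup
      (le_normalizer_inf le_normalizer (h3.le.trans h7)) e (le_bot_iff.1 (le_trans ?_ h12.le))
    exact le_iSup_of_le 1 (cj_one _).ge
  have h14 := H42.odd_order (G := (sSup T : Subgroup X)) (Nat.odd_iff.2 (Nat.two_dvd_ne_zero.1
    ((h3.inf_of_le_normalizer h8 (h3.le.trans h7)).eq_bot_iff.1 h13)))
  refine H14.layerOf_le fun L hL => by_contra fun e => ?_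
  exact H14.quasi_not_le_solvable hL.quasi h14 (le_sSup ⟨hL, e⟩)

theorem main_aux (hZ : JobZJ.{u}) (hQ : JobQuo.{u}) (h5 : 5 ≤ p) (n : ℕ) :
    ∀ (X : Type u) [Group X] [Finite X] (G R : Subgroup X), Nat.card G = n → St r G R → Wk p G R →
      H14.layerOf G ≤ centralizer (R : Set X) := by
  induction n using Nat.strong_induction_on with
  | _ n ih =>
  intro X _ _ G R hn h hW
  have := Fact.mk Nat.prime_two
  have h2 : p ≠ 2 := by omega
  have ih' : ∀ H K, Inv G R H → Inv G R K → IsPGroup p K → ⁅K, H14.layerOf H⁆ = ⊥ →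
      G ⊓ centralizer (K : Set X) ≤ H → G ⊓ centralizer (R : Set X) ≤ H →
      ¬ G ≤ H14.layerOf H ⊔ G ⊓ centralizer (R : Set X) →
      H14.layerOf H ≤ centralizer (R : Set X) := fun H K a1 a2 a3 a4 a5 a6 a7 => by
    have a8 : H14.layerOf H ⊔ G ⊓ centralizer (R : Set X) ≤ H :=
      sup_le (H14.layerOf_le_self H) a6
    refine le_trans (H14.layerOf_le fun L hL => (hL.of_le (hL.le_layerOf.trans le_sup_left)
      a8).le_layerOf) (ih _ (hn ▸ card_lt_of_lt' ((a8.trans a1.le).lt_of_not_ge a7)) X _ R rfl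
        (h.of_le (a8.trans a1.le) (le_normalizer_sup a1.layer.nr h.nrC))
        (hW.sub h2 h a1.layer a2 a3 a4 fun U b _ => ?_))
    exact ((inf_le_inf_right _ b.le).trans a5).trans (H14.self_le_normalizer_layerOf H)
  have hbot : Inv G R ⊥ := ⟨bot_le, le_normalizer_bot _, le_normalizer_bot _⟩
  by_cases hE : G ≤ H14.layerOf G ⊔ G ⊓ centralizer (R : Set X)
  swap
  · exact ih' G ⊥ h.inv hbot IsPGroup.of_bot (commutator_bot_left _) inf_le_left inf_le_left hE
  by_cases hF : G ⊓ centralizer (H14.layerOf G : Set X) = ⊥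
  swap
  · set F := G ⊓ centralizer (H14.layerOf G : Set X)
    have a1 : G ⊔ R ≤ normalizer (F : Set X) := sup_le (le_normalizer_inf le_normalizer
      (le_normalizer_centralizer (H14.self_le_normalizer_layerOf G))) (h.inv.inf_cen h.inv.layer).nr
    have := normal_subgroupOf_of_le_normalizer a1
    set f := QuotientGroup.mk' (F.subgroupOf (G ⊔ R))
    have a2 : f.ker.map (G ⊔ R).subtype = F := by
      rw [QuotientGroup.ker_mk', map_subgroupOf_eq_of_le (inf_le_left.trans le_sup_left)]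
    obtain ⟨a3, a4⟩ := hQ X p r G R _ (G ⊔ R) _ f h2 le_sup_left le_sup_right h hW h.inv.layer hE
      a2.le
    have a5 := ih _ ?_ _ _ _ rfl a3 a4
    · have a6 := commutator_eq_bot_iff_le_centralizer.2 ((H14.map_layerOf_le f _).trans a5)
      rw [← map_commutator, Subgroup.map_eq_bot_iff] at a6
      have a7 := map_mono (f := (G ⊔ R).subtype) a6
      rw [a2, map_commutator, H14.map_layerOf_of_injective (G ⊔ R).subtype_injective,
        map_subgroupOf_eq_of_le le_sup_left, map_subgroupOf_eq_of_le le_sup_right,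
        Subgroup.commutator_comm] at a7
      exact le_centralizer_iff.1 (commutator_eq_bot_iff_le_centralizer.1
        (H14.commutator_eq_bot_of_perfect (H14.layerOf_perfect G)
          (commutator_eq_bot_iff_le_centralizer.2 (a7.trans inf_le_right))))
    · rw [← hn, ← Nat.card_congr (subgroupOfEquivOfLe (le_sup_left (b := R))).toEquiv]
      refine (Nat.le_of_dvd Nat.card_pos (card_map_dvd _ f)).lt_of_ne fun e => hF ?_
      have a6 := ((Nat.bijective_iff_surjective_and_card _).2
        ⟨f.subgroupMap_surjective (G.subgroupOf (G ⊔ R)), e.symm⟩).1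
      refine eq_bot_iff.2 fun x hx => ?_
      have := (injective_iff_map_eq_one _).1 a6 ⟨⟨x, mem_sup_left hx.1⟩, hx.1⟩
        (Subtype.ext ((QuotientGroup.eq_one_iff _).2 hx))
      exact congrArg (Subtype.val ∘ Subtype.val) this
  have hK : ∀ K, Inv G R K → IsPGroup p K → K ≠ ⊥ →
      ¬ H14.layerOf G ≤ G ⊓ normalizer (K : Set X) := fun K a1 a2 a3 e => a3 (le_bot_iff.1
    ((le_inf a1.le (commutator_eq_bot_iff_le_centralizer.1 (H14.commutator_eq_bot_mono
      (H14.commutator_eq_bot_symm (H14.layerOf_commutator_fitOf G)) ((le_pCoreOf a2 a1.le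
        (hE.trans (sup_le (e.trans inf_le_right) a1.nc))).trans (H14.pCoreOf_le_fitOf G))
      le_rfl))).trans hF.le))
  obtain ⟨P, h1, h3, h4⟩ := h.exists_max p
  by_cases h0 : P = ⊥
  · exact (le_of_local hW h hE hF le_rfl h.nrC fun K a b c =>
      (c (le_bot_iff.1 ((h4 K a b).trans h0.le))).elim).trans inf_le_right
  refine (hK _ h1.kL (h3.to_le (H16.kL_le P)) (fun e => inf_centralizer_ne_bot h3 h3 le_normalizer h0
    (le_bot_iff.1 ((H16.Zc_le_kL _).trans e.le))) (le_of_local hW h hE hF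
      (le_inf inf_le_left h1.kL.nc) (h.inv.inf_nor h1.kL).nr fun K a b c => le_inf inf_le_left
        (push hZ h5 h h1 h3 h4 (fun K a1 a2 a3 => ?_) _ K a b c rfl))).elim
  have a4 := h.inv.inf_nor a1
  have a5 : K ≤ pCoreOf p (G ⊓ normalizer (K : Set X)) :=
    le_pCoreOf a2 (le_inf a1.le le_normalizer) inf_le_right
  have a6 : G ⊓ centralizer (K : Set X) ≤ G ⊓ normalizer (K : Set X) :=
    inf_le_inf_left _ (centralizer_le_normalizer _)
  refine good_of (ih' _ K a4 a1 a2 (H14.commutator_eq_bot_mono (H14.commutator_eq_bot_symm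
    (H14.layerOf_commutator_fitOf _)) (a5.trans (H14.pCoreOf_le_fitOf _)) le_rfl) a6
    (le_inf inf_le_left a1.nc) fun e => hK K a1 a2 a3 ((H14.layerOf_le_self G).trans (e.trans
      (sup_le (H14.layerOf_le_self _) (le_inf inf_le_left a1.nc))))) fun q hq a7 => ?_
  have := Fact.mk hq
  by_cases e : q = 2
  swap
  · exact hW.cen_of_prime h hq e a7 a4.core (isPGroup_pCoreOf _)
  subst e
  have a8 := a4.core (q := 2)
  have a9 : ∀ U : Subgroup X, IsPGroup p U → Disjoint U (pCoreOf 2 (G ⊓ normalizer (K : Set X))) := fun U hU =>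
    IsPGroup.disjoint_of_ne p 2 h2 _ _ hU (isPGroup_pCoreOf _)
  refine commutator_eq_bot_iff_le_centralizer.1 (hW.two_of h2 h a8 a1 a2 (le_bot_iff.1 ((le_inf
    (commutator_le_left' ((pCoreOf_le _).trans inf_le_right)) (commutator_le_right'
      (le_normalizer_pCoreOf_of_le (le_inf a1.le le_normalizer)))).trans (a9 K a2).le_bot))
    (fun U b _ => le_normalizer_pCoreOf_of_le ((inf_le_inf_right _ b.le).trans a6)) a8.cm
    ((isPGroup_pCoreOf _).to_le a8.cm_le) a8.cm_le (h.cm_cm a8.le a8.nr) fun U _ b c => ?_)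
  rw [(a9 U b).eq_bot_of_le c, commutator_bot_left]

theorem exists_rank_two [Fact r.Prime] (hR : IsPGroup r R) (hab : IsMulCommutative R)
    (hnc : ¬ IsCyclic R) : ∃ A ≤ R, IsElementaryAbelian r A ∧ Nat.card A = r ^ 2 := by
  have h1 := mt (H3.isCyclic_of_comm_pgroup_of_unique hR hab) hnc
  push Not at h1
  obtain ⟨A, B, hA, hB, hne⟩ := h1
  let : CommGroup R := { (inferInstance : Group R) with mul_comm := hab.is_comm.comm }
  have h2 : A ⊓ B = ⊥ := by
    have := Fact.mk (hA ▸ Fact.out : (Nat.card A).Prime)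
    rcases ((A ⊓ B).subgroupOf A).eq_bot_or_eq_top_of_prime_card with e | e
    · exact (H14.subgroupOf_eq_bot_iff_of_le inf_le_left).1 e
    · exact (hne (eq_of_le_of_card_ge ((subgroupOf_eq_top.1 e).trans inf_le_right)
        (by rw [hA, hB]))).elim
  have h3 := H4.card_sup_mul_card_inf_of_le_normalizer (A := A) (B := B) le_normalizer_of_normal
  rw [h2, card_bot, mul_one, hA, hB, ← pow_two] at h3
  refine ⟨(A ⊔ B).map R.subtype, map_subtype_le _, ⟨inferInstance, ?_⟩, by
    rw [card_map_of_injective R.subtype_injective, h3]⟩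
  rintro _ ⟨x, hx, rfl⟩
  obtain ⟨a, ha, b, hb, rfl⟩ := mem_sup.1 hx
  rw [← map_pow, mul_pow, show a ^ r = 1 from hA ▸ congrArg Subtype.val (pow_card_eq_one' (x :=
    (⟨a, ha⟩ : A))), show b ^ r = 1 from hB ▸ congrArg Subtype.val (pow_card_eq_one' (x :=
    (⟨b, hb⟩ : B))), mul_one, map_one]

theorem s1931 (hZ : JobZJ.{u}) (hQ : JobQuo.{u}) (hO : JobOrig.{u}) [Fact r.Prime]
    (hR : IsPGroup r R) (hcop : (Nat.card G).Coprime r) (hn : R ≤ normalizer (G : Set X))
    (hab : IsMulCommutative R) (hnc : ¬ IsCyclic R) (h3 : 3 < p)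
    (h : ∀ a ∈ R, a ≠ 1 → Good p R (G ⊓ centralizer ({a} : Set X))) : Good p R G := by
  have h5 : 5 ≤ p := by have := hp.out.eq_two_or_odd; omega
  obtain ⟨A, h1, h2, h4⟩ := exists_rank_two hR hab hnc
  have h6 : St r G A := ⟨Fact.out, h2, h4, h1.trans hn,
    (Nat.Prime.coprime_iff_not_dvd Fact.out).1 hcop.symm⟩
  have h7 := main_aux hZ hQ h5 _ X G A rfl h6 (hO X p r G A (by omega) h6 fun b hb e =>
    (h b (h1 hb) e).trans (centralizer_le h1))
  refine good_of ?_ fun q hq e => ?_
  · obtain ⟨⟨a, ha⟩, h8⟩ := ne_bot_iff_exists_ne_one.1 (H15.elem_ne_bot Fact.out (k := 1) h4.ge)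
    have h9 : H14.layerOf G ≤ G ⊓ centralizer ({a} : Set X) := le_inf (H14.layerOf_le_self G)
      (h7.trans (centralizer_le (Set.singleton_subset_iff.2 ha)))
    refine le_trans ?_ (h a (h1 ha) fun e => h8 (Subtype.ext e))
    rw [← H14.res_eq_of_perfect (p := p) (H14.layerOf_perfect G)]
    exact res_mono ((H14.layerOf_le fun L hL => (hL.of_le (hL.le_layerOf.trans h9)
      inf_le_left).le_layerOf).trans (H14.layerOf_le_fstarOf _))
  have := Fact.mk hq
  obtain ⟨k, hk⟩ := hR.exists_card_eq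
  refine H1.le_of_noncyclic_centralizer_le hnc (le_normalizer_pCoreOf hn) (by
    rw [hk]; exact (hcop.symm.coprime_dvd_right (card_dvd_of_le (pCoreOf_le G))).pow_left k) _
    fun a ha e' => le_trans ?_ (h a ha e')
  rw [← res_eq_self_of_isPGroup_prime (p := p) hq e ((isPGroup_pCoreOf G).to_le
    (inf_le_left (b := centralizer ({a} : Set X))))]
  refine res_mono (le_trans ?_ ((H14.pCoreOf_le_fitOf (p := q) _).trans (H14.fitOf_le_fstarOf _)))
  exact (le_inf inf_le_left (inf_le_inf_right _ (pCoreOf_le G))).trans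
    (pCoreOf_inf_le_of_le inf_le_left)

end H98.Nc
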