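import Cfsg.Agent.H98.NcBase
import Cfsg.Agent.H98.HsMod
import Cfsg.Agent.H4.Product

/-! The hypothesis of the row gives the weak hypothesis (blueprint `NC.md`, JobOrig). -/

set_option autoImplicit false

namespace H98.Nc

open Subgroup Cfsg Hs
open scoped commutatorElement

universe u

variable {X : Type u} [Group X] [Finite X] {p r : ℕ} [hp : Fact p.Prime] {G R H V Y Z : Subgroup X}
  {b : X}

theorem St.exists_gen (h : St r G R) (hb : b ∈ R) (h1 : b ≠ 1) :
    ∃ a ∈ R, Nat.card (zpowers a) = r ∧ zpowers a ⊔ zpowers b = R := by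
  have h2 := H15.elem_card_zpowers h.prime h.ea hb h1
  obtain ⟨a, ha, h3⟩ : ∃ a ∈ R, a ∉ zpowers b := SetLike.not_le_iff_exists.1 fun e => by
    have := card_le_of_le e
    rw [h2, h.card] at this
    nlinarith [h.prime.one_lt]
  have h4 := H15.elem_card_zpowers h.prime h.ea ha (fun e => h3 (e ▸ one_mem _))
  have h5 : zpowers a ⊓ zpowers b = ⊥ := by
    have := Fact.mk (h4 ▸ h.prime : (Nat.card (zpowers a)).Prime)
    rcases ((zpowers a ⊓ zpowers b).subgroupOf (zpowers a)).eq_bot_or_eq_top_of_prime_card with e | e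
    · exact (H14.subgroupOf_eq_bot_iff_of_le inf_le_left).1 e
    · exact (h3 ((subgroupOf_eq_top.1 e) (mem_zpowers a)).2).elim
  have h6 := H4.card_sup_mul_card_inf_of_le_normalizer (A := zpowers a) (B := zpowers b)
    (le_normalizer_of_le_centralizer ((zpowers_le.2 ha).trans
      (h.comm.trans (centralizer_le (zpowers_le.2 hb)))))
  rw [h5, card_bot, mul_one, h4, h2, ← pow_two, ← h.card] at h6
  exact ⟨a, ha, h4, eq_of_le_of_card_ge (sup_le (zpowers_le.2 ha) (zpowers_le.2 hb)) h6.ge⟩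

theorem St.exists_aut (h : St r G R) (hb : b ∈ R) (h1 : b ≠ 1) :
    ∃ τ : MulAut ↥(G ⊓ centralizer ({b} : Set X)), Aut τ r ∧
      (∀ g, τ g = g ↔ (g : X) ∈ centralizer (R : Set X)) ∧
      (∀ H : Subgroup X, R ≤ normalizer (H : Set X) → Iv τ (H.subgroupOf _)) ∧
      ∀ H ≤ G ⊓ centralizer ({b} : Set X), R ≤ normalizer (H : Set X) → ⁅H, R⁆ = H →
        cm τ (H.subgroupOf _) = H.subgroupOf _ := by
  obtain ⟨a, ha, h2, h3⟩ := h.exists_gen hb h1
  have h4 := h.inv_cen1 hb
  obtain ⟨a, e, τ, h5, h6⟩ := Hs.exists_aut h.prime h2 ((Nat.Prime.coprime_iff_not_dvd h.prime).2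
    (h.of_le h4.le h4.nr).cop).symm ((zpowers_le.2 ha).trans h4.nr)
  rw [e] at h3
  have h7 : a ∈ R := h3.le (mem_sup_left (mem_zpowers a))
  have h8 : G ⊓ centralizer ({b} : Set X) ≤ centralizer (zpowers b : Set X) := by
    rw [zpowers_eq_closure, centralizer_closure]; exact inf_le_right
  refine ⟨τ, h5, fun g => (amb_fx h6).trans ⟨fun e => ?_, fun e => centralizer_le
    (zpowers_le.2 h7) e⟩, fun H hH => amb_iv h6 (hH h7), fun H a1 a2 a3 =>
      (amb_iv h6 (a2 h7)).cm_le.antisymm ?_⟩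
  · exact le_centralizer_iff.1 (h3.ge.trans (sup_le (le_centralizer_iff.1 (zpowers_le.2 e))
      (le_centralizer_iff.1 (zpowers_le.2 (h8 g.2))))) (mem_zpowers _)
  rw [← map_le_map_iff_of_injective (Subgroup.subtype_injective _)]
  refine le_trans ?_ (amb_cm h6 (amb_iv h6 (a2 h7)))
  rw [map_subgroupOf_eq_of_le a1]
  refine a3.ge.trans ((commutator_mono le_rfl h3.ge).trans (commutator_sup_right_le
    (normalizer_commutator_ge_right _ _) (le_normalizer_commutator ((zpowers_le.2 hb).trans a2)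
      (le_normalizer_of_le_centralizer ((zpowers_le.2 hb).trans
        (h.comm.trans (centralizer_le (zpowers_le.2 h7)))))) le_rfl ?_))
  exact (commutator_eq_bot_iff_le_centralizer.2 (a1.trans h8)).le.trans bot_le

omit [Finite X] hp in
theorem map_le_cen {Γ : Subgroup X} {A : Subgroup Γ} (hV : V ≤ Γ)
    (h : A ≤ centralizer (V.subgroupOf Γ : Set Γ)) : A.map Γ.subtype ≤ centralizer (V : Set X) := by
  rintro _ ⟨a, ha, rfl⟩ v hv
  exact congrArg Subtype.val (h ha ⟨v, hV hv⟩ hv)

theorem fstarOf_le (H : Subgroup X) : H14.fstarOf H ≤ res p (H14.fstarOf H) ⊔ pCoreOf p H := by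
  refine (H14.fstarOf_eq H).le.trans (sup_le (le_sup_of_le_left ?_) ?_)
  · rw [← H14.res_eq_of_perfect (p := p) (H14.layerOf_perfect H)]
    exact res_mono (H14.layerOf_le_fstarOf H)
  · refine le_of_forall_prime_pow_mem fun q hq _ x hx ⟨k, hk⟩ => ?_
    by_cases e : q = p
    · exact mem_sup_right (mem_pCoreOf_of_fitOf hx (e ▸ hk))
    · exact mem_sup_left (mem_res_of_coprime (H14.fitOf_le_fstarOf H hx)
        (H14.coprime_orderOf_of_pow hk ((Nat.coprime_primes hp.out hq).2 (Ne.symm e))))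

theorem Good.cm_le (hg : Good p R H) : ⁅H, R⁆ ≤ centralizer (res p (H14.fstarOf H) : Set X) :=
  H1.commutator_le_centralizer_of_normal (le_normalizer_res (H14.self_le_normalizer_fstarOf H)) hg

theorem Good.le_res (hg : Good p R H) (hn : R ≤ normalizer (H : Set X)) (h1 : Z ≤ ⁅H, R⁆)
    (h2 : Z ≤ centralizer (pCoreOf p H : Set X)) (h3 : res p Z = Z) :
    Z ≤ res p (H14.fstarOf H) := by
  rw [← h3]
  exact res_mono ((le_inf (h1.trans (commutator_le_left' hn)) (le_centralizer_iff.1
    ((fstarOf_le H).trans (sup_le (le_centralizer_iff.1 (h1.trans hg.cm_le))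
      (le_centralizer_iff.1 h2))))).trans
    ((H14.inf_centralizer_fstarOf_le H).trans (H14.fitOf_le_fstarOf H)))

theorem jobOrig : JobOrig.{u} := by
  intro X _ _ p r _ G R h2 h hg
  have := Fact.mk Nat.prime_two
  have key : ∀ b ∈ R, ∀ Y, Inv G R Y → Y ≤ centralizer ({b} : Set X) →
      ⁅pCoreOf p (G ⊓ centralizer ({b} : Set X)) ⊓ centralizer (R : Set X), Y⁆ ≤ pCoreOf p Y :=
    fun b hb Y a1 a2 => (le_inf ((commutator_mono inf_le_left le_rfl).trans (commutator_le_left'
      (le_normalizer_pCoreOf_of_le (le_inf a1.le a2)))) (commutator_le_right'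
        ((inf_le_inf_right _ ((pCoreOf_le _).trans inf_le_left)).trans a1.nc))).trans
      (pCoreOf_inf_le_of_le (le_inf a1.le a2))
  refine ⟨fun b hb h1 Y a1 a2 a3 a4 => ?_, fun D a1 a2 a3 a4 => ?_⟩
  · obtain ⟨τ, h3, h4, h5, h6⟩ := h.exists_aut hb h1
    have h7 := h.inv_cen1 hb
    have h8 : Y ≤ G ⊓ centralizer ({b} : Set X) := le_inf a1.le a2
    have h9 := map_le_cen (pCoreOf_le _) (res_res_cen h3
      (isPGroup_subgroupOf (isPGroup_pCoreOf (p := p) _) _) (h5 _ h7.core.nr) (h5 _ a1.nr)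
      (h6 Y h8 a1.nr a3) (H14.subgroupOf_le_normalizer _ (le_normalizer_pCoreOf_of_le h8)) (by
        rw [← map_eq_bot_iff_of_injective _ (Subgroup.subtype_injective _), map_commutator,
          map_commutator, map_res, map_subgroupOf_eq_of_le h8]
        refine H14.commutator_eq_bot_mono a4 ((commutator_mono ?_ le_rfl).trans
          (key b hb Y a1 a2)) le_rfl
        rintro _ ⟨x, hx, rfl⟩
        exact ⟨hx.1, (h4 x).1 hx.2⟩))
    rw [map_res, map_res, map_subgroupOf_eq_of_le h8] at h9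
    have h10 : Y ≤ ⁅G ⊓ centralizer ({b} : Set X), R⁆ := a3.ge.trans (commutator_mono h8 le_rfl)
    have h11 := (hg b hb h1).le_res h7.nr (((res_le _).trans (res_le _)).trans h10) h9 (res_res _)
    have h12 : Y ≤ centralizer (res p (res 2 Y) : Set X) :=
      (h10.trans (hg b hb h1).cm_le).trans (centralizer_le h11)
    obtain ⟨U, h13⟩ := exists_isSyl p (res 2 Y)
    have h14 : U ≤ pCoreOf p Y := (h13.eq_pCoreOf (h13.sup_res.ge.trans (sup_le le_normalizer
      (le_normalizer_of_le_centralizer (le_centralizer_iff.1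
        ((h13.le.trans (res_le _)).trans h12)))))).le.trans
      (pCoreOf_le_pCoreOf_of_normal (res_le _) (self_le_normalizer_res _))
    obtain ⟨S, h15, h16⟩ := (h.of_le a1.le a1.nr).exists_syl 2
    have h17 : R ≤ normalizer ((S ⊔ pCoreOf p Y : Subgroup X) : Set X) :=
      le_normalizer_sup h16 a1.core.nr
    have h18 : Y ≤ (S ⊔ pCoreOf p Y) ⊔ res p (res 2 Y) := h15.sup_res.ge.trans (sup_le
      (le_sup_of_le_left le_sup_left) (h13.sup_res.ge.trans
        (sup_le_sup_right (h14.trans le_sup_right) _)))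
    refine (res_mono (a3.ge.trans ((commutator_mono h18 le_rfl).trans (commutator_sup_left_le
      le_normalizer (le_normalizer_of_le_centralizer (le_centralizer_iff.1 ((sup_le h15.le
        (pCoreOf_le _)).trans h12))) (commutator_le_left' h17) ?_)))).trans
      (res_sup_le_right h15.isPGroup (le_normalizer_pCoreOf_of_le h15.le))
    exact (commutator_eq_bot_iff_le_centralizer.2 (h11.trans (hg b hb h1))).le.trans bot_le
  refine a3.symm.trans (commutator_eq_bot_iff_le_centralizer.2 (h.gen a1.le a1.nr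
    fun b hb h1 => commutator_eq_bot_iff_le_centralizer.1 ?_))
  obtain ⟨τ, h3, h4, h5, -⟩ := h.exists_aut hb h1
  have h7 := h.inv_cen1 hb
  have h8 := h7.inf a1
  rw [inf_assoc, inf_comm _ D, ← inf_assoc, inf_eq_right.2 a1.le] at h8
  have h9 := h8.cm
  have h10 := h8.cm_le.trans inf_le_right
  have h11 := a2.to_le (h8.cm_le.trans inf_le_left)
  have h12 := le_inf h9.le h10
  have h13 := map_le_cen (pCoreOf_le _) (two_cen h2 h3
    (isPGroup_subgroupOf (isPGroup_pCoreOf (p := p) _) _) (h5 _ h7.core.nr) (h5 _ h9.nr)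
    (isPGroup_subgroupOf h11 _) (H14.subgroupOf_le_normalizer _ (le_normalizer_pCoreOf_of_le h12))
    (by
      rw [← map_eq_bot_iff_of_injective _ (Subgroup.subtype_injective _), map_commutator,
        map_subgroupOf_eq_of_le h12, eq_bot_iff]
      refine ((commutator_mono ?_ le_rfl).trans (key b hb _ h9 h10)).trans (disjoint_self.1
        ((IsPGroup.disjoint_of_ne p 2 h2 _ _ (isPGroup_pCoreOf _) h11).mono_right (pCoreOf_le _))).le
      rintro _ ⟨x, hx, rfl⟩
      exact ⟨hx.1, (h4 x).1 hx.2⟩)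
    fun x hx v hv => Subtype.ext (H14.commutator_eq_bot_iff_comm.1 (a4 _ h7.core (isPGroup_pCoreOf _))
      _ hv _ ⟨(h8.cm_le hx.1).1, (h4 x).1 hx.2⟩))
  rw [map_subgroupOf_eq_of_le h12] at h13
  rw [← h.cm_cm h8.le h8.nr]
  exact commutator_eq_bot_iff_le_centralizer.2 (((hg b hb h1).le_res h7.nr (commutator_mono
    (inf_le_inf_right _ a1.le) le_rfl) h13 (res_eq_self_of_isPGroup_prime Nat.prime_two h2.symm
      h11)).trans (hg b hb h1))

end H98.Nc
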