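import Cfsg.Agent.H98.HsLay
import Cfsg.Agent.H14.PLayer
import Cfsg.Agent.H15.Elem
import Cfsg.Agent.H29.FlavW
import Cfsg.Agent.H98.FlQ5

/-! Interface for coprime action of an elementary abelian group of rank two (blueprint `NC.md`). -/

set_option autoImplicit false

namespace H98.Nc

open Subgroup Cfsg
open scoped commutatorElement

universe u

section defs

variable {X : Type u} [Group X]

/-- `R` is elementary abelian of order `r ^ 2` and acts coprimely on `G`. -/
structure St (r : ℕ) (G R : Subgroup X) : Prop where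
  prime : r.Prime
  ea : IsElementaryAbelian r R
  card : Nat.card R = r ^ 2
  nrm : R ≤ normalizer (G : Set X)
  cop : ¬ r ∣ Nat.card G

/-- `H ≤ G` is normalized by `R` and by `C_G(R)`. -/
structure Inv (G R H : Subgroup X) : Prop where
  le : H ≤ G
  nr : R ≤ normalizer (H : Set X)
  nc : G ⊓ centralizer (R : Set X) ≤ normalizer (H : Set X)

/-- `R` centralizes `O^p(F*(H))`. -/
def Good (p : ℕ) (R H : Subgroup X) : Prop := res p (H14.fstarOf H) ≤ centralizer (R : Set X)

/-- The weak hypothesis that passes to sections. -/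
structure Wk (p : ℕ) (G R : Subgroup X) : Prop where
  odd : ∀ b ∈ R, b ≠ 1 → ∀ Y, Inv G R Y → Y ≤ centralizer ({b} : Set X) → ⁅Y, R⁆ = Y →
    ⁅pCoreOf p Y, res p Y⁆ = ⊥ → res 2 Y ≤ pCoreOf p Y
  two : ∀ D, Inv G R D → IsPGroup 2 D → ⁅D, R⁆ = D →
    (∀ U, Inv G R U → IsPGroup p U → ⁅U, D ⊓ centralizer (R : Set X)⁆ = ⊥) → D = ⊥

end defs

/-- The characteristic subgroup `kL T` is normal in a good group. -/
def JobZJ : Prop :=
  ∀ (X : Type u) [Group X] [Finite X] (p r : ℕ) [Fact p.Prime] (H R T : Subgroup X), 5 ≤ p →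
    St r H R → Good p R H → Inv H R T → IsPGroup p T → pCoreOf p H ≤ T →
    H ≤ normalizer (H16.kL T : Set X)

/-- The weak hypothesis passes to the quotient by a subgroup centralizing `E`, if `G = E C_G(R)`. -/
def JobQuo : Prop :=
  ∀ (X : Type u) [Group X] [Finite X] (p r : ℕ) [Fact p.Prime] (G R E : Subgroup X)
    (Γ : Subgroup X) (X' : Type u) [Group X'] [Finite X'] (f : Γ →* X'), p ≠ 2 → G ≤ Γ → R ≤ Γ →
    St r G R → Wk p G R → Inv G R E → G ≤ E ⊔ G ⊓ centralizer (R : Set X) →
    f.ker.map Γ.subtype ≤ G ⊓ centralizer (E : Set X) →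
    St r ((G.subgroupOf Γ).map f) ((R.subgroupOf Γ).map f) ∧
      Wk p ((G.subgroupOf Γ).map f) ((R.subgroupOf Γ).map f)

/-- The hypothesis of the row gives the weak hypothesis. -/
def JobOrig : Prop :=
  ∀ (X : Type u) [Group X] [Finite X] (p r : ℕ) [Fact p.Prime] (G R : Subgroup X), p ≠ 2 →
    St r G R → (∀ b ∈ R, b ≠ 1 → Good p R (G ⊓ centralizer ({b} : Set X))) → Wk p G R

end H98.Nc
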