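import Cfsg.Agent.H23.NDSpec

/-! S4780, tower ND, slot Fq. -/

set_option autoImplicit false

namespace H98.NdFq

open Subgroup H23.ND

universe u

variable {Γ : Type u} [Group Γ] {x b c : Γ}

theorem cp1 (hc : c ∈ center Γ) (e : x * b * x⁻¹ = c * b) (n : ℕ) :
    x * b ^ n * x⁻¹ = c ^ n * b ^ n := by
  rw [← conj_pow, e, Commute.mul_pow (mem_center_iff.1 hc b).symm]

theorem cp2 (hc : c ∈ center Γ) (e : x * b * x⁻¹ = c * b) (n : ℕ) :
    x ^ n * b * (x ^ n)⁻¹ = c ^ n * b := by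
  induction n with
  | zero => simp
  | succ n ih =>
    calc x ^ (n + 1) * b * (x ^ (n + 1))⁻¹ = x ^ n * (x * b * x⁻¹) * (x ^ n)⁻¹ := by group
      _ = c * (x ^ n * b * (x ^ n)⁻¹) := by
        rw [e, ← mul_assoc, mem_center_iff.1 hc (x ^ n)]; group
      _ = _ := by rw [ih, pow_succ', mul_assoc]

theorem one_of {m n : ℕ} (h : m.Coprime n) (h1 : c ^ m = 1) (h2 : c ^ n = 1) : c = 1 := by
  rw [← pow_one c, ← h.gcd_eq_one, pow_gcd_eq_one]
  exact ⟨h1, h2⟩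

theorem jobFq : JobFq.{u} := by
  intro Γ _ _ B hB h nq ab top fp g hg b hb hz
  refine fp g hg b hb (mul_inv_eq_iff_eq_mul.1 (mul_inv_eq_one.1 ?_))
  by_contra z1
  obtain ⟨r, hr, rz⟩ := Nat.exists_prime_and_dvd (mt orderOf_eq_one_iff.1 z1)
  obtain ⟨a, m, hm, e⟩ := H55.Nd.split b hr
  have e1 := cp1 hz (inv_mul_cancel_right _ b).symm m
  have z2 : (g * b * g⁻¹ * b⁻¹) ^ m ≠ 1 := fun e =>
    (Nat.Prime.coprime_iff_not_dvd hr).1 hm (rz.trans (orderOf_dvd_of_pow_eq_one e))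
  replace hz := pow_mem hz m
  replace hb := pow_mem hb m
  rw [mul_comm, pow_mul] at e
  generalize (g * b * g⁻¹ * b⁻¹) ^ m = z at e1 z2 hz
  generalize b ^ m = b at e e1 hb
  have dec : ∀ x : Γ, ∃ u ∈ B, ∃ k : ℤ, u * h ^ k = x := fun x => by
    obtain ⟨u, hu, _, ⟨k, rfl⟩, e⟩ := mem_sup_of_normal_left.1 (top.ge (mem_top x))
    exact ⟨u, hu, k, e⟩
  obtain ⟨j, m', hm', e'⟩ := H55.Nd.split h hr
  rw [pow_mul] at e'
  by_cases hh : h ^ r ^ j ∈ B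
  · obtain ⟨N, M, hM, eM⟩ := Nat.exists_eq_pow_mul_and_not_dvd (Nat.card_pos (α := Γ)).ne' r hr.ne_one
    let K : Subgroup Γ :=
      { carrier := {x | ∃ u ∈ B, u ^ r ^ N = x}
        one_mem' := ⟨1, one_mem _, one_pow _⟩
        mul_mem' := by
          rintro _ _ ⟨u, hu, rfl⟩ ⟨v, hv, rfl⟩
          exact ⟨u * v, mul_mem hu hv, Commute.mul_pow (ab u hu v hv) _⟩
        inv_mem' := by
          rintro _ ⟨u, hu, rfl⟩
          exact ⟨u⁻¹, inv_mem hu, inv_pow _ _⟩ }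
    have : K.Normal := ⟨by
      rintro _ ⟨u, hu, rfl⟩ y
      exact ⟨_, hB.conj_mem u hu y, conj_pow⟩⟩
    obtain ⟨u, -, hu⟩ := nq r hr K (fun y => by
      obtain ⟨y, rfl⟩ := QuotientGroup.mk_surjective y
      refine ⟨j + N, ?_⟩
      rw [← QuotientGroup.mk_pow, QuotientGroup.eq_one_iff, pow_add, pow_mul]
      refine ⟨_, ?_, rfl⟩
      obtain ⟨u, hu, k, rfl⟩ := dec y
      rw [← QuotientGroup.eq_one_iff, QuotientGroup.mk_pow, QuotientGroup.mk_mul,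
        (QuotientGroup.eq_one_iff u).2 hu, one_mul, QuotientGroup.mk_zpow, ← zpow_natCast, ← zpow_mul,
        mul_comm, zpow_mul, zpow_natCast, ← QuotientGroup.mk_pow, (QuotientGroup.eq_one_iff _).2 hh,
        one_zpow]) (commutator_mem_commutator (mem_top g) (mem_top b))
    rw [commutatorElement_def, e1, mul_inv_cancel_right] at hu
    refine z2 (one_of (((Nat.Prime.coprime_iff_not_dvd hr).2 hM).pow_left a) ?_ ?_)
    · simpa [e] using (cp1 hz e1 (r ^ a)).symm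
    · rw [← hu, ← pow_mul, ← eM, pow_card_eq_one']
  obtain ⟨u, hu, k, rfl⟩ := dec g
  have cj : ∀ v ∈ B, u * h ^ k * v * (u * h ^ k)⁻¹ = h ^ k * v * (h ^ k)⁻¹ := fun v hv => by
    calc _ = u * (h ^ k * v * (h ^ k)⁻¹) * u⁻¹ := by group
      _ = _ := by rw [ab u hu _ (hB.conj_mem v hv _), mul_inv_cancel_right]
  have cB := mul_mem (hB.conj_mem b hb (h ^ r ^ j)) (inv_mem hb)
  have cZ := fp _ hg _ cB (mul_inv_eq_iff_eq_mul.1 (by
    rw [cj _ cB]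
    rw [cj b hb] at e1
    have c : Commute (h ^ k) (h ^ r ^ j) := ((Commute.refl h).zpow_left k).pow_right _
    calc _ = h ^ k * h ^ r ^ j * b * (h ^ k * h ^ r ^ j)⁻¹ * (h ^ k * b * (h ^ k)⁻¹)⁻¹ := by group
      _ = h ^ r ^ j * (h ^ k * b * (h ^ k)⁻¹) * (h ^ r ^ j)⁻¹ * (h ^ k * b * (h ^ k)⁻¹)⁻¹ := by
        rw [c.eq]; group
      _ = h ^ r ^ j * b * (z * (h ^ r ^ j)⁻¹) * z⁻¹ * b⁻¹ := by
        rw [e1, ← mem_center_iff.1 hz b]; group
      _ = _ := by rw [← mem_center_iff.1 hz]; group))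
  have e2 := (inv_mul_cancel_right (h ^ r ^ j * b * (h ^ r ^ j)⁻¹) b).symm
  have c1 := one_of (hm'.pow_left a) (by simpa [e] using (cp1 cZ e2 (r ^ a)).symm)
    (by simpa [e'] using (cp2 cZ e2 m').symm)
  have bZ := fp _ hh b hb (mul_inv_eq_iff_eq_mul.1 (mul_inv_eq_one.1 c1))
  rw [mem_center_iff.1 bZ, mul_inv_cancel_right] at e1
  exact z2 (by simpa using e1.symm)

end H98.NdFq
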