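import Cfsg.Agent.H98.OcCore
import Cfsg.Agent.H99.Product
import Cfsg.Agent.H3.SecRank

/-! Tower OC, job SMALL: the Sylow `2`-subgroup when the local data `Loc` hold for `E16`. -/

set_option autoImplicit false

namespace H98.Oc

open Subgroup Cfsg H98 H1.Gold H74.OC

universe u

variable {G : Type u} [Group G] {A B Q T E : Subgroup G} {m : ℕ}

theorem L0.cm (h : L0 Q m) {a b : G} (ha : a ∈ Q) (hb : b ∈ Q) : a * b = b * a := h.ab hb a ha

theorem L0.inv (h : L0 Q m) {a : G} (ha : a ∈ Q) : a⁻¹ = a :=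
  inv_eq_of_mul_eq_one_right (pow_two a ▸ h.sq a ha)

variable [Finite G]

theorem L0.sec (h : L0 Q 4) (hA : IsPGroup 2 A) (e : A ≤ nor Q) (hB : ∀ x ∈ A, x ^ 2 ∈ B) :
    B.relIndex A ≤ 16 := by
  have i := rel_card B A
  have p : 0 < Nat.card ↥(B ⊓ A) := Nat.card_pos
  by_cases c : A ≤ Q
  · have := card_le_of_le c
    rw [h.card] at this
    nlinarith
  obtain ⟨t, ht, r⟩ := SetLike.not_le_iff_exists.1 c
  have n : ∀ q ∈ Q, t * q * t⁻¹ ∈ Q := fun q hq => (mem_normalizer_iff.1 (e ht) q).1 hq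
  let f : ↥(A ⊓ Q) →* G := MonoidHom.mk' (fun q => q * (t * q * t⁻¹)) fun a b => by
    have := h.cm b.2.2 (n a a.2.2)
    calc (a * b : G) * (t * (a * b) * t⁻¹) = a * (b * (t * a * t⁻¹)) * (t * b * t⁻¹) := by group
      _ = _ := by rw [this]; group
  have h1 : Nat.card f.range ≤ Nat.card ↥(B ⊓ A) := card_le_of_le (by
    rintro _ ⟨q, rfl⟩
    refine mem_inf.2 ⟨?_, A.mul_mem q.2.1 (A.mul_mem (A.mul_mem ht q.2.1) (A.inv_mem ht))⟩
    have := mul_mem (hB _ (mul_mem q.2.1 ht)) (inv_mem (hB t ht))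
    rwa [show ((q : G) * t) ^ 2 * (t ^ 2)⁻¹ = q * (t * q * t⁻¹) by simp only [pow_two]; group] at this)
  have h2 : Nat.card f.ker ≤ 4 := by
    rw [← h.cen t (e ht) r (hA.to_le (zpowers_le_of_mem ht)),
      ← card_map_of_injective (A ⊓ Q).subtype_injective]
    refine card_le_of_le ?_
    rintro _ ⟨q, hq, rfl⟩
    have k : t * q * t⁻¹ = q := (eq_inv_of_mul_eq_one_right hq).trans (h.inv q.2.2)
    exact ⟨q.2.2, mem_cen1.2 (mul_inv_eq_iff_eq_mul.1 k).symm⟩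
  have h3 := f.ker.card_mul_index
  rw [index_ker] at h3
  have h4 := h.two A hA e
  nlinarith [Nat.mul_le_mul h2 h1]

theorem L0.inf4 (h : L0 Q 4) (h' : L0 B 4) (e : B ≤ nor Q) (ne : B ≠ Q) :
    Nat.card ↥(Q ⊓ B) = 4 ∧ ∀ b ∈ B, b ∉ Q → Q ⊓ cen1 b ≤ B := by
  have h1 := h.two B h'.isP e
  rw [h'.card, inf_comm] at h1
  have k : ∀ b ∈ B, b ∉ Q → Q ⊓ B = Q ⊓ cen1 b := fun b hb r =>
    eq_of_le_of_card_ge (fun x hx => ⟨hx.1, cen_le_cen1 hb (h'.ab hx.2)⟩) (by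
      rw [h.cen b (e hb) r (h'.isP.to_le (zpowers_le_of_mem hb))]; omega)
  obtain ⟨b, hb, r⟩ := SetLike.not_le_iff_exists.1 fun c : B ≤ Q =>
    ne (eq_of_le_of_card_ge c (h.card.trans h'.card.symm).le)
  exact ⟨by rw [k b hb r, h.cen b (e hb) r (h'.isP.to_le (zpowers_le_of_mem hb))],
    fun b hb r => (k b hb r).ge.trans inf_le_right⟩

theorem L0.cover (h : L0 Q 4) (h' : L0 B 4) (ne : B ≠ Q) (QT : Q ≤ T) (BT : B ≤ T) (e : T ≤ nor Q)
    (cT : Nat.card T = 64) (ET : E ≤ T) (hE : ∀ x ∈ E, x ^ 2 = 1) : E ≤ Q ∨ E ≤ B := by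
  obtain ⟨c, k⟩ := h.inf4 h' (BT.trans e) ne
  have s := H99.card_sup_mul_card_inf_of_le_normalizer' (BT.trans e)
  rw [c, h.card, h'.card] at s
  have s' : Q ⊔ B = T := eq_of_le_of_card_ge (sup_le QT BT) (by omega)
  refine SubgroupClass.subset_union.1 fun x hx => ?_
  obtain ⟨q, hq, b, hb, rfl⟩ := (mem_sup_right_norm (BT.trans e)).1 (s'.ge (ET hx))
  by_cases r : b ∈ Q
  · exact Or.inl (mul_mem hq r)
  refine Or.inr (mul_mem (k b hb r ⟨hq, mem_cen1.2 ?_⟩) hb)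
  have := eq_inv_of_mul_eq_one_right (pow_two (q * b) ▸ hE _ hx)
  rwa [mul_inv_rev, h.inv hq, h'.inv hb] at this

theorem jobSMALL : JobSMALL.{u} := fun G _ _ Q h => by
  have h0 := l0 h
  obtain ⟨T, T2, QT, TN, cT⟩ := h.syl
  obtain ⟨S, hS, TS⟩ := exists_isSyl_le T2 le_top
  refine ⟨hS.toSylowTop, ?_⟩
  change (Nat.card S = 64 ∧ SectionalPRankLE 2 4 S) ∨ Nat.card S = 128
  have SN : S ⊓ nor Q = T := (eq_of_le_of_card_ge (le_inf TS TN : T ≤ S ⊓ nor Q) (by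
    have h1 := h0.two (S ⊓ nor Q) (hS.isPGroup.to_le inf_le_left) inf_le_right
    have h2 := card_le_of_le (inf_le_right : S ⊓ nor Q ⊓ Q ≤ Q)
    rw [h0.card] at h2
    omega)).symm
  obtain rfl | lt := TS.eq_or_lt
  · refine Or.inl ⟨cT, H3.sectionalPRankLE_iff.2 fun A B _ h2 => ?_⟩
    rw [← relIndex_map_map_of_injective _ _ T.subtype_injective]
    refine h0.sec (T2.to_le (map_subtype_le _)) ((map_subtype_le _).trans TN) ?_
    rintro _ ⟨x, hx, rfl⟩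
    exact ⟨x ^ 2, h2 x hx, rfl⟩
  obtain ⟨g, hg, gT⟩ := SetLike.exists_of_lt (lt_inf_normalizer hS.isPGroup lt)
  have ne : ∀ x ∈ S, cj x Q = Q → x ∈ T := fun x hx e => SN.le ⟨hx, cj_eq_self_iff.1 e⟩
  have cov : ∀ E ≤ T, (∀ x ∈ E, x ^ 2 = 1) → E ≤ Q ∨ E ≤ cj g Q := fun E =>
    h0.cover (h0.cj g) (fun e => gT (ne g hg.1 e)) QT (cj_le_of_le QT hg.2) TN cT
  have two : ∀ x ∈ S, cj x Q ≤ T → x ∈ T ∨ g⁻¹ * x ∈ T := fun x hx e =>
    (cov _ e (h0.cj x).sq).imp (fun k => ne x hx (eq_of_le_of_card_ge k (card_cj x Q).ge)) fun k =>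
      ne _ (mul_mem (inv_mem hg.1) hx) (by
        rw [← cj_cj, eq_of_le_of_card_ge k ((card_cj g Q).trans (card_cj x Q).symm).le, cj_inv_cj])
  have TT : T ≤ S ⊓ nor T := le_inf TS le_normalizer
  have i2 : T.relIndex (S ⊓ nor T) = 2 := relIndex_eq_two_iff_exists_notMem_and'.2
    ⟨g⁻¹, inv_mem hg, fun k => gT (inv_mem_iff.1 k), fun x hx =>
      (two x hx.1 (cj_le_of_le QT hx.2)).symm⟩
  have c2 := rel_card T (S ⊓ nor T)
  rw [i2, inf_eq_left.2 TT, cT] at c2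
  refine Or.inr ?_
  obtain e | lt' := (inf_le_left : S ⊓ nor T ≤ S).eq_or_lt
  · rw [← e, ← c2]; norm_num
  obtain ⟨x, hx, xT⟩ := SetLike.exists_of_lt (lt_inf_normalizer hS.isPGroup lt')
  have EN : cj x Q ≤ S ⊓ nor T := cj_le_of_le (QT.trans TT) hx.2
  obtain ⟨e, he, eT⟩ := SetLike.not_le_iff_exists.1 fun k : cj x Q ≤ T =>
    xT ((two x hx.1 k).elim (TT ·) fun k => by simpa using mul_mem hg (TT k))
  have sw : ∀ y ∈ S ⊓ nor T, y ∉ T → cj y Q = cj g Q := fun y hy r => by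
    have := (two y hy.1 (cj_le_of_le QT hy.2)).resolve_left r
    rw [← mul_inv_cancel_left g y, ← cj_cj, cj_eq_self (TN this)]
  have fx : cj e (cj x Q ⊓ T) = cj x Q ⊓ T := by
    rw [cj_inf, cj_eq_self_of_mem he, cj_eq_self (EN he).2]
  have lo : cj x Q ⊓ T ≤ Q ⊓ cj g Q := by
    obtain k | k := cov _ inf_le_right fun y hy => (h0.cj x).sq y hy.1
    · exact le_inf k (fx.ge.trans ((cj_mono e k).trans (sw e (EN he) eT).le))
    · refine le_inf ?_ k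
      have := cj_mono e⁻¹ (fx.le.trans (k.trans (sw e (EN he) eT).ge))
      rwa [cj_inv_cj, cj_inv_cj] at this
  have c4 := card_le_of_le lo
  rw [(h0.inf4 (h0.cj g) ((cj_le_of_le QT hg.2).trans TN) fun e => gT (ne g hg.1 e)).1] at c4
  have c5 := rel_card T (cj x Q)
  have c6 := relIndex_le_of_le_right EN (by rw [i2]; norm_num)
  rw [inf_comm, (h0.cj x).card] at c5
  nlinarith [Nat.mul_le_mul (c6.trans i2.le) c4]

end H98.Oc
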