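import Cfsg.Agent.H74.O8Kit
import Cfsg.Agent.H98.OcSmall
import Cfsg.Agent.H83.SC3Main

/-! Tower O8, jobs EL5 and EL8: elementary abelian 2-core with quotient `A5` or `S5`. -/

set_option autoImplicit false

namespace H98.O8e

open Subgroup Cfsg H98 H74.OC H74.O8 Equiv

universe u

theorem s5_el (E : Subgroup S5) (h : ∀ a ∈ E, a * a = 1) : Nat.card E ≤ 4 := by
  have E2 : IsPGroup 2 E := isPGroup_iff_forall.2 fun x hx => ⟨1, by simpa [pow_two] using h x hx⟩
  obtain ⟨T, hT, hc⟩ := exists_isSyl_le (isPGroup_zpowers (p := 2) (x := (c[0, 1, 2, 3] : S5))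
    (k := 2) (by decide)) le_top
  obtain ⟨g, -, hg⟩ := hT.exists_le_cj E2 le_top
  obtain ⟨n, hn⟩ := hT.isPGroup.exists_card_eq
  have c8 : Nat.card T ∣ 8 := by
    have := card_subgroup_dvd_card T
    rw [Nat.card_perm, Nat.card_fin, hn] at this
    exact hn ▸ (Nat.Coprime.pow_left n (by norm_num : Nat.Coprime 2 15)).dvd_of_dvd_mul_right
      (show 2 ^ n ∣ 8 * 15 from this)
  by_contra r
  have d := (card_dvd_of_le hg).trans (card_cj g T ▸ c8)
  have l := Nat.le_of_dvd (by norm_num) d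
  have e : E = cj g T := eq_of_le_of_card_ge hg (by
    have := Nat.le_of_dvd (by norm_num) c8
    rw [card_cj]
    generalize Nat.card E = k at *
    interval_cases k <;> omega)
  have := h _ (e ▸ conj_mem_cj (hc (mem_zpowers _)))
  rw [conj_mul, conj_eq_one_iff] at this
  exact absurd this (by decide)

theorem a5_two : ∀ t : A5, t ≠ 1 → t ^ 4 = 1 →
    t * t = 1 ∧ ∃ σ : A5, σ ^ 5 = 1 ∧ σ ≠ 1 ∧ t * σ * t⁻¹ * σ = 1 := by
  decide +kernel

theorem s5_two : ∀ t : S5, t ≠ 1 → t * t = 1 →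
    ∃ σ : S5, (σ ^ 5 = 1 ∨ σ ^ 3 = 1) ∧ σ ≠ 1 ∧ t * σ * t⁻¹ * σ = 1 := by
  decide +kernel

theorem s5_cen : ∀ g : S5, g * c[0, 1, 2] = c[0, 1, 2] * g → Perm.sign g = 1 →
    ∃ k ∈ [0, 1, 2], g = c[0, 1, 2] ^ k := by
  decide +kernel

theorem card_A5 : Nat.card A5 = 60 := by
  have := two_mul_nat_card_alternatingGroup (α := Fin 5)
  rw [Nat.card_perm, Nat.card_fin] at this
  exact Nat.eq_of_mul_eq_mul_left two_pos this

theorem ord5 {K : Type*} [Group K] {x : K} (h : x ^ 5 = 1) (h1 : x ≠ 1) : orderOf x = 5 :=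
  haveI : Fact (Nat.Prime 5) := ⟨by norm_num⟩
  orderOf_eq_prime h h1

variable {G : Type u} [Group G] [Finite G] {M Q : Subgroup G}

/-- An involution that inverts a fixed point free element acts freely. -/
theorem inv_card (el : IsElementaryAbelian 2 Q) {r t : G} (hr : r ∈ normalizer (Q : Set G))
    (ht : t ∈ normalizer (Q : Set G)) (h1 : t * t ∈ Q) (h2 : t * r * t⁻¹ * r ∈ Q)
    (h3 : Q ⊓ centralizer ({r * r} : Set G) = ⊥) :
    Nat.card (Q ⊓ centralizer ({t} : Set G) : Subgroup G) ^ 2 = Nat.card Q := by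
  have hc : ∀ a ∈ Q, ∀ b ∈ Q, a * b = b * a := fun a ha b hb => have := el.1; setLike_mul_comm ha hb
  have hi : ∀ a ∈ Q, a⁻¹ = a := fun a ha =>
    inv_eq_of_mul_eq_one_right (by rw [← pow_two, el.2 a ha])
  have ct : ∀ a ∈ Q, t * a * t⁻¹ ∈ Q := fun a ha => (mem_normalizer_iff.1 ht a).1 ha
  have cr : ∀ a ∈ Q, r * a * r⁻¹ ∈ Q := fun a ha => (mem_normalizer_iff.1 hr a).1 ha
  set C := Q ⊓ centralizer ({t} : Set G)
  have hC : ∀ c, c ∈ C ↔ c ∈ Q ∧ t * c * t⁻¹ = c := fun c => by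
    rw [mem_inf, mem_centralizer_singleton_iff, mul_inv_eq_iff_eq_mul, eq_comm]
  refine le_antisymm ?_ ?_
  · have key : ∀ a ∈ C, r * a * r⁻¹ ∈ C → a = 1 := fun a ha hb => by
      obtain ⟨a1, a2⟩ := (hC a).1 ha
      refine h3.le (⟨a1, mem_centralizer_singleton_iff.2 ?_⟩ : a ∈ Q ⊓ centralizer ({r * r} : Set G))
      have e := ((hC _).1 hb).2
      have e2 := hc _ h2 _ ((mem_normalizer_iff.1 (inv_mem hr) a).1 a1)
      calc a * (r * r) = r * ((t * r * t⁻¹ * r) * (r⁻¹ * a * r⁻¹⁻¹) * (t * r * t⁻¹ * r)⁻¹) * r := by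
            rw [e2]; group
        _ = r * (t * (r * (t⁻¹ * (t * a * t⁻¹) * t) * r⁻¹) * t⁻¹) * r := by rw [a2]; group
        _ = r * r * a := by rw [show t⁻¹ * (t * a * t⁻¹) * t = a by group, e]; group
    rw [pow_two, ← Nat.card_prod]
    refine Nat.card_le_card_of_injective (fun p : C × C =>
      (⟨p.1 * (r * p.2 * r⁻¹), mul_mem p.1.2.1 (cr _ p.2.2.1)⟩ : Q)) ?_
    rintro ⟨⟨a, ha⟩, ⟨b, hb⟩⟩ ⟨⟨a', ha'⟩, ⟨b', hb'⟩⟩ e
    replace e : a * (r * b * r⁻¹) = a' * (r * b' * r⁻¹) := congrArg Subtype.val e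
    have e1 : r * (b * b'⁻¹) * r⁻¹ = a⁻¹ * a' := by
      calc _ = a⁻¹ * (a * (r * b * r⁻¹)) * (r * b' * r⁻¹)⁻¹ := by group
        _ = _ := by rw [e]; group
    have e2 := key _ (mul_mem hb (inv_mem hb')) (e1 ▸ mul_mem (inv_mem ha) ha')
    rw [e2, mul_one, mul_inv_cancel] at e1
    exact Prod.ext (Subtype.ext (inv_mul_eq_one.1 e1.symm)) (Subtype.ext (mul_inv_eq_one.1 e2))
  · let f : Q →* G := MonoidHom.mk' (fun x => x * (t * x * t⁻¹)) fun a b => by
      have := hc _ b.2 _ (ct _ a.2)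
      calc (a : G) * b * (t * (a * b) * t⁻¹) = a * (b * (t * a * t⁻¹)) * (t * b * t⁻¹) := by group
        _ = _ := by rw [this]; group
    have k1 : f.range ≤ C := by
      rintro _ ⟨a, rfl⟩
      refine (hC _).2 ⟨mul_mem a.2 (ct _ a.2), ?_⟩
      calc t * (a * (t * a * t⁻¹)) * t⁻¹ = t * a * t⁻¹ * (t * t * a * (t * t)⁻¹) := by group
        _ = _ := by rw [hc _ h1 _ a.2, mul_inv_cancel_right]; exact hc _ (ct _ a.2) _ a.2
    have k2 : f.ker ≤ C.subgroupOf Q := fun a ha =>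
      (hC a).2 ⟨a.2, (eq_inv_of_mul_eq_one_right ha).trans (hi _ a.2)⟩
    rw [← f.ker.card_mul_index, index_ker, pow_two]
    exact Nat.mul_le_mul ((card_le_of_le k2).trans
      (Nat.card_congr (subgroupOfEquivOfLe inf_le_left).toEquiv).le) (card_le_of_le k1)

theorem card_le {K : Type*} [Group K] {f : M →* K} (hk : f.ker = Q.subgroupOf M) {B : Subgroup G}
    (hB : B ≤ M) : Nat.card B =
      Nat.card (f.comp (inclusion hB)).range * Nat.card (B ⊓ Q : Subgroup G) := by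
  rw [← (f.comp (inclusion hB)).ker.card_mul_index, index_ker, mul_comm,
    ← Nat.card_congr (subgroupOfEquivOfLe (inf_le_left : B ⊓ Q ≤ B)).toEquiv]
  congr 3
  ext x
  rw [← MonoidHom.comap_ker, hk]
  simp [mem_subgroupOf]

theorem loc8 (hs : Sp 8 G) (h : Mx M Q) (el : IsElementaryAbelian 2 Q) (f : M →* S5)
    (hk : f.ker = Q.subgroupOf M)
    (hi : ∀ t : M, f t ≠ 1 → f t * f t = 1 → ∃ r : M, f t * f r * (f t)⁻¹ * f r = 1 ∧
      Q ⊓ centralizer ({(r * r : G)} : Set G) = ⊥)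
    (h5 : ∃ σ : M, orderOf (f σ) = 5) (h2 : ∃ t : M, f t ≠ 1 ∧ f t * f t = 1) :
    ∃ m, Loc8 Q m ∧ (m = 4 ∨ 16 ≤ m) := by
  have k : ∀ x : M, f x = 1 ↔ (x : G) ∈ Q := fun x => by rw [← MonoidHom.mem_ker, hk, mem_subgroupOf]
  have key : ∀ t : M, f t ≠ 1 → f t * f t = 1 →
      Nat.card (Q ⊓ centralizer ({(t : G)} : Set G) : Subgroup G) ^ 2 = Nat.card Q := fun t a b => by
    obtain ⟨r, r1, r2⟩ := hi t a b
    exact inv_card el (h.nor r.2) (h.nor t.2) ((k (t * t)).1 (by rw [map_mul, b]))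
      ((k (t * r * t⁻¹ * r)).1 (by simpa using r1)) r2
  obtain ⟨t0, a0, b0⟩ := h2
  have k2 := key t0 a0 b0
  set m := Nat.card (Q ⊓ centralizer ({(t0 : G)} : Set G) : Subgroup G) with hm
  refine ⟨m, ⟨el, k2.symm, fun B hB hq => ?_, fun t ht a b => ?_⟩, ?_⟩
  · rw [h.eq] at hB
    rw [card_le hk hB]
    refine Nat.mul_le_mul_right _ (s5_el _ ?_)
    rintro _ ⟨b, rfl⟩
    rw [← map_mul]
    exact (k _).2 (hq b b.2)
  · rw [h.eq] at ht
    exact Nat.pow_left_injective two_ne_zero ((key ⟨t, ht⟩ (mt (k _).1 a)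
      (by rw [← map_mul]; exact (k _).2 b)).trans k2.symm)
  · obtain ⟨σ, e⟩ := h5
    have o : orderOf (σ : G) = 5 := (orderOf_coe σ).trans (ord_eq (hs.sub M) f le_rfl e)
    have e := card_modEq (by norm_num) o (h.nor σ.2)
    rw [fpf hs (.inl o) h.two, card_bot, ← k2] at e
    obtain ⟨n, hn⟩ := (h.two.to_le (inf_le_left : Q ⊓ centralizer ({(t0 : G)} : Set G) ≤ Q)).exists_card_eq
    rw [← hm] at hn
    have : m ≠ 1 := fun e => h.ne (by rw [e] at k2; exact card_eq_one.1 k2.symm)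
    rcases n with _ | _ | _ | _ | n
    · exact (this hn).elim
    · rw [hn] at e; exact absurd e (by decide)
    · exact .inl hn
    · rw [hn] at e; exact absurd e (by decide)
    · right
      rw [hn, pow_add]
      have := Nat.one_le_two_pow (n := n)
      omega

theorem fpf5 (hs : Sp 8 G) (h : Mx M Q) {K : Type*} [Group K] (f : M →* K) {r : M} (h1 : f r ^ 5 = 1)
    (h2 : f r ≠ 1) : Q ⊓ centralizer ({(r * r : G)} : Set G) = ⊥ := by
  have o : orderOf (r : G) = 5 := (orderOf_coe r).trans (ord_eq (hs.sub M) f le_rfl (ord5 h1 h2))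
  exact fpf hs (.inl (by rw [← pow_two, (o ▸ by norm_num : (orderOf (r : G)).Coprime 2).orderOf_pow, o]))
    h.two

theorem jobEL5 : JobEL5.{u} := by
  rintro hC G _ _ M Q hG h ⟨f, hf, hk⟩ el
  have k : ∀ x : M, f x = 1 ↔ (x : G) ∈ Q := fun x => by rw [← MonoidHom.mem_ker, hk, mem_subgroupOf]
  obtain ⟨m, hl, rfl | hm⟩ := loc8 hG.sp h el ((alternatingGroup _).subtype.comp f)
    (by rw [← hk, MonoidHom.ker_comp_of_injective _ _ (alternatingGroup _).subtype_injective])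
    (fun t a b => by
      obtain ⟨-, σ, s1, s2, s3⟩ := a5_two (f t) (fun e => a (congrArg Subtype.val e)) (by
        rw [show 4 = 2 * 2 from rfl, pow_mul, pow_two (f t), show f t * f t = 1 from Subtype.ext b,
          one_pow])
      obtain ⟨r, rfl⟩ := hf σ
      exact ⟨r, congrArg Subtype.val s3, fpf5 hG.sp h f s1 s2⟩)
    (by
      obtain ⟨r, e⟩ := hf ⟨c[0, 1, 2, 3, 4], Perm.mem_alternatingGroup.2 (by decide)⟩
      exact ⟨r, by rw [MonoidHom.comp_apply, e]; exact ord5 (by decide +kernel) (by decide +kernel)⟩)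
    (by
      obtain ⟨r, e⟩ := hf ⟨swap 0 1 * swap 2 3, Perm.mem_alternatingGroup.2 (by decide)⟩
      exact ⟨r, by rw [MonoidHom.comp_apply, e]; decide⟩)
  swap
  · exact hC G Q m hG hl hm
  have d4 : ∀ B : Subgroup G, IsPGroup 2 B → ∀ hB : B ≤ M, Nat.card (f.comp (inclusion hB)).range ∣ 4 :=
    fun B h2 hB => by
      obtain ⟨n, hn⟩ := (h2.of_surjective _ (f.comp (inclusion hB)).rangeRestrict_surjective).exists_card_eq
      have := card_subgroup_dvd_card (f.comp (inclusion hB)).range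
      rw [card_A5, hn] at this
      exact hn ▸ (Nat.Coprime.pow_left n (by norm_num : Nat.Coprime 2 15)).dvd_of_dvd_mul_right
        (show 2 ^ n ∣ 4 * 15 from this)
  obtain ⟨T, hT⟩ := exists_isSyl 2 M
  have cT : Nat.card T = 4 * 4 ^ 2 := by
    have := card_le hk (le_refl M)
    rw [MonoidHom.range_eq_top_of_surjective _ (by exact hf.comp fun x => ⟨x, rfl⟩), card_top, card_A5,
      inf_eq_right.2 h.le, hl.card, show 60 * 4 ^ 2 = 2 ^ 6 * 15 from rfl] at this
    rw [hT.card_eq, this, Nat.factorization_mul (by positivity) (by norm_num), Finsupp.add_apply,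
      Nat.Prime.factorization_pow Nat.prime_two, Finsupp.single_eq_same,
      Nat.factorization_eq_zero_of_not_dvd (by norm_num)]
    rfl
  refine (H98.Oc.jobSMALL G Q ⟨el, hl.card, fun B h2 hB => ?_, fun t ht a b => ?_,
    T, hT.isPGroup, h.le_syl hT, hT.le.trans h.nor, cT⟩).elim fun S hS => by
      have := hG.card_syl (isSyl_sylow S)
      omega
  · rw [h.eq] at hB
    rw [card_le hk hB]
    exact Nat.mul_le_mul_right _ (Nat.le_of_dvd (by norm_num) (d4 B h2 hB))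
  · have hB : zpowers t ≤ M := zpowers_le_of_mem (h.eq ▸ ht)
    refine hl.cen t ht a ((k (inclusion hB ⟨t, mem_zpowers t⟩ * inclusion hB ⟨t, mem_zpowers t⟩)).1 ?_)
    rw [map_mul]
    refine (a5_two _ (mt (k _).1 a) ?_).1
    exact orderOf_dvd_iff_pow_eq_one.1 ((Subgroup.orderOf_dvd_natCard (f.comp (inclusion hB)).range
      ⟨⟨t, mem_zpowers t⟩, rfl⟩).trans (d4 _ b hB))

/-- The kernel is elementary abelian when the elements of order three are fixed point free. -/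
theorem ker_el {H : Type u} [Group H] [Finite H] {f : H →* S5} (c : Cov f)
    (h : ∀ y : H, orderOf y = 3 → f.ker ⊓ centralizer ({y} : Set H) = ⊥) :
    IsElementaryAbelian 2 f.ker := by
  let K := (alternatingGroup (Fin 5)).comap f
  have le : f.ker ≤ K := fun x hx => by
    change f x ∈ alternatingGroup _
    rw [show f x = 1 from hx]; exact one_mem _
  let g : K →* A5 := f.subgroupComap _
  have gs : Function.Surjective g := f.subgroupComap_surjective_of_surjective _ c.sur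
  have gk : g.ker = f.ker.subgroupOf K := by
    ext x; exact Subtype.ext_iff
  obtain ⟨x, hx⟩ := c.sur c[0, 1, 2]
  obtain ⟨o, e⟩ := lift3 c.sp f (g := x) (hx ▸ orderOf_eq_prime (by decide) (by decide))
  rw [hx] at e
  have yK : x ^ 4 ∈ K := by
    change f _ ∈ alternatingGroup _
    rw [e]; exact Perm.mem_alternatingGroup.2 (by decide)
  have sc : H83.SC3 (⟨_, yK⟩ : K) := ⟨(orderOf_mk _ _).trans o, fun a ha => by
    replace ha : a * x ^ 4 = x ^ 4 * a := congrArg Subtype.val ha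
    obtain ⟨k, -, hk⟩ := s5_cen (f a) (by rw [← e, ← map_mul, ha, map_mul]) a.2
    have : (a : H) * ((x ^ 4) ^ k)⁻¹ = 1 := (h _ o).le (mem_inf.2 ⟨by
      rw [MonoidHom.mem_ker, map_mul, map_inv, map_pow, e, hk, mul_inv_cancel],
      mul_mem (mem_centralizer_singleton_iff.2 ha) (inv_mem (pow_mem
        (mem_centralizer_singleton_iff.2 rfl) k))⟩)
    exact ⟨k, Subtype.ext (by simpa using (mul_inv_eq_one.1 this).symm)⟩⟩
  have cK : Nat.card K = 60 * Nat.card g.ker := by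
    rw [← g.ker.card_mul_index, index_ker, g.range_eq_top_of_surjective gs, card_top, card_A5, mul_comm]
  obtain ⟨n, hn⟩ := c.two.exists_card_eq
  have cg : Nat.card g.ker = 2 ^ n := by
    rw [gk, Nat.card_congr (subgroupOfEquivOfLe le).toEquiv, hn]
  rcases sc.structure with ⟨N, _, n1, -, n2⟩ | ⟨N, _, n1, n2, -, n3⟩ | ⟨-, n1⟩
  · rcases (Normal.map ‹_› g gs).eq_bot_or_eq_top with k | k
    · have l := card_le_of_le ((Subgroup.map_eq_bot_iff _).1 k)
      have : Nat.card (K ⧸ N) ≤ 6 := by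
        rcases n2 with n2 | ⟨⟨n2⟩⟩
        · omega
        · rw [Nat.card_congr n2.toEquiv, Nat.card_perm, Nat.card_fin]; rfl
      have := Nat.mul_le_mul this l
      rw [← card_eq_card_quotient_mul_card_subgroup N, cK] at this
      have := Nat.card_pos (α := g.ker)
      omega
    · have : Group.IsSolvable A5 := Group.isSolvable_of_surjective (f := g.comp N.subtype) fun a =>
        let ⟨b, hb, e⟩ := k.ge (mem_top a); ⟨⟨b, hb⟩, e⟩
      exact absurd (IsSimpleGroup.comm_iff_isSolvable.2 this) (by decide)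
  · have l : N ≤ g.ker := by
      rcases (Normal.map ‹_› g gs).eq_bot_or_eq_top with k | k
      · exact (Subgroup.map_eq_bot_iff _).1 k
      · obtain ⟨a, ha, e⟩ := k.ge (mem_top (g ⟨_, yK⟩))
        have := congrArg (fun x => (g x : S5)) (n2 a ha)
        simp only [map_pow, e, map_one] at this
        change f (x ^ 4) ^ 2 = 1 at this
        rw [‹f (x ^ 4) = _›] at this
        exact absurd this (by decide)
    have : N = g.ker := eq_of_le_of_card_ge l (by
      have := card_eq_card_quotient_mul_card_subgroup N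
      rw [n3, cK] at this
      omega)
    rw [this, gk] at n1 n2
    exact H12.ea_of (fun a ha b hb => congrArg Subtype.val
      (setLike_mul_comm (s := f.ker.subgroupOf K) (a := ⟨a, le ha⟩) (b := ⟨b, le hb⟩) ha hb))
      fun a ha => congrArg Subtype.val (n2 ⟨a, le ha⟩ ha)
  · omega

theorem jobEL8 : JobEL8.{u} := by
  rintro hX hC hS G _ _ M Q hG h ⟨f, hf, hk⟩
  have c : Cov f := ⟨hG.sp.sub M, hf, hk ▸ isPGroup_subgroupOf h.two M⟩
  have fp : ∀ y ∈ M, orderOf y = 3 → Q ⊓ centralizer ({y} : Set G) = ⊥ := fun y hy o =>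
    eq_bot_iff.2 fun a ha => congrArg Subtype.val ((hX M f c ⟨y, hy⟩ ((orderOf_mk _ _).trans o)).le
      (⟨hk ▸ ha.1, mem_centralizer_singleton_iff.2 (Subtype.ext
        (mem_centralizer_singleton_iff.1 ha.2))⟩ :
        (⟨a, h.le ha.1⟩ : M) ∈ f.ker ⊓ centralizer ({(⟨y, hy⟩ : M)} : Set M)))
  have el := ker_el c (hX M f c)
  rw [hk] at el
  replace el : IsElementaryAbelian 2 Q := H12.ea_of (fun a ha b hb => congrArg Subtype.val
    (have := el.1; setLike_mul_comm (s := Q.subgroupOf M) (a := ⟨a, h.le ha⟩) (b := ⟨b, h.le hb⟩) ha hb))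
    fun a ha => congrArg Subtype.val (el.2 ⟨a, h.le ha⟩ ha)
  obtain ⟨m, hl, rfl | hm⟩ := loc8 hG.sp h el f hk (fun t a b => by
      obtain ⟨σ, s1, s2, s3⟩ := s5_two (f t) a b
      obtain ⟨r, rfl⟩ := hf σ
      rcases s1 with s1 | s1
      · exact ⟨r, s3, fpf5 hG.sp h f s1 s2⟩
      · obtain ⟨o, e⟩ := lift3 c.sp f (g := r) (orderOf_eq_prime s1 s2)
        refine ⟨r ^ 4, e.symm ▸ s3, fp _ (r ^ 4 * r ^ 4).2 ?_⟩
        rw [← orderOf_coe] at o
        rw [← pow_two, (o ▸ by norm_num : (orderOf ((r ^ 4 : M) : G)).Coprime 2).orderOf_pow, o])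
    (by
      obtain ⟨r, e⟩ := hf c[0, 1, 2, 3, 4]
      exact ⟨r, e ▸ ord5 (by decide +kernel) (by decide +kernel)⟩)
    (by
      obtain ⟨r, e⟩ := hf (swap 0 1)
      exact ⟨r, by rw [e]; decide⟩)
  exacts [hS G M Q hG h ⟨f, hf, hk⟩ hl fp, hC G Q m hG hl hm]

end H98.O8e
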