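import Cfsg.Agent.H98.YMin
import Cfsg.Agent.H11.QdSylow
import Cfsg.Agent.H66.SzClass

/-! Root subgroups of the rank one groups `SL₂(q)`, `Sz(q)`, `D_{2r}` and the members of `𝔏_G(Y_M)`. -/

set_option autoImplicit false

namespace H98

open Subgroup Cfsg H12
open scoped commutatorElement MatrixGroups

section RO

variable {X : Type*} [Group X] {p : ℕ}

/-- Two properties of the root subgroup `Y` of a rank one group. -/
structure RO (p : ℕ) (Y : Subgroup X) : Prop where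
  spl : ∀ h : X, (¬ ∃ k : ℕ, h ^ p ^ k = 1) → ∃ (n : ℕ) (u y₁ y₂ g₁ g₂ : X), Commute u (h ^ n) ∧
    (∃ k : ℕ, u ^ p ^ k = 1) ∧ (¬ ∃ k : ℕ, (h ^ n) ^ p ^ k = 1) ∧ y₁ ∈ cj g₁ Y ∧ y₂ ∈ cj g₂ Y ∧
    y₁ ≠ 1 ∧ y₂ ≠ 1 ∧ h ^ n * u = y₁ * y₂
  uniq : ∀ V : Subgroup X, V ≤ normalizer (Y : Set X) → normalizer (Y : Set X) ≤ normalizer (V : Set X) →
    IsElementaryAbelian p V → V ≠ ⊥ → V = Y

theorem RO.map_equiv {X' : Type*} [Group X'] {Y : Subgroup X} (h : RO p Y) (e : X ≃* X') :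
    RO p (Y.map e.toMonoidHom) := by
  refine ⟨fun x hx => ?_, fun V h1 h2 h3 h4 => ?_⟩
  · obtain ⟨x, rfl⟩ := e.surjective x
    obtain ⟨n, u, y₁, y₂, g₁, g₂, a1, ⟨k, a2⟩, a3, a4, a5, a6, a7, a8⟩ := h.spl x fun ⟨k, hk⟩ =>
      hx ⟨k, by rw [← map_pow, hk, map_one]⟩
    refine ⟨n, e u, e y₁, e y₂, e g₁, e g₂, by rw [← map_pow]; exact a1.map e,
      ⟨k, by rw [← map_pow, a2, map_one]⟩, fun ⟨k, hk⟩ => a3 ⟨k, e.injective (by
        rw [map_pow, map_pow, hk, map_one])⟩, ?_, ?_, by simpa using a6, by simpa using a7,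
      by rw [← map_pow, ← map_mul, a8, map_mul]⟩
    · exact (map_cj e.toMonoidHom g₁ Y).le (mem_map_of_mem e.toMonoidHom a4)
    · exact (map_cj e.toMonoidHom g₂ Y).le (mem_map_of_mem e.toMonoidHom a5)
  · obtain ⟨V, rfl⟩ : ∃ W : Subgroup X, W.map e.toMonoidHom = V :=
      ⟨V.comap e.toMonoidHom, map_comap_eq_self_of_surjective e.surjective V⟩
    rw [← map_equiv_normalizer_eq] at h1 h2
    rw [← map_equiv_normalizer_eq] at h2
    rw [h.uniq V ((map_le_map_iff_of_injective e.injective).mp h1)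
      ((map_le_map_iff_of_injective e.injective).mp h2) ((ea_map_iff _ e.injective).mp h3)
      fun e' => h4 (by rw [e', Subgroup.map_bot])]

theorem RO.cj {Y : Subgroup X} (h : RO p Y) (g : X) : RO p (cj g Y) := h.map_equiv (MulAut.conj g)

theorem ro_spl_two [Finite X] {Y : Subgroup X}
    (h : ∀ x : X, Odd (orderOf x) → x ≠ 1 → ∃ g t : X, t ∈ cj g Y ∧ t * t = 1 ∧ t * x * t⁻¹ = x⁻¹)
    (x : X) (hx : ¬ ∃ k : ℕ, x ^ 2 ^ k = 1) : ∃ (n : ℕ) (u y₁ y₂ g₁ g₂ : X), Commute u (x ^ n) ∧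
    (∃ k : ℕ, u ^ 2 ^ k = 1) ∧ (¬ ∃ k : ℕ, (x ^ n) ^ 2 ^ k = 1) ∧ y₁ ∈ cj g₁ Y ∧ y₂ ∈ cj g₂ Y ∧
    y₁ ≠ 1 ∧ y₂ ≠ 1 ∧ x ^ n * u = y₁ * y₂ := by
  obtain ⟨k, hk⟩ := exists_pow_coprime (p := 2) (isOfFinOrder_of_finite x)
  have h1 : ¬ ∃ j : ℕ, (x ^ 2 ^ k) ^ 2 ^ j = 1 := fun ⟨j, hj⟩ => hx ⟨k + j, by rw [pow_add, pow_mul, hj]⟩
  have hodd := Nat.coprime_two_right.mp hk
  obtain ⟨g, t, a1, a2, a3⟩ := h _ hodd fun e => h1 ⟨0, by simpa using e⟩
  generalize hy : x ^ 2 ^ k = y at *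
  obtain ⟨m, hm⟩ := hodd
  have a4 : t * y ^ (m + 1) * t⁻¹ = (y ^ (m + 1))⁻¹ := by rw [← conj_pow, a3, inv_pow]
  have a5 : y ^ (m + 1) * y ^ (m + 1) = y := by
    rw [← pow_add, show m + 1 + (m + 1) = 2 * m + 1 + 1 by ring, ← hm, pow_succ, pow_orderOf_eq_one, one_mul]
  have a6 : t * y = (y ^ (m + 1))⁻¹ * t * (y ^ (m + 1))⁻¹⁻¹ := by
    rw [inv_inv]
    calc t * y = t * (y ^ (m + 1) * y ^ (m + 1)) := by rw [a5]
      _ = (t * y ^ (m + 1) * t⁻¹) * t * y ^ (m + 1) := by group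
      _ = _ := by rw [a4]
  have a7 : t ≠ 1 := fun e => h1 ⟨1, by
    rw [e, one_mul, inv_one, mul_one] at a3
    rw [pow_one, pow_two, ← eq_inv_iff_mul_eq_one]
    exact a3⟩
  refine ⟨2 ^ k, 1, t, t * y, g, (y ^ (m + 1))⁻¹ * g, Commute.one_left _, ⟨0, one_pow _⟩, hy ▸ h1, a1, ?_, a7,
    fun e => a7 ?_, by rw [hy, mul_one, ← mul_assoc, a2, one_mul]⟩
  · rw [a6, ← cj_cj]
    exact conj_mem_cj a1
  · rw [a6] at e
    exact conj_eq_one_iff.mp e

theorem ro_two [Finite X] {Y : Subgroup X} (hc : Nat.card Y = 2) {g : X} (e : Y ⊔ cj g Y = ⊤)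
    (hO : pCore 2 X = ⊥) : RO 2 Y := by
  obtain ⟨t, ht1, ht⟩ : ∃ t : Y, t ≠ 1 ∧ ∀ y : Y, y ≠ 1 → y = t := (Nat.card_eq_two_iff' 1).mp hc
  have hY : ∀ y ∈ Y, y = 1 ∨ y = t := fun y hy => by
    by_cases h : (⟨y, hy⟩ : Y) = 1
    · exact Or.inl (congrArg Subtype.val h)
    · exact Or.inr (congrArg Subtype.val (ht _ h))
  have ht2 : (t : X) * t = 1 := (hY _ (mul_mem t.2 t.2)).resolve_right fun h =>
    ht1 (Subtype.ext (by simpa using h))
  have hti : (t : X)⁻¹ = t := inv_eq_of_mul_eq_one_right ht2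
  set c : X := t * (g * t * g⁻¹) with hcdef
  have hinv : ∀ a ∈ zpowers c, t * a * (t : X)⁻¹ = a⁻¹ := by
    rintro _ ⟨n, rfl⟩
    have : t * c * (t : X)⁻¹ = c⁻¹ := by
      rw [hcdef, ← mul_assoc, ht2, mul_inv_rev, mul_inv_rev, mul_inv_rev, hti]
      group
    simp only
    rw [← conj_zpow, this, inv_zpow]
  have hn : zpowers (t : X) ≤ normalizer (zpowers c : Set X) :=
    zpowers_le.mpr (mem_normalizer_of_cj_le (by
      rw [cj_zpowers, hinv c (mem_zpowers c), zpowers_le]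
      exact inv_mem (mem_zpowers c)))
  have hYt : Y = zpowers (t : X) := le_antisymm (fun y hy => by
    rcases hY y hy with h | h
    · rw [h]; exact one_mem _
    · rw [h]; exact mem_zpowers _) (zpowers_le.mpr t.2)
  have htop : Y ⊔ zpowers c = ⊤ := by
    rw [eq_top_iff, ← e]
    refine sup_le le_sup_left ?_
    conv_lhs => rw [hYt, cj_zpowers]
    rw [zpowers_le, show g * t * g⁻¹ = t * c by rw [hcdef, ← mul_assoc (t : X), ht2, one_mul]]
    exact mul_mem (mem_sup_left t.2) (mem_sup_right (mem_zpowers c))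
  have hcases : ∀ x : X, x ∈ zpowers c ∨ ∃ a ∈ zpowers c, x = t * a := fun x => by
    obtain ⟨y, hy, a, ha, rfl⟩ := (mem_sup_left_norm (hYt.le.trans hn)).mp (htop.ge (mem_top x))
    rcases hY y hy with h | h
    · rw [h, one_mul]; exact Or.inl ha
    · exact Or.inr ⟨a, ha, by rw [h]⟩
  refine ⟨ro_spl_two fun x hx hne => ⟨1, t, by rw [cj_one]; exact t.2, ht2, hinv x ?_⟩, fun V h1 _ h3 h4 => ?_⟩
  · refine (hcases x).resolve_right ?_
    rintro ⟨a, ha, rfl⟩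
    have h2 : (t * a) ^ 2 = 1 := by
      rw [pow_two, show t * a * (t * a) = t * a * (t : X)⁻¹ * a by rw [hti, mul_assoc _ (t : X)], hinv a ha,
        inv_mul_cancel]
    exact hne (H66.eq_one_of_pow_coprime (Nat.coprime_two_left.mpr hx) h2 (pow_orderOf_eq_one _))
  · have hb : ∀ a ∈ zpowers c, ∀ k : ℕ, a ^ 2 ^ k = 1 → a = 1 := fun a ha k hk => by
      have h5 : zpowers a ≤ pCoreOf 2 ⊤ := le_pCoreOf (isPGroup_zpowers hk) le_top (by
        rw [← htop]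
        refine sup_le (hYt.le.trans (zpowers_le.mpr (mem_normalizer_of_cj_le ?_)))
          (le_normalizer_of_le_centralizer ?_)
        · rw [cj_zpowers, hinv a ha, zpowers_le]
          exact inv_mem (mem_zpowers a)
        · rw [centralizer_zpowers, zpowers_le, mem_centralizer_singleton_iff]
          obtain ⟨n, rfl⟩ := ha
          exact (Commute.self_zpow c n).eq)
      rwa [pCoreOf_top, hO, le_bot_iff, zpowers_eq_bot] at h5
    have hp : IsPGroup 2 ↥(V ⊔ Y) :=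
      IsPGroup.to_sup_of_normal_right' (ea_isPGroup h3) (IsPGroup.of_card (n := 1) hc) h1
    have h5 : V ≤ Y := fun v hv => by
      rcases hcases v with h | ⟨a, ha, rfl⟩
      · obtain ⟨k, hk⟩ := isPGroup_iff_forall.mp hp v (mem_sup_left hv)
        rw [hb v h k hk]
        exact one_mem _
      · have h6 : a ∈ V ⊔ Y := (mul_mem_cancel_left (mem_sup_right t.2)).mp (mem_sup_left hv)
        obtain ⟨k, hk⟩ := isPGroup_iff_forall.mp hp a h6
        rw [hb a ha k hk, mul_one]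
        exact t.2
    exact eq_of_le_of_card_ge h5 (by rw [hc]; exact (one_lt_card_iff_ne_bot V).mpr h4)

theorem ro_sz {F : Type*} [Field F] {T : H66.Tits F} (M : H66.Model T X) {m : ℕ} (hT : T.IsFin m)
    {Y : Subgroup X} (hY : IsElementaryAbelian 2 Y) (hc : Nat.card Y = Nat.card F) : RO 2 Y := by
  haveI := hT.finite
  haveI := M.finite
  obtain ⟨x, hx⟩ := M.exists_conj_le_Q hT (ea_isPGroup hY)
  have h1 : Y = (M.conj x).Z := eq_of_le_of_card_ge
    (fun y hy => (M.conj x).mem_Z_of_sq ((M.conj x).Q_le_B (hx hy)) (hY.2 y hy))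
    (by rw [hc, (M.conj x).card_Z])
  rw [h1]
  generalize M.conj x = N
  refine ⟨ro_spl_two fun a ha hne => ?_, fun V h1 h2 h3 h4 => ?_⟩
  · obtain ⟨A, hA, haA⟩ := N.exists_torus_mem_of_odd hT ha
    obtain ⟨t, a1, a2, a3⟩ := N.exists_involution_normalizer hT hA
    obtain ⟨g, hg⟩ := N.exists_conj_mem_Z hT a2
    exact ⟨g, t, (N.conj_Z g).le hg, by rwa [← pow_two], (N.isCC_of_isTorus hT hA).inverts a1 (by rwa [← pow_two])
      (fun h => a3 (H66.Model.eq_one_of_mem_torus hA h (by rw [show 4 = 2 * 2 from rfl, pow_mul, a2, one_pow]))) haA⟩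
  · rw [N.normalizer_Z] at h1 h2
    have h5 : V ≤ N.Z := fun v hv => N.mem_Z_of_sq (h1 hv) (h3.2 v hv)
    refine le_antisymm h5 fun z hz => ?_
    obtain ⟨⟨v, hv⟩, hv1⟩ := ne_bot_iff_exists_ne_one.mp h4
    obtain ⟨b, rfl⟩ := N.mem_Z.mp (h5 hv)
    obtain ⟨d, rfl⟩ := N.mem_Z.mp hz
    by_cases hd : d = 0
    · rw [hd, N.u_eq_one.mpr ⟨rfl, rfl⟩]
      exact one_mem _
    obtain ⟨k, hk⟩ := N.z_conj hT (b := b) fun e => hv1 (Subtype.ext (N.u_eq_one.mpr ⟨rfl, e⟩))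
    obtain ⟨l, hl⟩ := N.z_conj hT hd
    have := conj_mem_of_mem_normalizer (h2 (N.H_le_B (N.h_mem_H l)))
      (conj_mem_of_mem_normalizer' (h2 (N.H_le_B (N.h_mem_H k))) hv)
    rw [hk] at this
    rw [hl]
    simpa [mul_assoc] using this

end RO

section SL

open H11

variable {F : Type*} [Field F]

theorem sl_pow_of_trace {M : SL(2, F)} (h : M 0 0 + M 1 1 = 2) (n : ℕ) :
    (M ^ n) 0 0 = 1 + n * (M 0 0 - 1) ∧ (M ^ n) 0 1 = n * M 0 1 ∧ (M ^ n) 1 0 = n * M 1 0 ∧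
      (M ^ n) 1 1 = 1 + n * (M 1 1 - 1) := by
  induction n with
  | zero => simp
  | succ n ih =>
    obtain ⟨h1, h2, h3, h4⟩ := ih
    have hd := sl_det M
    simp only [pow_succ, sl_mul_apply, h1, h2, h3, h4]
    push_cast
    refine ⟨?_, ?_, ?_, ?_⟩
    · linear_combination (n * M 0 0) * h - n * hd
    · linear_combination (n * M 0 1) * h
    · linear_combination (n * M 1 0) * h
    · linear_combination (n * M 1 1) * h - n * hd

theorem sl_pow_char_of_trace (p : ℕ) [_root_.CharP F p] {M : SL(2, F)} (h : M 0 0 + M 1 1 = 2) : M ^ p = 1 := by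
  obtain ⟨h1, h2, h3, h4⟩ := sl_pow_of_trace h p
  apply sl_ext <;> simp [h1, h2, h3, h4]

theorem sl_prod {M : SL(2, F)} (htr : M 0 0 + M 1 1 ≠ 2) (hns : ¬ (M 0 1 = 0 ∧ M 1 0 = 0 ∧ M 0 0 = M 1 1)) :
    ∃ y₁ y₂ : SL(2, F), y₁ ≠ 1 ∧ y₂ ≠ 1 ∧ y₁ 0 0 + y₁ 1 1 = 2 ∧ y₂ 0 0 + y₂ 1 1 = 2 ∧ M = y₁ * y₂ := by
  have h0 : M 0 0 + M 1 1 - 2 ≠ 0 := sub_ne_zero.mpr htr
  suffices h : ∃ y : SL(2, F), y 0 0 + y 1 1 = 2 ∧ (y⁻¹ * M) 0 0 + (y⁻¹ * M) 1 1 = 2 by
    obtain ⟨y, h1, h2⟩ := h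
    refine ⟨y, y⁻¹ * M, fun e => htr ?_, fun e => htr ?_, h1, h2, (mul_inv_cancel_left _ _).symm⟩
    · simpa [e] using h2
    · rwa [← inv_mul_eq_one.mp e]
  by_cases hc : M 1 0 = 0
  · by_cases hb : M 0 1 = 0
    · have ha : M 0 0 - M 1 1 ≠ 0 := sub_ne_zero.mpr fun e => hns ⟨hb, hc, e⟩
      obtain ⟨x, hx⟩ : ∃ x : F, x * (M 0 0 - M 1 1) = M 0 0 + M 1 1 - 2 := ⟨_, div_mul_cancel₀ _ ha⟩
      let y : SL(2, F) := ⟨!![1 + x, -x; x, 1 - x], by simp [Matrix.det_fin_two]; ring⟩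
      refine ⟨y, by simp [y]; ring, ?_⟩
      rw [sl_mul_apply, sl_mul_apply, sl_inv_00, sl_inv_01, sl_inv_10, sl_inv_11, hb, hc]
      simp [y]
      linear_combination -hx
    · refine ⟨lMat ((M 0 0 + M 1 1 - 2) / M 0 1), by simp; ring, ?_⟩
      simp only [sl_mul_apply, sl_inv_00, sl_inv_01, sl_inv_10, sl_inv_11]
      simp
      field_simp
      ring
  · refine ⟨uMat ((M 0 0 + M 1 1 - 2) / M 1 0), by simp; ring, ?_⟩
    simp only [sl_mul_apply, sl_inv_00, sl_inv_01, sl_inv_10, sl_inv_11]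
    simp
    field_simp
    ring

theorem ro_uSub [Finite F] (p : ℕ) [hp : Fact p.Prime] [_root_.CharP F p] : RO p (uSub F) := by
  have hS : IsSyl p (uSub F) ⊤ := isSyl_sylow (sylU p)
  have hmem : ∀ y : SL(2, F), y 0 0 + y 1 1 = 2 → ∃ g, y ∈ cj g (uSub F) := fun y hy => by
    obtain ⟨g, -, hg⟩ := hS.exists_le_cj (isPGroup_zpowers (k := 1)
      (by rw [pow_one]; exact sl_pow_char_of_trace p hy)) le_top
    exact ⟨g, hg (mem_zpowers y)⟩
  refine ⟨fun M hM => ?_, fun V h1 h2 h3 h4 => ?_⟩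
  · have htr : M 0 0 + M 1 1 ≠ 2 := fun e => hM ⟨1, by rw [pow_one]; exact sl_pow_char_of_trace p e⟩
    by_cases hns : M 0 1 = 0 ∧ M 1 0 = 0 ∧ M 0 0 = M 1 1
    · obtain ⟨hb, hc, ha⟩ := hns
      have hd := sl_det M
      obtain ⟨y₁, y₂, a1, a2, a3, a4, a5⟩ := sl_prod (M := M * lMat 1)
        (by simpa [sl_mul_apply, hb, hc] using htr) (fun h => by
          have h5 := h.2.1
          simp only [sl_mul_apply, hc] at h5
          simp at h5
          simp [hb, h5] at hd)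
      obtain ⟨g₁, b1⟩ := hmem y₁ a3
      obtain ⟨g₂, b2⟩ := hmem y₂ a4
      refine ⟨1, lMat 1, y₁, y₂, g₁, g₂, ?_, ⟨1, by rw [pow_one, lMat_pow]; simp [lMat_zero]⟩,
        by rwa [pow_one], b1, b2, a1, a2, by rwa [pow_one]⟩
      rw [pow_one]
      apply sl_ext <;> simp only [sl_mul_apply, hb, hc, ha] <;> simp
    · obtain ⟨y₁, y₂, a1, a2, a3, a4, a5⟩ := sl_prod htr hns
      obtain ⟨g₁, b1⟩ := hmem y₁ a3
      obtain ⟨g₂, b2⟩ := hmem y₂ a4
      exact ⟨1, 1, y₁, y₂, g₁, g₂, Commute.one_left _, ⟨0, one_pow _⟩, by rwa [pow_one], b1, b2, a1, a2,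
        by rwa [pow_one, mul_one]⟩
  · have h5 : V ≤ uSub F := hS.le_of_le_normalizer' (ea_isPGroup h3) le_top h1
    refine le_antisymm h5 ?_
    obtain ⟨⟨v, hv⟩, hv1⟩ := ne_bot_iff_exists_ne_one.mp h4
    obtain ⟨t, rfl⟩ := mem_uSub.mp (h5 hv)
    have ht : t ≠ 0 := fun e => hv1 (Subtype.ext (by simp [e, uMat_zero]))
    have h6 : ∀ a : F, uMat (a ^ 2 * t) ∈ V := fun a => by
      by_cases ha : a = 0
      · simp [ha, uMat_zero]
      · let g : SL(2, F) := ⟨!![a, 0; 0, a⁻¹], by simp [Matrix.det_fin_two, ha]⟩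
        have := conj_mem_of_mem_normalizer (h2 (mem_normalizer_uSub (g := g) (by simp [g]))) hv
        rwa [conj_uMat_of_10 (by simp [g])] at this
    intro z hz
    obtain ⟨x, rfl⟩ := mem_uSub.mp hz
    by_cases h2' : (2 : F) = 0
    · obtain ⟨a, ha⟩ := FiniteField.isSquare_of_char_two (F := F)
        (ringChar.eq_iff.mpr (CharTwo.of_one_ne_zero_of_two_eq_zero one_ne_zero h2')) (x / t)
      have := h6 a
      rwa [pow_two, ← ha, div_mul_cancel₀ _ ht] at this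
    · have := mul_mem (h6 ((x / t + 1) / 2)) (inv_mem (h6 ((x / t - 1) / 2)))
      rw [← uMat_neg, ← uMat_add] at this
      convert this using 2
      field_simp
      ring

theorem ro_sl [Fintype F] {p : ℕ} [hp : Fact p.Prime] {Y : Subgroup SL(2, F)} (hY : IsPGroup p Y)
    (hc : Nat.card Y = Fintype.card F) : RO p Y := by
  obtain ⟨k, hk⟩ := IsPGroup.iff_card.mp hY
  haveI : _root_.CharP F p := charP_of_card_eq_prime_pow (hc.symm.trans hk)
  have hS : IsSyl p (uSub F) ⊤ := isSyl_sylow (sylU p)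
  obtain ⟨g, -, rfl⟩ := hS.exists_cj_eq (hS.of_card_ge hY le_top (by rw [card_uSub, hc, Nat.card_eq_fintype_card]))
  exact (ro_uSub p).cj g

end SL

variable {G : Type*} [Group G] {p : ℕ} [hp : Fact p.Prime] [Finite G]

theorem frakL_qm {M L : Subgroup G} (h : IsInFrakL p M L) : QM p (largestPReducedOf p M) L :=
  ⟨qp_pCoreOf h.1 (pred_Y M).ea h.2.2.1, ((isMinimalOver_subgroupOf_iff h.1).mp h.2.2.2.1).1,
    ⟨le_inf h.1 le_normalizer, h.2.2.2.2.2.1.1, h.2.2.2.2.2.1.2⟩⟩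

theorem frakL_ncl {M L : Subgroup G} (h : IsInFrakL p M L) :
    ncl L (largestPReducedOf p M ⊓ pCoreOf p L) = pCoreOf p L := by
  rw [← map_normalClosure_subgroupOf (inf_le_left.trans h.1)]
  exact h.2.1.symm

theorem QM.not_le {Y L : Subgroup G} (h : QM p Y L) : ¬ Y ≤ pCoreOf p L := fun hle => by
  have h1 : IsPGroup p L := (isPGroup_pCoreOf L).to_le (h.gen.ge.trans (ncl_le hle h.qp.norm))
  refine h.um.lt.not_ge (le_inf le_rfl ?_)
  rw [← pCoreOf_eq_self h1]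
  exact h.qp.normY'

theorem frakL_ro {M L : Subgroup G} (h : IsInFrakL p M L) :
    RO p (((largestPReducedOf p M).subgroupOf L).map (QuotientGroup.mk' (pCore p L))) := by
  have q := frakL_qm h
  have h1 := h.2.2.2.2.2.2
  generalize largestPReducedOf p M = Y at *
  set f := QuotientGroup.mk' (pCore p L)
  have hea := ea_map (ea_subgroupOf q.qp.ea L) f
  have hc : Nat.card ((Y.subgroupOf L).map f) = (Y ⊓ pCoreOf p L).relIndex Y := by
    rw [← relIndex_ker, QuotientGroup.ker_mk', inf_relIndex_left, ← pCoreOf_subgroupOf,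
      relIndex_subgroupOf q.qp.le]
  have h2 : p = 2 → Nat.card ((Y.subgroupOf L).map f) = 2 → RO p ((Y.subgroupOf L).map f) := by
    rintro rfl hc2
    obtain ⟨g, hg, hg'⟩ := SetLike.exists_of_lt q.um.lt
    refine ro_two hc2 (g := f ⟨g, hg⟩) ?_ (H2.pCore_quotient_pCore _ _)
    rw [← map_cj, ← Subgroup.map_sup, ← map_top_of_surjective f (QuotientGroup.mk'_surjective _)]
    congr 1
    refine map_injective L.subtype_injective ?_
    rw [Subgroup.map_sup, map_cj, map_subgroupOf_eq_of_le q.qp.le, map_subtype_top]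
    exact q.um.sup_cj_eq q.gen hg hg'
  have hback : ∀ {X : Type} [Group X] (e : (L ⧸ pCore p L) ≃* X),
      RO p (((Y.subgroupOf L).map f).map e.toMonoidHom) → RO p ((Y.subgroupOf L).map f) := fun e h => by
    have := h.map_equiv e.symm
    rwa [map_map, show e.symm.toMonoidHom.comp e.toMonoidHom = MonoidHom.id _ by ext; simp,
      Subgroup.map_id] at this
  rcases h1 with ⟨F, _, _, a1, ⟨e⟩⟩ | ⟨rfl, F, _, _, m, a1, a2, ⟨e⟩⟩ | ⟨rfl, r, a1, a2, ⟨e⟩⟩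
  · exact hback e (ro_sl ((ea_isPGroup hea).map _) (by
      rw [card_map_of_injective e.injective, hc, a1]))
  · rcases Nat.eq_zero_or_pos m with rfl | hm
    · exact h2 rfl (by rw [hc, ← a2, a1]; rfl)
    · exact hback e (ro_sz (H66.modelB (H66.titsOf_isFin F hm a1)) (H66.titsOf_isFin F hm a1) (ea_map hea _)
        (by rw [card_map_of_injective e.injective, hc, ← a2, Nat.card_eq_fintype_card]))
  · refine h2 rfl ?_
    obtain ⟨k, hk⟩ := IsPGroup.iff_card.mp (ea_isPGroup hea)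
    have h3 := card_subgroup_dvd_card ((Y.subgroupOf L).map f)
    rw [Nat.card_congr e.toEquiv, DihedralGroup.nat_card, hk] at h3
    rw [hk]
    rcases k with _ | _ | k
    · rw [pow_zero, card_eq_one, Subgroup.map_eq_bot_iff, QuotientGroup.ker_mk', ← pCoreOf_subgroupOf] at hk
      exact absurd (fun y hy => hk (show (⟨y, q.qp.le hy⟩ : L) ∈ _ from hy)) q.not_le
    · rfl
    · rw [pow_succ', pow_succ'] at h3
      exact absurd ((Nat.prime_dvd_prime_iff_eq Nat.prime_two a1).mp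
        ((Dvd.intro _ rfl).trans (Nat.dvd_of_mul_dvd_mul_left two_pos h3))).symm a2

end H98
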