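import Cfsg.Agent.H67.SAST

/-! STD-A tower: monomial elements of `SL_(n+1)(F)` permute the big root subgroups. -/

set_option autoImplicit false
set_option linter.unusedSectionVars false

namespace H98.Sa

open H64.SG (Cz Cs Ns Is2 Inv2 mem_Cs mem_Cz is2_of_sq)
open H67.SA Subgroup

universe u

section Gen

variable {G : Type u} [Group G] {a a' b b' : G}

theorem map_cm (φ : MulAut G) (a b : G) : φ (cm a b) = cm (φ a) (φ b) := by
  simp only [cm, map_mul, map_inv]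

theorem cm_mul_left (h : Commute a (cm a' b)) : cm (a * a') b = cm a' b * cm a b := by
  rw [show cm (a * a') b = a * cm a' b * a⁻¹ * cm a b by simp only [cm]; group, h.eq,
    mul_inv_cancel_right]

theorem cm_mul_right (h : Commute b (cm a b')) : cm a (b * b') = cm a b * cm a b' := by
  rw [show cm a (b * b') = cm a b * (b * cm a b' * b⁻¹) by simp only [cm]; group, h.eq,
    mul_inv_cancel_right]

theorem inv_sq (h : a * a = 1) : a⁻¹ = a := inv_eq_of_mul_eq_one_left h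

end Gen

variable {n : ℕ} {F : Type} [Field F] [Finite F] [_root_.CharP F 2] {G : Type u} [Group G]
  {e : SLn n F →* G} {t w : G} {g g' : SLn n F} {π π' : Equiv.Perm (Fin (n + 1))}
  {d d' : Fin (n + 1) → Fˣ} {i j k l : Fin (n + 1)}

/-- conjugation by `e g` -/
abbrev κ (e : SLn n F →* G) (g : SLn n F) : MulAut G := MulAut.conj (e g)

theorem κ_mul (g g' : SLn n F) (w : G) : κ e (g * g') w = κ e g (κ e g' w) := by
  simp only [κ, map_mul, MulAut.mul_apply]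

theorem κ_e (g s : SLn n F) : κ e g (e s) = e (g * s * g⁻¹) := by simp

theorem κ_t (h : B1 e t) (g : SLn n F) : κ e g t = t := h.conj_t g

theorem κ_of_Cs {P : Subgroup (SLn n F)} (h : w ∈ Cs (P.map e)) (hg : g ∈ P) : κ e g w = w := by
  rw [MulAut.conj_apply, mem_Cs_map.1 h g hg, mul_inv_cancel_right]

theorem κ_inv_κ (g : SLn n F) (w : G) : κ e g⁻¹ (κ e g w) = w := by
  rw [← κ_mul, inv_mul_cancel]; simp

theorem κ_κ_inv (g : SLn n F) (w : G) : κ e g (κ e g⁻¹ w) = w := by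
  rw [← κ_mul, mul_inv_cancel]; simp

/-- `g` is monomial with permutation `π` and weights `d`. -/
def Mon (g : SLn n F) (π : Equiv.Perm (Fin (n + 1))) (d : Fin (n + 1) → Fˣ) : Prop :=
  ∀ a b (c : F), g * x a b c * g⁻¹ = x (π a) (π b) (d a * c * ((d b)⁻¹ : Fˣ))

theorem mon_pm (π : Equiv.Perm (Fin (n + 1))) : Mon (pm (F := F) π) π 1 := fun a b c => by
  simp [pm_conj]

theorem mon_hd (d : Fin (n + 1) → Fˣ) (h : ∏ i, d i = 1) : Mon (hd d h) 1 d := hd_conj d h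

theorem mon_hh (h : i ≠ j) (b : Fˣ) :
    Mon (hh i j b) 1 fun a => if a = i then b else if a = j then b⁻¹ else 1 :=
  hh_eq h b ▸ mon_hd _ _

theorem Mon.mul (h : Mon g π d) (h' : Mon g' π' d') :
    Mon (g * g') (π * π') fun a => d (π' a) * d' a := fun a b c => by
  rw [show g * g' * x a b c * (g * g')⁻¹ = g * (g' * x a b c * g'⁻¹) * g⁻¹ by group, h', h]
  congr 1
  simp only [Units.val_mul, mul_inv_rev]; ring

theorem Mon.inv (h : Mon g π d) : Mon g⁻¹ π⁻¹ fun a => (d (π⁻¹ a))⁻¹ := fun a b c => by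
  have := h (π⁻¹ a) (π⁻¹ b) (((d (π⁻¹ a))⁻¹ : Fˣ) * c * d (π⁻¹ b))
  rw [show (d (π⁻¹ a) : F) * (((d (π⁻¹ a))⁻¹ : Fˣ) * c * d (π⁻¹ b)) * ((d (π⁻¹ b))⁻¹ : Fˣ) = c by
    simp only [Units.val_inv_eq_inv_val]; field_simp] at this
  simp only [Equiv.Perm.coe_inv, Equiv.apply_symm_apply, inv_inv] at this ⊢
  rw [← this]; group

theorem Mon.pow (h : Mon g 1 d) (m : ℕ) : Mon (g ^ m) 1 (d ^ m) := by
  induction m with
  | zero => intro a b c; simp
  | succ m ih => rw [pow_succ, pow_succ]; exact ih.mul h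

theorem Mon.κ_x (h : Mon g π d) (a b : Fin (n + 1)) (c : F) :
    κ e g (e (x a b c)) = e (x (π a) (π b) (d a * c * ((d b)⁻¹ : Fˣ))) := by rw [κ_e, h]

theorem Mon.exists_x (h : Mon g π d) (a b : Fin (n + 1)) (c : F) :
    ∃ c', κ e g (e (x (π⁻¹ a) (π⁻¹ b) c')) = e (x a b c) :=
  ⟨_, by rw [← h.inv.κ_x, κ_κ_inv]⟩

theorem exists_perm3 (h1 : i ≠ j) (h2 : j ≠ k) (h3 : i ≠ k) {i' j' k' : Fin (n + 1)} (h1' : i' ≠ j')
    (h2' : j' ≠ k') (h3' : i' ≠ k') :
    ∃ π : Equiv.Perm (Fin (n + 1)), π i = i' ∧ π j = j' ∧ π k = k' := by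
  obtain ⟨π, hπ⟩ := Equiv.Perm.exists_extending_pair (f := ![i, j, k]) (g := ![i', j', k'])
    (fun a b => by fin_cases a <;> fin_cases b <;> simp [*, h1.symm, h2.symm, h3.symm])
    (fun a b => by fin_cases a <;> fin_cases b <;> simp [*, h1'.symm, h2'.symm, h3'.symm])
  exact ⟨π, hπ 0, hπ 1, hπ 2⟩

theorem exists_perm2 (hn : 2 ≤ n) (h1 : i ≠ j) (h2 : k ≠ l) :
    ∃ π : Equiv.Perm (Fin (n + 1)), π i = k ∧ π j = l := by
  obtain ⟨r, r1, r2⟩ := exists_third hn i j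
  obtain ⟨s, s1, s2⟩ := exists_third hn k l
  obtain ⟨π, e1, e2, -⟩ := exists_perm3 h1 r2.symm r1.symm h2 s2.symm s1.symm
  exact ⟨π, e1, e2⟩

theorem exists_mon (hn : 2 ≤ n) (h1 : i ≠ j) (h2 : k ≠ l) (c : Fˣ) :
    ∃ (g : SLn n F) (π : _) (d : _), Mon g π d ∧ π i = k ∧ π j = l ∧ d i = c * d j := by
  obtain ⟨r, r1, r2⟩ := exists_third hn i j
  obtain ⟨π, e1, e2⟩ := exists_perm2 hn h1 h2
  exact ⟨_, _, _, (mon_pm π).mul (mon_hh r1.symm c), e1, e2, by simp [h1.symm, r2.symm]⟩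

theorem x_eq_x (h1 : i ≠ j) (h2 : k ≠ l) (h : i ≠ k ∨ j ≠ l) {a b : F} (r : x i j a = x k l b) :
    a = 0 := by
  have := congrArg (fun g : SLn n F => g.1 i j) r
  simp only [x_apply_same h1, x_apply h2, if_neg h1] at this
  rw [this, zero_add, if_neg]
  rintro ⟨rfl, rfl⟩
  simp at h

/-- The defining property of the big root subgroup. -/
def InA (e : SLn n F →* G) (t : G) (i j : Fin (n + 1)) (w : G) : Prop :=
  w * w = 1 ∧ w ∈ Cs ((P0 n F i j).map e) ∧ (∃ c, w * t * w⁻¹ = t * e (x i j c)) ∧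
    ∀ c, w ≠ t * e (x i j c)

theorem Mon.cs (h : Mon g π d) (hw : w ∈ Cs ((P0 n F i j).map e)) :
    κ e g w ∈ Cs ((P0 n F (π i) (π j)).map e) := mem_Cs_map_Pat.2 fun a b hab hs c => by
  obtain ⟨c', e1⟩ := h.exists_x (e := e) a b c
  rw [← e1, ← map_mul, ← map_mul, mem_Cs_map_Pat.1 hw _ _ (π⁻¹.injective.ne hab)
    ⟨fun r => hs.1 (by rw [← r]; simp), fun r => hs.2 (by rw [← r]; simp)⟩]

theorem Mon.dl (b : B1 e t) (h : Mon g π d) {c : F} (hw : w * t * w⁻¹ = t * e (x i j c)) :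
    κ e g w * t * (κ e g w)⁻¹ = t * e (x (π i) (π j) (d i * c * ((d j)⁻¹ : Fˣ))) := by
  rw [← h.κ_x, ← κ_t b g, ← map_mul, ← map_inv, ← map_mul, hw, map_mul]

theorem Mon.inA (b : B1 e t) (h : Mon g π d) (hw : InA e t i j w) :
    InA e t (π i) (π j) (κ e g w) := by
  obtain ⟨h1, h2, ⟨c, h3⟩, h4⟩ := hw
  refine ⟨by rw [← map_mul, h1, map_one], h.cs h2, ⟨_, h.dl b h3⟩, fun c' r => ?_⟩
  obtain ⟨c'', e1⟩ := h.exists_x (e := e) (π i) (π j) c'
  rw [← e1, ← κ_t b g, ← map_mul] at r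
  exact h4 c'' (by simpa using (κ e g).injective r)

theorem e_central (hn : 2 ≤ n) (b : CH e t) (hg : g ∈ center (SLn n F)) :
    e g = 1 :=
  (b.ck _ (b.mem_Cz g) ((e_mem_Cs hn b.ker).2 hg)).resolve_right
    fun r => b.toB1.not_mem hn ⟨g, r⟩

theorem Mon.e_pow (hn : 2 ≤ n) (b : CH e t) (h : Mon g 1 d) : e g ^ (Nat.card F - 1) = 1 := by
  rw [← map_pow]
  refine e_central hn b (mem_center_iff.2 fun s => ?_)
  have h1 : d ^ (Nat.card F - 1) = 1 := funext fun a => by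
    rw [Pi.pow_apply, ← Nat.card_units, pow_card_eq_one', Pi.one_apply]
  refine mem_Cs.1 (mem_Cs_Pat.2 fun a b _ _ c => ?_ : _ ∈ Cs (Pat n F fun _ _ => True)) s
    (Pat_top (n := n) (F := F) ▸ mem_top s)
  have := h.pow (Nat.card F - 1) a b c
  rw [h1] at this
  simpa [eq_mul_inv_iff_mul_eq] using this.symm

theorem comm_of_sq {a w : G} {m : ℕ} (hm : Odd m) (h : a ^ m = 1) (h2 : Commute (a * a) w) :
    Commute a w := by
  obtain ⟨k, rfl⟩ := hm
  have := (h2.pow_left k).inv_left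
  rwa [← pow_two, ← pow_mul, inv_eq_of_mul_eq_one_right ((pow_succ a _).symm.trans h)] at this

end H98.Sa
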