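import Cfsg.Agent.H98.SaMon

/-! STD-A tower, `JobP2b`, part 1: an abelian subgroup of index two. -/

set_option autoImplicit false

namespace H98.Sa

open H67.SA Subgroup

universe u

variable {G : Type u} [Group G] {t u v w : G} {E H : Subgroup G} {r : G → G}

/-- the displacement of `t` -/
def dl (t w : G) : G := t * (w * t * w⁻¹)

theorem dl_iff (h : t * t = 1) : dl t w = v ↔ w * t * w⁻¹ = t * v := by
  rw [dl, ← eq_inv_mul_iff_mul_eq, inv_sq h]

theorem dl_mul (h : t * t = 1) (c : Commute (dl t v) u) : dl t (u * v) = dl t u * dl t v := by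
  rw [dl, show u * v * t * (u * v)⁻¹ = u * (v * t * v⁻¹) * u⁻¹ by group, (dl_iff h).1 rfl,
    ← mul_assoc u, mul_assoc (u * t), c.inv_right.eq]
  simp only [dl, mul_assoc]

theorem dl_of_comm (h : t * t = 1) (c : Commute w t) : dl t w = 1 := by
  rw [dl, c.eq, mul_inv_cancel_right, h]

theorem comm_of_dl (h : t * t = 1) (c : dl t w = 1) : Commute w t := by
  rw [dl_iff h, mul_one, mul_inv_eq_iff_eq_mul] at c; exact c

theorem sq_t (t w : G) : t * w * (t * w) = dl t w * (w * w) := by rw [dl]; group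

structure QS (t : G) (E H : Subgroup G) (r : G → G) : Prop where
  tt : t * t = 1
  tE : t ∉ E
  sq : ∀ v ∈ E, v * v = 1
  le : E ≤ H
  tH : t ∈ H
  cen : ∀ v ∈ E, ∀ w ∈ H, Commute v w
  dm : ∀ w ∈ H, dl t w ∈ E
  ker : ∀ w ∈ H, Commute w t → w ∈ E ∨ t * w ∈ E
  rm : ∀ v ∈ E, r v ∈ E
  add : ∀ u ∈ E, ∀ v ∈ E, r (u * v) = r u * r v
  ex : ∀ v ∈ E, v ≠ 1 → ∃ w ∈ H, dl t w = v ∧ w * w = r v
  big : ∀ a b : G, ∃ v ∈ E, v ≠ 1 ∧ v ≠ a ∧ v ≠ b

/-- the elements with the prescribed square -/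
def SS (t : G) (H : Subgroup G) (r : G → G) (w : G) : Prop := w ∈ H ∧ w * w = r (dl t w)

namespace QS

variable (h : QS t E H r)
include h

theorem r1 : r 1 = 1 := by
  have := h.add 1 E.one_mem 1 E.one_mem
  rw [mul_one] at this
  exact left_eq_mul.1 this

theorem mul (hu : u ∈ H) (hv : v ∈ H) : dl t (u * v) = dl t u * dl t v :=
  dl_mul h.tt (h.cen _ (h.dm v hv) u hu)

theorem dl_E (hv : v ∈ E) : dl t v = 1 := dl_of_comm h.tt (h.cen v hv t h.tH)

theorem dl_t (hw : w ∈ H) : dl t (t * w) = dl t w := by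
  rw [h.mul h.tH hw, dl_of_comm h.tt (Commute.refl t), one_mul]

theorem dl_inv (hw : w ∈ H) : dl t w⁻¹ = dl t w := by
  have := h.mul (inv_mem hw) hw
  rw [inv_mul_cancel, h.dl_E E.one_mem, ← h.sq _ (h.dm w hw)] at this
  exact (mul_right_cancel this).symm

theorem diff (hu : u ∈ H) (hv : v ∈ H) (e : dl t u = dl t v) : u * v⁻¹ ∈ E ∨ t * u * v⁻¹ ∈ E :=
  mul_assoc t u _ ▸ h.ker _ (mul_mem hu (inv_mem hv)) (comm_of_dl h.tt (by
    rw [h.mul hu (inv_mem hv), h.dl_inv hv, e, h.sq _ (h.dm v hv)]))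

theorem sq_eq (hv : v ∈ H) (e : u * v⁻¹ ∈ E) : u * u = v * v := by
  conv_lhs => rw [← inv_mul_cancel_right u v, ← (h.cen _ e v hv).mul_mul_mul_comm, h.sq _ e, one_mul]

theorem dich (hw : w ∈ H) : SS t H r w ∨ SS t H r (t * w) := by
  rw [SS, SS, h.dl_t hw]
  refine Or.imp (fun e => ⟨hw, e⟩) (fun e => ⟨mul_mem h.tH hw, e⟩) ?_
  by_cases e : dl t w = 1
  · rw [e, h.r1]
    exact (h.ker w hw (comm_of_dl h.tt e)).imp (h.sq _) (h.sq _)
  obtain ⟨y, hy, e1, e2⟩ := h.ex _ (h.dm w hw) e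
  exact (h.diff hw hy e1.symm).imp (fun e => (h.sq_eq hy e).trans e2) fun e => (h.sq_eq hy e).trans e2

theorem sq_of (s : SS t H r (t * w)) (hw : w ∈ H) : w * w = dl t w * r (dl t w) := by
  have := s.2
  rw [sq_t, h.dl_t hw] at this
  rw [← this, ← mul_assoc, h.sq _ (h.dm w hw), one_mul]

theorem sq_mem (hw : w ∈ H) : w * w ∈ E := by
  rcases h.dich hw with s | s
  · exact s.2 ▸ h.rm _ (h.dm w hw)
  · exact h.sq_of s hw ▸ mul_mem (h.dm w hw) (h.rm _ (h.dm w hw))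

theorem cm_eq (hu : u ∈ H) (hv : v ∈ H) : cm u v = u * v * (u * v) * (u * u * (v * v))⁻¹ := by
  rw [show u * u * (v * v) = u * u * v * v by group, (h.cen _ (h.sq_mem hu) v hv).eq, cm]; group

theorem cm_mem (hu : u ∈ H) (hv : v ∈ H) : cm u v ∈ E :=
  h.cm_eq hu hv ▸ mul_mem (h.sq_mem (mul_mem hu hv)) (inv_mem (mul_mem (h.sq_mem hu) (h.sq_mem hv)))

theorem cm_S (su : SS t H r u) (sv : SS t H r v) : cm u v = 1 ∨ cm u v = dl t u * dl t v := by
  have hm := mul_mem su.1 sv.1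
  rw [h.cm_eq su.1 sv.1, su.2, sv.2, ← h.add _ (h.dm u su.1) _ (h.dm v sv.1), ← h.mul su.1 sv.1]
  exact (h.dich hm).imp (fun s => by rw [s.2, mul_inv_cancel])
    fun s => by rw [h.sq_of s hm, mul_inv_cancel_right]

theorem cm_mul (hu : u ∈ H) (hv : v ∈ H) (hw : w ∈ H) : cm u (v * w) = cm u v * cm u w :=
  cm_mul_right (h.cen _ (h.cm_mem hu hw) v hv).symm

theorem cm_t (hu : u ∈ H) (hw : w ∈ H) : cm u (t * w) = dl t u * cm u w := by
  rw [h.cm_mul hu h.tH hw, cm, (dl_iff h.tt).1 rfl, ← (h.cen _ (h.dm u hu) t h.tH).eq,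
    mul_inv_cancel_right]

theorem eq_of_mul (hv : v ∈ E) (e : u * v = 1) : u = v := mul_right_cancel (e.trans (h.sq v hv).symm)

theorem step {v' : G} (su : SS t H r u) (sv : SS t H r v) (sv' : SS t H r v') (h1 : dl t v ≠ 1)
    (h2 : dl t v' ≠ 1) (h3 : dl t u ≠ dl t v) (h4 : dl t u ≠ dl t v') (c : cm u v = 1) :
    cm u v' = 1 := by
  refine (h.cm_S su sv').resolve_right fun c' => ?_
  have hm := mul_mem sv.1 sv'.1
  have e := h.cm_mul su.1 sv.1 sv'.1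
  rw [c, c', one_mul] at e
  rcases h.dich hm with s | s
  · rcases h.cm_S su s with e1 | e1 <;> rw [e] at e1
    · exact h4 (h.eq_of_mul (h.dm _ sv'.1) e1)
    · rw [h.mul sv.1 sv'.1] at e1
      exact h1 (right_eq_mul.1 (mul_left_cancel e1))
  · rcases h.cm_S su s with e1 | e1 <;>
      rw [h.cm_t su.1 hm, e, ← mul_assoc, h.sq _ (h.dm u su.1), one_mul] at e1
    · exact h2 e1
    · rw [h.dl_t hm, h.mul sv.1 sv'.1, ← mul_assoc] at e1
      exact h3 (h.eq_of_mul (h.dm _ sv.1) (right_eq_mul.1 e1))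

theorem main : (∀ u v, SS t H r u → SS t H r v → dl t u ≠ 1 → dl t v ≠ 1 → Commute u v) ∨
    ∀ u v, SS t H r u → SS t H r v → dl t u ≠ 1 → dl t v ≠ 1 → cm u v = dl t u * dl t v := by
  have eq : ∀ {u v}, SS t H r u → SS t H r v → dl t u = dl t v → cm u v = 1 := fun su sv e =>
    (h.cm_S su sv).elim id fun c => by rw [c, e, h.sq _ (h.dm _ sv.1)]
  have sy : ∀ {u v : G}, cm u v = 1 → cm v u = 1 := fun c => cm_eq_one.2 (cm_eq_one.1 c).symm
  by_cases c : ∃ u v, SS t H r u ∧ SS t H r v ∧ dl t u ≠ 1 ∧ dl t v ≠ 1 ∧ dl t u ≠ dl t v ∧ cm u v = 1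
  · obtain ⟨u, v, su, sv, u1, v1, uv, c⟩ := c
    refine Or.inl fun u' v' su' sv' u1' v1' => cm_eq_one.1 ?_
    by_cases e : dl t u' = dl t v'
    · exact eq su' sv' e
    obtain ⟨a, ha, a1, a2, a3⟩ := h.big (dl t u) (dl t u')
    obtain ⟨y, hy, rfl, e2⟩ := h.ex a ha a1
    have sy' : SS t H r y := ⟨hy, e2⟩
    exact h.step su' sy' sv' a1 v1' a3.symm e (sy (h.step sy' su su' u1 u1' a2 a3
      (sy (h.step su sv sy' v1 a1 uv a2.symm c))))
  · refine Or.inr fun u v su sv u1 v1 => ?_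
    by_cases e : dl t u = dl t v
    · rw [eq su sv e, e, h.sq _ (h.dm _ sv.1)]
    · exact (h.cm_S su sv).resolve_left fun c' => c ⟨u, v, su, sv, u1, v1, e, c'⟩

theorem shift {r' : G → G} (hr : ∀ v ∈ E, r' v = v * r v) : QS t E H r' :=
  { h with
    rm := fun v hv => hr v hv ▸ mul_mem hv (h.rm v hv)
    add := fun u hu v hv => by
      rw [hr _ (mul_mem hu hv), hr u hu, hr v hv, h.add u hu v hv,
        (h.cen v hv _ (h.le (h.rm u hu))).mul_mul_mul_comm]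
    ex := fun v hv v1 => by
      obtain ⟨w, hw, e1, e2⟩ := h.ex v hv v1
      exact ⟨t * w, mul_mem h.tH hw, by rw [h.dl_t hw, e1], by rw [sq_t, e1, e2, hr v hv]⟩ }

theorem main' {r' : G → G} (hr : ∀ v ∈ E, r' v = v * r v) :
    (∀ u v, SS t H r u → SS t H r v → dl t u ≠ 1 → dl t v ≠ 1 → Commute u v) ∨
    ∀ u v, SS t H r' u → SS t H r' v → dl t u ≠ 1 → dl t v ≠ 1 → Commute u v := by
  refine h.main.imp_right fun c u v su sv u1 v1 => cm_eq_one.1 ?_
  have k : ∀ {u}, SS t H r' u → SS t H r (t * u) := fun {u} s => ⟨mul_mem h.tH s.1, by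
    rw [sq_t, s.2, hr _ (h.dm u s.1), ← mul_assoc, h.sq _ (h.dm u s.1), one_mul, h.dl_t s.1]⟩
  have e := c _ _ (k su) (k sv) (by rwa [h.dl_t su.1]) (by rwa [h.dl_t sv.1])
  rw [h.cm_t (k su).1 sv.1, h.dl_t sv.1, mul_right_inj] at e
  have e1 := h.cm_t sv.1 su.1
  rw [show cm v (t * u) = (cm (t * u) v)⁻¹ by simp only [cm]; group, e,
    inv_sq (h.sq _ (h.dm v sv.1)), left_eq_mul] at e1
  exact cm_eq_one.2 (cm_eq_one.1 e1).symm

end QS

/-- With all elements of `SS` commuting. -/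
structure QA (t : G) (E H : Subgroup G) (r : G → G) : Prop extends QS t E H r where
  comm : ∀ u v, SS t H r u → SS t H r v → dl t u ≠ 1 → dl t v ≠ 1 → Commute u v

/-- membership in the abelian subgroup -/
def WW (t : G) (E H : Subgroup G) (r : G → G) (w : G) : Prop := SS t H r w ∧ t * w ∉ E

namespace QA

variable (h : QA t E H r)
include h

theorem mem_E (hw : WW t E H r w) (e : dl t w = 1) : w ∈ E :=
  (h.ker w hw.1.1 (comm_of_dl h.tt e)).resolve_right hw.2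

theorem comm' (hu : WW t E H r u) (hv : WW t E H r v) : Commute u v := by
  by_cases e : dl t u = 1
  · exact h.cen u (h.mem_E hu e) v hv.1.1
  by_cases e' : dl t v = 1
  · exact (h.cen v (h.mem_E hv e') u hu.1.1).symm
  exact h.comm u v hu.1 hv.1 e e'

theorem of_E (hv : v ∈ E) : WW t E H r v :=
  ⟨⟨h.le hv, by rw [h.dl_E hv, h.r1, h.sq v hv]⟩, fun e => h.tE ((mul_mem_cancel_right hv).1 e)⟩

theorem mul' (hu : WW t E H r u) (hv : WW t E H r v) : WW t E H r (u * v) := by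
  have c := h.comm' hu hv
  refine ⟨⟨mul_mem hu.1.1 hv.1.1, ?_⟩, fun e => hu.2 ?_⟩
  · rw [h.mul hu.1.1 hv.1.1, h.add _ (h.dm u hu.1.1) _ (h.dm v hv.1.1), ← hu.1.2, ← hv.1.2,
      c.symm.mul_mul_mul_comm]
  have c1 := ((h.cen _ e v hv.1.1).mul_left (c.mul_left (Commute.refl v)).inv_left).symm
  rw [mul_inv_cancel_right] at c1
  exact (mul_mem_cancel_right (h.mem_E hv (dl_of_comm h.tt c1))).1 (mul_assoc t u v ▸ e)

theorem inv' (hu : WW t E H r u) : WW t E H r u⁻¹ := by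
  have s := h.sq_mem hu.1.1
  rw [show u⁻¹ = u * (u * u)⁻¹ by group]
  exact h.mul' hu (h.of_E (inv_mem s))

theorem dich' (hw : w ∈ H) : WW t E H r w ∨ WW t E H r (t * w) := by
  by_cases e : w ∈ E
  · exact Or.inl (h.of_E e)
  by_cases e' : t * w ∈ E
  · exact Or.inr (h.of_E e')
  exact (h.dich hw).imp (fun s => ⟨s, e'⟩) fun s => ⟨s, by rwa [← mul_assoc, h.tt, one_mul]⟩

theorem diff' (hu : WW t E H r u) (hv : WW t E H r v) (e : dl t u = dl t v) : u * v⁻¹ ∈ E :=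
  (h.diff hu.1.1 hv.1.1 e).resolve_right (mul_assoc t u _ ▸ (h.mul' hu (h.inv' hv)).2)

end QA

end H98.Sa
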