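import Cfsg.Agent.H98.ZjSpec

/-! Failure of fusion control by `Z(J(S))`: the inner induction. -/

set_option autoImplicit false

namespace H98.Zj

open Cfsg Cfsg.FusionSystem H92 H94

universe u

section

variable {Ω : Type*} [Group Ω] {S T P Q R V Z : Subgroup Ω} {F : FusionSystem S} {f g : Ω → Ω}
  {p : ℕ}

/-- All injective maps that preserve `Z`. -/
def zSys (Z : Subgroup Ω) : FusionSystem (Subgroup.normalizer (Z : Set Ω)) :=
  SysData.sys
    { M := fun P f => P ≤ Subgroup.normalizer (Z : Set Ω) ∧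
        (∀ x ∈ P, f x ∈ Subgroup.normalizer (Z : Set Ω)) ∧
        MulOn P f ∧ Set.InjOn f P ∧ ∀ x ∈ P, f x ∈ Z ↔ x ∈ Z
      le := fun h => h.1
      mem := fun h => h.2.1
      mulOn := fun h => h.2.2.1
      injOn := fun h => h.2.2.2.1
      congr := fun h e => ⟨h.1, fun x hx => e x hx ▸ h.2.1 x hx, h.2.2.1.congr e,
        h.2.2.2.1.congr e, fun x hx => e x hx ▸ h.2.2.2.2 x hx⟩
      conj := fun {P s} hP hs => ⟨hP, fun x hx => mul_mem (mul_mem hs (hP hx)) (inv_mem hs),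
        fun x _ y _ => by group, fun x _ y _ e => by simpa using e,
        fun x _ => (Subgroup.mem_normalizer_iff.1 hs x).symm⟩
      comp := fun h k hm => ⟨h.1, fun x hx => k.2.1 _ (hm x hx), h.2.2.1.comp k.2.2.1 hm,
        fun x hx y hy e => h.2.2.2.1 hx hy (k.2.2.2.1 (hm x hx) (hm y hy) e),
        fun x hx => (k.2.2.2.2 _ (hm x hx)).trans (h.2.2.2.2 x hx)⟩
      inv := fun {P f} h => by
        obtain ⟨b, hb⟩ := exists_pIso h.2.2.1 h.2.2.2.1
        refine ⟨b, ⟨img_le_iff.2 h.2.1, fun y hy => h.1 (hb.b_mem y hy), hb.symm.mul,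
          hb.symm.injOn, fun y hy => ?_⟩, hb.b_a⟩
        rw [← h.2.2.2.2 _ (hb.b_mem y hy), hb.a_b y hy] }

theorem mor_zSys : Mor (zSys Z) P f ↔ P ≤ Subgroup.normalizer (Z : Set Ω) ∧
    (∀ x ∈ P, f x ∈ Subgroup.normalizer (Z : Set Ω)) ∧ MulOn P f ∧ Set.InjOn f P ∧
      ∀ x ∈ P, f x ∈ Z ↔ x ∈ Z := SysData.mor_sys _

theorem mor_zSys_of (hZ : S ≤ Subgroup.normalizer (Z : Set Ω)) (hf : Mor F P f)
    (h : ∀ x ∈ P, f x ∈ Z ↔ x ∈ Z) : Mor (zSys Z) P f :=
  mor_zSys.2 ⟨hf.le.trans hZ, fun _ hx => hZ (hf.mem hx), hf.mulOn, hf.injOn, h⟩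

/-- The datum with a map that preserves `Z ∩ X`. -/
def GoodW (p : ℕ) (F : FusionSystem S) (Z : Subgroup Ω) : Prop :=
  ∃ X a f c, a ∈ S ∧ Mor F X f ∧ (∀ x ∈ X, x ∈ Z → f x ∈ Z) ∧ c ∈ Z ∧ Dt p X a f c

/-- The datum with a map that normalizes `Z`. -/
def GoodS (p : ℕ) (F : FusionSystem S) (Z : Subgroup Ω) : Prop :=
  ∃ X R a f c, X ≤ R ∧ Z ≤ R ∧ a ∈ S ∧ Mor F R f ∧ img Z f = Z ∧ c ∈ Z ∧ Dt p X a f c

theorem GoodW.of_sub {E : FusionSystem T} (h : GoodW p E Z) (k : E.IsSubsystemOf F) :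
    GoodW p F Z :=
  let ⟨X, a, f, c, h1, h2, h3⟩ := h
  ⟨X, a, f, c, le_of_isSubsystemOf k h1, h2.of_sub k, h3⟩

theorem GoodS.of_sub {E : FusionSystem T} (h : GoodS p E Z) (k : E.IsSubsystemOf F) :
    GoodS p F Z :=
  let ⟨X, R, a, f, c, h1, h2, h3, h4, h5⟩ := h
  ⟨X, R, a, f, c, h1, h2, le_of_isSubsystemOf k h3, h4.of_sub k, h5⟩

theorem GoodS.goodW (h : GoodS p F (Z ⊓ S)) : GoodW p F Z :=
  let ⟨X, _, a, f, c, h1, _, h3, h4, h5, h6, h7⟩ := h
  ⟨X, a, f, c, h3, h4.mono h1, fun _ hx hz =>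
    (h5.le (mem_img_of_mem f ⟨hz, h4.le (h1 hx)⟩)).1, h6.1, h7⟩

variable [Finite S]

theorem nsub_of_img {D : FusionSystem T} (hV : V ≤ S) (hg : Mor F (normalizerIn S V) g)
    (hgD : Mor D (normalizerIn S V) g) (h1 : NSub F (img V g) D) : NSub F V D := by
  have hVN : V ≤ normalizerIn S V := le_normalizerIn hV
  intro P f hf hVP hPN e
  have hfN : ∀ x ∈ P, f x ∈ normalizerIn S V := fun x hx => by
    have := hf.mem_normalizerIn hVP hx (hPN hx)
    rwa [e] at this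
  obtain ⟨k, hk, hkg, hgk⟩ := hg.exists_inv
  have hkD : Mor D (img (normalizerIn S V) g) k := hgD.inv_of hkg
  have hm' : Mor F (img P g) (fun y => g (f (k y))) := by
    refine (hk.mono (img_mono g hPN)).comp (hf.comp hg hfN) fun y hy => ?_
    obtain ⟨x, hx, rfl⟩ := (hg.mono hPN).mem_img.1 hy
    rw [hkg x (hPN hx)]; exact hx
  have h2 : Mor D (img P g) (fun y => g (f (k y))) := by
    refine h1 _ _ hm' (img_mono g hVP)
      (img_le_iff.2 fun x hx => hg.mem_normalizerIn hVN (hPN hx) (hPN hx)) ?_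
    refine (hm'.mono (img_mono g hVP)).img_eq_of_maps fun y hy => ?_
    obtain ⟨x, hx, rfl⟩ := (hg.mono hVN).mem_img.1 hy
    rw [hkg x (hVN hx)]
    exact mem_img_of_mem g (e ▸ mem_img_of_mem f hx)
  have h3 := ((hgD.mono hPN).comp h2 fun x hx => mem_img_of_mem g hx).comp hkD
    fun x hx => mem_img_of_mem g (by rw [hkg x (hPN hx)]; exact hfN x hx)
  refine h3.congr fun x hx => ?_
  rw [hkg x (hPN hx), hkg _ (hfN x hx)]

variable [Fact p.Prime]

/-- The well-placed subgroup argument above a normal subgroup that is not centric. -/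
theorem sub_of_local_rel (hS : IsPGroup p S) (hF : F.IsSaturated p) (D : FusionSystem T)
    (hQ : F.IsNormal Q) (hc : ¬ centralizerIn S Q ≤ Q)
    (h : ∀ U, Q < U → F.IsFullyNormalized U →
      (∀ V, V ≤ S → Q < V → Nat.card (normalizerIn S U) < Nat.card (normalizerIn S V) →
        NSub F V D) → NSub F U D) : F.IsSubsystemOf D := by
  have hB : ∀ m : ℕ, (∀ V, V ≤ S → Q < V → m < Nat.card (normalizerIn S V) → NSub F V D) →
      ∀ P f, Mor F P f → m ≤ Nat.card P → Mor D P f := by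
    intro m hm
    refine alperin_induction hS hF (fun P f => m ≤ Nat.card P → Mor D P f) ?_ ?_ ?_
    · intro P Q f g hf h1 hQ e hm
      exact ((h1 (hm.trans (card_le_of_le' hf.le hQ))).mono hQ).congr e
    · intro P Q f g hf h1 hg h2 hm hc
      exact (h1 hc).comp (h2 (hc.trans (hf.card_le_of_maps hg.le hm))) hm
    · intro P hP α hα hc'
      have hcen := top_or_essential_centric hP
      have hPS : P ≤ S := hcen.1
      have hQP : Q < P := lt_of_le_of_ne (hP.elim (fun e => e ▸ hQ.1)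
        (le_of_normal_of_essential hS hF hQ)) fun e => hc (e ▸ hcen.2 P (isConj_refl F hPS))
      have key : NSub F P D := by
        rcases hP with rfl | hP
        · refine h P hQP (fullyNormalized_top F) fun V hV _ hlt => ?_
          have h1 : normalizerIn P P = P := le_antisymm (normalizerIn_le _ _) (le_normalizerIn le_rfl)
          rw [h1] at hlt
          exact absurd (card_le_of_le' le_rfl (normalizerIn_le P V)) (not_le.2 hlt)
        · exact hm P hPS hQP (hc'.trans_lt (H92.card_lt_of_lt' (normalizerIn_le _ _)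
            (lt_normalizerIn hS (essential_lt hS hF hP))))
      exact key P _ (mor_af hPS hα) le_rfl (le_normalizerIn hPS) (img_af α)
  have hA : ∀ k m : ℕ, Nat.card S ≤ m + k →
      ∀ V, V ≤ S → Q < V → m < Nat.card (normalizerIn S V) → NSub F V D := by
    intro k
    induction k with
    | zero =>
      intro m hm V _ _ hlt
      exact absurd (card_le_of_le' le_rfl (normalizerIn_le S V)) (by omega)
    | succ k ih =>
      intro m hm V hV hV1 hlt
      have ih' := ih (m + 1) (by omega)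
      obtain ⟨g, hg, hfn⟩ := exists_mor_to_fn hS hF hV
      have hVN : V ≤ normalizerIn S V := le_normalizerIn hV
      have hle : Nat.card (normalizerIn S V) ≤ Nat.card (normalizerIn S (img V g)) :=
        hg.card_le_of_maps (normalizerIn_le _ _) fun x hx => hg.mem_normalizerIn hVN hx hx
      have hQg : img Q g = Q := Mor.img_eq_of_normal hg hQ (hV1.le.trans hVN)
      exact nsub_of_img hV hg (hB (m + 1) ih' _ g hg hlt) (h _ (hQg ▸ hg.img_lt_img hVN hV1) hfn
        fun V' hV' hV1' hlt' => ih' V' hV' hV1' (by omega))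
  exact isSubsystemOf_iff.2 fun P f hf => hB 0 (hA (Nat.card S) 0 (by omega)) P f hf (Nat.zero_le _)

end

section model

variable {Ω G : Type*} [Group Ω] [Group G] [Finite G] {S Z : Subgroup Ω} [Finite S]
  {F : FusionSystem S} {T : Subgroup G} {a : Ω → G} {b : G → Ω} {p : ℕ}

theorem goodS_of_gd (k : Tr a b F (groupFusionSystem T)) (hZ : Z ≤ S) (h : GD p T (img Z a)) :
    GoodS p F Z := by
  obtain ⟨X, hX, s, hs, t, ht, c, hc, h⟩ := h
  have hZ' := k.iso.img_le hZ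
  have hR : X ⊔ img Z a ≤ T := sup_le hX hZ'
  have h1 : t ∈ Subgroup.normalizer ((X ⊔ img Z a : Subgroup G) : Set G) :=
    mem_normalizer_sup (mem_normalizer_of_finite h.fmem) ht
  have h2 := k.bwd _ (fun y => t * y * t⁻¹) (mor_group_iff.2
    ⟨hR, fun y hy => hR (conj_mem_of_mem_normalizer h1 hy), t, fun _ _ => rfl⟩)
  have h3 : Z ≤ img (X ⊔ img Z a) b := (k.iso.img_img hZ).ge.trans (img_mono b le_sup_right)
  have h4 : ∀ y ∈ img Z a, b y ∈ Z := fun y hy => ((k.iso.mem_img' hZ).1 hy).2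
  have h5 : ∀ x, x ∈ img X b ↔ x ∈ S ∧ a x ∈ X := fun x => k.iso.symm.mem_img' hX
  refine ⟨img X b, _, b s, _, b c, img_mono b le_sup_left, h3, k.iso.b_mem s hs, h2,
    (h2.mono h3).img_eq_of_maps fun x hx => h4 _
      (conj_mem_of_mem_normalizer ht (mem_img_of_mem a hx)), h4 c hc,
    h.pull a (fun x hx y hy => k.iso.mul _ ((h5 x).1 hx).1 _ ((h5 y).1 hy).1)
      (fun x hx => ((h5 x).1 hx).2) (fun y hy => ⟨b y, mem_img_of_mem b hy, k.iso.a_b y (hX hy)⟩)
      (fun x hx => ?_) (fun x hx => ?_) (mem_img_of_mem b h.cmem) (k.iso.a_b c (hZ' hc))⟩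
  · obtain ⟨h6, h7⟩ := (h5 x).1 hx
    have h8 := k.iso.b_mem s hs
    have e : a (b s * x * (b s)⁻¹) = s * a x * s⁻¹ := by
      rw [k.iso.mul.map_conj h8 h6, k.iso.a_b s hs]
    exact ⟨(h5 _).2 ⟨mul_mem (mul_mem h8 h6) (inv_mem h8), e ▸ h.amem _ h7⟩, e⟩
  · have h6 := h.fmem _ ((h5 x).1 hx).2
    exact ⟨mem_img_of_mem b h6, k.iso.a_b _ (hX h6)⟩

theorem normalizer_le_of_nsub [Fact p.Prime] (k : Tr a b F (groupFusionSystem T))
    (hT : IsSyl p T ⊤) (hc : CharP p (⊤ : Subgroup G)) (hZ : ∀ x ∈ Z, ∀ y ∈ Z, x * y = y * x)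
    {V : Subgroup G} (hV : V ≤ T) (hn : T ≤ Subgroup.normalizer (V : Set G))
    (h : NSub F (img V b) (zSys Z)) :
    Subgroup.normalizer (V : Set G) ≤ Subgroup.normalizer (img (Z ⊓ S) a : Set G) := by
  have hZ' := k.iso.img_le (inf_le_right : Z ⊓ S ≤ S)
  refine le_normalizer_of_sc (hT.of_le hn le_top) (hc.of_isSyl_le hT hn le_top) hZ'
    (fun x hx y hy => ?_) fun g hg x hx hx' => ?_
  · obtain ⟨x, h1, rfl⟩ := (k.iso.mem_img inf_le_right).1 hx
    obtain ⟨y, h2, rfl⟩ := (k.iso.mem_img inf_le_right).1 hy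
    rw [← k.iso.mul _ h1.2 _ h2.2, ← k.iso.mul _ h2.2 _ h1.2, hZ x h1.1 y h2.1]
  have h1 : V ⊔ Subgroup.zpowers x ≤ T := sup_le hV (Subgroup.zpowers_le.2 (hZ' hx))
  have h2 : V ⊔ Subgroup.zpowers x ≤ H98.cj g⁻¹ T := sup_le
    (fun y hy => H98.mem_cj.2 (by simpa using hV (conj_mem_of_mem_normalizer hg hy)))
    (Subgroup.zpowers_le.2 (H98.mem_cj.2 (by simpa using hx')))
  have h3 := k.bwd _ (fun y => g * y * g⁻¹) (mor_group_iff.2
    ⟨h1, fun y hy => by simpa using H98.mem_cj.1 (h2 hy), g, fun _ _ => rfl⟩)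
  have h4 := h _ _ h3 (img_mono b le_sup_left) (h3.le.trans (by
      rw [← k.iso.symm.img_top, ← k.iso.symm.img_normalizerIn le_rfl hV]
      exact img_mono b (le_inf le_rfl hn)))
    ((h3.mono (img_mono b le_sup_left)).img_eq_of_maps fun y hy => mem_img_of_mem b
      (conj_mem_of_mem_normalizer hg ((k.iso.symm.mem_img' hV).1 hy).2))
  have h5 := ((mor_zSys.1 h4).2.2.2.2 _ (mem_img_of_mem b (Subgroup.mem_sup_right
    (Subgroup.mem_zpowers x)))).2 ((k.iso.mem_img' inf_le_right).1 hx).2.1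
  rw [k.iso.a_b x (hZ' hx)] at h5
  exact (k.iso.mem_img' inf_le_right).2 ⟨hx', h5, k.iso.b_mem _ hx'⟩

end model

variable {p : ℕ} [Fact p.Prime] {Ω : Type u} [Group Ω] {S Z : Subgroup Ω} [Finite S]
  {F : FusionSystem S}

theorem inner_constrained (jB : JobBase.{u}) (jQ : JobQ1.{u}) (hp : p ≠ 2) (hS : IsPGroup p S)
    (hF : F.IsConstrained p) (hn : S ≤ Subgroup.normalizer (Z : Set Ω))
    (hZ : ∀ x ∈ Z, ∀ y ∈ Z, x * y = y * x) (h1 : ∀ W ≤ Z, W ≠ ⊥ → NSub F W (zSys Z))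
    (h2 : NSub F (thompsonSubgroupAOf S) (zSys Z)) (h3 : ¬ GoodW p F Z) :
    F.IsSubsystemOf (zSys Z) := by
  obtain ⟨G, _, _, T, a, b, k, hc⟩ := exists_tr_model hS hF
  have hc' := charP_top_iff.2 hc
  have hT := isSyl_sylow T
  have hZS : Z ⊓ S ≤ S := inf_le_right
  have hZ' := k.iso.img_le hZS
  have hN : (img (Z ⊓ S) a).Normal := by
    by_cases h0 : img (Z ⊓ S) a = ⊥
    · rw [h0]; infer_instance
    by_contra hN
    have h4 : (T : Subgroup G) ≤ Subgroup.normalizer (img (Z ⊓ S) a : Set G) := by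
      have := k.iso.img_normalizerIn' hZS
      rw [show normalizerIn S (Z ⊓ S) = S from inf_eq_left.2
        (le_normalizer_inf hn Subgroup.le_normalizer), k.iso.img_top] at this
      exact this.le.trans inf_le_right
    refine h3 (goodS_of_gd k hZS (jB p G T _ hp hT h4 hN fun K hK hK' => jQ p G T K _
      (hT.of_le hK le_top) (hc'.of_isSyl_le hT hK le_top) hZ' h0 h4 (inf_le_right.trans ?_)
      (fun W hW hW1 hWn => inf_le_right.trans ?_) hK')).goodW
    · have hw := isFun_J.{u} p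
      refine normalizer_le_of_nsub k hT hc' hZ (hw.le G T)
        ((hw.le_normalizerIn T.isPGroup').trans inf_le_right) ?_
      rwa [hw.iso T.isPGroup' k.iso.symm]
    · exact normalizer_le_of_nsub k hT hc' hZ (hW.trans hZ') hWn (h1 _
        ((img_mono b hW).trans ((k.iso.img_img hZS).le.trans inf_le_left))
        fun e => hW1 ((k.iso.symm.img_eq_bot_iff (hW.trans hZ')).1 e))
  refine isSubsystemOf_iff.2 fun P f hf => mor_zSys_of hn hf fun x hx => ?_
  obtain ⟨-, -, g, e⟩ := k.mor_iff_group.1 hf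
  have h5 : ∀ y ∈ S, y ∈ Z ↔ a y ∈ img (Z ⊓ S) a := fun y hy => by
    rw [k.iso.mem_img_iff hZS hy]; exact ⟨fun h => ⟨h, hy⟩, fun h => h.1⟩
  rw [h5 _ (hf.mem hx), h5 _ (hf.le hx), e x hx]
  exact ⟨fun h => by simpa [mul_assoc] using hN.conj_mem _ h g⁻¹, fun h => hN.conj_mem _ h g⟩

/-- The inner theorem. -/
theorem inner (jB : JobBase.{u}) (jQ : JobQ1.{u}) (hp : p ≠ 2) (hS : IsPGroup p S)
    (hF : F.IsSaturated p) (hn : S ≤ Subgroup.normalizer (Z : Set Ω))
    (hZ : ∀ x ∈ Z, ∀ y ∈ Z, x * y = y * x) (h1 : ∀ W ≤ Z, W ≠ ⊥ → NSub F W (zSys Z))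
    (h2 : NSub F (thompsonSubgroupAOf S) (zSys Z)) (h3 : ¬ GoodW p F Z) :
    F.IsSubsystemOf (zSys Z) := by
  revert Z
  refine free_induction True Unit (fun Ω _ S F => ∀ {Z : Subgroup Ω},
    S ≤ Subgroup.normalizer (Z : Set Ω) → (∀ x ∈ Z, ∀ y ∈ Z, x * y = y * x) →
    (∀ W ≤ Z, W ≠ ⊥ → NSub F W (zSys Z)) → NSub F (thompsonSubgroupAOf S) (zSys Z) →
    ¬ GoodW p F Z → F.IsSubsystemOf (zSys Z)) ?_ Ω S F hS hF (Or.inl trivial)
  intro Ω _ S _ F hS hF _ ih1 _ _ _ Z hn hZ h1 h2 h3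
  have hw := isFun_J.{u} p
  have hQ := H93.isNormal_core F
  by_cases hc : centralizerIn S F.core ≤ F.core
  · exact inner_constrained jB jQ hp hS
      (isConstrained_of_normal_sup_cent hS hF (by rwa [sup_eq_left.2 hc])) hn hZ h1 h2 h3
  refine sub_of_local_rel hS hF _ hQ hc fun U hU hfn ih => ?_
  have hN := H93.isNormalizerSystem_normSys F U hfn.1
  haveI := finite_normalizerIn (S := S) U
  have hp' := hS.to_le (normalizerIn_le S U)
  refine nsub_of_sub hN (ih1 U hfn (fun k => hU.not_ge (H93.le_core k))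
    ((normalizerIn_le S U).trans hn) hZ (fun W hW hW1 => (h1 W hW hW1).of_sub (normSys_sub hN))
    (fun P f hf hJP hPN e => ?_) fun h => h3 (h.of_sub (normSys_sub hN)))
  have hf' := hf.of_sub (normSys_sub hN)
  by_cases hUS : normalizerIn S U = S
  · rw [hUS] at hJP hPN e
    exact h2 P f hf' hJP hPN e
  set S₁ := normalizerIn S U with hS₁
  have hJ1 : thompsonSubgroupAOf S₁ ≤ S₁ := hw.le Ω S₁
  have hS1 : S₁ ≤ S := normalizerIn_le S U
  have hQ1 : F.core ≤ S₁ := hU.le.trans (le_normalizerIn hfn.1)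
  obtain ⟨g, hg, e1, e2⟩ := (isNormal_iff.1 hQ).2 _ f hf'
  have hSQ : ∀ s ∈ S, s ∈ Subgroup.normalizer (F.core : Set Ω) := fun s hs =>
    (le_normalizerIn_of_normal hQ hs).2
  have hle : normalizerIn S S₁ ≤ normalizerIn S (thompsonSubgroupAOf S₁ ⊔ F.core) := fun y hy =>
    ⟨hy.1, mem_normalizer_sup (normalizerIn_le_of_char hS1 hJ1 (hw.char hp') hy).2 (hSQ y hy.1)⟩
  refine ((ih _ (sup_le (hJ1.trans hS1) hQ.1) (right_lt_sup.2 fun hle => ?_)
    (H92.card_lt_of_lt' (normalizerIn_le _ _) ((lt_normalizerIn hS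
      (lt_of_le_of_ne hS1 hUS)).trans_le hle)) _ g hg (sup_le_sup_right hJP _)
    (((sup_le (hPN.trans (normalizerIn_le _ _)) hQ1).trans (le_normalizerIn hS1)).trans hle)
    (by rw [hg.img_sup (hJP.trans le_sup_left) le_sup_right, e2,
      img_congr fun x hx => e1 x (hJP hx), e])).mono le_sup_left).congr e1
  have hR := le_normalizerIn_sup_cent hQ
  have h4 : normalizerIn (F.core ⊔ centralizerIn S F.core) U ≤ F.core := fun y hy => by
    obtain ⟨q, hq, c, hc, rfl⟩ := (mem_sup_left_norm (le_normalizer_inf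
      (fun s hs => Subgroup.le_normalizer (hQ.1 hs))
      (le_normalizer_centralizer Subgroup.le_normalizer))).1 hy.1
    refine mul_mem hq (hle (centralizerIn_thompsonA_le hp' ⟨?_, fun z hz => hc.2 z (hle hz)⟩))
    exact (mul_mem_cancel_left (hQ1 hq)).1 ⟨mul_mem (hQ.1 hq) hc.1, hy.2⟩
  have h5 := le_of_normalizerIn_le hS hfn.1 (sup_le hQ.1 (centralizerIn_le _ _))
    (fun y hy q hq => conj_mem_of_normalizerIn (hR (hfn.1 hy)) hq) (h4.trans hU.le)
  exact hc (le_sup_right.trans ((le_inf le_rfl (h5.trans Subgroup.le_normalizer)).trans h4))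

end H98.Zj
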