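import Cfsg.Agent.H98.ZjOut
import Cfsg.Agent.H11.QdFusion
import Cfsg.Agent.H13.Ctrl3

/-! Failure of fusion control by `Z(J(S))`: the local lemma and the passage to groups. -/

set_option autoImplicit false

namespace H98.Zj

open Subgroup Cfsg Cfsg.FusionSystem H92 H94

universe u

theorem jobLoc (jC : JobChf.{u}) (jT : JobTor.{u}) (jV : JobCov.{u}) (jF : JobFin.{u}) :
    JobLoc.{u} := by
  intro p _ L _ _ T B Z a x hp hT hM hB hBp hZ ha hg hq
  have h1 : normalClosure (Z : Set L) ≤ B := normalClosure_le_normal hZ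
  haveI : (res p (⊤ : Subgroup L)).Normal :=
    normal_of_top_le_normalizer (self_le_normalizer_res ⊤)
  have h2 : ⁅normalClosure (Z : Set L), res p (⊤ : Subgroup L)⁆ ≤ B :=
    (commutator_le_left _ _).trans h1
  have h3 : ⁅⁅⁅normalClosure (Z : Set L), res p (⊤ : Subgroup L)⁆, zpowers a⁆, zpowers a⁆ = ⊥ :=
    eq_bot_iff.2 (hq ▸ commutator_mono (commutator_mono h2 le_rfl) le_rfl)
  obtain ⟨K, _, _, _, l, φ, ψ, hl, hR, e1, e2⟩ := jC p L _ a (x * a * x⁻¹) hp inferInstance
    (hBp.to_le h2) (fun e => hM.res_not_le hT ((le_centralizer_iff.1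
      (le_normalClosure.trans (commutator_eq_bot_iff_le_centralizer.1 e))).trans
      (centralizer_le_normalizer _)))
    (commutator_res_res (hBp.to_le h1) le_normalizer_of_normal) hg h3
    (H11.quad_conj (le_normalizer_of_normal (mem_top x)) h3)
  obtain ⟨w, hw, t, ht, e3, e4, e5⟩ := jT p K l L ψ T a _ hp hl hT ha e1 e2
  obtain ⟨z, hz, hz', e6⟩ := jV p K l L φ ψ T Z a _ hp hl hT hM ha e1 e2 hR
  obtain ⟨X, hX, c, hc, h⟩ := jF p K l L φ ψ _ Z a t z w hl hR e1 hw e3 e4 e5 hz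
    (H98.conj_mem_of_mem_normalizer (hM.le ha) hz) hz' e6
  exact ⟨X, hX.trans h2, t, ht, c, hc, h⟩

theorem final (jB : JobBase.{u}) (jQ0 : JobQ0.{u}) (jQ1 : JobQ1.{u}) (jF : JobF.{u})
    (jC : JobC.{u}) {G : Type u} [Group G] [Finite G] {p : ℕ} [Fact p.Prime] (hp : p ≠ 2)
    (S : Sylow p G) (h : ¬ ControlsStrongFusion p (centerThompsonAOf (S : Subgroup G))) :
    Involves (fOver (ZMod p)) (normalizer (centerThompsonAOf (S : Subgroup G) : Set G)) ∧
      ∃ C : Subgroup G, C ≤ centerThompsonAOf (S : Subgroup G) ∧ Nat.card C = p ∧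
        (normalizer (centerThompsonAOf (S : Subgroup G) : Set G) ⊓ centralizer (C : Set G)).relIndex
          (normalizer (centerThompsonAOf (S : Subgroup G) : Set G) ⊓ normalizer (C : Set G)) =
            p - 1 := by
  have hw := isFun_ZJ.{u} p
  have hn := (hw.le_normalizerIn S.isPGroup').trans inf_le_right
  obtain ⟨X, R, a, f, c, h1, h2, h3, h4, h5, h6, h7⟩ :
      GoodS p (groupFusionSystem (S : Subgroup G)) (centerThompsonAOf (S : Subgroup G)) := by
    by_contra h0
    exact h (H13.controlsStrongFusion_of_ctrl S (hw.le G S) (H11.isNormal_group_iff.1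
      (outer jB jQ0 jQ1 hp S.isPGroup' (isSaturated_group S) h0)).2)
  obtain ⟨hR, -, t, e⟩ := mor_group_iff.1 h4
  have ht : t ∈ normalizer (centerThompsonAOf (S : Subgroup G) : Set G) :=
    mem_normalizer_of_finite fun y hy => e y (h2 hy) ▸ h5.le (mem_img_of_mem f hy)
  have h8 := h7.congr (g := fun y => t * y * t⁻¹) fun y hy => (e y (h1 hy)).symm
  exact ⟨jF p G _ X a t c hp ((h1.trans hR).trans hn) (hn h3) ht h8,
    jC p G _ X _ a t c (S.isPGroup'.to_le (hw.le G S)) (fun x hx y hy => hy.2 x hx.1) ht ht h6 h8⟩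

end H98.Zj
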