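import Cfsg.Agent.H98.ZjIn

/-! Failure of fusion control by `Z(J(S))`: the outer induction. -/

set_option autoImplicit false

namespace H98.Zj

open Cfsg Cfsg.FusionSystem H92 H94

universe u

variable {p : ℕ} [Fact p.Prime] {Ω : Type u} [Group Ω] {S T P Q V Z : Subgroup Ω} [Finite S]
  {F : FusionSystem S} {g : Ω → Ω}

theorem mor_img_J (hg : Mor F P g) (hJ : thompsonSubgroupAOf S ≤ P) :
    img (thompsonSubgroupAOf S) g = thompsonSubgroupAOf S := by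
  have h1 := hg.mono hJ
  have h2 : thompsonSubgroupAOf S ≤
      ((thompsonSubgroupAOf S).comap h1.mulOn.hom).map (thompsonSubgroupAOf S).subtype := by
    refine (H13.thompsonSubgroupAOf_eq S).le.trans (sSup_le fun A hA x hx => ?_)
    have h3 : A ≤ thompsonSubgroupAOf S := (le_sSup hA).trans (H13.thompsonSubgroupAOf_eq S).ge
    have h4 := h1.mono h3
    have h5 : img A g ∈ H13.maxAb 0 S := H13.mem_maxAb_of_card hA h4.img_le
      (H13.isEA_zero_iff.2 ⟨⟨fun y z => Subtype.ext (by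
        obtain ⟨r, hr, e1⟩ := h4.mem_img.1 y.2
        obtain ⟨s, hs, e2⟩ := h4.mem_img.1 z.2
        have := congrArg Subtype.val (hA.2.1.1.is_comm.comm ⟨r, hr⟩ ⟨s, hs⟩)
        rw [Subgroup.coe_mul, Subgroup.coe_mul, ← e1, ← e2, ← h4.map_mul hr hs, ← h4.map_mul hs hr]
        exact congrArg g this)⟩⟩) h4.card_img.ge
    exact ⟨⟨x, h3 hx⟩, (H13.thompsonSubgroupAOf_eq S).ge (le_sSup h5 (mem_img_of_mem g hx)), rfl⟩
  refine h1.img_eq_of_maps fun x hx => ?_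
  obtain ⟨y, hy, rfl⟩ := h2 hx
  exact hy

theorem J_eq_of_le (hT : T ≤ S) (hJ : thompsonSubgroupAOf S ≤ T) :
    thompsonSubgroupAOf T = thompsonSubgroupAOf S := by
  rw [H13.thompsonSubgroupAOf_eq] at hJ
  obtain ⟨A, hA⟩ : (H13.maxAb 0 S).Nonempty := by
    rw [H13.maxAb_eq_image, ← H13.maxAb_top]
    exact (H13.maxAb_nonempty 0 ⊤).image _
  rw [H13.thompsonSubgroupAOf_eq, H13.thompsonSubgroupAOf_eq, Set.Subset.antisymm
    (H13.maxAb_subset hA hT ((le_sSup hA).trans hJ))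
    fun B hB => H13.mem_maxAb_of_le hB hT ((le_sSup hB).trans hJ)]

theorem mor_img_ZJ (hg : Mor F P g) (hJ : thompsonSubgroupAOf S ≤ P) :
    img (centerThompsonAOf S) g = centerThompsonAOf S :=
  (hg.mono (inf_le_left.trans hJ)).img_eq_of_maps fun x hx => by
    have e := mor_img_J hg hJ
    refine ⟨e.le (mem_img_of_mem g hx.1), fun y hy => ?_⟩
    obtain ⟨z, hz, rfl⟩ := (hg.mem_img' hJ).1 (e.ge hy)
    rw [← hg.map_mul (hJ hz) (hJ hx.1), ← hg.map_mul (hJ hx.1) (hJ hz), hx.2 z hz]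

theorem outer_constrained (jB : JobBase.{u}) (jQ : JobQ0.{u}) (hp : p ≠ 2) (hS : IsPGroup p S)
    (hF : F.IsConstrained p) (h3 : ¬ GoodS p F (centerThompsonAOf S)) :
    F.IsNormal (centerThompsonAOf S) := by
  obtain ⟨G, _, _, T, a, b, k, hc⟩ := exists_tr_model hS hF
  have hw := isFun_ZJ.{u} p
  have hc' := charP_top_iff.2 hc
  have hT := isSyl_sylow T
  have hN : (centerThompsonAOf (T : Subgroup G)).Normal := by
    by_contra hN
    refine h3 (goodS_of_gd k (hw.le Ω S) ?_)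
    rw [hw.iso hS k.iso]
    exact jB p G T _ hp hT ((hw.le_normalizerIn T.isPGroup').trans inf_le_right) hN fun K hK hK' =>
      jQ p G T K hp (hT.of_le hK le_top) (hc'.of_isSyl_le hT hK le_top) hK'
  have := k.symm.isNormal (isNormal_group (hw.le G T))
  rwa [hw.iso T.isPGroup' k.iso.symm] at this

section factor

variable {Ω' : Type u} [Group Ω'] {S' : Subgroup Ω'} {θ : S →* Ω'} {E : FusionSystem S'}
  {hZ : Z ≤ S} {hn : S ≤ normalizerIn S Z}

theorem fac_le_normalizer (hE : F.IsFactorSystem Q θ E) (hZ : Z ≤ S) (hn : S ≤ normalizerIn S Z) :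
    S' ≤ Subgroup.normalizer (img Z (ext1 θ) : Set Ω') := fun y hy => by
  haveI := fac_finite hE
  haveI := finite_of_le (fac_img_le hE hZ)
  obtain ⟨s, hs, rfl⟩ := fac_surj hE hy
  refine mem_normalizer_of_finite fun z hz => ?_
  obtain ⟨x, hx, rfl⟩ := ((mulOn_ext1 θ).mono hZ).mem_img.1 hz
  rw [← (mulOn_ext1 θ).map_conj hs (hZ hx)]
  exact mem_img_of_mem _ (conj_mem_of_normalizerIn (hn hs) hx)

theorem fac_lift_nSys (hE : F.IsFactorSystem Q θ E) {W R : Subgroup Ω'} {k : Ω' → Ω'}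
    (h : NSub F (preimageAlong θ W) (nSys F Z hZ hn)) (hk : Mor E R k) (hW : W ≤ R)
    (hR : R ≤ normalizerIn S' W) (e : img W k = W) : ∃ f, Mor F (preimageAlong θ R ⊔ Z) f ∧
      img Z f = Z ∧ ∀ x ∈ preimageAlong θ R, k (ext1 θ x) = ext1 θ (f x) := by
  have hm : ∀ {A B : Subgroup Ω'}, A ≤ B → preimageAlong θ A ≤ preimageAlong θ B := fun h x hx =>
    mem_preimageAlong.2 ⟨(mem_preimageAlong.1 hx).1, h (mem_preimageAlong.1 hx).2⟩
  obtain ⟨f, hf, e1, e2⟩ := fac_lift_nsub hE (hW.trans hk.le) hk hW e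
  obtain ⟨g, hg, e3, e4⟩ := mor_nSys.1 (h _ f hf (hm hW)
    ((hm hR).trans (fac_pre_normalizerIn hE (hW.trans hk.le)).le) e1)
  exact ⟨g, hg, e4, fun x hx => (e2 x hx).trans (congrArg _ (e3 x hx).symm)⟩

theorem fac_nsub_zSys (hE : F.IsFactorSystem Q θ E) (hQ : F.IsNormal Q) {W : Subgroup Ω'}
    (h : NSub F (preimageAlong θ W) (nSys F Z hZ hn)) : NSub E W (zSys (img Z (ext1 θ))) := by
  intro R k hk hW hR e
  obtain ⟨f, hf, e1, e2⟩ := fac_lift_nSys hE h hk hW hR e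
  have hQ1 : Q ≤ preimageAlong θ R ⊔ Z := (fac_le_pre hE R).trans le_sup_left
  have h1 : ∀ x ∈ S, ext1 θ x ∈ img Z (ext1 θ) ↔ x ∈ Z ⊔ Q := fun x hx => by
    rw [← fac_pre_img' hE hZ, mem_preimageAlong]; exact ⟨fun h => ⟨hx, h⟩, fun h => h.2⟩
  refine mor_zSys_of (fac_le_normalizer hE hZ hn) hk fun y hy => ?_
  obtain ⟨x, hx, rfl⟩ := fac_surj hE (hk.le hy)
  have h2 : x ∈ preimageAlong θ R := mem_preimageAlong.2 ⟨hx, hy⟩
  rw [e2 x h2, h1 x hx, h1 _ (hf.mem (Subgroup.mem_sup_left h2)),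
    ← hf.mem_img_iff (sup_le le_sup_right hQ1) (Subgroup.mem_sup_left h2),
    hf.img_sup le_sup_right hQ1, e1, Mor.img_eq_of_normal hf hQ hQ1]

theorem fac_goodS (hE : F.IsFactorSystem Q θ E)
    (h : ∀ W ≤ img Z (ext1 θ), W ≠ ⊥ → NSub F (preimageAlong θ W) (nSys F Z hZ hn))
    (hg : GoodW p E (img Z (ext1 θ))) : GoodS p F Z := by
  haveI := fac_finite hE
  obtain ⟨X, a', k, c', ha', hk, h1, hc', h2⟩ := hg
  obtain ⟨f, hf, e1, e2⟩ := fac_lift_nSys hE (h (img Z (ext1 θ) ⊓ X) inf_le_left fun e =>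
    h2.ne_one (Subgroup.mem_bot.1 (e.le ⟨hc', h2.cmem⟩))) hk inf_le_right
    (le_inf hk.le (le_normalizer_inf (hk.le.trans (fac_le_normalizer hE hZ hn))
      Subgroup.le_normalizer))
    ((hk.mono inf_le_right).img_eq_of_maps fun x hx => ⟨h1 x hx.2 hx.1, h2.fmem x hx.2⟩)
  obtain ⟨a, ha, rfl⟩ := fac_surj hE ha'
  obtain ⟨c, hc, rfl⟩ := ((mulOn_ext1 θ).mono hZ).mem_img.1 hc'
  have h3 : ∀ x, x ∈ preimageAlong θ X ↔ x ∈ S ∧ ext1 θ x ∈ X := fun x => mem_preimageAlong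
  refine ⟨_, _, a, f, c, le_sup_left, le_sup_right, ha, hf, e1, hc, h2.pull (ext1 θ)
    (fun x hx y hy => mulOn_ext1 θ _ ((h3 x).1 hx).1 _ ((h3 y).1 hy).1)
    (fun x hx => ((h3 x).1 hx).2) (fun y hy => ?_) (fun x hx => ?_) (fun x hx => ?_)
    ((h3 c).2 ⟨hZ hc, h2.cmem⟩) rfl⟩
  · obtain ⟨x, hx, rfl⟩ := fac_surj hE (hk.le hy)
    exact ⟨x, (h3 x).2 ⟨hx, hy⟩, rfl⟩
  · obtain ⟨h4, h5⟩ := (h3 x).1 hx
    have e := (mulOn_ext1 θ).map_conj ha h4
    exact ⟨(h3 _).2 ⟨mul_mem (mul_mem ha h4) (inv_mem ha), e ▸ h2.amem _ h5⟩, e⟩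
  · exact ⟨(h3 _).2 ⟨hf.mem (Subgroup.mem_sup_left hx), e2 x hx ▸ h2.fmem _ ((h3 x).1 hx).2⟩,
      (e2 x hx).symm⟩

end factor

/-- The outer theorem. -/
theorem outer (jB : JobBase.{u}) (jQ0 : JobQ0.{u}) (jQ1 : JobQ1.{u}) (hp : p ≠ 2)
    (hS : IsPGroup p S) (hF : F.IsSaturated p) (h3 : ¬ GoodS p F (centerThompsonAOf S)) :
    F.IsNormal (centerThompsonAOf S) := by
  revert h3
  refine free_induction True Unit (fun Ω _ S F => ¬ GoodS p F (centerThompsonAOf S) →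
    F.IsNormal (centerThompsonAOf S)) ?_ Ω S F hS hF (Or.inl trivial)
  intro Ω _ S _ F hS hF _ ih1 _ ih3 _ h3
  have hw := isFun_ZJ.{u} p
  have hJ := isFun_J.{u} p
  have hQ := H93.isNormal_core F
  by_cases hc : F.IsNormal (F.core ⊔ centralizerIn S F.core)
  · exact outer_constrained jB jQ0 hp hS (isConstrained_of_normal_sup_cent hS hF hc) h3
  set Z := centerThompsonAOf S with hZdef
  have hZ : Z ≤ S := hw.le Ω S
  have hn : S ≤ normalizerIn S Z := hw.le_normalizerIn hS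
  have hD := isNormal_iff_sub_nSys (F := F) (hV := hZ) (hn := hn)
  have key : ∀ V ≤ S, thompsonSubgroupAOf S ≤ normalizerIn S V → ¬ F.IsNormal V →
      NSub F V (nSys F Z hZ hn) := fun V hV hJV hVn => by
    obtain ⟨g, hg, hfn⟩ := exists_mor_to_fn hS hF hV
    have hVN : V ≤ normalizerIn S V := le_normalizerIn hV
    have hN := H93.isNormalizerSystem_normSys F _ hfn.1
    have h1 : thompsonSubgroupAOf S ≤ normalizerIn S (img V g) := (mor_img_J hg hJV).ge.trans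
      (img_le_iff.2 fun x hx => hg.mem_normalizerIn hVN (hJV hx) (hJV hx))
    have h2 : centerThompsonAOf (normalizerIn S (img V g)) = Z := by
      rw [hZdef, centerThompsonAOf, centerThompsonAOf, J_eq_of_le (normalizerIn_le _ _) h1]
    refine nsub_of_img hV hg (mor_nSys_of hg (inf_le_left.trans hJV) (mor_img_ZJ hg hJV) le_rfl)
      (nsub_nSys.of_normal_in hN (h2 ▸ ih1 _ hfn (fun k => hVn ?_) fun k =>
        h3 (h2 ▸ k.of_sub (normSys_sub hN))))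
    obtain ⟨k', hk, e, -⟩ := (hg.mono hVN).exists_inv
    have := Mor.img_eq_of_normal hk k le_rfl
    rw [(hg.mono hVN).img_img_inv e le_rfl] at this
    exact this ▸ k
  have hcn : ∀ s ∈ S, ∀ x ∈ F.core, s * x * s⁻¹ ∈ F.core := fun s hs x hx =>
    conj_mem_of_normal hQ hs hx
  by_cases hC : F.IsSubsystemOf (scSys F F.core hQ.1 hcn)
  swap
  · exact hD.2 (sub_of_stancu hS hF hQ (key _ (sup_le hQ.1 (centralizerIn_le _ _))
      ((hJ.le Ω S).trans (le_normalizerIn_sup_cent hQ)) hc)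
      (((nsub_nSys (F := F)).of_sub scSys_sub).sub_of_normal
        (ih3 _ hQ hcn hC fun k => h3 (k.of_sub scSys_sub))))
  obtain ⟨Ω', _, S', θ, E, hE⟩ := exists_factor (stronglyClosed_of_normal hQ)
  haveI := fac_finite hE
  have hS' := fac_isPGroup hE hS
  have hZ' := fac_img_le hE hZ
  have hpre : ∀ W ≤ S', W ≠ ⊥ → ¬ F.IsNormal (preimageAlong θ W) := fun W hW hW1 k =>
    hW1 ((fac_pre_le_iff hE hW).1 (H93.le_core k))
  have hpl : ∀ W : Subgroup Ω', preimageAlong θ W ≤ S := fun W x hx => (mem_preimageAlong.1 hx).1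
  have hcm : ∀ x ∈ thompsonSubgroupAOf S, ∀ y ∈ img Z (ext1 θ), ext1 θ x * y = y * ext1 θ x := by
    intro x hx y hy
    obtain ⟨z, hz, rfl⟩ := ((mulOn_ext1 θ).mono hZ).mem_img.1 hy
    rw [← mulOn_ext1 θ _ (hJ.le Ω S hx) _ (hZ hz), ← mulOn_ext1 θ _ (hZ hz) _ (hJ.le Ω S hx),
      hz.2 x hx]
  have h4 : ∀ W ≤ img Z (ext1 θ), W ≠ ⊥ → NSub F (preimageAlong θ W) (nSys F Z hZ hn) :=
    fun W hW hW1 => key _ (hpl W) (fun x hx => (fac_pre_normalizerIn hE (hW.trans hZ')).le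
      (mem_preimageAlong.2 ⟨hJ.le Ω S hx, centralizerIn_le_normalizerIn _ _
        ⟨fac_mem hE (hJ.le Ω S hx), fun y hy => (hcm x hx y (hW hy)).symm⟩⟩))
      (hpre W (hW.trans hZ') hW1)
  have h5 : S' ≠ ⊥ := fun e => hc (by
    have := (fac_eq_bot_iff hE).1 e
    rwa [sup_eq_left.2 ((centralizerIn_le _ _).trans this)])
  have h6 : ∀ x ∈ img Z (ext1 θ), ∀ y ∈ img Z (ext1 θ), x * y = y * x := fun x hx => by
    obtain ⟨z, hz, rfl⟩ := ((mulOn_ext1 θ).mono hZ).mem_img.1 hx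
    exact hcm z hz.1
  have h7 := inner jB jQ1 hp hS' (isSaturated_factor hS hF (stronglyClosed_of_normal hQ) hE)
    (fac_le_normalizer hE hZ hn) h6
    (fun W hW hW1 => fac_nsub_zSys hE hQ (h4 W hW hW1))
    (fac_nsub_zSys hE hQ (key _ (hpl _) ((hJ.le Ω S).trans
      (fac_le_normalizerIn_pre hE (hJ.le Ω' S') (hJ.le_normalizerIn hS')))
      (hpre _ (hJ.le Ω' S') (hJ.ne Ω' S' hS' h5)))) fun k => h3 (fac_goodS hE h4 k)
  have h8 := isNormal_pre hS hF hQ (isPGroup_autGroup_of_sub_scSys hS hC) hE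
    (isNormal_of_comm hS' (isSaturated_factor hS hF (stronglyClosed_of_normal hQ) hE)
      (stronglyClosed_iff.2 ⟨hZ', fun R f hf x hx hx' =>
        ((mor_zSys.1 (hf.of_sub h7)).2.2.2.2 x hx).2 hx'⟩) h6)
  rw [fac_pre_img' hE hZ] at h8
  have h9 : Z ≤ F.core := le_sup_left.trans (H93.le_core h8)
  refine isNormal_iff.2 ⟨hZ, fun P f hf => ?_⟩
  obtain ⟨g, hg, e1, s, hs, e2⟩ := mor_scSys.1 (hf.of_sub hC)
  exact ⟨g, hg.mono (sup_le_sup_left h9 _), e1, (hg.mono (h9.trans le_sup_right)).img_eq_of_maps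
    fun x hx => e2 x (h9 hx) ▸ conj_mem_of_normalizerIn (hn hs) hx⟩

end H98.Zj
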