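import Cfsg.Agent.H98.WCF
import Cfsg.Agent.H96.LLemma
import Cfsg.Agent.H11.QdLocal
import Cfsg.Agent.H11.QuadAct

/-! Failure of fusion control by `Z(J(S))`: interface (blueprint `ZJF.md`). -/

set_option autoImplicit false

namespace H98.Zj

open Subgroup Cfsg Matrix MatrixGroups H11
open scoped commutatorElement

universe u

section defs

variable {Ω Ω' : Type*} [Group Ω] [Group Ω']

/-- `(u, v)` maps `X` onto the plane over the prime field, conjugation by `a` is a transvection,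
`f` is diagonal with entries `w`, `w⁻¹`, and `c` is the first basis vector. -/
structure Dat (p : ℕ) (X : Subgroup Ω) (u v : Ω → ZMod p) (a : Ω) (f : Ω → Ω) (c : Ω)
    (w : ZMod p) : Prop where
  uadd : ∀ x ∈ X, ∀ y ∈ X, u (x * y) = u x + u y
  vadd : ∀ x ∈ X, ∀ y ∈ X, v (x * y) = v x + v y
  surj : ∀ r s, ∃ x ∈ X, u x = r ∧ v x = s
  amem : ∀ x ∈ X, a * x * a⁻¹ ∈ X
  au : ∀ x ∈ X, u (a * x * a⁻¹) = u x + v x
  av : ∀ x ∈ X, v (a * x * a⁻¹) = v x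
  fmem : ∀ x ∈ X, f x ∈ X
  fu : ∀ x ∈ X, u (f x) = w * u x
  fv : ∀ x ∈ X, w * v (f x) = v x
  cmem : c ∈ X
  cu : u c = 1
  cv : v c = 0
  gen : IsPrimitiveRoot w (p - 1)

/-- A datum with unnamed coordinates. -/
def Dt (p : ℕ) (X : Subgroup Ω) (a : Ω) (f : Ω → Ω) (c : Ω) : Prop :=
  ∃ u v w, Dat p X u v a f c w

variable {p : ℕ} {X : Subgroup Ω} {X' : Subgroup Ω'} {a c : Ω} {a' c' : Ω'} {f : Ω → Ω}
  {f' : Ω' → Ω'}

theorem Dt.cmem (h : Dt p X a f c) : c ∈ X := let ⟨_, _, _, h⟩ := h; h.cmem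

theorem Dt.amem (h : Dt p X a f c) : ∀ x ∈ X, a * x * a⁻¹ ∈ X := let ⟨_, _, _, h⟩ := h; h.amem

theorem Dt.fmem (h : Dt p X a f c) : ∀ x ∈ X, f x ∈ X := let ⟨_, _, _, h⟩ := h; h.fmem

theorem Dt.ne_one [Fact p.Prime] (h : Dt p X a f c) : c ≠ 1 := fun e => by
  obtain ⟨u, v, w, h⟩ := h
  have h1 := h.uadd c h.cmem c h.cmem
  rw [e, mul_one, ← e, h.cu] at h1
  simp at h1

/-- Pulling a datum back along a map that is multiplicative on `X` and carries `X` onto `X'`. -/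
theorem Dt.pull (h : Dt p X' a' f' c') (θ : Ω → Ω') (hm : ∀ x ∈ X, ∀ y ∈ X, θ (x * y) = θ x * θ y)
    (hX : ∀ x ∈ X, θ x ∈ X') (hs : ∀ y ∈ X', ∃ x ∈ X, θ x = y)
    (ha : ∀ x ∈ X, a * x * a⁻¹ ∈ X ∧ θ (a * x * a⁻¹) = a' * θ x * a'⁻¹)
    (hf : ∀ x ∈ X, f x ∈ X ∧ θ (f x) = f' (θ x)) (hc : c ∈ X) (e : θ c = c') : Dt p X a f c := by
  obtain ⟨u, v, w, h⟩ := h
  refine ⟨u ∘ θ, v ∘ θ, w, fun x hx y hy => ?_, fun x hx y hy => ?_, fun r s => ?_,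
    fun x hx => (ha x hx).1, fun x hx => ?_, fun x hx => ?_, fun x hx => (hf x hx).1,
    fun x hx => ?_, fun x hx => ?_, hc, ?_, ?_, h.gen⟩
  · exact (congrArg u (hm x hx y hy)).trans (h.uadd _ (hX x hx) _ (hX y hy))
  · exact (congrArg v (hm x hx y hy)).trans (h.vadd _ (hX x hx) _ (hX y hy))
  · obtain ⟨y, hy, h1, h2⟩ := h.surj r s
    obtain ⟨x, hx, rfl⟩ := hs y hy
    exact ⟨x, hx, h1, h2⟩
  · exact (congrArg u (ha x hx).2).trans (h.au _ (hX x hx))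
  · exact (congrArg v (ha x hx).2).trans (h.av _ (hX x hx))
  · exact (congrArg u (hf x hx).2).trans (h.fu _ (hX x hx))
  · exact (congrArg (w * v ·) (hf x hx).2).trans (h.fv _ (hX x hx))
  · exact (congrArg u e).trans h.cu
  · exact (congrArg v e).trans h.cv

theorem Dt.congr {g : Ω → Ω} (h : Dt p X a f c) (e : ∀ x ∈ X, g x = f x) : Dt p X a g c :=
  h.pull id (fun _ _ _ _ => rfl) (fun _ hx => hx) (fun y hy => ⟨y, hy, rfl⟩)
    (fun x hx => ⟨h.amem x hx, rfl⟩) (fun x hx => ⟨e x hx ▸ h.fmem x hx, e x hx⟩) h.cmem rfl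

/-- Transport along an injective homomorphism. -/
theorem Dt.map {t : Ω} (h : Dt p X a (fun x => t * x * t⁻¹) c) (j : Ω →* Ω')
    (hj : Function.Injective j) :
    Dt p (X.map j) (j a) (fun x => j t * x * (j t)⁻¹) (j c) := by
  have e : ∀ x, Function.invFun j (j x) = x := Function.leftInverse_invFun hj
  refine h.pull (Function.invFun j) ?_ ?_ (fun y hy => ⟨j y, ⟨y, hy, rfl⟩, e y⟩) ?_ ?_
    ⟨c, h.cmem, rfl⟩ (e c)
  · rintro _ ⟨x, -, rfl⟩ _ ⟨y, -, rfl⟩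
    rw [← map_mul, e, e, e]
  · rintro _ ⟨x, hx, rfl⟩
    rwa [e]
  · rintro _ ⟨x, hx, rfl⟩
    rw [← map_inv, ← map_mul, ← map_mul, e, e]
    exact ⟨⟨_, h.amem x hx, rfl⟩, rfl⟩
  · rintro _ ⟨x, hx, rfl⟩
    rw [← map_inv, ← map_mul, ← map_mul, e, e]
    exact ⟨⟨_, h.fmem x hx, rfl⟩, rfl⟩

theorem Dt.cj {t : Ω} (h : Dt p X a (fun x => t * x * t⁻¹) c) (g : Ω) :
    Dt p (H98.cj g X) (g * a * g⁻¹) (fun x => g * t * g⁻¹ * x * (g * t * g⁻¹)⁻¹) (g * c * g⁻¹) :=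
  h.map (MulAut.conj g).toMonoidHom (MulAut.conj g).injective

/-- The group theoretic datum for `Z` inside `T`. -/
def GD (p : ℕ) (T Z : Subgroup Ω) : Prop :=
  ∃ X ≤ T, ∃ a ∈ T, ∃ t ∈ normalizer (Z : Set Ω), ∃ c ∈ Z, Dt p X a (fun x => t * x * t⁻¹) c

/-- A quadratic element on a `K`-invariant subgroup `B` of `T` with `B ∩ Z` not `K`-invariant. -/
def QB (p : ℕ) (K T Z : Subgroup Ω) : Prop :=
  ∃ B ≤ T, K ≤ normalizer (B : Set Ω) ∧ ¬ K ≤ normalizer ((B ⊓ Z : Subgroup Ω) : Set Ω) ∧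
    ∃ a ∈ T, a ∉ pCoreOf p K ∧ ⁅⁅B, zpowers a⁆, zpowers a⁆ = ⊥

/-- `φ` maps `B` onto the plane over `K` and the group acts through `ψ`. -/
structure Rep {K : Type} [Field K] (B : Subgroup Ω) (φ : Ω → Fin 2 → K) (ψ : Ω →* SL(2, K)) :
    Prop where
  nor : B.Normal
  add : ∀ x ∈ B, ∀ y ∈ B, φ (x * y) = φ x + φ y
  surj : ∀ r, ∃ x ∈ B, φ x = r
  act : ∀ g, ∀ x ∈ B, φ (g * x * g⁻¹) = (ψ g : Matrix (Fin 2) (Fin 2) K) *ᵥ φ x

end defs

section sc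

variable {G : Type*} [Group G] [Finite G] {p : ℕ} [Fact p.Prime] {T K Z : Subgroup G}

/-- An abelian subgroup normalized by `O_p(K)` whose intersection with `O_p(K)` is normal. -/
theorem le_core_of_inf (hK : CharP p K) (hZ : Z ≤ K) (hc : ∀ x ∈ Z, ∀ y ∈ Z, x * y = y * x)
    (hn : pCoreOf p K ≤ normalizer (Z : Set G))
    (h : K ≤ normalizer ((pCoreOf p K ⊓ Z : Subgroup G) : Set G)) : Z ≤ pCoreOf p K := by
  have hQ := self_le_normalizer_pCoreOf (p := p) K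
  have h1 : ⁅pCoreOf p K, ncl K Z⁆ ≤ pCoreOf p K ⊓ Z :=
    (le_stab_iff.1 (ncl_le (le_stab_iff.2 ⟨hZ.trans h, le_inf (commutator_le_left' (hZ.trans hQ))
      (commutator_le_right' hn)⟩) (le_normalizer_stab hQ h))).2
  have h2 : ncl K Z ≤ centralizer ((pCoreOf p K ⊓ Z : Subgroup G) : Set G) :=
    ncl_le_centralizer (fun x hx y hy => hc y hy.2 x hx) h
  refine (le_ncl K Z).trans (le_pCoreOf (hK.isPGroup_of_quadratic (ncl_le_of_le hZ) ?_)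
    (ncl_le_of_le hZ) (le_normalizer_ncl K Z))
  rw [commutator_eq_bot_iff_le_centralizer]
  exact h1.trans (le_centralizer_iff.1 h2)

/-- Strongly closed abelian subgroups in characteristic `p`. -/
theorem le_normalizer_of_sc (hT : IsSyl p T K) (hK : CharP p K) (hZ : Z ≤ T)
    (hc : ∀ x ∈ Z, ∀ y ∈ Z, x * y = y * x)
    (h : ∀ g ∈ K, ∀ x ∈ Z, g * x * g⁻¹ ∈ T → g * x * g⁻¹ ∈ Z) : K ≤ normalizer (Z : Set G) := by
  have hQ := self_le_normalizer_pCoreOf (p := p) K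
  have h1 : Z ≤ pCoreOf p K := le_core_of_inf hK (hZ.trans hT.le) hc
    (fun g hg => mem_normalizer_of_cj_le (by
      rintro _ ⟨x, hx, rfl⟩
      have := hT.pCoreOf_le hg
      exact h g (hT.le this) x hx (mul_mem (mul_mem this (hZ hx)) (inv_mem this))))
    fun g hg => mem_normalizer_of_cj_le (by
      rintro _ ⟨x, hx, rfl⟩
      have := conj_mem_of_mem_normalizer (hQ hg) hx.1
      exact ⟨this, h g hg x hx.2 (hT.pCoreOf_le this)⟩)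
  refine fun g hg => mem_normalizer_of_cj_le ?_
  rintro _ ⟨x, hx, rfl⟩
  exact h g hg x hx (hT.pCoreOf_le (conj_mem_of_mem_normalizer (hQ hg) (h1 hx)))

end sc

/-- Two quadratic elements: the natural module over a finite field. -/
def JobNat : Prop :=
  ∀ (p : ℕ) [Fact p.Prime] (G : Type u) [Group G] (V : Subgroup G) [Finite V] (a b : G), p ≠ 2 →
    IsElementaryAbelian p V → a ∈ normalizer (V : Set G) → b ∈ normalizer (V : Set G) →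
    ⁅⁅V, zpowers a⁆, zpowers a⁆ = ⊥ → ⁅⁅V, zpowers b⁆, zpowers b⁆ = ⊥ →
    (∃ h ∈ closure ({a, b} : Set G), ∀ k, h ^ p ^ k ∉ centralizer (V : Set G)) →
    ∃ (K : Type) (_ : Field K) (_ : Finite K) (_ : _root_.CharP K p) (l : K)
      (ι : (Fin 2 → K) → G), l ≠ 0 ∧ Function.Injective ι ∧ (∀ x, ι x ∈ V) ∧
      (∀ x y, ι (x + y) = ι x * ι y) ∧
      (∀ x, a * ι x * a⁻¹ = ι (((uMat l : SL(2, K)) : Matrix (Fin 2) (Fin 2) K) *ᵥ x)) ∧
      ∀ x, b * ι x * b⁻¹ = ι (((lMat 1 : SL(2, K)) : Matrix (Fin 2) (Fin 2) K) *ᵥ x)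

/-- The top chief factor of `B`. -/
def JobChf : Prop :=
  ∀ (p : ℕ) [Fact p.Prime] (L : Type u) [Group L] [Finite L] (B : Subgroup L) (a b : L), p ≠ 2 →
    B.Normal → IsPGroup p B → B ≠ ⊥ → ⁅B, res p (⊤ : Subgroup L)⁆ = B →
    closure {a, b} ⊔ pCore p L = ⊤ →
    ⁅⁅B, zpowers a⁆, zpowers a⁆ = ⊥ → ⁅⁅B, zpowers b⁆, zpowers b⁆ = ⊥ →
    ∃ (K : Type) (_ : Field K) (_ : Finite K) (_ : _root_.CharP K p) (l : K)
      (φ : L → Fin 2 → K) (ψ : L →* SL(2, K)), l ≠ 0 ∧ Rep B φ ψ ∧ ψ a = uMat l ∧ ψ b = lMat 1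

/-- Matrices. -/
def JobDk : Prop :=
  ∀ (p : ℕ) [Fact p.Prime] (K : Type) [Field K] [Finite K] [_root_.CharP K p] (l : K), p ≠ 2 →
    l ≠ 0 → (∀ P : Subgroup SL(2, K), IsPGroup p P → uMat l ∈ P → P ≤ uSub K) ∧
    (-1 : SL(2, K)) ∈ closure ({uMat l, lMat 1} : Set SL(2, K)) ∧
    ∃ w : ZMod p, IsPrimitiveRoot w (p - 1) ∧ ∃ h ∈ closure ({uMat l, lMat 1} : Set SL(2, K)),
      h 1 0 = 0 ∧ h 0 0 = ZMod.castHom (dvd_refl p) K w

/-- The torus element normalizing a Sylow subgroup. -/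
def JobTor : Prop :=
  ∀ (p : ℕ) [Fact p.Prime] (K : Type) [Field K] [Finite K] [_root_.CharP K p] (l : K)
    (L : Type u) [Group L] [Finite L] (ψ : L →* SL(2, K)) (T : Subgroup L) (a b : L), p ≠ 2 →
    l ≠ 0 → IsSyl p T ⊤ → a ∈ T → ψ a = uMat l → ψ b = lMat 1 →
    ∃ w : ZMod p, IsPrimitiveRoot w (p - 1) ∧ ∃ t ∈ normalizer (T : Set L),
      ψ t 1 0 = 0 ∧ ψ t 0 0 = ZMod.castHom (dvd_refl p) K w ∧ (w ^ 2 = 1 → ψ t 0 1 = 0)

/-- `Z` meets the chief factor. -/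
def JobCov : Prop :=
  ∀ (p : ℕ) [Fact p.Prime] (K : Type) [Field K] [Finite K] [_root_.CharP K p] (l : K)
    (L : Type u) [Group L] [Finite L] (φ : L → Fin 2 → K) (ψ : L →* SL(2, K)) (T Z : Subgroup L)
    (a b : L), p ≠ 2 → l ≠ 0 → IsSyl p T ⊤ → H96.UMax T (normalizer (Z : Set L)) ⊤ → a ∈ T →
    ψ a = uMat l → ψ b = lMat 1 →
    Rep ⁅normalClosure (Z : Set L), res p (⊤ : Subgroup L)⁆ φ ψ →
    ∃ z ∈ Z, z ∈ ⁅normalClosure (Z : Set L), res p (⊤ : Subgroup L)⁆ ∧ φ z ≠ 0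

/-- Descent to the prime field. -/
def JobFin : Prop :=
  ∀ (p : ℕ) [Fact p.Prime] (K : Type) [Field K] [_root_.CharP K p] (l : K)
    (L : Type u) [Group L] (φ : L → Fin 2 → K) (ψ : L →* SL(2, K)) (B Z : Subgroup L)
    (a t z : L) (w : ZMod p), l ≠ 0 → Rep B φ ψ → ψ a = uMat l → IsPrimitiveRoot w (p - 1) →
    ψ t 1 0 = 0 → ψ t 0 0 = ZMod.castHom (dvd_refl p) K w → (w ^ 2 = 1 → ψ t 0 1 = 0) →
    z ∈ Z → a * z * a⁻¹ ∈ Z → z ∈ B → φ z ≠ 0 →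
    ∃ X ≤ B, ∃ c ∈ Z, Dt p X a (fun x => t * x * t⁻¹) c

/-- The local lemma. -/
def JobLoc : Prop :=
  ∀ (p : ℕ) [Fact p.Prime] (L : Type u) [Group L] [Finite L] (T B Z : Subgroup L) (a x : L),
    p ≠ 2 → IsSyl p T ⊤ → H96.UMax T (normalizer (Z : Set L)) ⊤ → B.Normal → IsPGroup p B →
    Z ≤ B → a ∈ T → closure {a, x * a * x⁻¹} ⊔ pCore p L = ⊤ → ⁅⁅B, zpowers a⁆, zpowers a⁆ = ⊥ →
    ∃ X ≤ B, ∃ t ∈ normalizer (T : Set L), ∃ c ∈ Z, Dt p X a (fun y => t * y * t⁻¹) c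

/-- From quadratic elements to the datum. -/
def JobBase : Prop :=
  ∀ (p : ℕ) [Fact p.Prime] (G : Type u) [Group G] [Finite G] (T Z : Subgroup G), p ≠ 2 →
    IsSyl p T ⊤ → T ≤ normalizer (Z : Set G) → ¬ Z.Normal →
    (∀ K, T ≤ K → ¬ K ≤ normalizer (Z : Set G) → QB p K T Z) → GD p T Z

/-- Quadratic elements for `Z(J(T))`. -/
def JobQ0 : Prop :=
  ∀ (p : ℕ) [Fact p.Prime] (G : Type u) [Group G] [Finite G] (T K : Subgroup G), p ≠ 2 →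
    IsSyl p T K → CharP p K → ¬ K ≤ normalizer (centerThompsonAOf T : Set G) →
    QB p K T (centerThompsonAOf T)

/-- Quadratic elements for a subgroup controlled by its subgroups and by `J(T)`. -/
def JobQ1 : Prop :=
  ∀ (p : ℕ) [Fact p.Prime] (G : Type u) [Group G] [Finite G] (T K Z : Subgroup G),
    IsSyl p T K → CharP p K → Z ≤ T → Z ≠ ⊥ → T ≤ normalizer (Z : Set G) →
    K ⊓ normalizer (thompsonSubgroupAOf T : Set G) ≤ normalizer (Z : Set G) →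
    (∀ W ≤ Z, W ≠ ⊥ → T ≤ normalizer (W : Set G) →
      K ⊓ normalizer (W : Set G) ≤ normalizer (Z : Set G)) →
    ¬ K ≤ normalizer (Z : Set G) → QB p K T Z

/-- The section `F(p)`. -/
def JobF : Prop :=
  ∀ (p : ℕ) [Fact p.Prime] (G : Type u) [Group G] [Finite G] (H X : Subgroup G) (a t c : G),
    p ≠ 2 → X ≤ H → a ∈ H → t ∈ H → Dt p X a (fun x => t * x * t⁻¹) c →
    Involves (fOver (ZMod p)) H

/-- The subgroup of order `p`. -/
def JobC : Prop :=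
  ∀ (p : ℕ) [Fact p.Prime] (G : Type u) [Group G] [Finite G] (H X Z : Subgroup G) (a t c : G),
    IsPGroup p Z → (∀ x ∈ Z, ∀ y ∈ Z, x * y = y * x) → t ∈ H → t ∈ normalizer (Z : Set G) →
    c ∈ Z → Dt p X a (fun x => t * x * t⁻¹) c →
    ∃ C : Subgroup G, C ≤ Z ∧ Nat.card C = p ∧
      (H ⊓ centralizer (C : Set G)).relIndex (H ⊓ normalizer (C : Set G)) = p - 1

end H98.Zj
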